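import Cfsg.Agent.RuModel.RankThree.Defs

/-!
The suborbit masks, the trees and the base points.
-/

set_option autoImplicit false
set_option maxRecDepth 100000

namespace Cfsg.Lib.RuModel.RankThree

theorem mask_ok_0 : chk maskOK 0 2030 = true := by decide +kernel

theorem mask_ok_2030 : chk maskOK 2030 2030 = true := by decide +kernel

/-- The masks are correct. -/
theorem mask_ok : chk maskOK 0 4060 = true :=
  chk_join (mask_ok_0) mask_ok_2030 rfl rfl

theorem base_ok : ru1.pt 0 = ev (sepW.getD 0 []) (ru1.pt 0) ∧ mask1.testBit (ru1.pt 0) = true ∧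
    mask2.testBit pFar = true ∧ (mask1 ||| mask2).testBit (ru0.pt 0) = false ∧ pFar < 4060 := by decide +kernel

theorem trees_ok : treeOK letters nearTree (1 <<< ru1.pt 0) mask1 = true ∧
    treeOK letters farTree (1 <<< pFar) mask2 = true := by decide +kernel

theorem count_ok : pop mask1 = 1755 ∧ pop mask2 = 2304 := by decide +kernel

end Cfsg.Lib.RuModel.RankThree
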