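import Cfsg.Agent.RuModel.RankThree.CheckTab
import Cfsg.Agent.RuModel.RankThree.CheckMask
import Cfsg.Agent.RuModel.Groups

/-!
Words in the generators of the point stabiliser and its two orbits.
-/

set_option autoImplicit false
set_option linter.all false
set_option maxRecDepth 100000

namespace Cfsg.Lib.RuModel.RankThree

open MulAction
open scoped Pointwise

/-- The point stabiliser of the model. -/
noncomputable abbrev P : Subgroup (Equiv.Perm (Fin 4060)) := gen gs1

instance finite_P : Finite P := Subtype.finite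

theorem card_P : Nat.card P = 35942400 := card_stab

/-- The element of a letter. -/
noncomputable def gP : ℕ → P
  | 0 => ⟨gs1.getD 0 1, getD_mem_gen gs1 0⟩
  | 1 => ⟨gs1.getD 1 1, getD_mem_gen gs1 1⟩
  | 2 => ⟨gs1.getD 0 1, getD_mem_gen gs1 0⟩⁻¹
  | _ => ⟨gs1.getD 1 1, getD_mem_gen gs1 1⟩⁻¹

/-- The element of a word. -/
noncomputable def wP (w : List ℕ) : P := (w.map gP).prod

theorem wP_append (u v : List ℕ) : wP (u ++ v) = wP u * wP v := by simp [wP]

theorem wP_nil : wP [] = 1 := rfl

theorem wP_pw (w : List ℕ) : ∀ n, wP (pw n w) = wP w ^ n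
  | 0 => by simp [pw, wP]
  | n + 1 => by
    rw [pw, List.replicate_succ, List.flatten_cons, wP_append, ← pw, wP_pw w n, pow_succ']

theorem wordOK_iff {w : List ℕ} : wordOK w = true ↔ ∀ l ∈ w, l < 4 := by
  simp [wordOK, List.all_eq_true, Nat.succ_le_iff]

theorem wP_iw : ∀ {w : List ℕ}, wordOK w = true → wP (iw w) = (wP w)⁻¹
  | [], _ => by simp [iw, wP]
  | l :: w, h => by
    rw [wordOK_iff] at h
    have ih : wP (iw w) = (wP w)⁻¹ := wP_iw (wordOK_iff.2 fun m hm => h m (List.mem_cons_of_mem _ hm))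
    have hl : gP ((l + 2) % 4) = (gP l)⁻¹ := by
      have := h l List.mem_cons_self
      interval_cases l <;> simp [gP]
    have e : wP (iw (l :: w)) = wP (iw w) * gP ((l + 2) % 4) := by simp [iw, wP]
    rw [e, ih, hl, show wP (l :: w) = gP l * wP w by simp [wP], mul_inv_rev]

theorem lkB_eq : ∀ (t : RT) (d i : ℕ), fitsOK t d = true → lkB t (2 ^ d / 2) i = t.get d i := by
  intro t
  induction t with
  | leaf v => intro d i _; rfl
  | node l r hl hr =>
    intro d i h
    cases d with
    | zero => simp [fitsOK] at h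
    | succ d =>
      rw [fitsOK, Bool.and_eq_true] at h
      have e : 2 ^ (d + 1) / 2 = 2 ^ d := by rw [pow_succ]; omega
      show cond (Nat.beq (Nat.land i (2 ^ (d + 1) / 2)) 0) (lkB l (2 ^ (d + 1) / 2 / 2) i)
        (lkB r (2 ^ (d + 1) / 2 / 2) i) = if (i >>> d) % 2 = 0 then l.get d i else r.get d i
      rw [e, hl d i h.1, hr d i h.2,
        show Nat.land i (2 ^ d) = (i.testBit d).toNat * 2 ^ d from Nat.and_two_pow i d,
        show (i >>> d) % 2 = (i.testBit d).toNat by rw [Nat.toNat_testBit, Nat.shiftRight_eq_div_pow]]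
      cases i.testBit d
      · simp
      · have h0 : Nat.beq (2 ^ d) 0 = false :=
          Bool.eq_false_iff.2 fun e => pow_ne_zero d two_ne_zero (Nat.eq_of_beq_eq_true e)
        simp [h0]

theorem perm_fits : fitsOK permT0 12 = true ∧ fitsOK permT1 12 = true := by decide +kernel

theorem lk_perm (x : ℕ) : lk permT0 x = permT0.get 12 x ∧ lk permT1 x = permT1.get 12 x :=
  ⟨lkB_eq permT0 12 x perm_fits.1, lkB_eq permT1 12 x perm_fits.2⟩

theorem evG_eq : ∀ {w : List ℕ}, (∀ l ∈ w, l < 2) → ∀ x : Fin 4060, (wperm gs0 w x).val = evG w x.val := by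
  intro w
  induction w using List.reverseRecOn with
  | nil => intro _ x; rfl
  | append_singleton w i ih =>
    intro h x
    have hi := h i (by simp)
    have e := ih (fun l hl => h l (List.mem_append_left _ hl)) x
    simp only [wperm, evG, List.foldl_append, List.foldl_cons, List.foldl_nil] at e ⊢
    rw [Equiv.Perm.mul_apply]
    interval_cases i
    · rw [show Nat.beq 0 0 = true from rfl, cond_true, (lk_perm _).1, ← e]
      rfl
    · rw [show Nat.beq 1 0 = false from rfl, cond_false, (lk_perm _).2, ← e]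
      rfl

theorem ru0Words_ok : ru0Words.length = 2 ∧ (ru0Words.all fun w => w.all fun l => Nat.ble (l + 1) 2) = true := by
  decide +kernel

theorem gs1_apply {i : ℕ} (hi : i < 2) (x : Fin 4060) :
    ((gs1.getD i 1) x).val = evG (ru0Words.getD i []) x.val := by
  have h2 := ru0Words_ok.1
  have e : gs1.getD i 1 = wperm gs0 (ru0Words.getD i []) := by
    rw [List.getD_eq_getElem _ _ (by simp [gs1, nextGens, h2, hi]), List.getD_eq_getElem _ _ (by omega)]
    simp [gs1, nextGens]
  rw [e]
  refine evG_eq (fun l hl => ?_) x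
  have h := List.all_eq_true.1 ru0Words_ok.2 (ru0Words.getD i []) (by
    rw [List.getD_eq_getElem _ _ (by omega)]; exact List.getElem_mem _)
  exact Nat.le_of_ble_eq_true (List.all_eq_true.1 h l hl)

theorem tab_fact (x : Fin 4060) :
    lk tA x.val = evG (ru0Words.getD 0 []) x.val ∧ lk tB x.val = evG (ru0Words.getD 1 []) x.val ∧
      lk tAi x.val < 4060 ∧ lk tBi x.val < 4060 ∧ lk tA (lk tAi x.val) = x.val ∧
      lk tB (lk tBi x.val) = x.val := by
  simpa [tabOK, and_assoc] using chk_apply tab_ok x.isLt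

attribute [local irreducible] RT.get evG in
theorem tab_smul (l : ℕ) (x : Fin 4060) : (gP l • x).val = lk (tab l) x.val := by
  have hA : ∀ y : Fin 4060, ((gs1.getD 0 1) y).val = lk tA y.val := fun y =>
    (gs1_apply (by norm_num) y).trans (tab_fact y).1.symm
  have hB : ∀ y : Fin 4060, ((gs1.getD 1 1) y).val = lk tB y.val := fun y =>
    (gs1_apply (by norm_num) y).trans (tab_fact y).2.1.symm
  obtain ⟨-, -, h3, h4, h5, h6⟩ := tab_fact x
  match l with
  | 0 => exact hA x
  | 1 => exact hB x
  | 2 =>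
    have e : (gs1.getD 0 1) ⟨lk tAi x.val, h3⟩ = x := Fin.ext ((hA _).trans h5)
    show ((gs1.getD 0 1)⁻¹ x).val = lk tAi x.val
    rw [show (gs1.getD 0 1)⁻¹ x = ⟨lk tAi x.val, h3⟩ from (Equiv.symm_apply_eq _).2 e.symm]
  | n + 3 =>
    have e : (gs1.getD 1 1) ⟨lk tBi x.val, h4⟩ = x := Fin.ext ((hB _).trans h6)
    show ((gs1.getD 1 1)⁻¹ x).val = lk tBi x.val
    rw [show (gs1.getD 1 1)⁻¹ x = ⟨lk tBi x.val, h4⟩ from (Equiv.symm_apply_eq _).2 e.symm]

theorem wP_smul : ∀ (w : List ℕ) (x : Fin 4060), (wP w • x).val = ev w x.val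
  | [], x => rfl
  | l :: w, x => by
    rw [show wP (l :: w) = gP l * wP w by simp [wP], mul_smul, tab_smul, wP_smul w x]
    rfl

theorem ev_lt (w : List ℕ) {x : ℕ} (hx : x < 4060) : ev w x < 4060 :=
  wP_smul w ⟨x, hx⟩ ▸ (wP w • (⟨x, hx⟩ : Fin 4060)).isLt

theorem ext_three {g h : P} (h1 : g • b1 = h • b1) (h2 : g • b2 = h • b2) (h3 : g • b3 = h • b3) : g = h := by
  have fix : ∀ b : Fin 4060, g • b = h • b → (h⁻¹ * g : P).1 b = b := fun b e => by
    show (h⁻¹ * g) • b = b
    rw [mul_smul, e, inv_smul_smul]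
  have m2 := level1.stab _ (h⁻¹ * g : P).2 (fix _ h1)
  have m3 := level2.stab _ m2 (fix _ h2)
  have m4 := Subgroup.mem_bot.1 (level3.stab _ m3 (fix _ h3))
  exact (inv_mul_eq_one.1 (Subtype.ext m4 : h⁻¹ * g = 1)).symm

theorem eqW_sound {u v : List ℕ} (h : eqW u v = true) : wP u = wP v := by
  simp only [eqW, basePts, List.all_cons, List.all_nil, Bool.and_true, Bool.and_eq_true, beq_iff_eq] at h
  obtain ⟨h1, h2, h3⟩ := h
  exact ext_three (Fin.ext (by rw [wP_smul, wP_smul]; exact h1)) (Fin.ext (by rw [wP_smul, wP_smul]; exact h2))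
    (Fin.ext (by rw [wP_smul, wP_smul]; exact h3))

theorem eqW_false {u v : List ℕ} (h : eqW u v = false) : wP u ≠ wP v := by
  intro e
  have : eqW u v = true := by
    simp only [eqW, basePts, List.all_cons, List.all_nil, Bool.and_true, Bool.and_eq_true, beq_iff_eq]
    refine ⟨?_, ?_, ?_⟩
    · exact ((wP_smul u b1).symm.trans (by rw [e])).trans (wP_smul v b1)
    · exact ((wP_smul u b2).symm.trans (by rw [e])).trans (wP_smul v b2)
    · exact ((wP_smul u b3).symm.trans (by rw [e])).trans (wP_smul v b3)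
  rw [this] at h
  exact Bool.noConfusion h

/-- The set of a mask. -/
def maskSet (m : ℕ) : Set (Fin 4060) := {x | m.testBit x.val = true}

theorem mem_maskSet {m : ℕ} {x : Fin 4060} : x ∈ maskSet m ↔ m.testBit x.val = true := Iff.rfl

theorem ncard_pred (p : ℕ → Bool) : {x : Fin 4060 | p x.val = true}.ncard = (List.range 4060).countP p := by
  classical
  rw [List.countP_eq_length_filter, ← List.toFinset_card_of_nodup (List.nodup_range.filter _),
    ← Set.ncard_image_of_injective _ Fin.val_injective, ← Set.ncard_coe_finset]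
  congr 1
  ext n
  simp only [Set.mem_image, Set.mem_ofPred_eq, List.coe_toFinset, List.mem_filter, List.mem_range]
  exact ⟨fun ⟨x, hx, e⟩ => e ▸ ⟨x.isLt, hx⟩, fun ⟨hn, hp⟩ => ⟨⟨n, hn⟩, hp, rfl⟩⟩

theorem ncard_maskSet (m : ℕ) : (maskSet m).ncard = pop m := ncard_pred fun x => m.testBit x

theorem mem_shift {n j : ℕ} : (1 <<< n).testBit j = true ↔ j = n := by
  rw [Nat.one_shiftLeft, Nat.testBit_two_pow, decide_eq_true_eq, eq_comm]

theorem tree_orbit {gens : List (List ℕ)} {S : Subgroup P} (hS : ∀ w ∈ gens, wP w ∈ S) {es : List ℕ}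
    {root : Fin 4060} {mask : ℕ} (h : treeOK gens es (1 <<< root.val) mask = true) :
    ∀ x : Fin 4060, mask.testBit x.val = true → ∃ k ∈ S, k • root = x := by
  suffices key : ∀ (es : List ℕ) (seen : ℕ), treeOK gens es seen mask = true →
      (∀ n, seen.testBit n = true → ∃ k ∈ S, (k • root).val = n) →
      ∀ n, mask.testBit n = true → ∃ k ∈ S, (k • root).val = n by
    intro x hx
    obtain ⟨k, hk, e⟩ := key es _ h (fun n hn => ⟨1, one_mem _, by rw [one_smul, mem_shift.1 hn]⟩) x.val hx
    exact ⟨k, hk, Fin.ext e⟩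
  intro es
  induction es with
  | nil => intro seen h hs n hn; exact hs n ((beq_iff_eq.1 h) ▸ hn)
  | cons e r ih =>
    intro seen h hs
    simp only [treeOK, Bool.and_eq_true, beq_iff_eq] at h
    obtain ⟨⟨⟨hpar, hg⟩, he⟩, hr⟩ := h
    refine ih _ hr fun n hn => ?_
    rw [Nat.testBit_or, Bool.or_eq_true, mem_shift] at hn
    rcases hn with hn | rfl
    · exact hs n hn
    obtain ⟨k, hk, ek⟩ := hs _ hpar
    have hlt : e % 16 < gens.length := Nat.le_of_ble_eq_true hg
    refine ⟨wP (gens.getD (e % 16) []) * k, mul_mem (hS _ ?_) hk, ?_⟩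
    · rw [List.getD_eq_getElem _ _ hlt]; exact List.getElem_mem _
    · rw [mul_smul, wP_smul, ek, he]

theorem tree_lt {gens : List (List ℕ)} {es : List ℕ} {seen mask : ℕ} (h : treeOK gens es seen mask = true)
    (hs : ∀ n, seen.testBit n = true → n < 4060) : ∀ n, mask.testBit n = true → n < 4060 := by
  induction es generalizing seen with
  | nil => intro n hn; exact hs n ((beq_iff_eq.1 h) ▸ hn)
  | cons e r ih =>
    simp only [treeOK, Bool.and_eq_true, beq_iff_eq] at h
    obtain ⟨⟨⟨hpar, -⟩, he⟩, hr⟩ := h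
    refine ih hr fun n hn => ?_
    rw [Nat.testBit_or, Bool.or_eq_true, mem_shift] at hn
    rcases hn with hn | rfl
    · exact hs n hn
    · exact he ▸ ev_lt _ (hs _ hpar)

/-- The far base point. -/
noncomputable def pOne : Fin 4060 := ⟨pFar, base_ok.2.2.2.2⟩

theorem b1_mem : b1 ∈ maskSet mask1 := base_ok.2.1

theorem pOne_mem : pOne ∈ maskSet mask2 := base_ok.2.2.1

theorem smul_b0 (g : P) : g • b0 = b0 := next1.2.2 g.1 g.2

theorem mask_fact (x : Fin 4060) : ((mask1 ||| mask2).testBit x.val = true ↔ x ≠ b0) ∧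
    ¬ (mask1.testBit x.val = true ∧ mask2.testBit x.val = true) ∧
    (mask1.testBit (ev [0] x.val) = mask1.testBit x.val) ∧ (mask1.testBit (ev [1] x.val) = mask1.testBit x.val) := by
  have h := chk_apply mask_ok x.isLt
  simp only [maskOK, Bool.and_eq_true, Bool.not_eq_true', Bool.and_eq_false_iff, beq_iff_eq, bne_iff_ne] at h
  obtain ⟨⟨⟨h1, h2⟩, h3⟩, h4⟩ := h
  refine ⟨?_, fun e => ?_, h3, h4⟩
  · have hb : (x.val == ru0.pt 0) = decide (x = b0) := by
      rw [Bool.eq_iff_iff, beq_iff_eq, decide_eq_true_eq]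
      exact ⟨fun e => Fin.ext e, fun e => congrArg Fin.val e⟩
    rw [hb] at h1
    cases hm : (mask1 ||| mask2).testBit x.val <;> rw [hm] at h1 <;> simpa using h1
  · rcases h2 with h2 | h2
    · rw [e.1] at h2; exact Bool.noConfusion h2
    · rw [e.2] at h2; exact Bool.noConfusion h2

theorem cover (x : Fin 4060) : x = b0 ∨ x ∈ maskSet mask1 ∨ x ∈ maskSet mask2 := by
  by_cases hx : x = b0
  · exact Or.inl hx
  · have := (mask_fact x).1.2 hx
    rw [Nat.testBit_or, Bool.or_eq_true] at this
    exact Or.inr this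

theorem not_both {x : Fin 4060} (h1 : x ∈ maskSet mask1) (h2 : x ∈ maskSet mask2) : False :=
  (mask_fact x).2.1 ⟨h1, h2⟩

theorem b0_not1 : b0 ∉ maskSet mask1 := fun h =>
  (mask_fact b0).1.1 (by rw [Nat.testBit_or, show mask1.testBit b0.val = true from h, Bool.true_or]) rfl

theorem b0_not2 : b0 ∉ maskSet mask2 := fun h =>
  (mask_fact b0).1.1 (by rw [Nat.testBit_or, show mask2.testBit b0.val = true from h, Bool.or_true]) rfl

theorem gP_mask1 (l : ℕ) (hl : l < 2) (x : Fin 4060) : gP l • x ∈ maskSet mask1 ↔ x ∈ maskSet mask1 := by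
  have e : (gP l • x).val = ev [l] x.val := (tab_smul l x).trans rfl
  show mask1.testBit (gP l • x).val = true ↔ mask1.testBit x.val = true
  rw [e]
  interval_cases l
  · rw [(mask_fact x).2.2.1]
  · rw [(mask_fact x).2.2.2]

theorem mask1_inv (g : P) (x : Fin 4060) : g • x ∈ maskSet mask1 ↔ x ∈ maskSet mask1 := by
  let S : Subgroup (Equiv.Perm (Fin 4060)) :=
    { carrier := {p | ∀ y, p y ∈ maskSet mask1 ↔ y ∈ maskSet mask1}
      one_mem' := fun _ => Iff.rfl
      mul_mem' := fun {p q} hp hq y => (hp (q y)).trans (hq y)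
      inv_mem' := fun {p} hp y => by
        have := hp (p⁻¹ y)
        rw [show p (p⁻¹ y) = y from p.apply_symm_apply y] at this
        exact this.symm }
  have hS : P ≤ S := by
    refine (Subgroup.closure_le _).2 fun p hp => ?_
    obtain ⟨i, hi, rfl⟩ := List.getElem_of_mem (show p ∈ gs1 from hp)
    have hi2 : i < 2 := by simpa [gs1, nextGens, ru0Words_ok.1] using hi
    intro y
    have := gP_mask1 i hi2 y
    interval_cases i <;>
    · rw [← List.getD_eq_getElem _ (1 : Equiv.Perm (Fin 4060)) hi]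
      exact this
  exact hS g.2 x

theorem mask2_inv (g : P) (x : Fin 4060) : g • x ∈ maskSet mask2 ↔ x ∈ maskSet mask2 := by
  have key : ∀ (g : P) (x : Fin 4060), x ∈ maskSet mask2 → g • x ∈ maskSet mask2 := by
    intro g x hx
    rcases cover (g • x) with h | h | h
    · have : x = b0 := by rw [← inv_smul_smul g x, h, smul_b0]
      exact absurd (this ▸ hx) b0_not2
    · exact (not_both ((mask1_inv g x).1 h) hx).elim
    · exact h
  exact ⟨fun h => by simpa using key g⁻¹ _ h, key g x⟩

theorem wP_reverse : ∀ {w : List ℕ}, (∀ l ∈ w, l < 2) → ((wP w.reverse : P) : Equiv.Perm (Fin 4060)) = wperm gs1 w := by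
  intro w
  induction w using List.reverseRecOn with
  | nil => intro _; rfl
  | append_singleton w i ih =>
    intro h
    have hi := h i (by simp)
    have e := ih fun l hl => h l (List.mem_append_left _ hl)
    rw [List.reverse_append, List.reverse_singleton, wP_append, Subgroup.coe_mul, e]
    simp only [wperm, List.foldl_append, List.foldl_cons, List.foldl_nil]
    interval_cases i <;> simp [wP, gP]

theorem letters_mem : ∀ w ∈ letters, wP w ∈ (⊤ : Subgroup P) := fun _ _ => Subgroup.mem_top _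

theorem orbit_one {x : Fin 4060} (hx : x ∈ maskSet mask1) : orbit P x = maskSet mask1 := by
  have h1 : orbit P b1 = maskSet mask1 := by
    refine Set.Subset.antisymm ?_ fun y hy => ?_
    · rintro _ ⟨g, rfl⟩
      exact (mask1_inv g b1).2 b1_mem
    · obtain ⟨k, -, e⟩ := tree_orbit letters_mem (root := b1) trees_ok.1 y hy
      exact ⟨k, e⟩
  rw [← h1]
  exact orbit_eq_iff.2 (h1 ▸ hx)

theorem orbit_two {x : Fin 4060} (hx : x ∈ maskSet mask2) : orbit P x = maskSet mask2 := by
  have h1 : orbit P pOne = maskSet mask2 := by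
    refine Set.Subset.antisymm ?_ fun y hy => ?_
    · rintro _ ⟨g, rfl⟩
      exact (mask2_inv g pOne).2 pOne_mem
    · obtain ⟨k, -, e⟩ := tree_orbit letters_mem (root := pOne) trees_ok.2 y hy
      exact ⟨k, e⟩
  rw [← h1]
  exact orbit_eq_iff.2 (h1 ▸ hx)

theorem card_mask1 : (maskSet mask1).ncard = 1755 := (ncard_maskSet _).trans count_ok.1

theorem card_mask2 : (maskSet mask2).ncard = 2304 := (ncard_maskSet _).trans count_ok.2

theorem card_stab_one {x : Fin 4060} (hx : x ∈ maskSet mask1) : Nat.card (stabilizer P x) = 20480 := by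
  have h := Subgroup.card_mul_index (stabilizer P x)
  rw [index_stabilizer, orbit_one hx, card_mask1, card_P] at h
  omega

theorem card_stab_two {x : Fin 4060} (hx : x ∈ maskSet mask2) : Nat.card (stabilizer P x) = 15600 := by
  have h := Subgroup.card_mul_index (stabilizer P x)
  rw [index_stabilizer, orbit_two hx, card_mask2, card_P] at h
  omega

end Cfsg.Lib.RuModel.RankThree
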