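import Cfsg.Agent.RuModel.RankThree.Defs

/-!
The classes of the two point stabilisers, the lines and the patterns.
-/

set_option autoImplicit false
set_option maxRecDepth 100000

namespace Cfsg.Lib.RuModel.RankThree

theorem hW_ok : (hW.all fun w => wordOK w && (ev w (ru1.pt 0) == ru1.pt 0)) = true ∧ hW.length = 2 ∧
    ru1Words.length = 2 := by decide +kernel

theorem hW_eq : hW = ru1Words.map List.reverse ∧ (ru1Words.all fun w => w.all fun l => Nat.ble (l + 1) 2) = true := by
  decide +kernel

theorem kW_ok : (kW.all fun w => wordOK w && (ev w pFar == pFar)) = true := by decide +kernel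

theorem h_classes : classesOK hW hClasses = true := by decide +kernel

theorem k_classes : classesOK kW kClasses = true := by decide +kernel

theorem h_cover : coverOK [hMask0, hMask1, hMask2, hMask3, hMask4] mask1 = true ∧
    coverOK [hMask5, hMask6] mask2 = true := by decide +kernel

theorem k_cover : coverOK [kMask0, kMask1, kMask2, kMask3, kMask4, kMask5] mask2 = true := by decide +kernel

theorem h_sizes : [hMask0, hMask1, hMask2, hMask3, hMask4, hMask5, hMask6].map pop =
    [1, 10, 80, 640, 1024, 1024, 1280] ∧ hMask0 = 1 <<< ru1.pt 0 := by decide +kernel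

theorem k_sizes : [kMask0, kMask1, kMask2, kMask3, kMask4, kMask5].map pop = [1, 78, 300, 300, 650, 975] ∧
    kMask0 = 1 <<< pFar := by decide +kernel

end Cfsg.Lib.RuModel.RankThree
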