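import Cfsg.Agent.RuModel.RankThree.Defs

/-!
The counts, the patterns and the lines.
-/

set_option autoImplicit false
set_option maxRecDepth 100000

namespace Cfsg.Lib.RuModel.RankThree

theorem cnt_ok : (List.range 5).all cntOK = true ∧ clsCnt.Nodup ∧ clsCnt.length = 5 := by decide +kernel

theorem sep_ok : (sepW.all fun w => wordOK w && mask1.testBit (ev w (ru1.pt 0))) = true ∧
    (sepW2.all fun w => wordOK w && mask1.testBit (ev w (ru1.pt 0))) = true ∧ sepW.length = 17 ∧
    sepW2.length = 18 := by decide +kernel

theorem code1_ok : codesOK code code1 0 0 mask1 = true := by decide +kernel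

theorem code2_ok : codesOK codeFar code2 0 0 mask2 = true := by decide +kernel

theorem rounds_ok : ((List.range 14).all fun t => roundOK (t + 3)) = true := by decide +kernel

theorem cand_ok : candN 1 = 1024 ∧ candN 2 = 25 := by decide +kernel

theorem line_ok : lineM.length = 5 ∧ lineM.Nodup ∧ lineM.getD 0 0 = linePts.foldl (fun s x => s ||| 1 <<< x) 0 ∧
    linePts.getD 0 0 = ru1.pt 0 ∧ (linePts.all fun x => Nat.ble (x + 1) 4060 && mask1.testBit x) = true ∧
    ((List.range 5).all fun i => (lineW.getD i []).all (fun l => Nat.ble (l + 1) 2) &&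
      (linePts.foldl (fun s x => s ||| 1 <<< ev (expW hW (lineW.getD i [])) x) 0 == lineM.getD i 0)) = true ∧
    linePts.length = 3 ∧ linePts.Nodup := by decide +kernel

theorem line_inv : ((List.range 5).all fun i => hW.all fun w =>
      lineM.any fun m => ((List.range 4060).all fun x => !((lineM.getD i 0).testBit x) || m.testBit (ev w x)))
      = true := by decide +kernel

theorem three_ok : wordOK threeV = true ∧ eqW (pw 3 threeV) [] = true ∧ eqW threeV [] = false ∧
    (linePts.all fun x => linePts.contains (ev threeV x)) = true := by decide +kernel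

end Cfsg.Lib.RuModel.RankThree
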