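import Cfsg.Agent.RuModel.RankThree.Defs

/-!
The translates of the four points, second half.
-/

set_option autoImplicit false
set_option maxRecDepth 100000

namespace Cfsg.Lib.RuModel.RankThree

theorem entry_ok_7488 : chk entryOK 7488 1872 = true := by decide +kernel

theorem entry_ok_9360 : chk entryOK 9360 1872 = true := by decide +kernel

theorem entry_ok_11232 : chk entryOK 11232 1872 = true := by decide +kernel

theorem entry_ok_13104 : chk entryOK 13104 1872 = true := by decide +kernel

/-- The second half of the translates. -/
theorem entry_ok_B : chk entryOK 7488 7488 = true :=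
  (chk_join (chk_join (chk_join (entry_ok_7488) entry_ok_9360 rfl rfl) entry_ok_11232 rfl rfl) entry_ok_13104 rfl rfl)

end Cfsg.Lib.RuModel.RankThree
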