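import Cfsg.Agent.RuModel.RankThree.CheckEntA
import Cfsg.Agent.RuModel.RankThree.CheckEntB

/-!
The translates of the four points.
-/

set_option autoImplicit false
set_option maxRecDepth 100000

namespace Cfsg.Lib.RuModel.RankThree

theorem srt_ok_0 : chk srtOK 0 3744 = true := by decide +kernel

theorem srt_ok_3744 : chk srtOK 3744 3744 = true := by decide +kernel

theorem srt_ok_7488 : chk srtOK 7488 3744 = true := by decide +kernel

theorem srt_ok_11232 : chk srtOK 11232 3743 = true := by decide +kernel

/-- The translates are translates. -/
theorem entry_ok : chk entryOK 0 14976 = true :=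
  chk_join entry_ok_A entry_ok_B rfl rfl

/-- The translates differ. -/
theorem srt_ok : chk srtOK 0 14975 = true :=
  (chk_join (chk_join (chk_join (srt_ok_0) srt_ok_3744 rfl rfl) srt_ok_7488 rfl rfl) srt_ok_11232 rfl rfl)

end Cfsg.Lib.RuModel.RankThree
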