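import Cfsg.Agent.RuModel.RankThree.Defs

/-!
The translates of the four points, first half.
-/

set_option autoImplicit false
set_option maxRecDepth 100000

namespace Cfsg.Lib.RuModel.RankThree

theorem entry_ok_0 : chk entryOK 0 1872 = true := by decide +kernel

theorem entry_ok_1872 : chk entryOK 1872 1872 = true := by decide +kernel

theorem entry_ok_3744 : chk entryOK 3744 1872 = true := by decide +kernel

theorem entry_ok_5616 : chk entryOK 5616 1872 = true := by decide +kernel

/-- The first half of the translates. -/
theorem entry_ok_A : chk entryOK 0 7488 = true :=
  (chk_join (chk_join (chk_join (entry_ok_0) entry_ok_1872 rfl rfl) entry_ok_3744 rfl rfl) entry_ok_5616 rfl rfl)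

end Cfsg.Lib.RuModel.RankThree
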