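import Cfsg.Agent.RuModel.RankThree.Defs

/-!
The Sylow subgroup for the prime five and the pairs of its conjugates.
-/

set_option autoImplicit false
set_option maxRecDepth 100000

namespace Cfsg.Lib.RuModel.RankThree

theorem ab_ok : wordOK waW = true ∧ wordOK wbW = true ∧ eqW (waW ++ wbW) (wbW ++ waW) = true ∧
    eqW (pw 5 waW) [] = true ∧ eqW (pw 5 wbW) [] = true := by decide +kernel

theorem ab_distinct : ((List.range 25).map fun i => code3 (abW (i % 5) (i / 5))).Nodup := by decide +kernel

theorem norm_ok : (List.range normW.length).all normOK = true ∧ normW.length = 2 := by decide +kernel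

theorem normN_ok : eqW waW (expW normW aN) = true ∧ eqW wbW (expW normW bN) = true ∧
    ((List.range 4).all fun i => ((transN.getD i []).all fun l => Nat.ble (l + 1) 2) &&
      (ev (expW normW (transN.getD i [])) pFar == fList.getD i 0)) = true ∧
    (eightN ++ threeN ++ aN ++ bN).all (fun l => Nat.ble (l + 1) 2) = true ∧
    ev (expW normW eightN) pFar = pFar ∧ ev (expW normW threeN) pFar = pFar ∧
    eqW (pw 8 (expW normW eightN)) [] = true ∧ eqW (pw 4 (expW normW eightN)) [] = false ∧
    eqW (pw 3 (expW normW threeN)) [] = true ∧ eqW (expW normW threeN) [] = false := by decide +kernel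

theorem f_ok : fList.length = 4 ∧ fList.Nodup ∧ (fList.all fun x => Nat.ble (x + 1) 4060) = true ∧
    (fList.all fun x => (ev waW x == x) && (ev wbW x == x)) = true := by decide +kernel

theorem rep_ok : repW.length = 16 ∧ repW.getD 0 [] = [] ∧ repW.all wordOK = true ∧ titsW.all wordOK = true := by
  decide +kernel

theorem tits_ok : ((List.range 2).all fun i => basePts.all fun x =>
    ev (titsW.getD i []) x == (titsWords.getD i []).foldl (fun z l => lk (tab l) z) x) = true ∧
    titsWords.length = 2 ∧ (titsWords.all fun w => w.all fun l => Nat.ble (l + 1) 2) = true := by decide +kernel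

theorem cert_ok : ((List.range 16).all fun k => (k == 0) || (k == kMid) || certOK k) = true := by decide +kernel

theorem mid_tree : treeOK ((alph kMid).take 4) mTree (1 <<< mRoot) (mTree.foldl (fun s e => s ||| 1 <<< (e / 65536))
    (1 <<< mRoot)) = true ∧ (mTree.map fun e => e / 65536).length = 299 ∧
    pop (mTree.foldl (fun s e => s ||| 1 <<< (e / 65536)) (1 <<< mRoot)) = 300 := by decide +kernel

theorem mid_stab : (mStab.all fun v => (v.all fun l => Nat.ble (l + 1) 8) && (ev (expW (alph kMid) v) mRoot == mRoot))
      = true ∧ mStab.length = 2 ∧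
    eqW (pw 2 (expW (alph kMid) (mStab.getD 0 []))) [] = true ∧ eqW (expW (alph kMid) (mStab.getD 0 [])) [] = false ∧
    eqW (pw 13 (expW (alph kMid) (mStab.getD 1 []))) [] = true ∧ eqW (expW (alph kMid) (mStab.getD 1 [])) [] = false ∧
    mRoot < 4060 := by decide +kernel

theorem mid_fix : ((List.range 4).all fun i => ev ((alph kMid).getD i []) pFar == pFar) = true := by decide +kernel

theorem fix_ok_0 : chk fixOK 0 2030 = true := by decide +kernel

theorem fix_ok_2030 : chk fixOK 2030 2030 = true := by decide +kernel

/-- The middle subgroup fixes one more point only. -/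
theorem fix_ok : chk fixOK 0 4060 = true :=
  chk_join (fix_ok_0) fix_ok_2030 rfl rfl


end Cfsg.Lib.RuModel.RankThree
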