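import Cfsg.Agent.RuModel.RankThree.Defs
import Cfsg.Agent.Known.TitsTwoTrans

/-!
The generators of `²F₄(2)` act on the 1755 vectors as words in the generators of the point stabiliser.
-/

set_option autoImplicit false
set_option maxRecDepth 100000

namespace Cfsg.Lib.RuModel.RankThree

/-- The vector of a point of the smaller suborbit, by its number. -/
noncomputable def vec (i : ℕ) : ℕ := lkB vecL 1024 i

/-- The number of the image of a point under a word. -/
noncomputable def imgIdx (w : List ℕ) (i : ℕ) : ℕ := ru1.pos.get 12 (ev w (ru1.pt i))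

/-- A generator moves the vectors as its word moves the points. -/
noncomputable def isoOK (k i : ℕ) : Bool :=
  Nat.beq (Cfsg.Lib.TitsPacked.runQ (Cfsg.Lib.TitsComm.genW.getD k []) (vec i) % 2 ^ 52)
    (vec (imgIdx (isoW.getD k []) i))

theorem isoW_ok : isoW.all wordOK = true ∧ isoW.length = 8 := by decide +kernel

theorem vec_small : chk (fun i => Nat.ble (vec i + 1) (2 ^ 52)) 0 1755 = true := by decide +kernel

/-- The listed vectors increase. -/
noncomputable def srtV : List ℕ → Bool
  | [] => true
  | [a] => Nat.ble (a + 1) 1755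
  | a :: b :: r => Nat.ble (a + 1) 1755 && Nat.blt (vec a) (vec b) && srtV (b :: r)

theorem vec_srt : vecSrt.length = 1755 ∧ srtV vecSrt = true := by decide +kernel

theorem iso_ok_0 : chk (isoOK 0) 0 1755 = true := by decide +kernel

theorem iso_ok_1 : chk (isoOK 1) 0 1755 = true := by decide +kernel

theorem iso_ok_2 : chk (isoOK 2) 0 1755 = true := by decide +kernel

theorem iso_ok_3 : chk (isoOK 3) 0 1755 = true := by decide +kernel

theorem iso_ok_4 : chk (isoOK 4) 0 1755 = true := by decide +kernel

theorem iso_ok_5 : chk (isoOK 5) 0 1755 = true := by decide +kernel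

theorem iso_ok_6 : chk (isoOK 6) 0 1755 = true := by decide +kernel

theorem iso_ok_7 : chk (isoOK 7) 0 1755 = true := by decide +kernel

/-- All generators. -/
theorem iso_ok : ∀ k < 8, chk (isoOK k) 0 1755 = true
  | 0, _ => iso_ok_0
  | 1, _ => iso_ok_1
  | 2, _ => iso_ok_2
  | 3, _ => iso_ok_3
  | 4, _ => iso_ok_4
  | 5, _ => iso_ok_5
  | 6, _ => iso_ok_6
  | 7, _ => iso_ok_7
  | n + 8, h => absurd h (by omega)

theorem odd_moves : (List.range 1755).any (fun i => !(Nat.beq (Cfsg.Lib.TitsPacked.runQ
    (Cfsg.Lib.TitsComm.gw Cfsg.Lib.TitsTwoTrans.aW) (vec i) % 2 ^ 52) (vec i))) = true := by decide +kernel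

end Cfsg.Lib.RuModel.RankThree
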