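import Cfsg.Agent.RuModel.RankThree.Defs

/-!
The tables, the masks and the base points.
-/

set_option autoImplicit false
set_option maxRecDepth 100000

namespace Cfsg.Lib.RuModel.RankThree

theorem tab_ok_0 : chk tabOK 0 1015 = true := by decide +kernel

theorem tab_ok_1015 : chk tabOK 1015 1015 = true := by decide +kernel

theorem tab_ok_2030 : chk tabOK 2030 1015 = true := by decide +kernel

theorem tab_ok_3045 : chk tabOK 3045 1015 = true := by decide +kernel

/-- The tables are correct. -/
theorem tab_ok : chk tabOK 0 4060 = true :=
  chk_join (chk_join (chk_join (tab_ok_0) tab_ok_1015 rfl rfl) tab_ok_2030 rfl rfl) tab_ok_3045 rfl rfl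

end Cfsg.Lib.RuModel.RankThree
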