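import Cfsg.Agent.RuModel.Tree

/-!
Translates of a set of four points.
-/

set_option autoImplicit false
set_option maxRecDepth 20000

namespace Cfsg.Lib.RuModel.RankThree

def entTB0 : RT := .node (.node (.node (.node (.node (.node (.leaf 0)
 (.leaf 17))
 (.node (.leaf 16)
 (.leaf 17)))
 (.node (.node (.leaf 32)
 (.leaf 33))
 (.node (.leaf 48)
 (.leaf 49))))
 (.node (.node (.node (.leaf 64)
 (.leaf 65))
 (.node (.leaf 80)
 (.leaf 81)))
 (.node (.node (.leaf 97)
 (.leaf 112))
 (.node (.leaf 113)
 (.leaf 129)))))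
 (.node (.node (.node (.node (.leaf 144)
 (.leaf 145))
 (.node (.leaf 160)
 (.leaf 161)))
 (.node (.node (.leaf 176)
 (.leaf 177))
 (.node (.leaf 192)
 (.leaf 193))))
 (.node (.node (.node (.leaf 208)
 (.leaf 209))
 (.node (.leaf 224)
 (.leaf 225)))
 (.node (.node (.leaf 240)
 (.leaf 241))
 (.node (.leaf 256)
 (.leaf 257))))))
 (.node (.node (.node (.node (.node (.leaf 272)
 (.leaf 273))
 (.node (.leaf 288)
 (.leaf 289)))
 (.node (.node (.leaf 304)
 (.leaf 305))
 (.node (.leaf 320)
 (.leaf 321))))
 (.node (.node (.node (.leaf 336)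
 (.leaf 337))
 (.node (.leaf 352)
 (.leaf 368)))
 (.node (.node (.leaf 369)
 (.leaf 384))
 (.node (.leaf 385)
 (.leaf 400)))))
 (.node (.node (.node (.node (.leaf 401)
 (.leaf 416))
 (.node (.leaf 417)
 (.leaf 432)))
 (.node (.node (.leaf 433)
 (.leaf 448))
 (.node (.leaf 449)
 (.leaf 464))))
 (.node (.node (.node (.leaf 465)
 (.leaf 480))
 (.node (.leaf 481)
 (.leaf 496)))
 (.node (.node (.leaf 497)
 (.leaf 512))
 (.node (.leaf 513)
 (.leaf 528))))))

def entTB1 : RT := .node (.node (.node (.node (.node (.node (.leaf 529)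
 (.leaf 545))
 (.node (.leaf 560)
 (.leaf 561)))
 (.node (.node (.leaf 576)
 (.leaf 592))
 (.node (.leaf 593)
 (.leaf 608))))
 (.node (.node (.node (.leaf 609)
 (.leaf 624))
 (.node (.leaf 625)
 (.leaf 640)))
 (.node (.node (.leaf 641)
 (.leaf 656))
 (.node (.leaf 657)
 (.leaf 672)))))
 (.node (.node (.node (.node (.leaf 673)
 (.leaf 688))
 (.node (.leaf 689)
 (.leaf 704)))
 (.node (.node (.leaf 705)
 (.leaf 721))
 (.node (.leaf 736)
 (.leaf 737))))
 (.node (.node (.node (.leaf 752)
 (.leaf 768))
 (.node (.leaf 769)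
 (.leaf 784)))
 (.node (.node (.leaf 785)
 (.leaf 800))
 (.node (.leaf 801)
 (.leaf 816))))))
 (.node (.node (.node (.node (.node (.leaf 817)
 (.leaf 832))
 (.node (.leaf 833)
 (.leaf 848)))
 (.node (.node (.leaf 849)
 (.leaf 864))
 (.node (.leaf 865)
 (.leaf 880))))
 (.node (.node (.node (.leaf 881)
 (.leaf 896))
 (.node (.leaf 897)
 (.leaf 913)))
 (.node (.node (.leaf 928)
 (.leaf 929))
 (.node (.leaf 944)
 (.leaf 960)))))
 (.node (.node (.node (.node (.leaf 961)
 (.leaf 976))
 (.node (.leaf 977)
 (.leaf 992)))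
 (.node (.node (.leaf 993)
 (.leaf 1008))
 (.node (.leaf 1009)
 (.leaf 1024))))
 (.node (.node (.node (.leaf 1025)
 (.leaf 1040))
 (.node (.leaf 1041)
 (.leaf 1056)))
 (.node (.node (.leaf 1057)
 (.leaf 1072))
 (.node (.leaf 1073)
 (.leaf 1088))))))

def entTB2 : RT := .node (.node (.node (.node (.node (.node (.leaf 1089)
 (.leaf 1104))
 (.node (.leaf 1105)
 (.leaf 1120)))
 (.node (.node (.leaf 1121)
 (.leaf 1137))
 (.node (.leaf 1152)
 (.leaf 1153))))
 (.node (.node (.node (.leaf 1168)
 (.leaf 1184))
 (.node (.leaf 1185)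
 (.leaf 1200)))
 (.node (.node (.leaf 1201)
 (.leaf 1216))
 (.node (.leaf 1217)
 (.leaf 1232)))))
 (.node (.node (.node (.node (.leaf 1233)
 (.leaf 1248))
 (.node (.leaf 1249)
 (.leaf 1265)))
 (.node (.node (.leaf 1280)
 (.leaf 1281))
 (.node (.leaf 1296)
 (.leaf 1297))))
 (.node (.node (.node (.leaf 1312)
 (.leaf 1313))
 (.node (.leaf 1328)
 (.leaf 1329)))
 (.node (.node (.leaf 1344)
 (.leaf 1345))
 (.node (.leaf 1360)
 (.leaf 1361))))))
 (.node (.node (.node (.node (.node (.leaf 1376)
 (.leaf 1392))
 (.node (.leaf 1393)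
 (.leaf 1408)))
 (.node (.node (.leaf 1424)
 (.leaf 1425))
 (.node (.leaf 1440)
 (.leaf 1441))))
 (.node (.node (.node (.leaf 1457)
 (.leaf 1473))
 (.node (.leaf 1488)
 (.leaf 1504)))
 (.node (.node (.leaf 1505)
 (.leaf 1520))
 (.node (.leaf 1521)
 (.leaf 1536)))))
 (.node (.node (.node (.node (.leaf 1537)
 (.leaf 1552))
 (.node (.leaf 1553)
 (.leaf 1568)))
 (.node (.node (.leaf 1585)
 (.leaf 1600))
 (.node (.leaf 1601)
 (.leaf 1616))))
 (.node (.node (.node (.leaf 1632)
 (.leaf 1633))
 (.node (.leaf 1648)
 (.leaf 1649)))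
 (.node (.node (.leaf 1664)
 (.leaf 1665))
 (.node (.leaf 1680)
 (.leaf 1681))))))

def entTB3 : RT := .node (.node (.node (.node (.node (.node (.leaf 1696)
 (.leaf 1697))
 (.node (.leaf 1712)
 (.leaf 1728)))
 (.node (.node (.leaf 1729)
 (.leaf 1744))
 (.node (.leaf 1745)
 (.leaf 1760))))
 (.node (.node (.node (.leaf 1761)
 (.leaf 1776))
 (.node (.leaf 1777)
 (.leaf 1792)))
 (.node (.node (.leaf 1793)
 (.leaf 1809))
 (.node (.leaf 1824)
 (.leaf 1825)))))
 (.node (.node (.node (.node (.leaf 1840)
 (.leaf 1872))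
 (.node (.leaf 1873)
 (.leaf 1888)))
 (.node (.node (.leaf 1889)
 (.leaf 1904))
 (.node (.leaf 1905)
 (.leaf 1920))))
 (.node (.node (.node (.leaf 1921)
 (.leaf 1936))
 (.node (.leaf 1937)
 (.leaf 1952)))
 (.node (.node (.leaf 1953)
 (.leaf 1968))
 (.node (.leaf 1969)
 (.leaf 1984))))))
 (.node (.node (.node (.node (.node (.leaf 1985)
 (.leaf 2000))
 (.node (.leaf 2001)
 (.leaf 2016)))
 (.node (.node (.leaf 2017)
 (.leaf 2033))
 (.node (.leaf 2048)
 (.leaf 2049))))
 (.node (.node (.node (.leaf 2064)
 (.leaf 2065))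
 (.node (.leaf 2080)
 (.leaf 2081)))
 (.node (.node (.leaf 2096)
 (.leaf 2097))
 (.node (.leaf 2112)
 (.leaf 2113)))))
 (.node (.node (.node (.node (.leaf 2128)
 (.leaf 2129))
 (.node (.leaf 2144)
 (.leaf 2145)))
 (.node (.node (.leaf 2160)
 (.leaf 2161))
 (.node (.leaf 2176)
 (.leaf 2192))))
 (.node (.node (.node (.leaf 2209)
 (.leaf 2225))
 (.node (.leaf 2240)
 (.leaf 2241)))
 (.node (.node (.leaf 2256)
 (.leaf 2272))
 (.node (.leaf 2273)
 (.leaf 2289))))))

def entTB4 : RT := .node (.node (.node (.node (.node (.node (.leaf 2304)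
 (.leaf 2305))
 (.node (.leaf 2320)
 (.leaf 2336)))
 (.node (.node (.leaf 2352)
 (.leaf 2353))
 (.node (.leaf 2368)
 (.leaf 2369))))
 (.node (.node (.node (.leaf 2384)
 (.leaf 2385))
 (.node (.leaf 2401)
 (.leaf 2416)))
 (.node (.node (.leaf 2417)
 (.leaf 2432))
 (.node (.leaf 2448)
 (.leaf 2449)))))
 (.node (.node (.node (.node (.leaf 2464)
 (.leaf 2465))
 (.node (.leaf 2480)
 (.leaf 2481)))
 (.node (.node (.leaf 2496)
 (.leaf 2497))
 (.node (.leaf 2512)
 (.leaf 2513))))
 (.node (.node (.node (.leaf 2528)
 (.leaf 2529))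
 (.node (.leaf 2544)
 (.leaf 2545)))
 (.node (.node (.leaf 2561)
 (.leaf 2576))
 (.node (.leaf 2593)
 (.leaf 2624))))))
 (.node (.node (.node (.node (.node (.leaf 2625)
 (.leaf 2640))
 (.node (.leaf 2641)
 (.leaf 2656)))
 (.node (.node (.leaf 2672)
 (.leaf 2673))
 (.node (.leaf 2688)
 (.leaf 2689))))
 (.node (.node (.node (.leaf 2704)
 (.leaf 2705))
 (.node (.leaf 2720)
 (.leaf 2736)))
 (.node (.node (.leaf 2737)
 (.leaf 2752))
 (.node (.leaf 2753)
 (.leaf 2769)))))
 (.node (.node (.node (.node (.leaf 2784)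
 (.leaf 2785))
 (.node (.leaf 2800)
 (.leaf 2816)))
 (.node (.node (.leaf 2817)
 (.leaf 2832))
 (.node (.leaf 2848)
 (.leaf 2849))))
 (.node (.node (.node (.leaf 2864)
 (.leaf 2880))
 (.node (.leaf 2881)
 (.leaf 2896)))
 (.node (.node (.leaf 2897)
 (.leaf 2913))
 (.node (.leaf 2928)
 (.leaf 2929))))))

def entTB5 : RT := .node (.node (.node (.node (.node (.node (.leaf 2944)
 (.leaf 2945))
 (.node (.leaf 2960)
 (.leaf 2961)))
 (.node (.node (.leaf 2977)
 (.leaf 2992))
 (.node (.leaf 2993)
 (.leaf 3008))))
 (.node (.node (.node (.leaf 3024)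
 (.leaf 3025))
 (.node (.leaf 3040)
 (.leaf 3041)))
 (.node (.node (.leaf 3056)
 (.leaf 3057))
 (.node (.leaf 3072)
 (.leaf 3073)))))
 (.node (.node (.node (.node (.leaf 3088)
 (.leaf 3089))
 (.node (.leaf 3104)
 (.leaf 3105)))
 (.node (.node (.leaf 3120)
 (.leaf 3121))
 (.node (.leaf 3136)
 (.leaf 3137))))
 (.node (.node (.node (.leaf 3152)
 (.leaf 3153))
 (.node (.leaf 3168)
 (.leaf 3169)))
 (.node (.node (.leaf 3185)
 (.leaf 3200))
 (.node (.leaf 3201)
 (.leaf 3216))))))
 (.node (.node (.node (.node (.node (.leaf 3217)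
 (.leaf 3232))
 (.node (.leaf 3233)
 (.leaf 3248)))
 (.node (.node (.leaf 3249)
 (.leaf 3264))
 (.node (.leaf 3265)
 (.leaf 3280))))
 (.node (.node (.node (.leaf 3281)
 (.leaf 3296))
 (.node (.leaf 3297)
 (.leaf 3312)))
 (.node (.node (.leaf 3313)
 (.leaf 3328))
 (.node (.leaf 3345)
 (.leaf 3360)))))
 (.node (.node (.node (.node (.leaf 3361)
 (.leaf 3392))
 (.node (.leaf 3393)
 (.leaf 3408)))
 (.node (.node (.leaf 3409)
 (.leaf 3424))
 (.node (.leaf 3425)
 (.leaf 3440))))
 (.node (.node (.node (.leaf 3456)
 (.leaf 3472))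
 (.node (.leaf 3473)
 (.leaf 3488)))
 (.node (.node (.leaf 3489)
 (.leaf 3504))
 (.node (.leaf 3520)
 (.leaf 3521))))))

def entTB6 : RT := .node (.node (.node (.node (.node (.node (.leaf 3537)
 (.leaf 3552))
 (.node (.leaf 3553)
 (.leaf 3585)))
 (.node (.node (.leaf 3600)
 (.leaf 3616))
 (.node (.leaf 3617)
 (.leaf 3632))))
 (.node (.node (.node (.leaf 3633)
 (.leaf 3648))
 (.node (.leaf 3649)
 (.leaf 3664)))
 (.node (.node (.leaf 3665)
 (.leaf 3680))
 (.node (.leaf 3681)
 (.leaf 3696)))))
 (.node (.node (.node (.node (.leaf 3697)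
 (.leaf 3713))
 (.node (.leaf 3728)
 (.leaf 3729)))
 (.node (.node (.leaf 3760)
 (.leaf 3761))
 (.node (.leaf 3776)
 (.leaf 3777))))
 (.node (.node (.node (.leaf 3792)
 (.leaf 3793))
 (.node (.leaf 3808)
 (.leaf 3809)))
 (.node (.node (.leaf 3824)
 (.leaf 3825))
 (.node (.leaf 3840)
 (.leaf 3841))))))
 (.node (.node (.node (.node (.node (.leaf 3856)
 (.leaf 3872))
 (.node (.leaf 3873)
 (.leaf 3889)))
 (.node (.node (.leaf 3904)
 (.leaf 3905))
 (.node (.leaf 3921)
 (.leaf 3952))))
 (.node (.node (.node (.leaf 3968)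
 (.leaf 3985))
 (.node (.leaf 4000)
 (.leaf 4001)))
 (.node (.node (.leaf 4017)
 (.leaf 4032))
 (.node (.leaf 4048)
 (.leaf 4049)))))
 (.node (.node (.node (.node (.leaf 4064)
 (.leaf 4065))
 (.node (.leaf 4080)
 (.leaf 4081)))
 (.node (.node (.leaf 4096)
 (.leaf 4112))
 (.node (.leaf 4113)
 (.leaf 4128))))
 (.node (.node (.node (.leaf 4144)
 (.leaf 4145))
 (.node (.leaf 4160)
 (.leaf 4161)))
 (.node (.node (.leaf 4176)
 (.leaf 4177))
 (.node (.leaf 4192)
 (.leaf 4193))))))

def entTB7 : RT := .node (.node (.node (.node (.node (.node (.leaf 4224)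
 (.leaf 4240))
 (.node (.leaf 4257)
 (.leaf 4272)))
 (.node (.node (.leaf 4273)
 (.leaf 4289))
 (.node (.leaf 4336)
 (.leaf 4337))))
 (.node (.node (.node (.leaf 4353)
 (.leaf 4368))
 (.node (.leaf 4369)
 (.leaf 4384)))
 (.node (.node (.leaf 4400)
 (.leaf 4401))
 (.node (.leaf 4416)
 (.leaf 4417)))))
 (.node (.node (.node (.node (.leaf 4432)
 (.leaf 4433))
 (.node (.leaf 4480)
 (.leaf 4481)))
 (.node (.node (.leaf 4496)
 (.leaf 4497))
 (.node (.leaf 4528)
 (.leaf 4529))))
 (.node (.node (.node (.leaf 4544)
 (.leaf 4545))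
 (.node (.leaf 4560)
 (.leaf 4576)))
 (.node (.node (.leaf 4577)
 (.leaf 4609))
 (.node (.leaf 4641)
 (.leaf 4657))))))
 (.node (.node (.node (.node (.node (.leaf 4688)
 (.leaf 4689))
 (.node (.leaf 4704)
 (.leaf 4705)))
 (.node (.node (.leaf 4736)
 (.leaf 4737))
 (.node (.leaf 4753)
 (.leaf 4769))))
 (.node (.node (.node (.leaf 4800)
 (.leaf 4801))
 (.node (.leaf 4816)
 (.leaf 4817)))
 (.node (.node (.leaf 4832)
 (.leaf 4833))
 (.node (.leaf 4849)
 (.leaf 4864)))))
 (.node (.node (.node (.node (.leaf 4880)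
 (.leaf 4881))
 (.node (.leaf 4912)
 (.leaf 4913)))
 (.node (.node (.leaf 4928)
 (.leaf 4929))
 (.node (.leaf 4945)
 (.leaf 4960))))
 (.node (.node (.node (.leaf 4976)
 (.leaf 4977))
 (.node (.leaf 5009)
 (.leaf 5024)))
 (.node (.node (.leaf 5025)
 (.leaf 5040))
 (.node (.leaf 5056)
 (.leaf 5057))))))

def entTB8 : RT := .node (.node (.node (.node (.node (.node (.leaf 5072)
 (.leaf 5073))
 (.node (.leaf 5104)
 (.leaf 5105)))
 (.node (.node (.leaf 5120)
 (.leaf 5121))
 (.node (.leaf 5136)
 (.leaf 5152))))
 (.node (.node (.node (.leaf 5153)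
 (.leaf 5168))
 (.node (.leaf 5169)
 (.leaf 5184)))
 (.node (.node (.leaf 5185)
 (.leaf 5201))
 (.node (.leaf 5216)
 (.leaf 5217)))))
 (.node (.node (.node (.node (.leaf 5232)
 (.leaf 5248))
 (.node (.leaf 5249)
 (.leaf 5264)))
 (.node (.node (.leaf 5265)
 (.leaf 5281))
 (.node (.leaf 5296)
 (.leaf 5297))))
 (.node (.node (.node (.leaf 5312)
 (.leaf 5328))
 (.node (.leaf 5329)
 (.leaf 5344)))
 (.node (.node (.leaf 5345)
 (.leaf 5360))
 (.node (.leaf 5361)
 (.leaf 5376))))))
 (.node (.node (.node (.node (.node (.leaf 5409)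
 (.leaf 5424))
 (.node (.leaf 5425)
 (.leaf 5441)))
 (.node (.node (.leaf 5457)
 (.leaf 5504))
 (.node (.leaf 5520)
 (.leaf 5521))))
 (.node (.node (.node (.leaf 5536)
 (.leaf 5537))
 (.node (.leaf 5552)
 (.leaf 5553)))
 (.node (.node (.leaf 5568)
 (.leaf 5569))
 (.node (.leaf 5585)
 (.leaf 5600)))))
 (.node (.node (.node (.node (.leaf 5601)
 (.leaf 5633))
 (.node (.leaf 5648)
 (.leaf 5664)))
 (.node (.node (.leaf 5665)
 (.leaf 5680))
 (.node (.leaf 5681)
 (.leaf 5712))))
 (.node (.node (.node (.leaf 5713)
 (.leaf 5728))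
 (.node (.leaf 5729)
 (.leaf 5744)))
 (.node (.node (.leaf 5745)
 (.leaf 5760))
 (.node (.leaf 5761)
 (.leaf 5776))))))

def entTB9 : RT := .node (.node (.node (.node (.node (.node (.leaf 5777)
 (.leaf 5792))
 (.node (.leaf 5793)
 (.leaf 5808)))
 (.node (.node (.leaf 5809)
 (.leaf 5841))
 (.node (.leaf 5857)
 (.leaf 5872))))
 (.node (.node (.node (.leaf 5873)
 (.leaf 5888))
 (.node (.leaf 5904)
 (.leaf 5905)))
 (.node (.node (.leaf 5920)
 (.leaf 5921))
 (.node (.leaf 5937)
 (.leaf 5952)))))
 (.node (.node (.node (.node (.leaf 5953)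
 (.leaf 5968))
 (.node (.leaf 5984)
 (.leaf 5985)))
 (.node (.node (.leaf 6000)
 (.leaf 6016))
 (.node (.leaf 6017)
 (.leaf 6033))))
 (.node (.node (.node (.leaf 6049)
 (.leaf 6064))
 (.node (.leaf 6080)
 (.leaf 6081)))
 (.node (.node (.leaf 6096)
 (.leaf 6097))
 (.node (.leaf 6112)
 (.leaf 6113))))))
 (.node (.node (.node (.node (.node (.leaf 6128)
 (.leaf 6144))
 (.node (.leaf 6145)
 (.leaf 6177)))
 (.node (.node (.leaf 6192)
 (.leaf 6240))
 (.node (.leaf 6256)
 (.leaf 6257))))
 (.node (.node (.node (.leaf 6272)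
 (.leaf 6273))
 (.node (.leaf 6289)
 (.leaf 6304)))
 (.node (.node (.leaf 6305)
 (.leaf 6320))
 (.node (.leaf 6321)
 (.leaf 6336)))))
 (.node (.node (.node (.node (.leaf 6337)
 (.leaf 6352))
 (.node (.leaf 6353)
 (.leaf 6384)))
 (.node (.node (.leaf 6400)
 (.leaf 6417))
 (.node (.leaf 6432)
 (.leaf 6449))))
 (.node (.node (.node (.leaf 6464)
 (.leaf 6480))
 (.node (.leaf 6497)
 (.leaf 6512)))
 (.node (.node (.leaf 6528)
 (.leaf 6544))
 (.node (.leaf 6545)
 (.leaf 6560))))))

def entTB10 : RT := .node (.node (.node (.node (.node (.node (.leaf 6576)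
 (.leaf 6577))
 (.node (.leaf 6592)
 (.leaf 6624)))
 (.node (.node (.leaf 6641)
 (.leaf 6673))
 (.node (.leaf 6688)
 (.leaf 6704))))
 (.node (.node (.node (.leaf 6705)
 (.leaf 6720))
 (.node (.leaf 6752)
 (.leaf 6785)))
 (.node (.node (.leaf 6801)
 (.leaf 6816))
 (.node (.leaf 6817)
 (.leaf 6833)))))
 (.node (.node (.node (.node (.leaf 6849)
 (.leaf 6865))
 (.node (.leaf 6881)
 (.leaf 6896)))
 (.node (.node (.leaf 6913)
 (.leaf 6928))
 (.node (.leaf 6945)
 (.leaf 6960))))
 (.node (.node (.node (.leaf 6961)
 (.leaf 6992))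
 (.node (.leaf 7008)
 (.leaf 7009)))
 (.node (.node (.leaf 7057)
 (.leaf 7073))
 (.node (.leaf 7089)
 (.leaf 7120))))))
 (.node (.node (.node (.node (.node (.leaf 7121)
 (.leaf 7137))
 (.node (.leaf 7152)
 (.leaf 7153)))
 (.node (.node (.leaf 7168)
 (.leaf 7185))
 (.node (.leaf 7201)
 (.leaf 7216))))
 (.node (.node (.node (.leaf 7232)
 (.leaf 7249))
 (.node (.leaf 7264)
 (.leaf 7265)))
 (.node (.node (.leaf 7280)
 (.leaf 7281))
 (.node (.leaf 7297)
 (.leaf 7313)))))
 (.node (.node (.node (.node (.leaf 7328)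
 (.leaf 7329))
 (.node (.leaf 7344)
 (.leaf 7360)))
 (.node (.node (.leaf 7361)
 (.leaf 7376))
 (.node (.leaf 7377)
 (.leaf 7408))))
 (.node (.node (.node (.leaf 7409)
 (.leaf 7424))
 (.node (.leaf 7440)
 (.leaf 7441)))
 (.node (.node (.leaf 7457)
 (.leaf 7505))
 (.node (.leaf 7521)
 (.leaf 7536))))))

def entTB11 : RT := .node (.node (.node (.node (.node (.node (.leaf 7552)
 (.leaf 7569))
 (.node (.leaf 7585)
 (.leaf 7601)))
 (.node (.node (.leaf 7617)
 (.leaf 7633))
 (.node (.leaf 7648)
 (.leaf 7649))))
 (.node (.node (.node (.leaf 7664)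
 (.leaf 7665))
 (.node (.leaf 7680)
 (.leaf 7729)))
 (.node (.node (.leaf 7744)
 (.leaf 7760))
 (.node (.leaf 7761)
 (.leaf 7776)))))
 (.node (.node (.node (.node (.leaf 7792)
 (.leaf 7825))
 (.node (.leaf 7840)
 (.leaf 7841)))
 (.node (.node (.leaf 7857)
 (.leaf 7873))
 (.node (.leaf 7888)
 (.leaf 7889))))
 (.node (.node (.node (.leaf 7905)
 (.leaf 7920))
 (.node (.leaf 7937)
 (.leaf 8000)))
 (.node (.node (.leaf 8016)
 (.leaf 8017))
 (.node (.leaf 8033)
 (.leaf 8080))))))
 (.node (.node (.node (.node (.node (.leaf 8081)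
 (.leaf 8096))
 (.node (.leaf 8097)
 (.leaf 8112)))
 (.node (.node (.leaf 8129)
 (.leaf 8145))
 (.node (.leaf 8192)
 (.leaf 8193))))
 (.node (.node (.node (.leaf 8208)
 (.leaf 8209))
 (.node (.leaf 8224)
 (.leaf 8225)))
 (.node (.node (.leaf 8240)
 (.leaf 8257))
 (.node (.leaf 8273)
 (.leaf 8304)))))
 (.node (.node (.node (.node (.leaf 8305)
 (.leaf 8320))
 (.node (.leaf 8321)
 (.leaf 8336)))
 (.node (.node (.leaf 8337)
 (.leaf 8352))
 (.node (.leaf 8368)
 (.leaf 8369))))
 (.node (.node (.node (.leaf 8384)
 (.leaf 8385))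
 (.node (.leaf 8400)
 (.leaf 8401)))
 (.node (.node (.leaf 8416)
 (.leaf 8417))
 (.node (.leaf 8449)
 (.leaf 8464))))))

def entTB12 : RT := .node (.node (.node (.node (.node (.node (.leaf 8480)
 (.leaf 8481))
 (.node (.leaf 8496)
 (.leaf 8497)))
 (.node (.node (.leaf 8513)
 (.leaf 8544))
 (.node (.leaf 8545)
 (.leaf 8560))))
 (.node (.node (.node (.leaf 8592)
 (.leaf 8609))
 (.node (.leaf 8625)
 (.leaf 8640)))
 (.node (.node (.leaf 8641)
 (.leaf 8656))
 (.node (.leaf 8672)
 (.leaf 8673)))))
 (.node (.node (.node (.node (.leaf 8688)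
 (.leaf 8704))
 (.node (.leaf 8705)
 (.leaf 8720)))
 (.node (.node (.leaf 8736)
 (.leaf 8737))
 (.node (.leaf 8752)
 (.leaf 8753))))
 (.node (.node (.node (.leaf 8769)
 (.leaf 8785))
 (.node (.leaf 8816)
 (.leaf 8817)))
 (.node (.node (.leaf 8832)
 (.leaf 8833))
 (.node (.leaf 8848)
 (.leaf 8865))))))
 (.node (.node (.node (.node (.node (.leaf 8880)
 (.leaf 8897))
 (.node (.leaf 8912)
 (.leaf 8929)))
 (.node (.node (.leaf 8944)
 (.leaf 8960))
 (.node (.leaf 8977)
 (.leaf 8992))))
 (.node (.node (.node (.leaf 9008)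
 (.leaf 9009))
 (.node (.leaf 9024)
 (.leaf 9025)))
 (.node (.node (.leaf 9041)
 (.leaf 9056))
 (.node (.leaf 9057)
 (.leaf 9072)))))
 (.node (.node (.node (.node (.leaf 9073)
 (.leaf 9088))
 (.node (.leaf 9089)
 (.leaf 9104)))
 (.node (.node (.leaf 9153)
 (.leaf 9184))
 (.node (.leaf 9185)
 (.leaf 9201))))
 (.node (.node (.node (.leaf 9216)
 (.leaf 9217))
 (.node (.leaf 9249)
 (.leaf 9313)))
 (.node (.node (.leaf 9328)
 (.leaf 9344))
 (.node (.leaf 9345)
 (.leaf 9360))))))

def entTB13 : RT := .node (.node (.node (.node (.node (.node (.leaf 9361)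
 (.leaf 9377))
 (.node (.leaf 9392)
 (.leaf 9408)))
 (.node (.node (.leaf 9424)
 (.leaf 9425))
 (.node (.leaf 9441)
 (.leaf 9456))))
 (.node (.node (.node (.leaf 9457)
 (.leaf 9472))
 (.node (.leaf 9505)
 (.leaf 9520)))
 (.node (.node (.leaf 9521)
 (.leaf 9537))
 (.node (.leaf 9568)
 (.leaf 9584)))))
 (.node (.node (.node (.node (.leaf 9585)
 (.leaf 9601))
 (.node (.leaf 9616)
 (.leaf 9649)))
 (.node (.node (.leaf 9665)
 (.leaf 9680))
 (.node (.leaf 9681)
 (.leaf 9696))))
 (.node (.node (.node (.leaf 9697)
 (.leaf 9712))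
 (.node (.leaf 9713)
 (.leaf 9728)))
 (.node (.node (.leaf 9744)
 (.leaf 9745))
 (.node (.leaf 9760)
 (.leaf 9761))))))
 (.node (.node (.node (.node (.node (.leaf 9776)
 (.leaf 9777))
 (.node (.leaf 9808)
 (.leaf 9825)))
 (.node (.node (.leaf 9840)
 (.leaf 9841))
 (.node (.leaf 9888)
 (.leaf 9889))))
 (.node (.node (.node (.leaf 9904)
 (.leaf 9920))
 (.node (.leaf 9953)
 (.leaf 9968)))
 (.node (.node (.leaf 9984)
 (.leaf 9985))
 (.node (.leaf 10001)
 (.leaf 10016)))))
 (.node (.node (.node (.node (.leaf 10017)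
 (.leaf 10032))
 (.node (.leaf 10049)
 (.leaf 10065)))
 (.node (.node (.leaf 10112)
 (.leaf 10113))
 (.node (.leaf 10128)
 (.leaf 10129))))
 (.node (.node (.node (.leaf 10145)
 (.leaf 10176))
 (.node (.leaf 10209)
 (.leaf 10240)))
 (.node (.node (.leaf 10257)
 (.leaf 10272))
 (.node (.leaf 10304)
 (.leaf 10320))))))

def entTB14 : RT := .node (.node (.node (.node (.node (.node (.leaf 10336)
 (.leaf 10352))
 (.node (.leaf 10353)
 (.leaf 10385)))
 (.node (.node (.leaf 10401)
 (.leaf 10417))
 (.node (.leaf 10433)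
 (.leaf 10465))))
 (.node (.node (.node (.leaf 10480)
 (.leaf 10481))
 (.node (.leaf 10512)
 (.leaf 10529)))
 (.node (.node (.leaf 10577)
 (.leaf 10592))
 (.node (.leaf 10593)
 (.leaf 10625)))))
 (.node (.node (.node (.node (.leaf 10672)
 (.leaf 10673))
 (.node (.leaf 10688)
 (.leaf 10689)))
 (.node (.node (.leaf 10721)
 (.leaf 10736))
 (.node (.leaf 10752)
 (.leaf 10769))))
 (.node (.node (.node (.leaf 10784)
 (.leaf 10800))
 (.node (.leaf 10833)
 (.leaf 10849)))
 (.node (.node (.leaf 10865)
 (.leaf 10896))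
 (.node (.leaf 10912)
 (.leaf 10913))))))
 (.node (.node (.node (.node (.node (.leaf 10929)
 (.leaf 10977))
 (.node (.leaf 11008)
 (.leaf 11009)))
 (.node (.node (.leaf 11057)
 (.leaf 11072))
 (.node (.leaf 11088)
 (.leaf 11104))))
 (.node (.node (.node (.leaf 11120)
 (.leaf 11121))
 (.node (.leaf 11136)
 (.leaf 11137)))
 (.node (.node (.leaf 11184)
 (.leaf 11185))
 (.node (.leaf 11200)
 (.leaf 11216)))))
 (.node (.node (.node (.node (.leaf 11232)
 (.leaf 11233))
 (.node (.leaf 11248)
 (.leaf 11265)))
 (.node (.node (.leaf 11280)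
 (.leaf 11296))
 (.node (.leaf 11312)
 (.leaf 11313))))
 (.node (.node (.node (.leaf 11361)
 (.leaf 11377))
 (.node (.leaf 11393)
 (.leaf 11408)))
 (.node (.node (.leaf 11409)
 (.leaf 11441))
 (.node (.leaf 11457)
 (.leaf 11472))))))

def entTB15 : RT := .node (.node (.node (.node (.node (.node (.leaf 11505)
 (.leaf 11520))
 (.node (.leaf 11536)
 (.leaf 11537)))
 (.node (.node (.leaf 11600)
 (.leaf 11616))
 (.node (.leaf 11649)
 (.leaf 11681))))
 (.node (.node (.node (.leaf 11713)
 (.leaf 11776))
 (.node (.leaf 11777)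
 (.leaf 11792)))
 (.node (.node (.leaf 11824)
 (.leaf 11825))
 (.node (.leaf 11840)
 (.leaf 11856)))))
 (.node (.node (.node (.node (.leaf 11857)
 (.leaf 11872))
 (.node (.leaf 11873)
 (.leaf 11888)))
 (.node (.node (.leaf 11905)
 (.leaf 11920))
 (.node (.leaf 11937)
 (.leaf 11953))))
 (.node (.node (.node (.leaf 11984)
 (.leaf 11985))
 (.node (.leaf 12001)
 (.leaf 12017)))
 (.node (.node (.leaf 12032)
 (.leaf 12033))
 (.node (.leaf 12048)
 (.leaf 12064))))))
 (.node (.node (.node (.node (.node (.leaf 12065)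
 (.leaf 12080))
 (.node (.leaf 12096)
 (.leaf 12097)))
 (.node (.node (.leaf 12128)
 (.leaf 12144))
 (.node (.leaf 12145)
 (.leaf 12176))))
 (.node (.node (.node (.leaf 12177)
 (.leaf 12208))
 (.node (.leaf 12209)
 (.leaf 12240)))
 (.node (.node (.leaf 12305)
 (.leaf 12320))
 (.node (.leaf 12336)
 (.leaf 12352)))))
 (.node (.node (.node (.node (.leaf 12353)
 (.leaf 12368))
 (.node (.leaf 12369)
 (.leaf 12385)))
 (.node (.node (.leaf 12400)
 (.leaf 12401))
 (.node (.leaf 12432)
 (.leaf 12449))))
 (.node (.node (.node (.leaf 12465)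
 (.leaf 12481))
 (.node (.leaf 12512)
 (.leaf 12545)))
 (.node (.node (.leaf 12561)
 (.leaf 12577))
 (.node (.leaf 12593)
 (.leaf 12608))))))

def entTB16 : RT := .node (.node (.node (.node (.node (.node (.leaf 12640)
 (.leaf 12656))
 (.node (.leaf 12657)
 (.leaf 12672)))
 (.node (.node (.leaf 12688)
 (.leaf 12720))
 (.node (.leaf 12721)
 (.leaf 12737))))
 (.node (.node (.node (.leaf 12753)
 (.leaf 12768))
 (.node (.leaf 12785)
 (.leaf 12800)))
 (.node (.node (.leaf 12817)
 (.leaf 12832))
 (.node (.leaf 12849)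
 (.leaf 12928)))))
 (.node (.node (.node (.node (.leaf 12945)
 (.leaf 12960))
 (.node (.leaf 12961)
 (.leaf 12976)))
 (.node (.node (.leaf 12977)
 (.leaf 13024))
 (.node (.leaf 13025)
 (.leaf 13056))))
 (.node (.node (.node (.leaf 13057)
 (.leaf 13072))
 (.node (.leaf 13088)
 (.leaf 13089)))
 (.node (.node (.leaf 13104)
 (.leaf 13121))
 (.node (.leaf 13137)
 (.leaf 13168))))))
 (.node (.node (.node (.node (.node (.leaf 13201)
 (.leaf 13216))
 (.node (.leaf 13233)
 (.leaf 13280)))
 (.node (.node (.leaf 13312)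
 (.leaf 13329))
 (.node (.leaf 13361)
 (.leaf 13392))))
 (.node (.node (.node (.leaf 13393)
 (.leaf 13424))
 (.node (.leaf 13441)
 (.leaf 13457)))
 (.node (.node (.leaf 13473)
 (.leaf 13489))
 (.node (.leaf 13504)
 (.leaf 13505)))))
 (.node (.node (.node (.node (.leaf 13568)
 (.leaf 13569))
 (.node (.leaf 13584)
 (.leaf 13585)))
 (.node (.node (.leaf 13696)
 (.leaf 13712))
 (.node (.leaf 13728)
 (.leaf 13729))))
 (.node (.node (.node (.leaf 13745)
 (.leaf 13761))
 (.node (.leaf 13776)
 (.leaf 13792)))
 (.node (.node (.leaf 13808)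
 (.leaf 13809))
 (.node (.leaf 13856)
 (.leaf 13873))))))

def entTB17 : RT := .node (.node (.node (.node (.node (.node (.leaf 13888)
 (.leaf 13904))
 (.node (.leaf 13952)
 (.leaf 13969)))
 (.node (.node (.leaf 13985)
 (.leaf 14016))
 (.node (.leaf 14032)
 (.leaf 14080))))
 (.node (.node (.node (.leaf 14161)
 (.leaf 14176))
 (.node (.leaf 14192)
 (.leaf 14193)))
 (.node (.node (.leaf 14209)
 (.leaf 14240))
 (.node (.leaf 14241)
 (.leaf 14272)))))
 (.node (.node (.node (.node (.leaf 14289)
 (.leaf 14304))
 (.node (.leaf 14353)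
 (.leaf 14417)))
 (.node (.node (.leaf 14432)
 (.leaf 14448))
 (.node (.leaf 14496)
 (.leaf 14497))))
 (.node (.node (.node (.leaf 14528)
 (.leaf 14561))
 (.node (.leaf 14576)
 (.leaf 14593)))
 (.node (.node (.leaf 14609)
 (.leaf 14640))
 (.node (.leaf 14641)
 (.leaf 14705))))))
 (.node (.node (.node (.node (.node (.leaf 14721)
 (.leaf 14753))
 (.node (.leaf 14785)
 (.leaf 14817)))
 (.node (.node (.leaf 14865)
 (.leaf 14880))
 (.node (.leaf 14945)
 (.leaf 14977))))
 (.node (.node (.node (.leaf 14992)
 (.leaf 15009))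
 (.node (.leaf 15072)
 (.leaf 15169)))
 (.node (.node (.leaf 15185)
 (.leaf 15217))
 (.node (.leaf 15377)
 (.leaf 15440)))))
 (.node (.node (.node (.node (.leaf 15521)
 (.leaf 15584))
 (.node (.leaf 15616)
 (.leaf 15617)))
 (.node (.node (.leaf 15633)
 (.leaf 15648))
 (.node (.leaf 15649)
 (.leaf 15664))))
 (.node (.node (.node (.leaf 15681)
 (.leaf 15712))
 (.node (.leaf 15713)
 (.leaf 15793)))
 (.node (.node (.leaf 15809)
 (.leaf 15840))
 (.node (.leaf 15904)
 (.leaf 15920))))))

def entTB18 : RT := .node (.node (.node (.node (.node (.node (.leaf 15952)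
 (.leaf 16000))
 (.node (.leaf 16032)
 (.leaf 16081)))
 (.node (.node (.leaf 16096)
 (.leaf 16176))
 (.node (.leaf 16177)
 (.leaf 16192))))
 (.node (.node (.node (.leaf 16208)
 (.leaf 16225))
 (.node (.leaf 16241)
 (.leaf 16257)))
 (.node (.node (.leaf 16320)
 (.leaf 16336))
 (.node (.leaf 16352)
 (.leaf 16368)))))
 (.node (.node (.node (.node (.leaf 16369)
 (.leaf 16417))
 (.node (.leaf 16432)
 (.leaf 16513)))
 (.node (.node (.leaf 16577)
 (.leaf 16656))
 (.node (.leaf 16657)
 (.leaf 16689))))
 (.node (.node (.node (.leaf 16720)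
 (.leaf 16752))
 (.node (.leaf 16768)
 (.leaf 16801)))
 (.node (.node (.leaf 16817)
 (.leaf 16849))
 (.node (.leaf 16864)
 (.leaf 16960))))))
 (.node (.node (.node (.node (.node (.leaf 17184)
 (.leaf 17185))
 (.node (.leaf 17200)
 (.leaf 17232)))
 (.node (.node (.leaf 17344)
 (.leaf 17505))
 (.node (.leaf 17600)
 (.leaf 17601))))
 (.node (.node (.node (.leaf 17825)
 (.leaf 17841))
 (.node (.leaf 17888)
 (.leaf 18417)))
 (.node (.node (.leaf 18432)
 (.leaf 18545))
 (.node (.leaf 18656)
 (.leaf 18752)))))
 (.node (.node (.node (.node (.leaf 18897)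
 (.leaf 19218))
 (.node (.leaf 19216)
 (.leaf 19217)))
 (.node (.node (.leaf 19232)
 (.leaf 19233))
 (.node (.leaf 19248)
 (.leaf 19249))))
 (.node (.node (.node (.leaf 19264)
 (.leaf 19265))
 (.node (.leaf 19280)
 (.leaf 19281)))
 (.node (.node (.leaf 19296)
 (.leaf 19297))
 (.node (.leaf 19312)
 (.leaf 19313))))))

def entTB19 : RT := .node (.node (.node (.node (.node (.node (.leaf 19329)
 (.leaf 19344))
 (.node (.leaf 19345)
 (.leaf 19360)))
 (.node (.node (.leaf 19361)
 (.leaf 19376))
 (.node (.leaf 19377)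
 (.leaf 19392))))
 (.node (.node (.node (.leaf 19393)
 (.leaf 19408))
 (.node (.leaf 19409)
 (.leaf 19424)))
 (.node (.node (.leaf 19425)
 (.leaf 19440))
 (.node (.leaf 19441)
 (.leaf 19456)))))
 (.node (.node (.node (.node (.leaf 19457)
 (.leaf 19472))
 (.node (.leaf 19473)
 (.leaf 19488)))
 (.node (.node (.leaf 19489)
 (.leaf 19504))
 (.node (.leaf 19505)
 (.leaf 19520))))
 (.node (.node (.node (.leaf 19521)
 (.leaf 19536))
 (.node (.leaf 19537)
 (.leaf 19552)))
 (.node (.node (.leaf 19553)
 (.leaf 19569))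
 (.node (.leaf 19584)
 (.leaf 19585))))))
 (.node (.node (.node (.node (.node (.leaf 19600)
 (.leaf 19616))
 (.node (.leaf 19617)
 (.leaf 19632)))
 (.node (.node (.leaf 19633)
 (.leaf 19648))
 (.node (.leaf 19649)
 (.leaf 19664))))
 (.node (.node (.node (.leaf 19665)
 (.leaf 19680))
 (.node (.leaf 19681)
 (.leaf 19696)))
 (.node (.node (.leaf 19697)
 (.leaf 19712))
 (.node (.leaf 19713)
 (.leaf 19728)))))
 (.node (.node (.node (.node (.leaf 19729)
 (.leaf 19744))
 (.node (.leaf 19745)
 (.leaf 19760)))
 (.node (.node (.leaf 19761)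
 (.leaf 19776))
 (.node (.leaf 19777)
 (.leaf 19793))))
 (.node (.node (.node (.leaf 19808)
 (.leaf 19809))
 (.node (.leaf 19824)
 (.leaf 19840)))
 (.node (.node (.leaf 19841)
 (.leaf 19856))
 (.node (.leaf 19857)
 (.leaf 19872))))))

def entTB20 : RT := .node (.node (.node (.node (.node (.node (.leaf 19873)
 (.leaf 19888))
 (.node (.leaf 19889)
 (.leaf 19904)))
 (.node (.node (.leaf 19905)
 (.leaf 19920))
 (.node (.leaf 19921)
 (.leaf 19936))))
 (.node (.node (.node (.leaf 19937)
 (.leaf 19952))
 (.node (.leaf 19953)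
 (.leaf 19968)))
 (.node (.node (.leaf 19969)
 (.leaf 19984))
 (.node (.leaf 19985)
 (.leaf 20000)))))
 (.node (.node (.node (.node (.leaf 20001)
 (.leaf 20017))
 (.node (.leaf 20032)
 (.leaf 20033)))
 (.node (.node (.leaf 20048)
 (.leaf 20064))
 (.node (.leaf 20065)
 (.leaf 20080))))
 (.node (.node (.node (.leaf 20081)
 (.leaf 20096))
 (.node (.leaf 20097)
 (.leaf 20112)))
 (.node (.node (.leaf 20113)
 (.leaf 20128))
 (.node (.leaf 20129)
 (.leaf 20144))))))
 (.node (.node (.node (.node (.node (.leaf 20145)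
 (.leaf 20160))
 (.node (.leaf 20161)
 (.leaf 20176)))
 (.node (.node (.leaf 20177)
 (.leaf 20192))
 (.node (.leaf 20193)
 (.leaf 20209))))
 (.node (.node (.node (.leaf 20224)
 (.leaf 20225))
 (.node (.leaf 20240)
 (.leaf 20256)))
 (.node (.node (.leaf 20257)
 (.leaf 20272))
 (.node (.leaf 20273)
 (.leaf 20288)))))
 (.node (.node (.node (.node (.leaf 20289)
 (.leaf 20304))
 (.node (.leaf 20305)
 (.leaf 20320)))
 (.node (.node (.leaf 20321)
 (.leaf 20336))
 (.node (.leaf 20337)
 (.leaf 20352))))
 (.node (.node (.node (.leaf 20353)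
 (.leaf 20368))
 (.node (.leaf 20369)
 (.leaf 20384)))
 (.node (.node (.leaf 20385)
 (.leaf 20400))
 (.node (.leaf 20401)
 (.leaf 20416))))))

def entTB21 : RT := .node (.node (.node (.node (.node (.node (.leaf 20417)
 (.leaf 20433))
 (.node (.leaf 20448)
 (.leaf 20449)))
 (.node (.node (.leaf 20464)
 (.leaf 20480))
 (.node (.leaf 20481)
 (.leaf 20496))))
 (.node (.node (.node (.leaf 20497)
 (.leaf 20512))
 (.node (.leaf 20513)
 (.leaf 20528)))
 (.node (.node (.leaf 20529)
 (.leaf 20544))
 (.node (.leaf 20545)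
 (.leaf 20560)))))
 (.node (.node (.node (.node (.leaf 20561)
 (.leaf 20576))
 (.node (.leaf 20577)
 (.leaf 20592)))
 (.node (.node (.leaf 20593)
 (.leaf 20608))
 (.node (.leaf 20609)
 (.leaf 20624))))
 (.node (.node (.node (.leaf 20625)
 (.leaf 20640))
 (.node (.leaf 20641)
 (.leaf 20657)))
 (.node (.node (.leaf 20672)
 (.leaf 20673))
 (.node (.leaf 20688)
 (.leaf 20689))))))
 (.node (.node (.node (.node (.node (.leaf 20704)
 (.leaf 20705))
 (.node (.leaf 20720)
 (.leaf 20721)))
 (.node (.node (.leaf 20736)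
 (.leaf 20737))
 (.node (.leaf 20752)
 (.leaf 20753))))
 (.node (.node (.node (.leaf 20768)
 (.leaf 20769))
 (.node (.leaf 20784)
 (.leaf 20785)))
 (.node (.node (.leaf 20800)
 (.leaf 20816))
 (.node (.leaf 20817)
 (.leaf 20832)))))
 (.node (.node (.node (.node (.leaf 20833)
 (.leaf 20849))
 (.node (.leaf 20864)
 (.leaf 20865)))
 (.node (.node (.leaf 20880)
 (.leaf 20896))
 (.node (.leaf 20897)
 (.leaf 20912))))
 (.node (.node (.node (.leaf 20913)
 (.leaf 20928))
 (.node (.leaf 20929)
 (.leaf 20944)))
 (.node (.node (.leaf 20945)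
 (.leaf 20960))
 (.node (.leaf 20977)
 (.leaf 20992))))))

def entTB22 : RT := .node (.node (.node (.node (.node (.node (.leaf 20993)
 (.leaf 21008))
 (.node (.leaf 21024)
 (.leaf 21025)))
 (.node (.node (.leaf 21040)
 (.leaf 21041))
 (.node (.leaf 21056)
 (.leaf 21057))))
 (.node (.node (.node (.leaf 21072)
 (.leaf 21073))
 (.node (.leaf 21088)
 (.leaf 21089)))
 (.node (.node (.leaf 21104)
 (.leaf 21105))
 (.node (.leaf 21120)
 (.leaf 21121)))))
 (.node (.node (.node (.node (.leaf 21136)
 (.leaf 21137))
 (.node (.leaf 21152)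
 (.leaf 21153)))
 (.node (.node (.leaf 21168)
 (.leaf 21169))
 (.node (.leaf 21184)
 (.leaf 21185))))
 (.node (.node (.node (.leaf 21201)
 (.leaf 21216))
 (.node (.leaf 21217)
 (.leaf 21232)))
 (.node (.node (.leaf 21248)
 (.leaf 21249))
 (.node (.leaf 21264)
 (.leaf 21265))))))
 (.node (.node (.node (.node (.node (.leaf 21280)
 (.leaf 21281))
 (.node (.leaf 21296)
 (.leaf 21297)))
 (.node (.node (.leaf 21312)
 (.leaf 21313))
 (.node (.leaf 21328)
 (.leaf 21329))))
 (.node (.node (.node (.leaf 21344)
 (.leaf 21345))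
 (.node (.leaf 21360)
 (.leaf 21361)))
 (.node (.node (.leaf 21376)
 (.leaf 21377))
 (.node (.leaf 21392)
 (.leaf 21393)))))
 (.node (.node (.node (.node (.leaf 21408)
 (.leaf 21409))
 (.node (.leaf 21425)
 (.leaf 21440)))
 (.node (.node (.leaf 21441)
 (.leaf 21456))
 (.node (.leaf 21457)
 (.leaf 21472))))
 (.node (.node (.node (.leaf 21473)
 (.leaf 21488))
 (.node (.leaf 21489)
 (.leaf 21504)))
 (.node (.node (.leaf 21505)
 (.leaf 21520))
 (.node (.leaf 21521)
 (.leaf 21536))))))

def entTB23 : RT := .node (.node (.node (.node (.node (.node (.leaf 21537)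
 (.leaf 21552))
 (.node (.leaf 21553)
 (.leaf 21568)))
 (.node (.node (.leaf 21584)
 (.leaf 21585))
 (.node (.leaf 21600)
 (.leaf 21601))))
 (.node (.node (.node (.leaf 21617)
 (.leaf 21632))
 (.node (.leaf 21633)
 (.leaf 21648)))
 (.node (.node (.leaf 21664)
 (.leaf 21665))
 (.node (.leaf 21680)
 (.leaf 21681)))))
 (.node (.node (.node (.node (.leaf 21696)
 (.leaf 21697))
 (.node (.leaf 21712)
 (.leaf 21728)))
 (.node (.node (.leaf 21744)
 (.leaf 21745))
 (.node (.leaf 21760)
 (.leaf 21761))))
 (.node (.node (.node (.leaf 21776)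
 (.leaf 21792))
 (.node (.leaf 21793)
 (.leaf 21809)))
 (.node (.node (.leaf 21824)
 (.leaf 21825))
 (.node (.leaf 21856)
 (.leaf 21857))))))
 (.node (.node (.node (.node (.node (.leaf 21872)
 (.leaf 21888))
 (.node (.leaf 21889)
 (.leaf 21904)))
 (.node (.node (.leaf 21905)
 (.leaf 21920))
 (.node (.leaf 21921)
 (.leaf 21936))))
 (.node (.node (.node (.leaf 21937)
 (.leaf 21952))
 (.node (.leaf 21953)
 (.leaf 21968)))
 (.node (.node (.leaf 21969)
 (.leaf 21985))
 (.node (.leaf 22000)
 (.leaf 22001)))))
 (.node (.node (.node (.node (.leaf 22016)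
 (.leaf 22032))
 (.node (.leaf 22033)
 (.leaf 22048)))
 (.node (.node (.leaf 22049)
 (.leaf 22064))
 (.node (.leaf 22065)
 (.leaf 22080))))
 (.node (.node (.node (.leaf 22081)
 (.leaf 22096))
 (.node (.leaf 22097)
 (.leaf 22112)))
 (.node (.node (.leaf 22113)
 (.leaf 22128))
 (.node (.leaf 22129)
 (.leaf 22144))))))

def entTB24 : RT := .node (.node (.node (.node (.node (.node (.leaf 22145)
 (.leaf 22160))
 (.node (.leaf 22161)
 (.leaf 22176)))
 (.node (.node (.leaf 22177)
 (.leaf 22193))
 (.node (.leaf 22209)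
 (.leaf 22224))))
 (.node (.node (.node (.leaf 22225)
 (.leaf 22240))
 (.node (.leaf 22241)
 (.leaf 22256)))
 (.node (.node (.leaf 22257)
 (.leaf 22272))
 (.node (.leaf 22273)
 (.leaf 22288)))))
 (.node (.node (.node (.node (.leaf 22289)
 (.leaf 22304))
 (.node (.leaf 22305)
 (.leaf 22320)))
 (.node (.node (.leaf 22321)
 (.leaf 22336))
 (.node (.leaf 22352)
 (.leaf 22353))))
 (.node (.node (.node (.leaf 22368)
 (.leaf 22369))
 (.node (.leaf 22385)
 (.leaf 22400)))
 (.node (.node (.leaf 22401)
 (.leaf 22416))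
 (.node (.leaf 22432)
 (.leaf 22433))))))
 (.node (.node (.node (.node (.node (.leaf 22448)
 (.leaf 22464))
 (.node (.leaf 22465)
 (.leaf 22480)))
 (.node (.node (.leaf 22481)
 (.leaf 22496))
 (.node (.leaf 22497)
 (.leaf 22512))))
 (.node (.node (.node (.leaf 22513)
 (.leaf 22529))
 (.node (.leaf 22544)
 (.leaf 22545)))
 (.node (.node (.leaf 22560)
 (.leaf 22561))
 (.node (.leaf 22576)
 (.leaf 22577)))))
 (.node (.node (.node (.node (.leaf 22593)
 (.leaf 22608))
 (.node (.leaf 22609)
 (.leaf 22624)))
 (.node (.node (.leaf 22640)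
 (.leaf 22641))
 (.node (.leaf 22656)
 (.leaf 22657))))
 (.node (.node (.node (.leaf 22672)
 (.leaf 22673))
 (.node (.leaf 22688)
 (.leaf 22689)))
 (.node (.node (.leaf 22704)
 (.leaf 22705))
 (.node (.leaf 22720)
 (.leaf 22721))))))

def entTB25 : RT := .node (.node (.node (.node (.node (.node (.leaf 22736)
 (.leaf 22737))
 (.node (.leaf 22752)
 (.leaf 22753)))
 (.node (.node (.leaf 22768)
 (.leaf 22769))
 (.node (.leaf 22784)
 (.leaf 22785))))
 (.node (.node (.node (.leaf 22800)
 (.leaf 22801))
 (.node (.leaf 22817)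
 (.leaf 22832)))
 (.node (.node (.leaf 22833)
 (.leaf 22848))
 (.node (.leaf 22849)
 (.leaf 22864)))))
 (.node (.node (.node (.node (.leaf 22865)
 (.leaf 22880))
 (.node (.leaf 22881)
 (.leaf 22896)))
 (.node (.node (.leaf 22897)
 (.leaf 22912))
 (.node (.leaf 22913)
 (.leaf 22928))))
 (.node (.node (.node (.leaf 22929)
 (.leaf 22944))
 (.node (.leaf 22945)
 (.leaf 22960)))
 (.node (.node (.leaf 22976)
 (.leaf 22977))
 (.node (.leaf 22992)
 (.leaf 22993))))))
 (.node (.node (.node (.node (.node (.leaf 23009)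
 (.leaf 23024))
 (.node (.leaf 23025)
 (.leaf 23040)))
 (.node (.node (.leaf 23056)
 (.leaf 23057))
 (.node (.leaf 23072)
 (.leaf 23073))))
 (.node (.node (.node (.leaf 23088)
 (.leaf 23089))
 (.node (.leaf 23104)
 (.leaf 23120)))
 (.node (.node (.leaf 23136)
 (.leaf 23137))
 (.node (.leaf 23152)
 (.leaf 23153)))))
 (.node (.node (.node (.node (.leaf 23168)
 (.leaf 23184))
 (.node (.leaf 23185)
 (.leaf 23201)))
 (.node (.node (.leaf 23216)
 (.leaf 23217))
 (.node (.leaf 23249)
 (.leaf 23264))))
 (.node (.node (.node (.leaf 23280)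
 (.leaf 23281))
 (.node (.leaf 23296)
 (.leaf 23297)))
 (.node (.node (.leaf 23312)
 (.leaf 23313))
 (.node (.leaf 23328)
 (.leaf 23329))))))

def entTB26 : RT := .node (.node (.node (.node (.node (.node (.leaf 23344)
 (.leaf 23345))
 (.node (.leaf 23360)
 (.leaf 23361)))
 (.node (.node (.leaf 23377)
 (.leaf 23392))
 (.node (.leaf 23393)
 (.leaf 23408))))
 (.node (.node (.node (.leaf 23424)
 (.leaf 23425))
 (.node (.leaf 23440)
 (.leaf 23441)))
 (.node (.node (.leaf 23456)
 (.leaf 23457))
 (.node (.leaf 23472)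
 (.leaf 23473)))))
 (.node (.node (.node (.node (.leaf 23488)
 (.leaf 23489))
 (.node (.leaf 23504)
 (.leaf 23505)))
 (.node (.node (.leaf 23520)
 (.leaf 23521))
 (.node (.leaf 23536)
 (.leaf 23537))))
 (.node (.node (.node (.leaf 23552)
 (.leaf 23553))
 (.node (.leaf 23568)
 (.leaf 23569)))
 (.node (.node (.leaf 23585)
 (.leaf 23601))
 (.node (.leaf 23616)
 (.leaf 23617))))))
 (.node (.node (.node (.node (.node (.leaf 23632)
 (.leaf 23633))
 (.node (.leaf 23648)
 (.leaf 23649)))
 (.node (.node (.leaf 23664)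
 (.leaf 23665))
 (.node (.leaf 23681)
 (.leaf 23696))))
 (.node (.node (.node (.leaf 23697)
 (.leaf 23712))
 (.node (.leaf 23713)
 (.leaf 23728)))
 (.node (.node (.leaf 23744)
 (.leaf 23745))
 (.node (.leaf 23760)
 (.leaf 23761)))))
 (.node (.node (.node (.node (.leaf 23777)
 (.leaf 23792))
 (.node (.leaf 23793)
 (.leaf 23808)))
 (.node (.node (.leaf 23824)
 (.leaf 23825))
 (.node (.leaf 23840)
 (.leaf 23856))))
 (.node (.node (.node (.leaf 23857)
 (.leaf 23873))
 (.node (.leaf 23888)
 (.leaf 23889)))
 (.node (.node (.leaf 23904)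
 (.leaf 23920))
 (.node (.leaf 23921)
 (.leaf 23936))))))

def entTB27 : RT := .node (.node (.node (.node (.node (.node (.leaf 23937)
 (.leaf 23952))
 (.node (.leaf 23953)
 (.leaf 23968)))
 (.node (.node (.leaf 23984)
 (.leaf 23985))
 (.node (.leaf 24000)
 (.leaf 24016))))
 (.node (.node (.node (.leaf 24017)
 (.leaf 24032))
 (.node (.leaf 24033)
 (.leaf 24048)))
 (.node (.node (.leaf 24065)
 (.leaf 24080))
 (.node (.leaf 24096)
 (.leaf 24097)))))
 (.node (.node (.node (.node (.leaf 24112)
 (.leaf 24113))
 (.node (.leaf 24128)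
 (.leaf 24129)))
 (.node (.node (.leaf 24145)
 (.leaf 24160))
 (.node (.leaf 24161)
 (.leaf 24176))))
 (.node (.node (.node (.leaf 24177)
 (.leaf 24192))
 (.node (.leaf 24193)
 (.leaf 24208)))
 (.node (.node (.leaf 24209)
 (.leaf 24225))
 (.node (.leaf 24240)
 (.leaf 24256))))))
 (.node (.node (.node (.node (.node (.leaf 24272)
 (.leaf 24273))
 (.node (.leaf 24288)
 (.leaf 24289)))
 (.node (.node (.leaf 24305)
 (.leaf 24320))
 (.node (.leaf 24336)
 (.leaf 24337))))
 (.node (.node (.node (.leaf 24352)
 (.leaf 24353))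
 (.node (.leaf 24369)
 (.leaf 24384)))
 (.node (.node (.leaf 24385)
 (.leaf 24400))
 (.node (.leaf 24416)
 (.leaf 24417)))))
 (.node (.node (.node (.node (.leaf 24432)
 (.leaf 24433))
 (.node (.leaf 24448)
 (.leaf 24449)))
 (.node (.node (.leaf 24464)
 (.leaf 24496))
 (.node (.leaf 24497)
 (.leaf 24512))))
 (.node (.node (.node (.leaf 24513)
 (.leaf 24544))
 (.node (.leaf 24545)
 (.leaf 24561)))
 (.node (.node (.leaf 24576)
 (.leaf 24577))
 (.node (.leaf 24608)
 (.leaf 24609))))))

def entTB28 : RT := .node (.node (.node (.node (.node (.node (.leaf 24624)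
 (.leaf 24640))
 (.node (.leaf 24641)
 (.leaf 24656)))
 (.node (.node (.leaf 24657)
 (.leaf 24672))
 (.node (.leaf 24705)
 (.leaf 24737))))
 (.node (.node (.node (.leaf 24752)
 (.leaf 24753))
 (.node (.leaf 24768)
 (.leaf 24769)))
 (.node (.node (.leaf 24785)
 (.leaf 24800))
 (.node (.leaf 24801)
 (.leaf 24816)))))
 (.node (.node (.node (.node (.leaf 24817)
 (.leaf 24833))
 (.node (.leaf 24848)
 (.leaf 24849)))
 (.node (.node (.leaf 24864)
 (.leaf 24865))
 (.node (.leaf 24880)
 (.leaf 24881))))
 (.node (.node (.node (.leaf 24897)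
 (.leaf 24913))
 (.node (.leaf 24929)
 (.leaf 24944)))
 (.node (.node (.leaf 24945)
 (.leaf 24960))
 (.node (.leaf 24961)
 (.leaf 24976))))))
 (.node (.node (.node (.node (.node (.leaf 24977)
 (.leaf 24992))
 (.node (.leaf 24993)
 (.leaf 25008)))
 (.node (.node (.leaf 25009)
 (.leaf 25024))
 (.node (.leaf 25025)
 (.leaf 25056))))
 (.node (.node (.node (.leaf 25057)
 (.leaf 25072))
 (.node (.leaf 25073)
 (.leaf 25089)))
 (.node (.node (.leaf 25104)
 (.leaf 25120))
 (.node (.leaf 25121)
 (.leaf 25152)))))
 (.node (.node (.node (.node (.leaf 25153)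
 (.leaf 25168))
 (.node (.leaf 25169)
 (.leaf 25184)))
 (.node (.node (.leaf 25185)
 (.leaf 25200))
 (.node (.leaf 25216)
 (.leaf 25217))))
 (.node (.node (.node (.leaf 25232)
 (.leaf 25233))
 (.node (.leaf 25264)
 (.leaf 25265)))
 (.node (.node (.leaf 25280)
 (.leaf 25281))
 (.node (.leaf 25296)
 (.leaf 25297))))))

def entTB29 : RT := .node (.node (.node (.node (.node (.node (.leaf 25312)
 (.leaf 25313))
 (.node (.leaf 25328)
 (.leaf 25329)))
 (.node (.node (.leaf 25344)
 (.leaf 25345))
 (.node (.leaf 25360)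
 (.leaf 25361))))
 (.node (.node (.node (.leaf 25376)
 (.leaf 25377))
 (.node (.leaf 25392)
 (.leaf 25408)))
 (.node (.node (.leaf 25409)
 (.leaf 25424))
 (.node (.leaf 25425)
 (.leaf 25441)))))
 (.node (.node (.node (.node (.leaf 25456)
 (.leaf 25457))
 (.node (.leaf 25472)
 (.leaf 25488)))
 (.node (.node (.leaf 25489)
 (.leaf 25504))
 (.node (.leaf 25505)
 (.leaf 25520))))
 (.node (.node (.node (.leaf 25521)
 (.leaf 25536))
 (.node (.leaf 25552)
 (.leaf 25569)))
 (.node (.node (.leaf 25584)
 (.leaf 25585))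
 (.node (.leaf 25600)
 (.leaf 25616))))))
 (.node (.node (.node (.node (.node (.leaf 25617)
 (.leaf 25633))
 (.node (.leaf 25648)
 (.leaf 25649)))
 (.node (.node (.leaf 25696)
 (.leaf 25712))
 (.node (.leaf 25713)
 (.leaf 25728))))
 (.node (.node (.node (.leaf 25729)
 (.leaf 25744))
 (.node (.leaf 25745)
 (.leaf 25760)))
 (.node (.node (.leaf 25761)
 (.leaf 25776))
 (.node (.leaf 25777)
 (.leaf 25792)))))
 (.node (.node (.node (.node (.leaf 25793)
 (.leaf 25809))
 (.node (.leaf 25825)
 (.leaf 25840)))
 (.node (.node (.leaf 25856)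
 (.leaf 25857))
 (.node (.leaf 25872)
 (.leaf 25873))))
 (.node (.node (.node (.leaf 25888)
 (.leaf 25889))
 (.node (.leaf 25904)
 (.leaf 25905)))
 (.node (.node (.leaf 25920)
 (.leaf 25921))
 (.node (.leaf 25936)
 (.leaf 25937))))))

def entTB30 : RT := .node (.node (.node (.node (.node (.node (.leaf 25952)
 (.leaf 25953))
 (.node (.leaf 25968)
 (.leaf 25969)))
 (.node (.node (.leaf 25984)
 (.leaf 25985))
 (.node (.leaf 26000)
 (.leaf 26001))))
 (.node (.node (.node (.leaf 26017)
 (.leaf 26033))
 (.node (.leaf 26048)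
 (.leaf 26064)))
 (.node (.node (.leaf 26065)
 (.leaf 26080))
 (.node (.leaf 26081)
 (.leaf 26096)))))
 (.node (.node (.node (.node (.leaf 26097)
 (.leaf 26113))
 (.node (.leaf 26128)
 (.leaf 26129)))
 (.node (.node (.leaf 26144)
 (.leaf 26145))
 (.node (.leaf 26160)
 (.leaf 26176))))
 (.node (.node (.node (.leaf 26177)
 (.leaf 26192))
 (.node (.leaf 26193)
 (.leaf 26209)))
 (.node (.node (.leaf 26224)
 (.leaf 26225))
 (.node (.leaf 26240)
 (.leaf 26256))))))
 (.node (.node (.node (.node (.node (.leaf 26257)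
 (.leaf 26272))
 (.node (.leaf 26288)
 (.leaf 26289)))
 (.node (.node (.leaf 26305)
 (.leaf 26320))
 (.node (.leaf 26321)
 (.leaf 26336))))
 (.node (.node (.node (.leaf 26352)
 (.leaf 26353))
 (.node (.leaf 26368)
 (.leaf 26369)))
 (.node (.node (.leaf 26384)
 (.leaf 26385))
 (.node (.leaf 26400)
 (.leaf 26416)))))
 (.node (.node (.node (.node (.leaf 26417)
 (.leaf 26432))
 (.node (.leaf 26448)
 (.leaf 26449)))
 (.node (.node (.leaf 26464)
 (.leaf 26481))
 (.node (.leaf 26512)
 (.leaf 26513))))
 (.node (.node (.node (.leaf 26528)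
 (.leaf 26529))
 (.node (.leaf 26544)
 (.leaf 26545)))
 (.node (.node (.leaf 26561)
 (.leaf 26576))
 (.node (.leaf 26577)
 (.leaf 26592))))))

def entTB31 : RT := .node (.node (.node (.node (.node (.node (.leaf 26593)
 (.leaf 26608))
 (.node (.leaf 26609)
 (.leaf 26624)))
 (.node (.node (.leaf 26625)
 (.leaf 26641))
 (.node (.leaf 26656)
 (.leaf 26672))))
 (.node (.node (.node (.leaf 26688)
 (.leaf 26689))
 (.node (.leaf 26704)
 (.leaf 26721)))
 (.node (.node (.leaf 26736)
 (.leaf 26752))
 (.node (.leaf 26753)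
 (.leaf 26768)))))
 (.node (.node (.node (.node (.leaf 26769)
 (.leaf 26785))
 (.node (.leaf 26800)
 (.leaf 26801)))
 (.node (.node (.leaf 26816)
 (.leaf 26832))
 (.node (.leaf 26833)
 (.leaf 26848))))
 (.node (.node (.node (.leaf 26849)
 (.leaf 26864))
 (.node (.leaf 26865)
 (.leaf 26880)))
 (.node (.node (.leaf 26912)
 (.leaf 26913))
 (.node (.leaf 26928)
 (.leaf 26929))))))
 (.node (.node (.node (.node (.node (.leaf 26960)
 (.leaf 26961))
 (.node (.leaf 26977)
 (.leaf 26992)))
 (.node (.node (.leaf 26993)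
 (.leaf 27024))
 (.node (.leaf 27025)
 (.leaf 27040))))
 (.node (.node (.node (.leaf 27056)
 (.leaf 27057))
 (.node (.leaf 27072)
 (.leaf 27073)))
 (.node (.node (.leaf 27088)
 (.leaf 27121))
 (.node (.leaf 27153)
 (.leaf 27168)))))
 (.node (.node (.node (.node (.leaf 27169)
 (.leaf 27184))
 (.node (.leaf 27185)
 (.leaf 27201)))
 (.node (.node (.leaf 27216)
 (.leaf 27217))
 (.node (.leaf 27233)
 (.leaf 27248))))
 (.node (.node (.node (.leaf 27249)
 (.leaf 27264))
 (.node (.leaf 27265)
 (.leaf 27280)))
 (.node (.node (.leaf 27281)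
 (.leaf 27297))
 (.node (.leaf 27313)
 (.leaf 27329))))))

def entTB32 : RT := .node (.node (.node (.node (.node (.node (.leaf 27344)
 (.leaf 27360))
 (.node (.leaf 27361)
 (.leaf 27376)))
 (.node (.node (.leaf 27377)
 (.leaf 27392))
 (.node (.leaf 27393)
 (.leaf 27408))))
 (.node (.node (.node (.leaf 27409)
 (.leaf 27424))
 (.node (.leaf 27425)
 (.leaf 27456)))
 (.node (.node (.leaf 27457)
 (.leaf 27472))
 (.node (.leaf 27473)
 (.leaf 27489)))))
 (.node (.node (.node (.node (.leaf 27520)
 (.leaf 27521))
 (.node (.leaf 27536)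
 (.leaf 27537)))
 (.node (.node (.leaf 27552)
 (.leaf 27553))
 (.node (.leaf 27569)
 (.leaf 27584))))
 (.node (.node (.node (.leaf 27585)
 (.leaf 27600))
 (.node (.leaf 27616)
 (.leaf 27617)))
 (.node (.node (.leaf 27633)
 (.leaf 27648))
 (.node (.leaf 27649)
 (.leaf 27664))))))
 (.node (.node (.node (.node (.node (.leaf 27665)
 (.leaf 27680))
 (.node (.leaf 27681)
 (.leaf 27696)))
 (.node (.node (.leaf 27697)
 (.leaf 27712))
 (.node (.leaf 27713)
 (.leaf 27728))))
 (.node (.node (.node (.leaf 27729)
 (.leaf 27745))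
 (.node (.leaf 27760)
 (.leaf 27776)))
 (.node (.node (.leaf 27777)
 (.leaf 27793))
 (.node (.leaf 27808)
 (.leaf 27809)))))
 (.node (.node (.node (.node (.leaf 27840)
 (.leaf 27856))
 (.node (.leaf 27872)
 (.leaf 27888)))
 (.node (.node (.leaf 27889)
 (.leaf 27905))
 (.node (.leaf 27920)
 (.leaf 27921))))
 (.node (.node (.node (.leaf 27936)
 (.leaf 27952))
 (.node (.leaf 27953)
 (.leaf 27968)))
 (.node (.node (.leaf 27969)
 (.leaf 27984))
 (.node (.leaf 28000)
 (.leaf 28017))))))

def entTB33 : RT := .node (.node (.node (.node (.node (.node (.leaf 28033)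
 (.leaf 28048))
 (.node (.leaf 28064)
 (.leaf 28065)))
 (.node (.node (.leaf 28081)
 (.leaf 28096))
 (.node (.leaf 28097)
 (.leaf 28113))))
 (.node (.node (.node (.leaf 28128)
 (.leaf 28145))
 (.node (.leaf 28161)
 (.leaf 28177)))
 (.node (.node (.leaf 28192)
 (.leaf 28208))
 (.node (.leaf 28209)
 (.leaf 28225)))))
 (.node (.node (.node (.node (.leaf 28256)
 (.leaf 28257))
 (.node (.leaf 28272)
 (.leaf 28273)))
 (.node (.node (.leaf 28288)
 (.leaf 28289))
 (.node (.leaf 28304)
 (.leaf 28305))))
 (.node (.node (.node (.leaf 28321)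
 (.leaf 28336))
 (.node (.leaf 28337)
 (.leaf 28352)))
 (.node (.node (.leaf 28353)
 (.leaf 28368))
 (.node (.leaf 28384)
 (.leaf 28385))))))
 (.node (.node (.node (.node (.node (.leaf 28400)
 (.leaf 28401))
 (.node (.leaf 28432)
 (.leaf 28433)))
 (.node (.node (.leaf 28448)
 (.leaf 28464))
 (.node (.leaf 28465)
 (.leaf 28480))))
 (.node (.node (.node (.leaf 28497)
 (.leaf 28528))
 (.node (.leaf 28544)
 (.leaf 28545)))
 (.node (.node (.leaf 28561)
 (.leaf 28576))
 (.node (.leaf 28592)
 (.leaf 28593)))))
 (.node (.node (.node (.node (.leaf 28608)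
 (.leaf 28624))
 (.node (.leaf 28625)
 (.leaf 28640)))
 (.node (.node (.leaf 28641)
 (.leaf 28656))
 (.node (.leaf 28673)
 (.leaf 28688))))
 (.node (.node (.node (.leaf 28721)
 (.leaf 28737))
 (.node (.leaf 28752)
 (.leaf 28753)))
 (.node (.node (.leaf 28769)
 (.leaf 28784))
 (.node (.leaf 28785)
 (.leaf 28801))))))

def entTB34 : RT := .node (.node (.node (.node (.node (.node (.leaf 28816)
 (.leaf 28817))
 (.node (.leaf 28832)
 (.leaf 28849)))
 (.node (.node (.leaf 28864)
 (.leaf 28865))
 (.node (.leaf 28880)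
 (.leaf 28912))))
 (.node (.node (.node (.leaf 28929)
 (.leaf 28944))
 (.node (.leaf 28945)
 (.leaf 28976)))
 (.node (.node (.leaf 28977)
 (.leaf 29008))
 (.node (.leaf 29009)
 (.leaf 29024)))))
 (.node (.node (.node (.node (.leaf 29040)
 (.leaf 29041))
 (.node (.leaf 29056)
 (.leaf 29072)))
 (.node (.node (.leaf 29089)
 (.leaf 29121))
 (.node (.leaf 29136)
 (.leaf 29137))))
 (.node (.node (.node (.leaf 29153)
 (.leaf 29169))
 (.node (.leaf 29184)
 (.leaf 29185)))
 (.node (.node (.leaf 29200)
 (.leaf 29201))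
 (.node (.leaf 29217)
 (.leaf 29232))))))
 (.node (.node (.node (.node (.node (.leaf 29233)
 (.leaf 29248))
 (.node (.leaf 29249)
 (.leaf 29265)))
 (.node (.node (.leaf 29281)
 (.leaf 29313))
 (.node (.leaf 29328)
 (.leaf 29329))))
 (.node (.node (.node (.leaf 29344)
 (.leaf 29345))
 (.node (.leaf 29361)
 (.leaf 29408)))
 (.node (.node (.leaf 29409)
 (.leaf 29424))
 (.node (.leaf 29440)
 (.leaf 29441)))))
 (.node (.node (.node (.node (.leaf 29457)
 (.leaf 29472))
 (.node (.leaf 29473)
 (.leaf 29488)))
 (.node (.node (.leaf 29505)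
 (.leaf 29521))
 (.node (.leaf 29568)
 (.leaf 29569))))
 (.node (.node (.node (.leaf 29584)
 (.leaf 29585))
 (.node (.leaf 29600)
 (.leaf 29601)))
 (.node (.node (.leaf 29616)
 (.leaf 29633))
 (.node (.leaf 29649)
 (.leaf 29680))))))

def entTB35 : RT := .node (.node (.node (.node (.node (.node (.leaf 29681)
 (.leaf 29696))
 (.node (.leaf 29697)
 (.leaf 29712)))
 (.node (.node (.leaf 29713)
 (.leaf 29728))
 (.node (.leaf 29729)
 (.leaf 29744))))
 (.node (.node (.node (.leaf 29745)
 (.leaf 29760))
 (.node (.leaf 29761)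
 (.leaf 29776)))
 (.node (.node (.leaf 29777)
 (.leaf 29792))
 (.node (.leaf 29793)
 (.leaf 29808)))))
 (.node (.node (.node (.node (.leaf 29809)
 (.leaf 29824))
 (.node (.leaf 29825)
 (.leaf 29841)))
 (.node (.node (.leaf 29857)
 (.leaf 29872))
 (.node (.leaf 29888)
 (.leaf 29889))))
 (.node (.node (.node (.leaf 29904)
 (.leaf 29905))
 (.node (.leaf 29920)
 (.leaf 29921)))
 (.node (.node (.leaf 29937)
 (.leaf 29952))
 (.node (.leaf 29953)
 (.leaf 29968))))))
 (.node (.node (.node (.node (.node (.leaf 29969)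
 (.leaf 29984))
 (.node (.leaf 30000)
 (.leaf 30001)))
 (.node (.node (.leaf 30016)
 (.leaf 30017))
 (.node (.leaf 30033)
 (.leaf 30048))))
 (.node (.node (.node (.leaf 30049)
 (.leaf 30064))
 (.node (.leaf 30080)
 (.leaf 30081)))
 (.node (.node (.leaf 30096)
 (.leaf 30112))
 (.node (.leaf 30113)
 (.leaf 30128)))))
 (.node (.node (.node (.node (.leaf 30129)
 (.leaf 30144))
 (.node (.leaf 30160)
 (.leaf 30161)))
 (.node (.node (.leaf 30176)
 (.leaf 30177))
 (.node (.leaf 30192)
 (.leaf 30193))))
 (.node (.node (.node (.leaf 30208)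
 (.leaf 30224))
 (.node (.leaf 30225)
 (.leaf 30240)))
 (.node (.node (.leaf 30257)
 (.leaf 30273))
 (.node (.leaf 30304)
 (.leaf 30305))))))

def entTB36 : RT := .node (.node (.node (.node (.node (.node (.leaf 30320)
 (.leaf 30321))
 (.node (.leaf 30336)
 (.leaf 30337)))
 (.node (.node (.leaf 30353)
 (.leaf 30368))
 (.node (.leaf 30369)
 (.leaf 30385))))
 (.node (.node (.node (.leaf 30400)
 (.leaf 30401))
 (.node (.leaf 30416)
 (.leaf 30417)))
 (.node (.node (.leaf 30433)
 (.leaf 30448))
 (.node (.leaf 30464)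
 (.leaf 30480)))))
 (.node (.node (.node (.node (.leaf 30481)
 (.leaf 30497))
 (.node (.leaf 30512)
 (.leaf 30528)))
 (.node (.node (.leaf 30529)
 (.leaf 30544))
 (.node (.leaf 30545)
 (.leaf 30561))))
 (.node (.node (.node (.leaf 30576)
 (.leaf 30577))
 (.node (.leaf 30592)
 (.leaf 30608)))
 (.node (.node (.leaf 30609)
 (.leaf 30624))
 (.node (.leaf 30625)
 (.leaf 30640))))))
 (.node (.node (.node (.node (.node (.leaf 30641)
 (.leaf 30656))
 (.node (.leaf 30688)
 (.leaf 30704)))
 (.node (.node (.leaf 30705)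
 (.leaf 30736))
 (.node (.leaf 30737)
 (.leaf 30753))))
 (.node (.node (.node (.leaf 30768)
 (.leaf 30769))
 (.node (.leaf 30800)
 (.leaf 30801)))
 (.node (.node (.leaf 30832)
 (.leaf 30833))
 (.node (.leaf 30848)
 (.leaf 30849)))))
 (.node (.node (.node (.node (.leaf 30913)
 (.leaf 30928))
 (.node (.leaf 30929)
 (.leaf 30944)))
 (.node (.node (.leaf 30945)
 (.leaf 30961))
 (.node (.leaf 30976)
 (.leaf 30977))))
 (.node (.node (.node (.leaf 30993)
 (.leaf 31008))
 (.node (.leaf 31009)
 (.leaf 31024)))
 (.node (.node (.leaf 31025)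
 (.leaf 31040))
 (.node (.leaf 31041)
 (.leaf 31089))))))

def entTB37 : RT := .node (.node (.node (.node (.node (.node (.leaf 31104)
 (.leaf 31120))
 (.node (.leaf 31136)
 (.leaf 31137)))
 (.node (.node (.leaf 31152)
 (.leaf 31153))
 (.node (.leaf 31168)
 (.leaf 31169))))
 (.node (.node (.node (.leaf 31184)
 (.leaf 31185))
 (.node (.leaf 31216)
 (.leaf 31217)))
 (.node (.node (.leaf 31232)
 (.leaf 31233))
 (.node (.leaf 31249)
 (.leaf 31280)))))
 (.node (.node (.node (.node (.leaf 31281)
 (.leaf 31296))
 (.node (.leaf 31297)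
 (.leaf 31312)))
 (.node (.node (.leaf 31313)
 (.leaf 31329))
 (.node (.leaf 31344)
 (.leaf 31345))))
 (.node (.node (.node (.leaf 31360)
 (.leaf 31376))
 (.node (.leaf 31377)
 (.leaf 31393)))
 (.node (.node (.leaf 31408)
 (.leaf 31409))
 (.node (.leaf 31424)
 (.leaf 31425))))))
 (.node (.node (.node (.node (.node (.leaf 31440)
 (.leaf 31441))
 (.node (.leaf 31456)
 (.leaf 31457)))
 (.node (.node (.leaf 31472)
 (.leaf 31473))
 (.node (.leaf 31488)
 (.leaf 31489))))
 (.node (.node (.node (.leaf 31505)
 (.leaf 31520))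
 (.node (.leaf 31536)
 (.leaf 31537)))
 (.node (.node (.leaf 31568)
 (.leaf 31584))
 (.node (.leaf 31600)
 (.leaf 31601)))))
 (.node (.node (.node (.node (.leaf 31617)
 (.leaf 31632))
 (.node (.leaf 31633)
 (.leaf 31648)))
 (.node (.node (.leaf 31664)
 (.leaf 31665))
 (.node (.leaf 31680)
 (.leaf 31681))))
 (.node (.node (.node (.leaf 31696)
 (.leaf 31712))
 (.node (.leaf 31745)
 (.leaf 31760)))
 (.node (.node (.leaf 31776)
 (.leaf 31777))
 (.node (.leaf 31793)
 (.leaf 31808))))))

def entTB38 : RT := .node (.node (.node (.node (.node (.node (.leaf 31809)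
 (.leaf 31825))
 (.node (.leaf 31840)
 (.leaf 31857)))
 (.node (.node (.leaf 31873)
 (.leaf 31889))
 (.node (.leaf 31952)
 (.leaf 31953))))
 (.node (.node (.node (.leaf 31968)
 (.leaf 31969))
 (.node (.leaf 31984)
 (.leaf 31985)))
 (.node (.node (.leaf 32000)
 (.leaf 32001))
 (.node (.leaf 32017)
 (.leaf 32033)))))
 (.node (.node (.node (.node (.leaf 32048)
 (.leaf 32049))
 (.node (.leaf 32064)
 (.leaf 32080)))
 (.node (.node (.leaf 32096)
 (.leaf 32097))
 (.node (.leaf 32128)
 (.leaf 32129))))
 (.node (.node (.node (.leaf 32144)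
 (.leaf 32160))
 (.node (.leaf 32161)
 (.leaf 32176)))
 (.node (.node (.leaf 32193)
 (.leaf 32224))
 (.node (.leaf 32240)
 (.leaf 32241))))))
 (.node (.node (.node (.node (.node (.leaf 32257)
 (.leaf 32272))
 (.node (.leaf 32288)
 (.leaf 32289)))
 (.node (.node (.leaf 32304)
 (.leaf 32320))
 (.node (.leaf 32321)
 (.leaf 32336))))
 (.node (.node (.node (.leaf 32337)
 (.leaf 32352))
 (.node (.leaf 32369)
 (.leaf 32384)))
 (.node (.node (.leaf 32417)
 (.leaf 32433))
 (.node (.leaf 32448)
 (.leaf 32465)))))
 (.node (.node (.node (.node (.leaf 32480)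
 (.leaf 32481))
 (.node (.leaf 32497)
 (.leaf 32513)))
 (.node (.node (.leaf 32528)
 (.leaf 32545))
 (.node (.leaf 32560)
 (.leaf 32561))))
 (.node (.node (.node (.leaf 32576)
 (.leaf 32608))
 (.node (.leaf 32609)
 (.leaf 32641)))
 (.node (.node (.leaf 32672)
 (.leaf 32673))
 (.node (.leaf 32688)
 (.leaf 32704))))))

def entTB39 : RT := .node (.node (.node (.node (.node (.node (.leaf 32705)
 (.leaf 32720))
 (.node (.leaf 32736)
 (.leaf 32753)))
 (.node (.node (.leaf 32784)
 (.leaf 32785))
 (.node (.leaf 32801)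
 (.leaf 32817))))
 (.node (.node (.node (.leaf 32832)
 (.leaf 32833))
 (.node (.leaf 32848)
 (.leaf 32849)))
 (.node (.node (.leaf 32865)
 (.leaf 32880))
 (.node (.leaf 32881)
 (.leaf 32896)))))
 (.node (.node (.node (.node (.leaf 32897)
 (.leaf 32913))
 (.node (.leaf 32929)
 (.leaf 32961)))
 (.node (.node (.leaf 32976)
 (.leaf 32977))
 (.node (.leaf 32992)
 (.leaf 32993))))
 (.node (.node (.node (.leaf 33024)
 (.leaf 33040))
 (.node (.leaf 33041)
 (.leaf 33056)))
 (.node (.node (.leaf 33072)
 (.leaf 33073))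
 (.node (.leaf 33088)
 (.leaf 33104))))))
 (.node (.node (.node (.node (.node (.leaf 33120)
 (.leaf 33121))
 (.node (.leaf 33152)
 (.leaf 33153)))
 (.node (.node (.leaf 33168)
 (.leaf 33169))
 (.node (.leaf 33184)
 (.leaf 33185))))
 (.node (.node (.node (.leaf 33200)
 (.leaf 33201))
 (.node (.leaf 33232)
 (.leaf 33233)))
 (.node (.node (.leaf 33248)
 (.leaf 33249))
 (.node (.leaf 33265)
 (.leaf 33280)))))
 (.node (.node (.node (.node (.leaf 33281)
 (.leaf 33296))
 (.node (.leaf 33312)
 (.leaf 33313)))
 (.node (.node (.leaf 33328)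
 (.leaf 33329))
 (.node (.leaf 33344)
 (.leaf 33345))))
 (.node (.node (.node (.leaf 33361)
 (.leaf 33376))
 (.node (.leaf 33392)
 (.leaf 33408)))
 (.node (.node (.leaf 33409)
 (.leaf 33424))
 (.node (.leaf 33425)
 (.leaf 33440))))))

def entTB40 : RT := .node (.node (.node (.node (.node (.node (.leaf 33456)
 (.leaf 33457))
 (.node (.leaf 33472)
 (.leaf 33473)))
 (.node (.node (.leaf 33489)
 (.leaf 33504))
 (.node (.leaf 33520)
 (.leaf 33521))))
 (.node (.node (.node (.leaf 33537)
 (.leaf 33553))
 (.node (.leaf 33568)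
 (.leaf 33584)))
 (.node (.node (.leaf 33585)
 (.leaf 33601))
 (.node (.leaf 33617)
 (.leaf 33632)))))
 (.node (.node (.node (.node (.leaf 33648)
 (.leaf 33649))
 (.node (.leaf 33680)
 (.leaf 33681)))
 (.node (.node (.leaf 33696)
 (.leaf 33712))
 (.node (.leaf 33729)
 (.leaf 33744))))
 (.node (.node (.node (.leaf 33761)
 (.leaf 33777))
 (.node (.leaf 33793)
 (.leaf 33809)))
 (.node (.node (.leaf 33824)
 (.leaf 33840))
 (.node (.leaf 33857)
 (.leaf 33872))))))
 (.node (.node (.node (.node (.node (.leaf 33888)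
 (.leaf 33889))
 (.node (.leaf 33904)
 (.leaf 33937)))
 (.node (.node (.leaf 33952)
 (.leaf 33969))
 (.node (.leaf 33985)
 (.leaf 34016))))
 (.node (.node (.node (.leaf 34017)
 (.leaf 34032))
 (.node (.leaf 34033)
 (.leaf 34065)))
 (.node (.node (.leaf 34112)
 (.leaf 34113))
 (.node (.leaf 34128)
 (.leaf 34129)))))
 (.node (.node (.node (.node (.leaf 34145)
 (.leaf 34161))
 (.node (.leaf 34177)
 (.leaf 34192)))
 (.node (.node (.leaf 34193)
 (.leaf 34208))
 (.node (.leaf 34209)
 (.leaf 34224))))
 (.node (.node (.node (.leaf 34225)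
 (.leaf 34257))
 (.node (.leaf 34273)
 (.leaf 34288)))
 (.node (.node (.leaf 34304)
 (.leaf 34320))
 (.node (.leaf 34321)
 (.leaf 34336))))))

def entTB41 : RT := .node (.node (.node (.node (.node (.node (.leaf 34337)
 (.leaf 34352))
 (.node (.leaf 34353)
 (.leaf 34385)))
 (.node (.node (.leaf 34400)
 (.leaf 34401))
 (.node (.leaf 34417)
 (.leaf 34432))))
 (.node (.node (.node (.leaf 34448)
 (.leaf 34449))
 (.node (.leaf 34464)
 (.leaf 34480)))
 (.node (.node (.leaf 34481)
 (.leaf 34496))
 (.node (.leaf 34497)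
 (.leaf 34512)))))
 (.node (.node (.node (.node (.leaf 34513)
 (.leaf 34545))
 (.node (.leaf 34561)
 (.leaf 34576)))
 (.node (.node (.leaf 34592)
 (.leaf 34609))
 (.node (.leaf 34656)
 (.leaf 34688))))
 (.node (.node (.node (.leaf 34689)
 (.leaf 34721))
 (.node (.leaf 34753)
 (.leaf 34769)))
 (.node (.node (.leaf 34785)
 (.leaf 34816))
 (.node (.leaf 34817)
 (.leaf 34832))))))
 (.node (.node (.node (.node (.node (.leaf 34833)
 (.leaf 34848))
 (.node (.leaf 34864)
 (.leaf 34897)))
 (.node (.node (.leaf 34912)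
 (.leaf 34929))
 (.node (.leaf 34944)
 (.leaf 34945))))
 (.node (.node (.node (.leaf 34961)
 (.leaf 34976))
 (.node (.leaf 34992)
 (.leaf 35008)))
 (.node (.node (.leaf 35009)
 (.leaf 35024))
 (.node (.leaf 35025)
 (.leaf 35040)))))
 (.node (.node (.node (.node (.leaf 35057)
 (.leaf 35072))
 (.node (.leaf 35105)
 (.leaf 35120)))
 (.node (.node (.leaf 35121)
 (.leaf 35152))
 (.node (.leaf 35153)
 (.leaf 35169))))
 (.node (.node (.node (.leaf 35184)
 (.leaf 35216))
 (.node (.leaf 35217)
 (.leaf 35232)))
 (.node (.node (.leaf 35264)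
 (.leaf 35296))
 (.node (.leaf 35297)
 (.leaf 35328))))))

def entTB42 : RT := .node (.node (.node (.node (.node (.node (.leaf 35329)
 (.leaf 35360))
 (.node (.leaf 35361)
 (.leaf 35377)))
 (.node (.node (.leaf 35392)
 (.leaf 35409))
 (.node (.leaf 35441)
 (.leaf 35457))))
 (.node (.node (.node (.leaf 35472)
 (.leaf 35473))
 (.node (.leaf 35520)
 (.leaf 35521)))
 (.node (.node (.leaf 35568)
 (.leaf 35569))
 (.node (.leaf 35585)
 (.leaf 35600)))))
 (.node (.node (.node (.node (.leaf 35632)
 (.leaf 35633))
 (.node (.leaf 35648)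
 (.leaf 35664)))
 (.node (.node (.leaf 35665)
 (.leaf 35680))
 (.node (.leaf 35681)
 (.leaf 35696))))
 (.node (.node (.node (.leaf 35697)
 (.leaf 35713))
 (.node (.leaf 35728)
 (.leaf 35729)))
 (.node (.node (.leaf 35745)
 (.leaf 35761))
 (.node (.leaf 35792)
 (.leaf 35793))))))
 (.node (.node (.node (.node (.node (.leaf 35809)
 (.leaf 35824))
 (.node (.leaf 35825)
 (.leaf 35840)))
 (.node (.node (.leaf 35841)
 (.leaf 35857))
 (.node (.leaf 35872)
 (.leaf 35873))))
 (.node (.node (.node (.leaf 35888)
 (.leaf 35904))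
 (.node (.leaf 35905)
 (.leaf 35920)))
 (.node (.node (.leaf 35921)
 (.leaf 35936))
 (.node (.leaf 35937)
 (.leaf 35952)))))
 (.node (.node (.node (.node (.leaf 35984)
 (.leaf 36000))
 (.node (.leaf 36001)
 (.leaf 36032)))
 (.node (.node (.leaf 36033)
 (.leaf 36064))
 (.node (.leaf 36065)
 (.leaf 36096))))
 (.node (.node (.node (.leaf 36097)
 (.leaf 36128))
 (.node (.leaf 36129)
 (.leaf 36144)))
 (.node (.node (.leaf 36145)
 (.leaf 36209))
 (.node (.leaf 36224)
 (.leaf 36225))))))

def entTB43 : RT := .node (.node (.node (.node (.node (.node (.leaf 36240)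
 (.leaf 36241))
 (.node (.leaf 36257)
 (.leaf 36272)))
 (.node (.node (.leaf 36273)
 (.leaf 36289))
 (.node (.leaf 36304)
 (.leaf 36305))))
 (.node (.node (.node (.leaf 36320)
 (.leaf 36321))
 (.node (.leaf 36336)
 (.leaf 36337)))
 (.node (.node (.leaf 36385)
 (.leaf 36416))
 (.node (.leaf 36432)
 (.leaf 36433)))))
 (.node (.node (.node (.node (.leaf 36448)
 (.leaf 36449))
 (.node (.leaf 36464)
 (.leaf 36465)))
 (.node (.node (.leaf 36480)
 (.leaf 36481))
 (.node (.leaf 36512)
 (.leaf 36528))))
 (.node (.node (.node (.leaf 36529)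
 (.leaf 36545))
 (.node (.leaf 36576)
 (.leaf 36577)))
 (.node (.node (.leaf 36592)
 (.leaf 36593))
 (.node (.leaf 36609)
 (.leaf 36625))))))
 (.node (.node (.node (.node (.node (.leaf 36640)
 (.leaf 36656))
 (.node (.leaf 36657)
 (.leaf 36688)))
 (.node (.node (.leaf 36689)
 (.leaf 36704))
 (.node (.leaf 36705)
 (.leaf 36720))))
 (.node (.node (.node (.leaf 36721)
 (.leaf 36736))
 (.node (.leaf 36752)
 (.leaf 36768)))
 (.node (.node (.leaf 36769)
 (.leaf 36785))
 (.node (.leaf 36800)
 (.leaf 36801)))))
 (.node (.node (.node (.node (.leaf 36816)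
 (.leaf 36848))
 (.node (.leaf 36849)
 (.leaf 36865)))
 (.node (.node (.leaf 36880)
 (.leaf 36881))
 (.node (.leaf 36896)
 (.leaf 36912))))
 (.node (.node (.node (.leaf 36928)
 (.leaf 36929))
 (.node (.leaf 36944)
 (.leaf 36960)))
 (.node (.node (.leaf 36977)
 (.leaf 36992))
 (.node (.leaf 37008)
 (.leaf 37009))))))

def entTB44 : RT := .node (.node (.node (.node (.node (.node (.leaf 37025)
 (.leaf 37040))
 (.node (.leaf 37041)
 (.leaf 37057)))
 (.node (.node (.leaf 37072)
 (.leaf 37089))
 (.node (.leaf 37105)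
 (.leaf 37121))))
 (.node (.node (.node (.leaf 37168)
 (.leaf 37169))
 (.node (.leaf 37184)
 (.leaf 37185)))
 (.node (.node (.leaf 37200)
 (.leaf 37201))
 (.node (.leaf 37216)
 (.leaf 37217)))))
 (.node (.node (.node (.node (.leaf 37233)
 (.leaf 37249))
 (.node (.leaf 37264)
 (.leaf 37265)))
 (.node (.node (.leaf 37280)
 (.leaf 37296))
 (.node (.leaf 37312)
 (.leaf 37313))))
 (.node (.node (.node (.leaf 37344)
 (.leaf 37345))
 (.node (.leaf 37360)
 (.leaf 37376)))
 (.node (.node (.leaf 37377)
 (.leaf 37392))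
 (.node (.leaf 37409)
 (.leaf 37424))))))
 (.node (.node (.node (.node (.node (.leaf 37440)
 (.leaf 37441))
 (.node (.leaf 37457)
 (.leaf 37472)))
 (.node (.node (.leaf 37488)
 (.leaf 37489))
 (.node (.leaf 37504)
 (.leaf 37521))))
 (.node (.node (.node (.leaf 37536)
 (.leaf 37537))
 (.node (.leaf 37552)
 (.leaf 37568)))
 (.node (.node (.leaf 37601)
 (.leaf 37617))
 (.node (.leaf 37632)
 (.leaf 37633)))))
 (.node (.node (.node (.node (.leaf 37649)
 (.leaf 37665))
 (.node (.leaf 37680)
 (.leaf 37712)))
 (.node (.node (.leaf 37713)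
 (.leaf 37728))
 (.node (.leaf 37761)
 (.leaf 37793))))
 (.node (.node (.node (.leaf 37824)
 (.leaf 37825))
 (.node (.leaf 37840)
 (.leaf 37856)))
 (.node (.node (.leaf 37857)
 (.leaf 37873))
 (.node (.leaf 37904)
 (.leaf 37905))))))

def entTB45 : RT := .node (.node (.node (.node (.node (.node (.leaf 37921)
 (.leaf 37936))
 (.node (.leaf 37937)
 (.leaf 37952)))
 (.node (.node (.leaf 37953)
 (.leaf 37969))
 (.node (.leaf 37984)
 (.leaf 37985))))
 (.node (.node (.node (.leaf 38000)
 (.leaf 38001))
 (.node (.leaf 38017)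
 (.leaf 38033)))
 (.node (.node (.leaf 38065)
 (.leaf 38080))
 (.node (.leaf 38081)
 (.leaf 38096)))))
 (.node (.node (.node (.node (.leaf 38097)
 (.leaf 38128))
 (.node (.leaf 38144)
 (.leaf 38145)))
 (.node (.node (.leaf 38160)
 (.leaf 38176))
 (.node (.leaf 38177)
 (.leaf 38192))))
 (.node (.node (.node (.leaf 38208)
 (.leaf 38224))
 (.node (.leaf 38225)
 (.leaf 38256)))
 (.node (.node (.leaf 38257)
 (.leaf 38272))
 (.node (.leaf 38273)
 (.leaf 38288))))))
 (.node (.node (.node (.node (.node (.leaf 38289)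
 (.leaf 38305))
 (.node (.leaf 38336)
 (.leaf 38337)))
 (.node (.node (.leaf 38352)
 (.leaf 38353))
 (.node (.leaf 38384)
 (.leaf 38385))))
 (.node (.node (.node (.leaf 38400)
 (.leaf 38416))
 (.node (.leaf 38417)
 (.leaf 38432)))
 (.node (.node (.leaf 38433)
 (.leaf 38448))
 (.node (.leaf 38465)
 (.leaf 38480)))))
 (.node (.node (.node (.node (.leaf 38496)
 (.leaf 38512))
 (.node (.leaf 38513)
 (.leaf 38528)))
 (.node (.node (.leaf 38529)
 (.leaf 38544))
 (.node (.leaf 38560)
 (.leaf 38561))))
 (.node (.node (.node (.leaf 38576)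
 (.leaf 38593))
 (.node (.leaf 38608)
 (.leaf 38624)))
 (.node (.node (.leaf 38625)
 (.leaf 38641))
 (.node (.leaf 38657)
 (.leaf 38672))))))

def entTB46 : RT := .node (.node (.node (.node (.node (.node (.leaf 38688)
 (.leaf 38689))
 (.node (.leaf 38720)
 (.leaf 38721)))
 (.node (.node (.leaf 38736)
 (.leaf 38769))
 (.node (.leaf 38784)
 (.leaf 38801))))
 (.node (.node (.node (.leaf 38817)
 (.leaf 38833))
 (.node (.leaf 38848)
 (.leaf 38864)))
 (.node (.node (.leaf 38881)
 (.leaf 38896))
 (.node (.leaf 38912)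
 (.leaf 38928)))))
 (.node (.node (.node (.node (.leaf 38961)
 (.leaf 38976))
 (.node (.leaf 38993)
 (.leaf 39025)))
 (.node (.node (.leaf 39072)
 (.leaf 39073))
 (.node (.leaf 39088)
 (.leaf 39089))))
 (.node (.node (.node (.leaf 39105)
 (.leaf 39137))
 (.node (.leaf 39152)
 (.leaf 39153)))
 (.node (.node (.leaf 39168)
 (.leaf 39169))
 (.node (.leaf 39201)
 (.leaf 39217))))))
 (.node (.node (.node (.node (.node (.leaf 39232)
 (.leaf 39248))
 (.node (.leaf 39249)
 (.leaf 39264)))
 (.node (.node (.leaf 39280)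
 (.leaf 39281))
 (.node (.leaf 39313)
 (.leaf 39328))))
 (.node (.node (.node (.leaf 39329)
 (.leaf 39345))
 (.node (.leaf 39360)
 (.leaf 39376)))
 (.node (.node (.leaf 39377)
 (.leaf 39392))
 (.node (.leaf 39408)
 (.leaf 39409)))))
 (.node (.node (.node (.node (.leaf 39424)
 (.leaf 39425))
 (.node (.leaf 39440)
 (.leaf 39441)))
 (.node (.node (.leaf 39473)
 (.leaf 39504))
 (.node (.leaf 39520)
 (.leaf 39537))))
 (.node (.node (.node (.leaf 39584)
 (.leaf 39617))
 (.node (.leaf 39649)
 (.leaf 39665)))
 (.node (.node (.leaf 39728)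
 (.leaf 39729))
 (.node (.leaf 39744)
 (.leaf 39760))))))

def entTB47 : RT := .node (.node (.node (.node (.node (.node (.leaf 39793)
 (.leaf 39808))
 (.node (.leaf 39840)
 (.leaf 39856)))
 (.node (.node (.leaf 39872)
 (.leaf 39888))
 (.node (.leaf 39905)
 (.leaf 39920))))
 (.node (.node (.node (.leaf 39953)
 (.leaf 39968))
 (.node (.leaf 39969)
 (.leaf 40001)))
 (.node (.node (.leaf 40016)
 (.leaf 40048))
 (.node (.leaf 40128)
 (.leaf 40129)))))
 (.node (.node (.node (.node (.leaf 40160)
 (.leaf 40161))
 (.node (.leaf 40192)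
 (.leaf 40193)))
 (.node (.node (.leaf 40209)
 (.leaf 40224))
 (.node (.leaf 40241)
 (.leaf 40273))))
 (.node (.node (.node (.leaf 40289)
 (.leaf 40304))
 (.node (.leaf 40305)
 (.leaf 40352)))
 (.node (.node (.leaf 40353)
 (.leaf 40401))
 (.node (.leaf 40417)
 (.leaf 40448))))))
 (.node (.node (.node (.node (.node (.leaf 40449)
 (.leaf 40464))
 (.node (.leaf 40480)
 (.leaf 40529)))
 (.node (.node (.leaf 40561)
 (.leaf 40576))
 (.node (.leaf 40592)
 (.leaf 40593))))
 (.node (.node (.node (.leaf 40608)
 (.leaf 40641))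
 (.node (.leaf 40673)
 (.leaf 40704)))
 (.node (.node (.leaf 40720)
 (.leaf 40736))
 (.node (.leaf 40752)
 (.leaf 40753)))))
 (.node (.node (.node (.node (.leaf 40769)
 (.leaf 40784))
 (.node (.leaf 40785)
 (.leaf 40816)))
 (.node (.node (.leaf 40817)
 (.leaf 40832))
 (.node (.leaf 40833)
 (.leaf 40864))))
 (.node (.node (.node (.leaf 40865)
 (.leaf 40880))
 (.node (.leaf 40881)
 (.leaf 40896)))
 (.node (.node (.leaf 40929)
 (.leaf 40960))
 (.node (.leaf 40961)
 (.leaf 40976))))))

def entTB48 : RT := .node (.node (.node (.node (.node (.node (.leaf 40977)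
 (.leaf 41008))
 (.node (.leaf 41009)
 (.leaf 41025)))
 (.node (.node (.leaf 41056)
 (.leaf 41072))
 (.node (.leaf 41073)
 (.leaf 41088))))
 (.node (.node (.node (.leaf 41089)
 (.leaf 41136))
 (.node (.leaf 41137)
 (.leaf 41200)))
 (.node (.node (.leaf 41216)
 (.leaf 41217))
 (.node (.leaf 41280)
 (.leaf 41313)))))
 (.node (.node (.node (.node (.leaf 41344)
 (.leaf 41345))
 (.node (.leaf 41361)
 (.leaf 41376)))
 (.node (.node (.leaf 41392)
 (.leaf 41408))
 (.node (.leaf 41409)
 (.leaf 41424))))
 (.node (.node (.node (.leaf 41425)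
 (.leaf 41441))
 (.node (.leaf 41457)
 (.leaf 41489)))
 (.node (.node (.leaf 41521)
 (.leaf 41536))
 (.node (.leaf 41569)
 (.leaf 41584))))))
 (.node (.node (.node (.node (.node (.leaf 41600)
 (.leaf 41633))
 (.node (.leaf 41665)
 (.leaf 41713)))
 (.node (.node (.leaf 41729)
 (.leaf 41760))
 (.node (.leaf 41761)
 (.leaf 41824))))
 (.node (.node (.node (.leaf 41825)
 (.leaf 41840))
 (.node (.leaf 41856)
 (.leaf 41889)))
 (.node (.node (.leaf 41920)
 (.leaf 41921))
 (.node (.leaf 41937)
 (.leaf 41952)))))
 (.node (.node (.node (.node (.leaf 41953)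
 (.leaf 41968))
 (.node (.leaf 41969)
 (.leaf 41984)))
 (.node (.node (.leaf 41985)
 (.leaf 42001))
 (.node (.leaf 42049)
 (.leaf 42064))))
 (.node (.node (.node (.leaf 42096)
 (.leaf 42129))
 (.node (.leaf 42144)
 (.leaf 42145)))
 (.node (.node (.leaf 42177)
 (.leaf 42224))
 (.node (.leaf 42240)
 (.leaf 42256))))))

def entTB49 : RT := .node (.node (.node (.node (.node (.node (.leaf 42288)
 (.leaf 42305))
 (.node (.leaf 42337)
 (.leaf 42352)))
 (.node (.node (.leaf 42369)
 (.leaf 42385))
 (.node (.leaf 42433)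
 (.leaf 42448))))
 (.node (.node (.node (.leaf 42449)
 (.leaf 42465))
 (.node (.leaf 42481)
 (.leaf 42528)))
 (.node (.node (.leaf 42544)
 (.leaf 42545))
 (.node (.leaf 42576)
 (.leaf 42592)))))
 (.node (.node (.node (.node (.leaf 42657)
 (.leaf 42688))
 (.node (.leaf 42705)
 (.leaf 42752)))
 (.node (.node (.leaf 42801)
 (.leaf 42881))
 (.node (.leaf 42928)
 (.leaf 42945))))
 (.node (.node (.node (.leaf 42961)
 (.leaf 43025))
 (.node (.leaf 43040)
 (.leaf 43073)))
 (.node (.node (.leaf 43089)
 (.leaf 43121))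
 (.node (.leaf 43185)
 (.leaf 43216))))))
 (.node (.node (.node (.node (.node (.leaf 43217)
 (.leaf 43233))
 (.node (.leaf 43249)
 (.leaf 43296)))
 (.node (.node (.leaf 43312)
 (.leaf 43328))
 (.node (.leaf 43329)
 (.leaf 43345))))
 (.node (.node (.node (.leaf 43360)
 (.leaf 43361))
 (.node (.leaf 43376)
 (.leaf 43409)))
 (.node (.node (.leaf 43440)
 (.leaf 43456))
 (.node (.leaf 43457)
 (.leaf 43473)))))
 (.node (.node (.node (.node (.leaf 43489)
 (.leaf 43505))
 (.node (.leaf 43536)
 (.leaf 43537)))
 (.node (.node (.leaf 43553)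
 (.leaf 43568))
 (.node (.leaf 43569)
 (.leaf 43584))))
 (.node (.node (.node (.leaf 43585)
 (.leaf 43601))
 (.node (.leaf 43617)
 (.leaf 43648)))
 (.node (.node (.leaf 43680)
 (.leaf 43681))
 (.node (.leaf 43713)
 (.leaf 43728))))))

def entTB50 : RT := .node (.node (.node (.node (.node (.node (.leaf 43744)
 (.leaf 43745))
 (.node (.leaf 43792)
 (.leaf 43808)))
 (.node (.node (.leaf 43809)
 (.leaf 43825))
 (.node (.leaf 43840)
 (.leaf 43856))))
 (.node (.node (.node (.leaf 43873)
 (.leaf 43889))
 (.node (.leaf 43904)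
 (.leaf 43920)))
 (.node (.node (.leaf 43953)
 (.leaf 43969))
 (.node (.leaf 43984)
 (.leaf 43985)))))
 (.node (.node (.node (.node (.leaf 44001)
 (.leaf 44017))
 (.node (.leaf 44032)
 (.leaf 44064)))
 (.node (.node (.leaf 44065)
 (.leaf 44080))
 (.node (.leaf 44113)
 (.leaf 44145))))
 (.node (.node (.node (.leaf 44176)
 (.leaf 44177))
 (.node (.leaf 44192)
 (.leaf 44208)))
 (.node (.node (.leaf 44209)
 (.leaf 44225))
 (.node (.leaf 44240)
 (.leaf 44257))))))
 (.node (.node (.node (.node (.node (.leaf 44272)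
 (.leaf 44273))
 (.node (.leaf 44288)
 (.leaf 44289)))
 (.node (.node (.leaf 44305)
 (.leaf 44321))
 (.node (.leaf 44336)
 (.leaf 44337))))
 (.node (.node (.node (.leaf 44353)
 (.leaf 44369))
 (.node (.leaf 44400)
 (.leaf 44417)))
 (.node (.node (.leaf 44448)
 (.leaf 44464))
 (.node (.leaf 44465)
 (.leaf 44480)))))
 (.node (.node (.node (.node (.leaf 44496)
 (.leaf 44512))
 (.node (.leaf 44528)
 (.leaf 44544)))
 (.node (.node (.leaf 44545)
 (.leaf 44560))
 (.node (.leaf 44561)
 (.leaf 44577))))
 (.node (.node (.node (.leaf 44592)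
 (.leaf 44593))
 (.node (.leaf 44608)
 (.leaf 44609)))
 (.node (.node (.leaf 44640)
 (.leaf 44641))
 (.node (.leaf 44656)
 (.leaf 44672))))))

def entTB51 : RT := .node (.node (.node (.node (.node (.node (.leaf 44705)
 (.leaf 44720))
 (.node (.leaf 44737)
 (.leaf 44752)))
 (.node (.node (.leaf 44753)
 (.leaf 44768))
 (.node (.leaf 44801)
 (.leaf 44816))))
 (.node (.node (.node (.leaf 44833)
 (.leaf 44849))
 (.node (.leaf 44864)
 (.leaf 44881)))
 (.node (.node (.leaf 44945)
 (.leaf 44960))
 (.node (.leaf 44977)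
 (.leaf 44993)))))
 (.node (.node (.node (.node (.leaf 45009)
 (.leaf 45024))
 (.node (.leaf 45040)
 (.leaf 45057)))
 (.node (.node (.leaf 45072)
 (.leaf 45088))
 (.node (.leaf 45104)
 (.leaf 45137))))
 (.node (.node (.node (.leaf 45152)
 (.leaf 45169))
 (.node (.leaf 45201)
 (.leaf 45248)))
 (.node (.node (.leaf 45249)
 (.leaf 45264))
 (.node (.leaf 45265)
 (.leaf 45281))))))
 (.node (.node (.node (.node (.node (.leaf 45328)
 (.leaf 45329))
 (.node (.leaf 45344)
 (.leaf 45345)))
 (.node (.node (.leaf 45377)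
 (.leaf 45408))
 (.node (.leaf 45424)
 (.leaf 45440))))
 (.node (.node (.node (.leaf 45456)
 (.leaf 45457))
 (.node (.leaf 45489)
 (.leaf 45505)))
 (.node (.node (.leaf 45536)
 (.leaf 45552))
 (.node (.leaf 45553)
 (.leaf 45568)))))
 (.node (.node (.node (.node (.leaf 45584)
 (.leaf 45585))
 (.node (.leaf 45600)
 (.leaf 45617)))
 (.node (.node (.leaf 45680)
 (.leaf 45761))
 (.node (.leaf 45840)
 (.leaf 45841))))
 (.node (.node (.node (.leaf 45889)
 (.leaf 45904))
 (.node (.leaf 45920)
 (.leaf 45968)))
 (.node (.node (.leaf 45985)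
 (.leaf 46000))
 (.node (.leaf 46064)
 (.leaf 46160))))))

def entTB52 : RT := .node (.node (.node (.node (.node (.node (.leaf 46161)
 (.leaf 46192))
 (.node (.leaf 46193)
 (.leaf 46224)))
 (.node (.node (.leaf 46225)
 (.leaf 46241))
 (.node (.leaf 46256)
 (.leaf 46273))))
 (.node (.node (.node (.leaf 46305)
 (.leaf 46321))
 (.node (.leaf 46337)
 (.leaf 46385)))
 (.node (.node (.leaf 46449)
 (.leaf 46480))
 (.node (.leaf 46481)
 (.leaf 46496)))))
 (.node (.node (.node (.node (.leaf 46512)
 (.leaf 46624))
 (.node (.leaf 46657)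
 (.leaf 46720)))
 (.node (.node (.leaf 46753)
 (.leaf 46769))
 (.node (.leaf 46784)
 (.leaf 46785))))
 (.node (.node (.node (.leaf 46848)
 (.leaf 46849))
 (.node (.leaf 46864)
 (.leaf 46865)))
 (.node (.node (.leaf 46880)
 (.leaf 46913))
 (.node (.leaf 46944)
 (.leaf 46945))))))
 (.node (.node (.node (.node (.node (.leaf 46960)
 (.leaf 46961))
 (.node (.leaf 46992)
 (.leaf 46993)))
 (.node (.node (.leaf 47024)
 (.leaf 47088))
 (.node (.leaf 47104)
 (.leaf 47105))))
 (.node (.node (.node (.leaf 47168)
 (.leaf 47185))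
 (.node (.leaf 47232)
 (.leaf 47265)))
 (.node (.node (.leaf 47280)
 (.leaf 47281))
 (.node (.leaf 47297)
 (.leaf 47361)))))
 (.node (.node (.node (.node (.leaf 47376)
 (.leaf 47425))
 (.node (.leaf 47473)
 (.leaf 47504)))
 (.node (.node (.leaf 47505)
 (.leaf 47536))
 (.node (.leaf 47537)
 (.leaf 47552))))
 (.node (.node (.node (.leaf 47568)
 (.leaf 47601))
 (.node (.leaf 47616)
 (.leaf 47617)))
 (.node (.node (.leaf 47633)
 (.leaf 47648))
 (.node (.leaf 47664)
 (.leaf 47665))))))

def entTB53 : RT := .node (.node (.node (.node (.node (.node (.leaf 47681)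
 (.leaf 47729))
 (.node (.leaf 47744)
 (.leaf 47776)))
 (.node (.node (.leaf 47809)
 (.leaf 47824))
 (.node (.leaf 47825)
 (.leaf 47857))))
 (.node (.node (.node (.leaf 47904)
 (.leaf 47920))
 (.node (.leaf 47952)
 (.leaf 47969)))
 (.node (.node (.leaf 48001)
 (.leaf 48017))
 (.node (.leaf 48065)
 (.leaf 48112)))))
 (.node (.node (.node (.node (.leaf 48128)
 (.leaf 48129))
 (.node (.leaf 48193)
 (.leaf 48224)))
 (.node (.node (.leaf 48321)
 (.leaf 48353))
 (.node (.leaf 48417)
 (.leaf 48432))))
 (.node (.node (.node (.leaf 48465)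
 (.leaf 48481))
 (.node (.leaf 48513)
 (.leaf 48576)))
 (.node (.node (.leaf 48592)
 (.leaf 48609))
 (.node (.leaf 48624)
 (.leaf 48625))))))
 (.node (.node (.node (.node (.node (.leaf 48673)
 (.leaf 48689))
 (.node (.leaf 48721)
 (.leaf 48736)))
 (.node (.node (.leaf 48801)
 (.leaf 48816))
 (.node (.leaf 48817)
 (.leaf 48849))))
 (.node (.node (.node (.leaf 48864)
 (.leaf 48912))
 (.node (.leaf 48913)
 (.leaf 49040)))
 (.node (.node (.leaf 49041)
 (.leaf 49056))
 (.node (.leaf 49057)
 (.leaf 49121)))))
 (.node (.node (.node (.node (.leaf 49152)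
 (.leaf 49168))
 (.node (.leaf 49184)
 (.leaf 49217)))
 (.node (.node (.leaf 49232)
 (.leaf 49233))
 (.node (.leaf 49281)
 (.leaf 49313))))
 (.node (.node (.node (.leaf 49360)
 (.leaf 49377))
 (.node (.leaf 49425)
 (.leaf 49441)))
 (.node (.node (.leaf 49472)
 (.leaf 49521))
 (.node (.leaf 49553)
 (.leaf 49584))))))

def entTB54 : RT := .node (.node (.node (.node (.node (.node (.leaf 49616)
 (.leaf 49633))
 (.node (.leaf 49649)
 (.leaf 49888)))
 (.node (.node (.leaf 49984)
 (.leaf 49985))
 (.node (.leaf 50033)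
 (.leaf 50097))))
 (.node (.node (.node (.leaf 50112)
 (.leaf 50160))
 (.node (.leaf 50208)
 (.leaf 50336)))
 (.node (.node (.leaf 50417)
 (.leaf 50481))
 (.node (.leaf 50497)
 (.leaf 50544)))))
 (.node (.node (.node (.node (.leaf 50720)
 (.leaf 50753))
 (.node (.leaf 50768)
 (.leaf 50833)))
 (.node (.node (.leaf 50865)
 (.leaf 50881))
 (.node (.leaf 50896)
 (.leaf 50912))))
 (.node (.node (.node (.leaf 50928)
 (.leaf 50944))
 (.node (.leaf 50961)
 (.leaf 50993)))
 (.node (.node (.leaf 51041)
 (.leaf 51057))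
 (.node (.leaf 51104)
 (.leaf 51105))))))
 (.node (.node (.node (.node (.node (.leaf 51121)
 (.leaf 51136))
 (.node (.leaf 51168)
 (.leaf 51169)))
 (.node (.node (.leaf 51201)
 (.leaf 51232))
 (.node (.leaf 51233)
 (.leaf 51248))))
 (.node (.node (.node (.leaf 51265)
 (.leaf 51297))
 (.node (.leaf 51328)
 (.leaf 51393)))
 (.node (.node (.leaf 51472)
 (.leaf 51536))
 (.node (.leaf 51600)
 (.leaf 51617)))))
 (.node (.node (.node (.node (.leaf 51632)
 (.leaf 51776))
 (.node (.leaf 51777)
 (.leaf 51792)))
 (.node (.node (.leaf 51793)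
 (.leaf 51825))
 (.node (.leaf 51841)
 (.leaf 51856))))
 (.node (.node (.node (.leaf 51889)
 (.leaf 51953))
 (.node (.leaf 51984)
 (.leaf 51985)))
 (.node (.node (.leaf 52000)
 (.leaf 52096))
 (.node (.leaf 52129)
 (.leaf 52240))))))

def entTB55 : RT := .node (.node (.node (.node (.node (.node (.leaf 52241)
 (.leaf 52256))
 (.node (.leaf 52289)
 (.leaf 52305)))
 (.node (.node (.leaf 52320)
 (.leaf 52321))
 (.node (.leaf 52384)
 (.leaf 52417))))
 (.node (.node (.node (.leaf 52464)
 (.leaf 52497))
 (.node (.leaf 52512)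
 (.leaf 52513)))
 (.node (.node (.leaf 52529)
 (.leaf 52593))
 (.node (.leaf 52608)
 (.leaf 52705)))))
 (.node (.node (.node (.node (.leaf 52752)
 (.leaf 52753))
 (.node (.leaf 52768)
 (.leaf 52784)))
 (.node (.node (.leaf 52816)
 (.leaf 52833))
 (.node (.leaf 52849)
 (.leaf 52865))))
 (.node (.node (.node (.leaf 52912)
 (.leaf 52928))
 (.node (.leaf 52961)
 (.leaf 53009)))
 (.node (.node (.leaf 53040)
 (.leaf 53057))
 (.node (.leaf 53089)
 (.leaf 53120))))))
 (.node (.node (.node (.node (.node (.leaf 53121)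
 (.leaf 53184))
 (.node (.leaf 53217)
 (.leaf 53233)))
 (.node (.node (.leaf 53297)
 (.leaf 53312))
 (.node (.leaf 53361)
 (.leaf 53393))))
 (.node (.node (.node (.leaf 53424)
 (.leaf 53505))
 (.node (.leaf 53600)
 (.leaf 53601)))
 (.node (.node (.leaf 53664)
 (.leaf 53665))
 (.node (.leaf 53776)
 (.leaf 53809)))))
 (.node (.node (.node (.node (.leaf 53953)
 (.leaf 53985))
 (.node (.leaf 54208)
 (.leaf 54305)))
 (.node (.node (.leaf 54384)
 (.leaf 54464))
 (.node (.leaf 54577)
 (.leaf 54737))))
 (.node (.node (.node (.leaf 54753)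
 (.leaf 54864))
 (.node (.leaf 55025)
 (.leaf 55105)))
 (.node (.node (.leaf 55152)
 (.leaf 55168))
 (.node (.leaf 55441)
 (.leaf 55584))))))

def entTB56 : RT := .node (.node (.node (.node (.node (.node (.leaf 55617)
 (.leaf 55696))
 (.node (.leaf 55792)
 (.leaf 55793)))
 (.node (.node (.leaf 55824)
 (.leaf 55841))
 (.node (.leaf 55905)
 (.leaf 56001))))
 (.node (.node (.node (.leaf 56144)
 (.leaf 56257))
 (.node (.leaf 56401)
 (.leaf 56481)))
 (.node (.node (.leaf 56513)
 (.leaf 56656))
 (.node (.leaf 56705)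
 (.leaf 56752)))))
 (.node (.node (.node (.node (.leaf 56849)
 (.leaf 57619))
 (.node (.leaf 57616)
 (.leaf 57617)))
 (.node (.node (.leaf 57632)
 (.leaf 57633))
 (.node (.leaf 57648)
 (.leaf 57649))))
 (.node (.node (.node (.leaf 57664)
 (.leaf 57665))
 (.node (.leaf 57680)
 (.leaf 57681)))
 (.node (.node (.leaf 57696)
 (.leaf 57697))
 (.node (.leaf 57712)
 (.leaf 57713))))))
 (.node (.node (.node (.node (.node (.leaf 57729)
 (.leaf 57744))
 (.node (.leaf 57745)
 (.leaf 57760)))
 (.node (.node (.leaf 57761)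
 (.leaf 57776))
 (.node (.leaf 57777)
 (.leaf 57792))))
 (.node (.node (.node (.leaf 57793)
 (.leaf 57808))
 (.node (.leaf 57809)
 (.leaf 57824)))
 (.node (.node (.leaf 57825)
 (.leaf 57840))
 (.node (.leaf 57841)
 (.leaf 57856)))))
 (.node (.node (.node (.node (.leaf 57857)
 (.leaf 57872))
 (.node (.leaf 57873)
 (.leaf 57888)))
 (.node (.node (.leaf 57889)
 (.leaf 57904))
 (.node (.leaf 57905)
 (.leaf 57920))))
 (.node (.node (.node (.leaf 57921)
 (.leaf 57936))
 (.node (.leaf 57937)
 (.leaf 57952)))
 (.node (.node (.leaf 57953)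
 (.leaf 57969))
 (.node (.leaf 57984)
 (.leaf 57985))))))

def entTB57 : RT := .node (.node (.node (.node (.node (.node (.leaf 58000)
 (.leaf 58016))
 (.node (.leaf 58017)
 (.leaf 58032)))
 (.node (.node (.leaf 58033)
 (.leaf 58048))
 (.node (.leaf 58049)
 (.leaf 58064))))
 (.node (.node (.node (.leaf 58065)
 (.leaf 58080))
 (.node (.leaf 58081)
 (.leaf 58096)))
 (.node (.node (.leaf 58097)
 (.leaf 58112))
 (.node (.leaf 58113)
 (.leaf 58128)))))
 (.node (.node (.node (.node (.leaf 58129)
 (.leaf 58144))
 (.node (.leaf 58145)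
 (.leaf 58160)))
 (.node (.node (.leaf 58161)
 (.leaf 58176))
 (.node (.leaf 58177)
 (.leaf 58193))))
 (.node (.node (.node (.leaf 58208)
 (.leaf 58209))
 (.node (.leaf 58240)
 (.leaf 58241)))
 (.node (.node (.leaf 58256)
 (.leaf 58257))
 (.node (.leaf 58272)
 (.leaf 58273))))))
 (.node (.node (.node (.node (.node (.leaf 58288)
 (.leaf 58289))
 (.node (.leaf 58304)
 (.leaf 58305)))
 (.node (.node (.leaf 58320)
 (.leaf 58321))
 (.node (.leaf 58336)
 (.leaf 58337))))
 (.node (.node (.node (.leaf 58352)
 (.leaf 58353))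
 (.node (.leaf 58368)
 (.leaf 58369)))
 (.node (.node (.leaf 58385)
 (.leaf 58400))
 (.node (.leaf 58401)
 (.leaf 58417)))))
 (.node (.node (.node (.node (.leaf 58432)
 (.leaf 58433))
 (.node (.leaf 58448)
 (.leaf 58464)))
 (.node (.node (.leaf 58465)
 (.leaf 58480))
 (.node (.leaf 58481)
 (.leaf 58496))))
 (.node (.node (.node (.leaf 58497)
 (.leaf 58512))
 (.node (.leaf 58513)
 (.leaf 58528)))
 (.node (.node (.leaf 58529)
 (.leaf 58544))
 (.node (.leaf 58545)
 (.leaf 58560))))))

def entTB58 : RT := .node (.node (.node (.node (.node (.node (.leaf 58561)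
 (.leaf 58576))
 (.node (.leaf 58577)
 (.leaf 58592)))
 (.node (.node (.leaf 58593)
 (.leaf 58609))
 (.node (.leaf 58624)
 (.leaf 58625))))
 (.node (.node (.node (.leaf 58640)
 (.leaf 58656))
 (.node (.leaf 58657)
 (.leaf 58672)))
 (.node (.node (.leaf 58673)
 (.leaf 58688))
 (.node (.leaf 58689)
 (.leaf 58704)))))
 (.node (.node (.node (.node (.leaf 58705)
 (.leaf 58720))
 (.node (.leaf 58721)
 (.leaf 58736)))
 (.node (.node (.leaf 58737)
 (.leaf 58752))
 (.node (.leaf 58753)
 (.leaf 58768))))
 (.node (.node (.node (.leaf 58769)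
 (.leaf 58784))
 (.node (.leaf 58785)
 (.leaf 58800)))
 (.node (.node (.leaf 58801)
 (.leaf 58817))
 (.node (.leaf 58832)
 (.leaf 58833))))))
 (.node (.node (.node (.node (.node (.leaf 58848)
 (.leaf 58864))
 (.node (.leaf 58865)
 (.leaf 58880)))
 (.node (.node (.leaf 58881)
 (.leaf 58896))
 (.node (.leaf 58897)
 (.leaf 58912))))
 (.node (.node (.node (.leaf 58928)
 (.leaf 58929))
 (.node (.leaf 58944)
 (.leaf 58945)))
 (.node (.node (.leaf 58960)
 (.leaf 58961))
 (.node (.leaf 58976)
 (.leaf 58977)))))
 (.node (.node (.node (.node (.leaf 58992)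
 (.leaf 58993))
 (.node (.leaf 59008)
 (.leaf 59009)))
 (.node (.node (.leaf 59024)
 (.leaf 59025))
 (.node (.leaf 59041)
 (.leaf 59056))))
 (.node (.node (.node (.leaf 59057)
 (.leaf 59072))
 (.node (.leaf 59073)
 (.leaf 59088)))
 (.node (.node (.leaf 59089)
 (.leaf 59104))
 (.node (.leaf 59105)
 (.leaf 59120))))))

def entTB59 : RT := .node (.node (.node (.node (.node (.node (.leaf 59121)
 (.leaf 59136))
 (.node (.leaf 59152)
 (.leaf 59153)))
 (.node (.node (.leaf 59168)
 (.leaf 59184))
 (.node (.leaf 59185)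
 (.leaf 59200))))
 (.node (.node (.node (.leaf 59201)
 (.leaf 59217))
 (.node (.leaf 59232)
 (.leaf 59233)))
 (.node (.node (.leaf 59248)
 (.leaf 59264))
 (.node (.leaf 59265)
 (.leaf 59280)))))
 (.node (.node (.node (.node (.leaf 59281)
 (.leaf 59296))
 (.node (.leaf 59312)
 (.leaf 59313)))
 (.node (.node (.leaf 59328)
 (.leaf 59345))
 (.node (.leaf 59360)
 (.leaf 59361))))
 (.node (.node (.node (.leaf 59392)
 (.leaf 59393))
 (.node (.leaf 59408)
 (.leaf 59409)))
 (.node (.node (.leaf 59424)
 (.leaf 59425))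
 (.node (.leaf 59440)
 (.leaf 59441))))))
 (.node (.node (.node (.node (.node (.leaf 59456)
 (.leaf 59457))
 (.node (.leaf 59472)
 (.leaf 59473)))
 (.node (.node (.leaf 59488)
 (.leaf 59489))
 (.node (.leaf 59504)
 (.leaf 59505))))
 (.node (.node (.node (.leaf 59520)
 (.leaf 59521))
 (.node (.leaf 59537)
 (.leaf 59552)))
 (.node (.node (.leaf 59553)
 (.leaf 59569))
 (.node (.leaf 59584)
 (.leaf 59585)))))
 (.node (.node (.node (.node (.leaf 59600)
 (.leaf 59616))
 (.node (.leaf 59617)
 (.leaf 59632)))
 (.node (.node (.leaf 59633)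
 (.leaf 59648))
 (.node (.leaf 59649)
 (.leaf 59664))))
 (.node (.node (.node (.leaf 59665)
 (.leaf 59680))
 (.node (.leaf 59681)
 (.leaf 59696)))
 (.node (.node (.leaf 59697)
 (.leaf 59712))
 (.node (.leaf 59713)
 (.leaf 59728))))))

def entTB60 : RT := .node (.node (.node (.node (.node (.node (.leaf 59729)
 (.leaf 59744))
 (.node (.leaf 59745)
 (.leaf 59760)))
 (.node (.node (.leaf 59761)
 (.leaf 59776))
 (.node (.leaf 59777)
 (.leaf 59792))))
 (.node (.node (.node (.leaf 59793)
 (.leaf 59808))
 (.node (.leaf 59809)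
 (.leaf 59824)))
 (.node (.node (.leaf 59825)
 (.leaf 59840))
 (.node (.leaf 59841)
 (.leaf 59857)))))
 (.node (.node (.node (.node (.leaf 59872)
 (.leaf 59873))
 (.node (.leaf 59888)
 (.leaf 59889)))
 (.node (.node (.leaf 59904)
 (.leaf 59920))
 (.node (.leaf 59921)
 (.leaf 59936))))
 (.node (.node (.node (.leaf 59937)
 (.leaf 59953))
 (.node (.leaf 59968)
 (.leaf 59969)))
 (.node (.node (.leaf 59984)
 (.leaf 60000))
 (.node (.leaf 60001)
 (.leaf 60016))))))
 (.node (.node (.node (.node (.node (.leaf 60017)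
 (.leaf 60032))
 (.node (.leaf 60048)
 (.leaf 60064)))
 (.node (.node (.leaf 60065)
 (.leaf 60080))
 (.node (.leaf 60081)
 (.leaf 60096))))
 (.node (.node (.node (.leaf 60112)
 (.leaf 60113))
 (.node (.leaf 60129)
 (.leaf 60144)))
 (.node (.node (.leaf 60145)
 (.leaf 60192))
 (.node (.leaf 60208)
 (.leaf 60209)))))
 (.node (.node (.node (.node (.leaf 60224)
 (.leaf 60225))
 (.node (.leaf 60240)
 (.leaf 60241)))
 (.node (.node (.leaf 60256)
 (.leaf 60257))
 (.node (.leaf 60272)
 (.leaf 60273))))
 (.node (.node (.node (.leaf 60288)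
 (.leaf 60289))
 (.node (.leaf 60304)
 (.leaf 60320)))
 (.node (.node (.leaf 60321)
 (.leaf 60336))
 (.node (.leaf 60337)
 (.leaf 60353))))))

def entTB61 : RT := .node (.node (.node (.node (.node (.node (.leaf 60368)
 (.leaf 60384))
 (.node (.leaf 60400)
 (.leaf 60401)))
 (.node (.node (.leaf 60416)
 (.leaf 60417))
 (.node (.leaf 60432)
 (.leaf 60433))))
 (.node (.node (.node (.leaf 60448)
 (.leaf 60449))
 (.node (.leaf 60481)
 (.leaf 60496)))
 (.node (.node (.leaf 60497)
 (.leaf 60512))
 (.node (.leaf 60513)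
 (.leaf 60528)))))
 (.node (.node (.node (.node (.leaf 60529)
 (.leaf 60544))
 (.node (.leaf 60545)
 (.leaf 60560)))
 (.node (.node (.leaf 60561)
 (.leaf 60576))
 (.node (.leaf 60577)
 (.leaf 60592))))
 (.node (.node (.node (.leaf 60593)
 (.leaf 60608))
 (.node (.leaf 60625)
 (.leaf 60640)))
 (.node (.node (.leaf 60641)
 (.leaf 60657))
 (.node (.leaf 60672)
 (.leaf 60673))))))
 (.node (.node (.node (.node (.node (.leaf 60688)
 (.leaf 60704))
 (.node (.leaf 60720)
 (.leaf 60721)))
 (.node (.node (.leaf 60736)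
 (.leaf 60737))
 (.node (.leaf 60752)
 (.leaf 60753))))
 (.node (.node (.node (.leaf 60768)
 (.leaf 60769))
 (.node (.leaf 60785)
 (.leaf 60800)))
 (.node (.node (.leaf 60801)
 (.leaf 60816))
 (.node (.leaf 60817)
 (.leaf 60833)))))
 (.node (.node (.node (.node (.leaf 60848)
 (.leaf 60849))
 (.node (.leaf 60864)
 (.leaf 60880)))
 (.node (.node (.leaf 60881)
 (.leaf 60896))
 (.node (.leaf 60897)
 (.leaf 60912))))
 (.node (.node (.node (.leaf 60913)
 (.leaf 60928))
 (.node (.leaf 60944)
 (.leaf 60945)))
 (.node (.node (.leaf 60960)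
 (.leaf 60961))
 (.node (.leaf 60976)
 (.leaf 60977))))))

def entTB62 : RT := .node (.node (.node (.node (.node (.node (.leaf 60992)
 (.leaf 60993))
 (.node (.leaf 61008)
 (.leaf 61009)))
 (.node (.node (.leaf 61024)
 (.leaf 61025))
 (.node (.leaf 61040)
 (.leaf 61041))))
 (.node (.node (.node (.leaf 61057)
 (.leaf 61072))
 (.node (.leaf 61073)
 (.leaf 61088)))
 (.node (.node (.leaf 61089)
 (.leaf 61104))
 (.node (.leaf 61105)
 (.leaf 61120)))))
 (.node (.node (.node (.node (.leaf 61121)
 (.leaf 61136))
 (.node (.leaf 61137)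
 (.leaf 61152)))
 (.node (.node (.leaf 61168)
 (.leaf 61169))
 (.node (.leaf 61184)
 (.leaf 61200))))
 (.node (.node (.node (.leaf 61201)
 (.leaf 61216))
 (.node (.leaf 61217)
 (.leaf 61233)))
 (.node (.node (.leaf 61248)
 (.leaf 61249))
 (.node (.leaf 61264)
 (.leaf 61280))))))
 (.node (.node (.node (.node (.node (.leaf 61281)
 (.leaf 61296))
 (.node (.leaf 61297)
 (.leaf 61312)))
 (.node (.node (.leaf 61328)
 (.leaf 61344))
 (.node (.leaf 61360)
 (.leaf 61361))))
 (.node (.node (.node (.leaf 61376)
 (.leaf 61377))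
 (.node (.leaf 61392)
 (.leaf 61408)))
 (.node (.node (.leaf 61409)
 (.leaf 61425))
 (.node (.leaf 61440)
 (.leaf 61441)))))
 (.node (.node (.node (.node (.leaf 61473)
 (.leaf 61488))
 (.node (.leaf 61504)
 (.leaf 61505)))
 (.node (.node (.leaf 61520)
 (.leaf 61521))
 (.node (.leaf 61536)
 (.leaf 61537))))
 (.node (.node (.node (.leaf 61553)
 (.leaf 61568))
 (.node (.leaf 61569)
 (.leaf 61600)))
 (.node (.node (.leaf 61601)
 (.leaf 61616))
 (.node (.leaf 61632)
 (.leaf 61633))))))

def entTB63 : RT := .node (.node (.node (.node (.node (.node (.leaf 61648)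
 (.leaf 61649))
 (.node (.leaf 61664)
 (.leaf 61665)))
 (.node (.node (.leaf 61680)
 (.leaf 61681))
 (.node (.leaf 61696)
 (.leaf 61697))))
 (.node (.node (.node (.leaf 61712)
 (.leaf 61713))
 (.node (.leaf 61728)
 (.leaf 61729)))
 (.node (.node (.leaf 61745)
 (.leaf 61761))
 (.node (.leaf 61776)
 (.leaf 61777)))))
 (.node (.node (.node (.node (.leaf 61792)
 (.leaf 61808))
 (.node (.leaf 61809)
 (.leaf 61824)))
 (.node (.node (.leaf 61841)
 (.leaf 61872))
 (.node (.leaf 61873)
 (.leaf 61888))))
 (.node (.node (.node (.leaf 61904)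
 (.leaf 61905))
 (.node (.leaf 61920)
 (.leaf 61921)))
 (.node (.node (.leaf 61952)
 (.leaf 61953))
 (.node (.leaf 61968)
 (.leaf 61984))))))
 (.node (.node (.node (.node (.node (.leaf 61985)
 (.leaf 62001))
 (.node (.leaf 62016)
 (.leaf 62017)))
 (.node (.node (.leaf 62048)
 (.leaf 62049))
 (.node (.leaf 62064)
 (.leaf 62065))))
 (.node (.node (.node (.leaf 62080)
 (.leaf 62081))
 (.node (.leaf 62096)
 (.leaf 62112)))
 (.node (.node (.leaf 62113)
 (.leaf 62128))
 (.node (.leaf 62144)
 (.leaf 62145)))))
 (.node (.node (.node (.node (.leaf 62192)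
 (.leaf 62193))
 (.node (.leaf 62208)
 (.leaf 62209)))
 (.node (.node (.leaf 62224)
 (.leaf 62225))
 (.node (.leaf 62241)
 (.leaf 62256))))
 (.node (.node (.node (.leaf 62257)
 (.leaf 62272))
 (.node (.leaf 62273)
 (.leaf 62288)))
 (.node (.node (.leaf 62289)
 (.leaf 62304))
 (.node (.leaf 62305)
 (.leaf 62321))))))

def entTB64 : RT := .node (.node (.node (.node (.node (.node (.leaf 62336)
 (.leaf 62352))
 (.node (.leaf 62384)
 (.leaf 62400)))
 (.node (.node (.leaf 62401)
 (.leaf 62417))
 (.node (.leaf 62432)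
 (.leaf 62433))))
 (.node (.node (.node (.leaf 62448)
 (.leaf 62449))
 (.node (.leaf 62464)
 (.leaf 62465)))
 (.node (.node (.leaf 62496)
 (.leaf 62497))
 (.node (.leaf 62513)
 (.leaf 62545)))))
 (.node (.node (.node (.node (.leaf 62576)
 (.leaf 62577))
 (.node (.leaf 62592)
 (.leaf 62608)))
 (.node (.node (.leaf 62609)
 (.leaf 62624))
 (.node (.leaf 62657)
 (.leaf 62689))))
 (.node (.node (.node (.leaf 62705)
 (.leaf 62720))
 (.node (.leaf 62721)
 (.leaf 62752)))
 (.node (.node (.leaf 62768)
 (.leaf 62769))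
 (.node (.leaf 62800)
 (.leaf 62801))))))
 (.node (.node (.node (.node (.node (.leaf 62816)
 (.leaf 62817))
 (.node (.leaf 62832)
 (.leaf 62833)))
 (.node (.node (.leaf 62849)
 (.leaf 62865))
 (.node (.leaf 62880)
 (.leaf 62881))))
 (.node (.node (.node (.leaf 62896)
 (.leaf 62897))
 (.node (.leaf 62912)
 (.leaf 62913)))
 (.node (.node (.leaf 62929)
 (.leaf 62944))
 (.node (.leaf 62960)
 (.leaf 62961)))))
 (.node (.node (.node (.node (.leaf 62993)
 (.leaf 63024))
 (.node (.leaf 63025)
 (.leaf 63056)))
 (.node (.node (.leaf 63072)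
 (.leaf 63073))
 (.node (.leaf 63089)
 (.leaf 63104))))
 (.node (.node (.node (.leaf 63120)
 (.leaf 63121))
 (.node (.leaf 63136)
 (.leaf 63137)))
 (.node (.node (.leaf 63152)
 (.leaf 63153))
 (.node (.leaf 63168)
 (.leaf 63169))))))

def entTB65 : RT := .node (.node (.node (.node (.node (.node (.leaf 63184)
 (.leaf 63185))
 (.node (.leaf 63200)
 (.leaf 63201)))
 (.node (.node (.leaf 63217)
 (.leaf 63232))
 (.node (.leaf 63233)
 (.leaf 63248))))
 (.node (.node (.node (.leaf 63249)
 (.leaf 63264))
 (.node (.leaf 63280)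
 (.leaf 63281)))
 (.node (.node (.leaf 63296)
 (.leaf 63297))
 (.node (.leaf 63313)
 (.leaf 63328)))))
 (.node (.node (.node (.node (.leaf 63329)
 (.leaf 63344))
 (.node (.leaf 63360)
 (.leaf 63361)))
 (.node (.node (.leaf 63376)
 (.leaf 63377))
 (.node (.leaf 63392)
 (.leaf 63408))))
 (.node (.node (.node (.leaf 63440)
 (.leaf 63441))
 (.node (.leaf 63456)
 (.leaf 63472)))
 (.node (.node (.leaf 63473)
 (.leaf 63489))
 (.node (.leaf 63504)
 (.leaf 63505))))))
 (.node (.node (.node (.node (.node (.leaf 63552)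
 (.leaf 63568))
 (.node (.leaf 63569)
 (.leaf 63584)))
 (.node (.node (.leaf 63585)
 (.leaf 63600))
 (.node (.leaf 63601)
 (.leaf 63616))))
 (.node (.node (.node (.leaf 63617)
 (.leaf 63633))
 (.node (.leaf 63648)
 (.leaf 63649)))
 (.node (.node (.leaf 63664)
 (.leaf 63680))
 (.node (.leaf 63681)
 (.leaf 63696)))))
 (.node (.node (.node (.node (.leaf 63697)
 (.leaf 63713))
 (.node (.leaf 63728)
 (.leaf 63744)))
 (.node (.node (.leaf 63760)
 (.leaf 63761))
 (.node (.leaf 63776)
 (.leaf 63777))))
 (.node (.node (.node (.leaf 63792)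
 (.leaf 63793))
 (.node (.leaf 63808)
 (.leaf 63809)))
 (.node (.node (.leaf 63841)
 (.leaf 63856))
 (.node (.leaf 63872)
 (.leaf 63873))))))

def entTB66 : RT := .node (.node (.node (.node (.node (.node (.leaf 63888)
 (.leaf 63889))
 (.node (.leaf 63904)
 (.leaf 63921)))
 (.node (.node (.leaf 63936)
 (.leaf 63937))
 (.node (.leaf 63952)
 (.leaf 63953))))
 (.node (.node (.node (.leaf 63968)
 (.leaf 63985))
 (.node (.leaf 64000)
 (.leaf 64001)))
 (.node (.node (.leaf 64017)
 (.leaf 64032))
 (.node (.leaf 64033)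
 (.leaf 64048)))))
 (.node (.node (.node (.node (.leaf 64064)
 (.leaf 64080))
 (.node (.leaf 64081)
 (.leaf 64097)))
 (.node (.node (.leaf 64113)
 (.leaf 64128))
 (.node (.leaf 64144)
 (.leaf 64145))))
 (.node (.node (.node (.leaf 64160)
 (.leaf 64177))
 (.node (.leaf 64192)
 (.leaf 64208)))
 (.node (.node (.leaf 64209)
 (.leaf 64224))
 (.node (.leaf 64240)
 (.leaf 64241))))))
 (.node (.node (.node (.node (.node (.leaf 64256)
 (.leaf 64273))
 (.node (.leaf 64304)
 (.leaf 64320)))
 (.node (.node (.leaf 64321)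
 (.leaf 64337))
 (.node (.leaf 64353)
 (.leaf 64368))))
 (.node (.node (.node (.leaf 64369)
 (.leaf 64384))
 (.node (.leaf 64385)
 (.leaf 64400)))
 (.node (.node (.leaf 64417)
 (.leaf 64432))
 (.node (.leaf 64433)
 (.leaf 64448)))))
 (.node (.node (.node (.node (.leaf 64465)
 (.leaf 64480))
 (.node (.leaf 64496)
 (.leaf 64497)))
 (.node (.node (.leaf 64512)
 (.leaf 64513))
 (.node (.leaf 64528)
 (.leaf 64529))))
 (.node (.node (.node (.leaf 64592)
 (.leaf 64593))
 (.node (.leaf 64609)
 (.leaf 64625)))
 (.node (.node (.leaf 64656)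
 (.leaf 64657))
 (.node (.leaf 64672)
 (.leaf 64688))))))

def entTB67 : RT := .node (.node (.node (.node (.node (.node (.leaf 64689)
 (.leaf 64704))
 (.node (.leaf 64705)
 (.leaf 64720)))
 (.node (.node (.leaf 64753)
 (.leaf 64784))
 (.node (.leaf 64785)
 (.leaf 64800))))
 (.node (.node (.node (.leaf 64801)
 (.leaf 64817))
 (.node (.leaf 64848)
 (.leaf 64865)))
 (.node (.node (.leaf 64881)
 (.leaf 64897))
 (.node (.leaf 64912)
 (.leaf 64929)))))
 (.node (.node (.node (.node (.leaf 64945)
 (.leaf 64960))
 (.node (.leaf 64961)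
 (.leaf 64976)))
 (.node (.node (.leaf 64993)
 (.leaf 65024))
 (.node (.leaf 65025)
 (.leaf 65040))))
 (.node (.node (.node (.leaf 65041)
 (.leaf 65057))
 (.node (.leaf 65073)
 (.leaf 65088)))
 (.node (.node (.leaf 65105)
 (.leaf 65137))
 (.node (.leaf 65152)
 (.leaf 65153))))))
 (.node (.node (.node (.node (.node (.leaf 65185)
 (.leaf 65200))
 (.node (.leaf 65201)
 (.leaf 65216)))
 (.node (.node (.leaf 65217)
 (.leaf 65233))
 (.node (.leaf 65248)
 (.leaf 65280))))
 (.node (.node (.node (.leaf 65296)
 (.leaf 65297))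
 (.node (.leaf 65313)
 (.leaf 65328)))
 (.node (.node (.leaf 65329)
 (.leaf 65344))
 (.node (.leaf 65360)
 (.leaf 65361)))))
 (.node (.node (.node (.node (.leaf 65377)
 (.leaf 65392))
 (.node (.leaf 65441)
 (.leaf 65456)))
 (.node (.node (.leaf 65472)
 (.leaf 65473))
 (.node (.leaf 65489)
 (.leaf 65505))))
 (.node (.node (.node (.leaf 65521)
 (.leaf 65569))
 (.node (.leaf 65584)
 (.leaf 65600)))
 (.node (.node (.leaf 65601)
 (.leaf 65617))
 (.node (.leaf 65632)
 (.leaf 65648))))))

def entTB68 : RT := .node (.node (.node (.node (.node (.node (.leaf 65649)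
 (.leaf 65680))
 (.node (.leaf 65681)
 (.leaf 65713)))
 (.node (.node (.leaf 65729)
 (.leaf 65761))
 (.node (.leaf 65776)
 (.leaf 65792))))
 (.node (.node (.node (.leaf 65808)
 (.leaf 65825))
 (.node (.leaf 65872)
 (.leaf 65873)))
 (.node (.node (.leaf 65889)
 (.leaf 65904))
 (.node (.leaf 65905)
 (.leaf 65920)))))
 (.node (.node (.node (.node (.leaf 65921)
 (.leaf 65936))
 (.node (.leaf 65953)
 (.leaf 65968)))
 (.node (.node (.leaf 65984)
 (.leaf 66001))
 (.node (.leaf 66033)
 (.leaf 66080))))
 (.node (.node (.node (.leaf 66096)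
 (.leaf 66097))
 (.node (.leaf 66112)
 (.leaf 66128)))
 (.node (.node (.leaf 66161)
 (.leaf 66176))
 (.node (.leaf 66177)
 (.leaf 66193))))))
 (.node (.node (.node (.node (.node (.leaf 66224)
 (.leaf 66241))
 (.node (.leaf 66256)
 (.leaf 66257)))
 (.node (.node (.leaf 66273)
 (.leaf 66305))
 (.node (.leaf 66336)
 (.leaf 66352))))
 (.node (.node (.node (.leaf 66369)
 (.leaf 66384))
 (.node (.leaf 66385)
 (.leaf 66401)))
 (.node (.node (.leaf 66417)
 (.leaf 66464))
 (.node (.leaf 66465)
 (.leaf 66480)))))
 (.node (.node (.node (.node (.leaf 66481)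
 (.leaf 66497))
 (.node (.leaf 66513)
 (.leaf 66544)))
 (.node (.node (.leaf 66545)
 (.leaf 66560))
 (.node (.leaf 66576)
 (.leaf 66577))))
 (.node (.node (.node (.leaf 66592)
 (.leaf 66593))
 (.node (.leaf 66608)
 (.leaf 66609)))
 (.node (.node (.leaf 66624)
 (.leaf 66625))
 (.node (.leaf 66640)
 (.leaf 66641))))))

def entTB69 : RT := .node (.node (.node (.node (.node (.node (.leaf 66656)
 (.leaf 66657))
 (.node (.leaf 66672)
 (.leaf 66673)))
 (.node (.node (.leaf 66689)
 (.leaf 66720))
 (.node (.leaf 66736)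
 (.leaf 66752))))
 (.node (.node (.node (.leaf 66753)
 (.leaf 66768))
 (.node (.leaf 66785)
 (.leaf 66816)))
 (.node (.node (.leaf 66817)
 (.leaf 66832))
 (.node (.leaf 66848)
 (.leaf 66849)))))
 (.node (.node (.node (.node (.leaf 66864)
 (.leaf 66896))
 (.node (.leaf 66897)
 (.leaf 66912)))
 (.node (.node (.leaf 66928)
 (.leaf 66929))
 (.node (.leaf 66960)
 (.leaf 66961))))
 (.node (.node (.node (.leaf 66977)
 (.leaf 66992))
 (.node (.leaf 66993)
 (.leaf 67008)))
 (.node (.node (.leaf 67024)
 (.leaf 67025))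
 (.node (.leaf 67040)
 (.leaf 67057))))))
 (.node (.node (.node (.node (.node (.leaf 67104)
 (.leaf 67105))
 (.node (.leaf 67120)
 (.leaf 67121)))
 (.node (.node (.leaf 67136)
 (.leaf 67137))
 (.node (.leaf 67153)
 (.leaf 67168))))
 (.node (.node (.node (.leaf 67185)
 (.leaf 67200))
 (.node (.leaf 67201)
 (.leaf 67217)))
 (.node (.node (.leaf 67232)
 (.leaf 67248))
 (.node (.leaf 67280)
 (.leaf 67296)))))
 (.node (.node (.node (.node (.leaf 67297)
 (.leaf 67313))
 (.node (.leaf 67328)
 (.leaf 67329)))
 (.node (.node (.leaf 67345)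
 (.leaf 67360))
 (.node (.leaf 67361)
 (.leaf 67392))))
 (.node (.node (.node (.leaf 67409)
 (.leaf 67441))
 (.node (.leaf 67472)
 (.leaf 67473)))
 (.node (.node (.leaf 67504)
 (.leaf 67505))
 (.node (.leaf 67569)
 (.leaf 67585))))))

def entTB70 : RT := .node (.node (.node (.node (.node (.node (.leaf 67600)
 (.leaf 67601))
 (.node (.leaf 67648)
 (.leaf 67649)))
 (.node (.node (.leaf 67664)
 (.leaf 67665))
 (.node (.leaf 67680)
 (.leaf 67681))))
 (.node (.node (.node (.leaf 67728)
 (.leaf 67744))
 (.node (.leaf 67760)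
 (.leaf 67761)))
 (.node (.node (.leaf 67777)
 (.leaf 67792))
 (.node (.leaf 67808)
 (.leaf 67809)))))
 (.node (.node (.node (.node (.leaf 67841)
 (.leaf 67872))
 (.node (.leaf 67888)
 (.leaf 67889)))
 (.node (.node (.leaf 67905)
 (.leaf 67920))
 (.node (.leaf 67921)
 (.leaf 67936))))
 (.node (.node (.node (.leaf 67969)
 (.leaf 67984))
 (.node (.leaf 67985)
 (.leaf 68000)))
 (.node (.node (.leaf 68001)
 (.leaf 68016))
 (.node (.leaf 68017)
 (.leaf 68032))))))
 (.node (.node (.node (.node (.node (.leaf 68033)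
 (.leaf 68081))
 (.node (.leaf 68112)
 (.leaf 68128)))
 (.node (.node (.leaf 68145)
 (.leaf 68176))
 (.node (.leaf 68192)
 (.leaf 68193))))
 (.node (.node (.node (.leaf 68224)
 (.leaf 68241))
 (.node (.leaf 68257)
 (.leaf 68305)))
 (.node (.node (.leaf 68320)
 (.leaf 68321))
 (.node (.leaf 68384)
 (.leaf 68400)))))
 (.node (.node (.node (.node (.leaf 68401)
 (.leaf 68432))
 (.node (.leaf 68433)
 (.leaf 68448)))
 (.node (.node (.leaf 68464)
 (.leaf 68465))
 (.node (.leaf 68496)
 (.leaf 68513))))
 (.node (.node (.node (.leaf 68528)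
 (.leaf 68544))
 (.node (.leaf 68560)
 (.leaf 68592)))
 (.node (.node (.leaf 68625)
 (.leaf 68656))
 (.node (.leaf 68689)
 (.leaf 68705))))))

def entTB71 : RT := .node (.node (.node (.node (.node (.node (.leaf 68720)
 (.leaf 68737))
 (.node (.leaf 68752)
 (.leaf 68753)))
 (.node (.node (.leaf 68784)
 (.leaf 68817))
 (.node (.leaf 68864)
 (.leaf 68880))))
 (.node (.node (.node (.leaf 68881)
 (.leaf 68896))
 (.node (.leaf 68913)
 (.leaf 68960)))
 (.node (.node (.leaf 68961)
 (.leaf 68976))
 (.node (.leaf 68992)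
 (.leaf 69024)))))
 (.node (.node (.node (.node (.leaf 69040)
 (.leaf 69041))
 (.node (.leaf 69089)
 (.leaf 69104)))
 (.node (.node (.leaf 69105)
 (.leaf 69120))
 (.node (.leaf 69121)
 (.leaf 69184))))
 (.node (.node (.node (.leaf 69185)
 (.leaf 69200))
 (.node (.leaf 69201)
 (.leaf 69216)))
 (.node (.node (.leaf 69265)
 (.leaf 69281))
 (.node (.leaf 69296)
 (.leaf 69312))))))
 (.node (.node (.node (.node (.node (.leaf 69345)
 (.leaf 69360))
 (.node (.leaf 69377)
 (.leaf 69409)))
 (.node (.node (.leaf 69425)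
 (.leaf 69488))
 (.node (.leaf 69504)
 (.leaf 69536))))
 (.node (.node (.node (.leaf 69537)
 (.leaf 69553))
 (.node (.leaf 69569)
 (.leaf 69585)))
 (.node (.node (.leaf 69600)
 (.leaf 69601))
 (.node (.leaf 69648)
 (.leaf 69665)))))
 (.node (.node (.node (.node (.leaf 69680)
 (.leaf 69681))
 (.node (.leaf 69712)
 (.leaf 69745)))
 (.node (.node (.leaf 69760)
 (.leaf 69841))
 (.node (.leaf 69888)
 (.leaf 69889))))
 (.node (.node (.node (.leaf 69969)
 (.leaf 69984))
 (.node (.leaf 69985)
 (.leaf 70049)))
 (.node (.node (.leaf 70064)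
 (.leaf 70065))
 (.node (.leaf 70080)
 (.leaf 70081))))))

def entTB72 : RT := .node (.node (.node (.node (.node (.node (.leaf 70097)
 (.leaf 70112))
 (.node (.leaf 70192)
 (.leaf 70193)))
 (.node (.node (.leaf 70273)
 (.leaf 70288))
 (.node (.leaf 70320)
 (.leaf 70336))))
 (.node (.node (.node (.leaf 70337)
 (.leaf 70352))
 (.node (.leaf 70353)
 (.leaf 70369)))
 (.node (.node (.leaf 70385)
 (.leaf 70400))
 (.node (.leaf 70401)
 (.leaf 70416)))))
 (.node (.node (.node (.node (.leaf 70417)
 (.leaf 70433))
 (.node (.leaf 70448)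
 (.leaf 70449)))
 (.node (.node (.leaf 70464)
 (.leaf 70481))
 (.node (.leaf 70496)
 (.leaf 70512))))
 (.node (.node (.node (.leaf 70513)
 (.leaf 70528))
 (.node (.leaf 70529)
 (.leaf 70544)))
 (.node (.node (.leaf 70545)
 (.leaf 70608))
 (.node (.leaf 70609)
 (.leaf 70641))))))
 (.node (.node (.node (.node (.node (.leaf 70672)
 (.leaf 70673))
 (.node (.leaf 70704)
 (.leaf 70705)))
 (.node (.node (.leaf 70720)
 (.leaf 70721))
 (.node (.leaf 70768)
 (.leaf 70784))))
 (.node (.node (.node (.leaf 70785)
 (.leaf 70801))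
 (.node (.leaf 70832)
 (.leaf 70881)))
 (.node (.node (.leaf 70929)
 (.leaf 70944))
 (.node (.leaf 70961)
 (.leaf 70992)))))
 (.node (.node (.node (.node (.leaf 70993)
 (.leaf 71008))
 (.node (.leaf 71025)
 (.leaf 71041)))
 (.node (.node (.leaf 71056)
 (.leaf 71057))
 (.node (.leaf 71104)
 (.leaf 71120))))
 (.node (.node (.node (.leaf 71121)
 (.leaf 71137))
 (.node (.leaf 71184)
 (.leaf 71185)))
 (.node (.node (.leaf 71216)
 (.leaf 71217))
 (.node (.leaf 71232)
 (.leaf 71265))))))

def entTB73 : RT := .node (.node (.node (.node (.node (.node (.leaf 71280)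
 (.leaf 71297))
 (.node (.leaf 71328)
 (.leaf 71329)))
 (.node (.node (.leaf 71345)
 (.leaf 71393))
 (.node (.leaf 71408)
 (.leaf 71424))))
 (.node (.node (.node (.leaf 71425)
 (.leaf 71441))
 (.node (.leaf 71472)
 (.leaf 71488)))
 (.node (.node (.leaf 71521)
 (.leaf 71537))
 (.node (.leaf 71553)
 (.leaf 71568)))))
 (.node (.node (.node (.node (.leaf 71584)
 (.leaf 71648))
 (.node (.leaf 71649)
 (.leaf 71665)))
 (.node (.node (.leaf 71680)
 (.leaf 71729))
 (.node (.leaf 71776)
 (.leaf 71792))))
 (.node (.node (.node (.leaf 71793)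
 (.leaf 71824))
 (.node (.leaf 71825)
 (.leaf 71856)))
 (.node (.node (.leaf 71873)
 (.leaf 71889))
 (.node (.leaf 71905)
 (.leaf 71968))))))
 (.node (.node (.node (.node (.node (.leaf 71984)
 (.leaf 72033))
 (.node (.leaf 72048)
 (.leaf 72049)))
 (.node (.node (.leaf 72096)
 (.leaf 72097))
 (.node (.leaf 72113)
 (.leaf 72128))))
 (.node (.node (.node (.leaf 72192)
 (.leaf 72272))
 (.node (.leaf 72273)
 (.leaf 72321)))
 (.node (.node (.leaf 72336)
 (.leaf 72369))
 (.node (.leaf 72448)
 (.leaf 72449)))))
 (.node (.node (.node (.node (.leaf 72480)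
 (.leaf 72481))
 (.node (.leaf 72513)
 (.leaf 72528)))
 (.node (.node (.leaf 72544)
 (.leaf 72545))
 (.node (.leaf 72561)
 (.leaf 72576))))
 (.node (.node (.node (.leaf 72593)
 (.leaf 72641))
 (.node (.leaf 72704)
 (.leaf 72720)))
 (.node (.node (.leaf 72753)
 (.leaf 72865))
 (.node (.leaf 72896)
 (.leaf 72897))))))

def entTB74 : RT := .node (.node (.node (.node (.node (.node (.leaf 73024)
 (.leaf 73056))
 (.node (.leaf 73057)
 (.leaf 73072)))
 (.node (.node (.leaf 73073)
 (.leaf 73184))
 (.node (.leaf 73201)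
 (.leaf 73264))))
 (.node (.node (.node (.leaf 73280)
 (.leaf 73361))
 (.node (.leaf 73393)
 (.leaf 73809)))
 (.node (.node (.leaf 73824)
 (.leaf 73840))
 (.node (.leaf 73857)
 (.leaf 73921)))))
 (.node (.node (.node (.node (.leaf 73952)
 (.leaf 73985))
 (.node (.leaf 74017)
 (.leaf 74033)))
 (.node (.node (.leaf 74113)
 (.leaf 74160))
 (.node (.leaf 74176)
 (.leaf 74208))))
 (.node (.node (.node (.leaf 74272)
 (.leaf 74305))
 (.node (.leaf 74337)
 (.leaf 74352)))
 (.node (.node (.leaf 74385)
 (.leaf 74417))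
 (.node (.leaf 74432)
 (.leaf 74449))))))
 (.node (.node (.node (.node (.node (.leaf 74496)
 (.leaf 74513))
 (.node (.leaf 74577)
 (.leaf 74625)))
 (.node (.node (.leaf 74640)
 (.leaf 74641))
 (.node (.leaf 74673)
 (.leaf 74737))))
 (.node (.node (.node (.leaf 74769)
 (.leaf 74816))
 (.node (.leaf 74849)
 (.leaf 74865)))
 (.node (.node (.leaf 74928)
 (.leaf 74944))
 (.node (.leaf 74976)
 (.leaf 75056)))))
 (.node (.node (.node (.node (.leaf 75168)
 (.leaf 75345))
 (.node (.leaf 75361)
 (.leaf 75393)))
 (.node (.node (.leaf 75504)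
 (.leaf 75521))
 (.node (.leaf 75569)
 (.leaf 75584))))
 (.node (.node (.node (.leaf 75712)
 (.leaf 75776))
 (.node (.leaf 75825)
 (.leaf 76033)))
 (.node (.node (.leaf 76065)
 (.leaf 76145))
 (.node (.leaf 76177)
 (.leaf 76273))))))

def entTB75 : RT := .node (.node (.node (.node (.node (.node (.leaf 76416)
 (.leaf 76820))
 (.node (.leaf 76816)
 (.leaf 76817)))
 (.node (.node (.leaf 76832)
 (.leaf 76833))
 (.node (.leaf 76848)
 (.leaf 76849))))
 (.node (.node (.node (.leaf 76864)
 (.leaf 76865))
 (.node (.leaf 76880)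
 (.leaf 76881)))
 (.node (.node (.leaf 76896)
 (.leaf 76897))
 (.node (.leaf 76912)
 (.leaf 76913)))))
 (.node (.node (.node (.node (.leaf 76929)
 (.leaf 76944))
 (.node (.leaf 76945)
 (.leaf 76960)))
 (.node (.node (.leaf 76961)
 (.leaf 76976))
 (.node (.leaf 76977)
 (.leaf 76992))))
 (.node (.node (.node (.leaf 76993)
 (.leaf 77008))
 (.node (.leaf 77009)
 (.leaf 77024)))
 (.node (.node (.leaf 77025)
 (.leaf 77040))
 (.node (.leaf 77041)
 (.leaf 77056))))))
 (.node (.node (.node (.node (.node (.leaf 77057)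
 (.leaf 77072))
 (.node (.leaf 77073)
 (.leaf 77088)))
 (.node (.node (.leaf 77089)
 (.leaf 77104))
 (.node (.leaf 77105)
 (.leaf 77120))))
 (.node (.node (.node (.leaf 77121)
 (.leaf 77136))
 (.node (.leaf 77137)
 (.leaf 77152)))
 (.node (.node (.leaf 77153)
 (.leaf 77169))
 (.node (.leaf 77184)
 (.leaf 77185)))))
 (.node (.node (.node (.node (.leaf 77200)
 (.leaf 77216))
 (.node (.leaf 77217)
 (.leaf 77232)))
 (.node (.node (.leaf 77233)
 (.leaf 77248))
 (.node (.leaf 77249)
 (.leaf 77264))))
 (.node (.node (.node (.leaf 77265)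
 (.leaf 77280))
 (.node (.leaf 77281)
 (.leaf 77296)))
 (.node (.node (.leaf 77297)
 (.leaf 77312))
 (.node (.leaf 77313)
 (.leaf 77328))))))

def entTB76 : RT := .node (.node (.node (.node (.node (.node (.leaf 77329)
 (.leaf 77344))
 (.node (.leaf 77345)
 (.leaf 77360)))
 (.node (.node (.leaf 77361)
 (.leaf 77376))
 (.node (.leaf 77377)
 (.leaf 77393))))
 (.node (.node (.node (.leaf 77408)
 (.leaf 77409))
 (.node (.leaf 77424)
 (.leaf 77440)))
 (.node (.node (.leaf 77441)
 (.leaf 77456))
 (.node (.leaf 77457)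
 (.leaf 77472)))))
 (.node (.node (.node (.node (.leaf 77473)
 (.leaf 77488))
 (.node (.leaf 77504)
 (.leaf 77505)))
 (.node (.node (.leaf 77520)
 (.leaf 77521))
 (.node (.leaf 77536)
 (.leaf 77537))))
 (.node (.node (.node (.leaf 77552)
 (.leaf 77553))
 (.node (.leaf 77568)
 (.leaf 77569)))
 (.node (.node (.leaf 77584)
 (.leaf 77585))
 (.node (.leaf 77600)
 (.leaf 77601))))))
 (.node (.node (.node (.node (.node (.leaf 77617)
 (.leaf 77632))
 (.node (.leaf 77633)
 (.leaf 77648)))
 (.node (.node (.leaf 77664)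
 (.leaf 77665))
 (.node (.leaf 77680)
 (.leaf 77681))))
 (.node (.node (.node (.leaf 77696)
 (.leaf 77697))
 (.node (.leaf 77712)
 (.leaf 77713)))
 (.node (.node (.leaf 77728)
 (.leaf 77729))
 (.node (.leaf 77744)
 (.leaf 77745)))))
 (.node (.node (.node (.node (.leaf 77760)
 (.leaf 77761))
 (.node (.leaf 77776)
 (.leaf 77777)))
 (.node (.node (.leaf 77792)
 (.leaf 77793))
 (.node (.leaf 77809)
 (.leaf 77824))))
 (.node (.node (.node (.leaf 77825)
 (.leaf 77840))
 (.node (.leaf 77856)
 (.leaf 77857)))
 (.node (.node (.leaf 77872)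
 (.leaf 77873))
 (.node (.leaf 77888)
 (.leaf 77904))))))

def entTB77 : RT := .node (.node (.node (.node (.node (.node (.leaf 77905)
 (.leaf 77920))
 (.node (.leaf 77937)
 (.leaf 77952)))
 (.node (.node (.leaf 77953)
 (.leaf 77968))
 (.node (.leaf 77969)
 (.leaf 77984))))
 (.node (.node (.node (.leaf 77985)
 (.leaf 78000))
 (.node (.leaf 78001)
 (.leaf 78016)))
 (.node (.node (.leaf 78017)
 (.leaf 78033))
 (.node (.leaf 78048)
 (.leaf 78049)))))
 (.node (.node (.node (.node (.leaf 78064)
 (.leaf 78080))
 (.node (.leaf 78081)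
 (.leaf 78096)))
 (.node (.node (.leaf 78097)
 (.leaf 78112))
 (.node (.leaf 78113)
 (.leaf 78128))))
 (.node (.node (.node (.leaf 78129)
 (.leaf 78144))
 (.node (.leaf 78145)
 (.leaf 78160)))
 (.node (.node (.leaf 78161)
 (.leaf 78176))
 (.node (.leaf 78177)
 (.leaf 78192))))))
 (.node (.node (.node (.node (.node (.leaf 78193)
 (.leaf 78208))
 (.node (.leaf 78209)
 (.leaf 78224)))
 (.node (.node (.leaf 78225)
 (.leaf 78241))
 (.node (.leaf 78257)
 (.leaf 78272))))
 (.node (.node (.node (.leaf 78273)
 (.leaf 78288))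
 (.node (.leaf 78289)
 (.leaf 78305)))
 (.node (.node (.leaf 78320)
 (.leaf 78321))
 (.node (.leaf 78336)
 (.leaf 78337)))))
 (.node (.node (.node (.node (.leaf 78352)
 (.leaf 78353))
 (.node (.leaf 78368)
 (.leaf 78369)))
 (.node (.node (.leaf 78384)
 (.leaf 78400))
 (.node (.leaf 78401)
 (.leaf 78416))))
 (.node (.node (.node (.leaf 78417)
 (.leaf 78448))
 (.node (.leaf 78464)
 (.leaf 78480)))
 (.node (.node (.leaf 78481)
 (.leaf 78496))
 (.node (.leaf 78497)
 (.leaf 78512))))))

def entTB78 : RT := .node (.node (.node (.node (.node (.node (.leaf 78513)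
 (.leaf 78528))
 (.node (.leaf 78529)
 (.leaf 78544)))
 (.node (.node (.leaf 78561)
 (.leaf 78576))
 (.node (.leaf 78577)
 (.leaf 78592))))
 (.node (.node (.node (.leaf 78608)
 (.leaf 78609))
 (.node (.leaf 78624)
 (.leaf 78625)))
 (.node (.node (.leaf 78640)
 (.leaf 78641))
 (.node (.leaf 78656)
 (.leaf 78657)))))
 (.node (.node (.node (.node (.leaf 78672)
 (.leaf 78673))
 (.node (.leaf 78688)
 (.leaf 78689)))
 (.node (.node (.leaf 78704)
 (.leaf 78705))
 (.node (.leaf 78720)
 (.leaf 78721))))
 (.node (.node (.node (.leaf 78736)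
 (.leaf 78737))
 (.node (.leaf 78752)
 (.leaf 78753)))
 (.node (.node (.leaf 78768)
 (.leaf 78769))
 (.node (.leaf 78785)
 (.leaf 78800))))))
 (.node (.node (.node (.node (.node (.leaf 78801)
 (.leaf 78832))
 (.node (.leaf 78848)
 (.leaf 78849)))
 (.node (.node (.leaf 78864)
 (.leaf 78865))
 (.node (.leaf 78880)
 (.leaf 78881))))
 (.node (.node (.node (.leaf 78896)
 (.leaf 78897))
 (.node (.leaf 78912)
 (.leaf 78913)))
 (.node (.node (.leaf 78928)
 (.leaf 78929))
 (.node (.leaf 78944)
 (.leaf 78945)))))
 (.node (.node (.node (.node (.leaf 78961)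
 (.leaf 78976))
 (.node (.leaf 78977)
 (.leaf 78992)))
 (.node (.node (.leaf 78993)
 (.leaf 79008))
 (.node (.leaf 79024)
 (.leaf 79025))))
 (.node (.node (.node (.leaf 79040)
 (.leaf 79041))
 (.node (.leaf 79056)
 (.leaf 79057)))
 (.node (.node (.leaf 79073)
 (.leaf 79088))
 (.node (.leaf 79089)
 (.leaf 79104))))))

def entTB79 : RT := .node (.node (.node (.node (.node (.node (.leaf 79120)
 (.leaf 79121))
 (.node (.leaf 79136)
 (.leaf 79137)))
 (.node (.node (.leaf 79168)
 (.leaf 79169))
 (.node (.leaf 79184)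
 (.leaf 79185))))
 (.node (.node (.node (.leaf 79201)
 (.leaf 79216))
 (.node (.leaf 79232)
 (.leaf 79248)))
 (.node (.node (.leaf 79249)
 (.leaf 79264))
 (.node (.leaf 79265)
 (.leaf 79280)))))
 (.node (.node (.node (.node (.leaf 79297)
 (.leaf 79328))
 (.node (.leaf 79329)
 (.leaf 79360)))
 (.node (.node (.leaf 79361)
 (.leaf 79392))
 (.node (.leaf 79393)
 (.leaf 79408))))
 (.node (.node (.node (.leaf 79424)
 (.leaf 79425))
 (.node (.leaf 79440)
 (.leaf 79456)))
 (.node (.node (.leaf 79457)
 (.leaf 79473))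
 (.node (.leaf 79488)
 (.leaf 79489))))))
 (.node (.node (.node (.node (.node (.leaf 79504)
 (.leaf 79520))
 (.node (.leaf 79521)
 (.leaf 79536)))
 (.node (.node (.leaf 79537)
 (.leaf 79552))
 (.node (.leaf 79553)
 (.leaf 79568))))
 (.node (.node (.node (.leaf 79569)
 (.leaf 79584))
 (.node (.leaf 79585)
 (.leaf 79600)))
 (.node (.node (.leaf 79601)
 (.leaf 79616))
 (.node (.leaf 79632)
 (.leaf 79633)))))
 (.node (.node (.node (.node (.leaf 79648)
 (.leaf 79649))
 (.node (.leaf 79665)
 (.leaf 79696)))
 (.node (.node (.leaf 79697)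
 (.leaf 79712))
 (.node (.leaf 79713)
 (.leaf 79728))))
 (.node (.node (.node (.leaf 79729)
 (.leaf 79744))
 (.node (.leaf 79745)
 (.leaf 79760)))
 (.node (.node (.leaf 79761)
 (.leaf 79776))
 (.node (.leaf 79792)
 (.leaf 79793))))))

def entTB80 : RT := .node (.node (.node (.node (.node (.node (.leaf 79808)
 (.leaf 79809))
 (.node (.leaf 79825)
 (.leaf 79840)))
 (.node (.node (.leaf 79841)
 (.leaf 79856))
 (.node (.leaf 79872)
 (.leaf 79873))))
 (.node (.node (.node (.leaf 79888)
 (.leaf 79905))
 (.node (.leaf 79920)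
 (.leaf 79921)))
 (.node (.node (.leaf 79936)
 (.leaf 79937))
 (.node (.leaf 79952)
 (.leaf 79953)))))
 (.node (.node (.node (.node (.leaf 79984)
 (.leaf 79985))
 (.node (.leaf 80000)
 (.leaf 80001)))
 (.node (.node (.leaf 80016)
 (.leaf 80017))
 (.node (.leaf 80033)
 (.leaf 80048))))
 (.node (.node (.node (.leaf 80049)
 (.leaf 80064))
 (.node (.leaf 80080)
 (.leaf 80081)))
 (.node (.node (.leaf 80096)
 (.leaf 80097))
 (.node (.leaf 80112)
 (.leaf 80113))))))
 (.node (.node (.node (.node (.node (.leaf 80128)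
 (.leaf 80129))
 (.node (.leaf 80144)
 (.leaf 80161)))
 (.node (.node (.leaf 80176)
 (.leaf 80177))
 (.node (.leaf 80192)
 (.leaf 80193))))
 (.node (.node (.node (.leaf 80208)
 (.leaf 80209))
 (.node (.leaf 80224)
 (.leaf 80225)))
 (.node (.node (.leaf 80240)
 (.leaf 80241))
 (.node (.leaf 80257)
 (.leaf 80272)))))
 (.node (.node (.node (.node (.leaf 80273)
 (.leaf 80288))
 (.node (.leaf 80289)
 (.leaf 80304)))
 (.node (.node (.leaf 80305)
 (.leaf 80320))
 (.node (.leaf 80321)
 (.leaf 80336))))
 (.node (.node (.node (.leaf 80337)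
 (.leaf 80352))
 (.node (.leaf 80353)
 (.leaf 80368)))
 (.node (.node (.leaf 80369)
 (.leaf 80384))
 (.node (.leaf 80385)
 (.leaf 80401))))))

def entTB81 : RT := .node (.node (.node (.node (.node (.node (.leaf 80416)
 (.leaf 80432))
 (.node (.leaf 80433)
 (.leaf 80448)))
 (.node (.node (.leaf 80449)
 (.leaf 80464))
 (.node (.leaf 80465)
 (.leaf 80480))))
 (.node (.node (.node (.leaf 80496)
 (.leaf 80497))
 (.node (.leaf 80513)
 (.leaf 80529)))
 (.node (.node (.leaf 80561)
 (.leaf 80576))
 (.node (.leaf 80592)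
 (.leaf 80593)))))
 (.node (.node (.node (.node (.leaf 80608)
 (.leaf 80624))
 (.node (.leaf 80625)
 (.leaf 80640)))
 (.node (.node (.leaf 80656)
 (.leaf 80657))
 (.node (.leaf 80672)
 (.leaf 80673))))
 (.node (.node (.node (.leaf 80689)
 (.leaf 80704))
 (.node (.leaf 80705)
 (.leaf 80720)))
 (.node (.node (.leaf 80736)
 (.leaf 80737))
 (.node (.leaf 80752)
 (.leaf 80753))))))
 (.node (.node (.node (.node (.node (.leaf 80768)
 (.leaf 80769))
 (.node (.leaf 80784)
 (.leaf 80800)))
 (.node (.node (.leaf 80801)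
 (.leaf 80816))
 (.node (.leaf 80817)
 (.leaf 80832))))
 (.node (.node (.node (.leaf 80833)
 (.leaf 80848))
 (.node (.leaf 80865)
 (.leaf 80881)))
 (.node (.node (.leaf 80896)
 (.leaf 80897))
 (.node (.leaf 80912)
 (.leaf 80913)))))
 (.node (.node (.node (.node (.leaf 80929)
 (.leaf 80944))
 (.node (.leaf 80945)
 (.leaf 80960)))
 (.node (.node (.leaf 80961)
 (.leaf 80976))
 (.node (.leaf 80993)
 (.leaf 81008))))
 (.node (.node (.node (.leaf 81009)
 (.leaf 81024))
 (.node (.leaf 81025)
 (.leaf 81040)))
 (.node (.node (.leaf 81057)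
 (.leaf 81073))
 (.node (.leaf 81088)
 (.leaf 81089))))))

def entTB82 : RT := .node (.node (.node (.node (.node (.node (.leaf 81104)
 (.leaf 81120))
 (.node (.leaf 81121)
 (.leaf 81136)))
 (.node (.node (.leaf 81137)
 (.leaf 81152))
 (.node (.leaf 81184)
 (.leaf 81185))))
 (.node (.node (.node (.leaf 81201)
 (.leaf 81216))
 (.node (.leaf 81232)
 (.leaf 81248)))
 (.node (.node (.leaf 81249)
 (.leaf 81264))
 (.node (.leaf 81265)
 (.leaf 81296)))))
 (.node (.node (.node (.node (.leaf 81297)
 (.leaf 81312))
 (.node (.leaf 81313)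
 (.leaf 81328)))
 (.node (.node (.leaf 81344)
 (.leaf 81360))
 (.node (.leaf 81361)
 (.leaf 81376))))
 (.node (.node (.node (.leaf 81377)
 (.leaf 81408))
 (.node (.leaf 81424)
 (.leaf 81425)))
 (.node (.node (.leaf 81440)
 (.leaf 81441))
 (.node (.leaf 81456)
 (.leaf 81472))))))
 (.node (.node (.node (.node (.node (.leaf 81473)
 (.leaf 81488))
 (.node (.leaf 81489)
 (.leaf 81504)))
 (.node (.node (.leaf 81505)
 (.leaf 81520))
 (.node (.leaf 81552)
 (.leaf 81553))))
 (.node (.node (.node (.leaf 81568)
 (.leaf 81569))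
 (.node (.leaf 81600)
 (.leaf 81617)))
 (.node (.node (.leaf 81648)
 (.leaf 81649))
 (.node (.leaf 81664)
 (.leaf 81680)))))
 (.node (.node (.node (.node (.leaf 81696)
 (.leaf 81697))
 (.node (.leaf 81729)
 (.leaf 81761)))
 (.node (.node (.leaf 81777)
 (.leaf 81793))
 (.node (.leaf 81809)
 (.leaf 81825))))
 (.node (.node (.node (.leaf 81840)
 (.leaf 81841))
 (.node (.leaf 81856)
 (.leaf 81857)))
 (.node (.node (.leaf 81873)
 (.leaf 81904))
 (.node (.leaf 81905)
 (.leaf 81921))))))

def entTB83 : RT := .node (.node (.node (.node (.node (.node (.leaf 81936)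
 (.leaf 81937))
 (.node (.leaf 81952)
 (.leaf 81953)))
 (.node (.node (.leaf 81968)
 (.leaf 81969))
 (.node (.leaf 81984)
 (.leaf 81985))))
 (.node (.node (.node (.leaf 82016)
 (.leaf 82017))
 (.node (.leaf 82032)
 (.leaf 82033)))
 (.node (.node (.leaf 82049)
 (.leaf 82064))
 (.node (.leaf 82097)
 (.leaf 82112)))))
 (.node (.node (.node (.node (.leaf 82113)
 (.leaf 82128))
 (.node (.leaf 82129)
 (.leaf 82144)))
 (.node (.node (.leaf 82160)
 (.leaf 82161))
 (.node (.leaf 82192)
 (.leaf 82193))))
 (.node (.node (.node (.leaf 82208)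
 (.leaf 82209))
 (.node (.leaf 82224)
 (.leaf 82225)))
 (.node (.node (.leaf 82240)
 (.leaf 82241))
 (.node (.leaf 82257)
 (.leaf 82272))))))
 (.node (.node (.node (.node (.node (.leaf 82273)
 (.leaf 82288))
 (.node (.leaf 82289)
 (.leaf 82304)))
 (.node (.node (.leaf 82305)
 (.leaf 82320))
 (.node (.leaf 82336)
 (.leaf 82337))))
 (.node (.node (.node (.leaf 82352)
 (.leaf 82353))
 (.node (.leaf 82369)
 (.leaf 82400)))
 (.node (.node (.leaf 82416)
 (.leaf 82432))
 (.node (.leaf 82433)
 (.leaf 82448)))))
 (.node (.node (.node (.node (.leaf 82449)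
 (.leaf 82480))
 (.node (.leaf 82481)
 (.leaf 82496)))
 (.node (.node (.leaf 82512)
 (.leaf 82513))
 (.node (.leaf 82529)
 (.leaf 82544))))
 (.node (.node (.node (.leaf 82545)
 (.leaf 82592))
 (.node (.leaf 82608)
 (.leaf 82624)))
 (.node (.node (.leaf 82625)
 (.leaf 82640))
 (.node (.leaf 82656)
 (.leaf 82657))))))

def entTB84 : RT := .node (.node (.node (.node (.node (.node (.leaf 82672)
 (.leaf 82689))
 (.node (.leaf 82705)
 (.leaf 82721)))
 (.node (.node (.leaf 82736)
 (.leaf 82752))
 (.node (.leaf 82753)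
 (.leaf 82768))))
 (.node (.node (.node (.leaf 82769)
 (.leaf 82784))
 (.node (.leaf 82785)
 (.leaf 82800)))
 (.node (.node (.leaf 82801)
 (.leaf 82816))
 (.node (.leaf 82817)
 (.leaf 82832)))))
 (.node (.node (.node (.node (.leaf 82833)
 (.leaf 82848))
 (.node (.leaf 82849)
 (.leaf 82865)))
 (.node (.node (.leaf 82880)
 (.leaf 82881))
 (.node (.leaf 82896)
 (.leaf 82913))))
 (.node (.node (.node (.leaf 82960)
 (.leaf 82961))
 (.node (.leaf 82976)
 (.leaf 82977)))
 (.node (.node (.leaf 82993)
 (.leaf 83008))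
 (.node (.leaf 83009)
 (.leaf 83024))))))
 (.node (.node (.node (.node (.node (.leaf 83040)
 (.leaf 83041))
 (.node (.leaf 83056)
 (.leaf 83057)))
 (.node (.node (.leaf 83072)
 (.leaf 83088))
 (.node (.leaf 83105)
 (.leaf 83120))))
 (.node (.node (.node (.leaf 83121)
 (.leaf 83136))
 (.node (.leaf 83184)
 (.leaf 83185)))
 (.node (.node (.leaf 83200)
 (.leaf 83201))
 (.node (.leaf 83217)
 (.leaf 83232)))))
 (.node (.node (.node (.node (.leaf 83248)
 (.leaf 83249))
 (.node (.leaf 83264)
 (.leaf 83265)))
 (.node (.node (.leaf 83281)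
 (.leaf 83296))
 (.node (.leaf 83328)
 (.leaf 83329))))
 (.node (.node (.node (.leaf 83344)
 (.leaf 83376))
 (.node (.leaf 83393)
 (.leaf 83408)))
 (.node (.node (.leaf 83409)
 (.leaf 83424))
 (.node (.leaf 83440)
 (.leaf 83441))))))

def entTB85 : RT := .node (.node (.node (.node (.node (.node (.leaf 83456)
 (.leaf 83457))
 (.node (.leaf 83472)
 (.leaf 83473)))
 (.node (.node (.leaf 83504)
 (.leaf 83520))
 (.node (.leaf 83521)
 (.leaf 83552))))
 (.node (.node (.node (.leaf 83553)
 (.leaf 83584))
 (.node (.leaf 83585)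
 (.leaf 83616)))
 (.node (.node (.leaf 83617)
 (.leaf 83665))
 (.node (.leaf 83697)
 (.leaf 83712)))))
 (.node (.node (.node (.node (.leaf 83729)
 (.leaf 83744))
 (.node (.leaf 83745)
 (.leaf 83760)))
 (.node (.node (.leaf 83761)
 (.leaf 83776))
 (.node (.leaf 83777)
 (.leaf 83792))))
 (.node (.node (.node (.leaf 83793)
 (.leaf 83808))
 (.node (.leaf 83809)
 (.leaf 83824)))
 (.node (.node (.leaf 83825)
 (.leaf 83840))
 (.node (.leaf 83841)
 (.leaf 83856))))))
 (.node (.node (.node (.node (.node (.leaf 83857)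
 (.leaf 83872))
 (.node (.leaf 83873)
 (.leaf 83889)))
 (.node (.node (.leaf 83904)
 (.leaf 83905))
 (.node (.leaf 83920)
 (.leaf 83921))))
 (.node (.node (.node (.leaf 83936)
 (.leaf 83937))
 (.node (.leaf 83953)
 (.leaf 83968)))
 (.node (.node (.leaf 83969)
 (.leaf 83984))
 (.node (.leaf 84000)
 (.leaf 84001)))))
 (.node (.node (.node (.node (.leaf 84032)
 (.leaf 84033))
 (.node (.leaf 84048)
 (.leaf 84049)))
 (.node (.node (.leaf 84064)
 (.leaf 84080))
 (.node (.leaf 84081)
 (.leaf 84096))))
 (.node (.node (.node (.leaf 84097)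
 (.leaf 84128))
 (.node (.leaf 84144)
 (.leaf 84161)))
 (.node (.node (.leaf 84192)
 (.leaf 84193))
 (.node (.leaf 84208)
 (.leaf 84241))))))

def entTB86 : RT := .node (.node (.node (.node (.node (.node (.leaf 84257)
 (.leaf 84305))
 (.node (.leaf 84321)
 (.leaf 84336)))
 (.node (.node (.leaf 84352)
 (.leaf 84353))
 (.node (.leaf 84384)
 (.leaf 84385))))
 (.node (.node (.node (.leaf 84400)
 (.leaf 84401))
 (.node (.leaf 84416)
 (.leaf 84417)))
 (.node (.node (.leaf 84432)
 (.leaf 84433))
 (.node (.leaf 84448)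
 (.leaf 84464)))))
 (.node (.node (.node (.node (.leaf 84465)
 (.leaf 84480))
 (.node (.leaf 84481)
 (.leaf 84512)))
 (.node (.node (.leaf 84513)
 (.leaf 84528))
 (.node (.leaf 84544)
 (.leaf 84545))))
 (.node (.node (.node (.leaf 84560)
 (.leaf 84577))
 (.node (.leaf 84608)
 (.leaf 84624)))
 (.node (.node (.leaf 84625)
 (.leaf 84641))
 (.node (.leaf 84657)
 (.leaf 84672))))))
 (.node (.node (.node (.node (.node (.leaf 84673)
 (.leaf 84688))
 (.node (.leaf 84720)
 (.leaf 84737)))
 (.node (.node (.leaf 84753)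
 (.leaf 84769))
 (.node (.leaf 84784)
 (.leaf 84785))))
 (.node (.node (.node (.leaf 84801)
 (.leaf 84817))
 (.node (.leaf 84833)
 (.leaf 84881)))
 (.node (.node (.leaf 84912)
 (.leaf 84913))
 (.node (.leaf 84928)
 (.leaf 84961)))))
 (.node (.node (.node (.node (.leaf 84993)
 (.leaf 85008))
 (.node (.leaf 85009)
 (.leaf 85025)))
 (.node (.node (.leaf 85041)
 (.leaf 85056))
 (.node (.leaf 85072)
 (.leaf 85073))))
 (.node (.node (.node (.leaf 85089)
 (.leaf 85105))
 (.node (.leaf 85137)
 (.leaf 85152)))
 (.node (.node (.leaf 85153)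
 (.leaf 85168))
 (.node (.leaf 85169)
 (.leaf 85216))))))

def entTB87 : RT := .node (.node (.node (.node (.node (.node (.leaf 85233)
 (.leaf 85248))
 (.node (.leaf 85297)
 (.leaf 85344)))
 (.node (.node (.leaf 85360)
 (.leaf 85377))
 (.node (.leaf 85393)
 (.leaf 85424))))
 (.node (.node (.node (.leaf 85425)
 (.leaf 85440))
 (.node (.leaf 85456)
 (.leaf 85457)))
 (.node (.node (.leaf 85472)
 (.leaf 85473))
 (.node (.leaf 85488)
 (.leaf 85489)))))
 (.node (.node (.node (.node (.leaf 85504)
 (.leaf 85505))
 (.node (.leaf 85520)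
 (.leaf 85521)))
 (.node (.node (.leaf 85536)
 (.leaf 85537))
 (.node (.leaf 85552)
 (.leaf 85616))))
 (.node (.node (.node (.leaf 85617)
 (.leaf 85648))
 (.node (.leaf 85649)
 (.leaf 85665)))
 (.node (.node (.leaf 85680)
 (.leaf 85696))
 (.node (.leaf 85697)
 (.leaf 85713))))))
 (.node (.node (.node (.node (.node (.leaf 85728)
 (.leaf 85729))
 (.node (.leaf 85744)
 (.leaf 85760)))
 (.node (.node (.leaf 85793)
 (.leaf 85808))
 (.node (.leaf 85809)
 (.leaf 85824))))
 (.node (.node (.node (.leaf 85825)
 (.leaf 85840))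
 (.node (.leaf 85856)
 (.leaf 85857)))
 (.node (.node (.leaf 85889)
 (.leaf 85936))
 (.node (.leaf 85937)
 (.leaf 85952)))))
 (.node (.node (.node (.node (.leaf 85985)
 (.leaf 86000))
 (.node (.leaf 86001)
 (.leaf 86017)))
 (.node (.node (.leaf 86048)
 (.leaf 86049))
 (.node (.leaf 86065)
 (.leaf 86080))))
 (.node (.node (.node (.leaf 86097)
 (.leaf 86113))
 (.node (.leaf 86129)
 (.leaf 86144)))
 (.node (.node (.leaf 86145)
 (.leaf 86160))
 (.node (.leaf 86176)
 (.leaf 86177))))))

def entTB88 : RT := .node (.node (.node (.node (.node (.node (.leaf 86192)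
 (.leaf 86193))
 (.node (.leaf 86208)
 (.leaf 86209)))
 (.node (.node (.leaf 86224)
 (.leaf 86272))
 (.node (.leaf 86273)
 (.leaf 86304))))
 (.node (.node (.node (.leaf 86305)
 (.leaf 86320))
 (.node (.leaf 86321)
 (.leaf 86353)))
 (.node (.node (.leaf 86384)
 (.leaf 86385))
 (.node (.leaf 86401)
 (.leaf 86432)))))
 (.node (.node (.node (.node (.leaf 86448)
 (.leaf 86449))
 (.node (.leaf 86464)
 (.leaf 86465)))
 (.node (.node (.leaf 86480)
 (.leaf 86481))
 (.node (.leaf 86496)
 (.leaf 86497))))
 (.node (.node (.node (.leaf 86528)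
 (.leaf 86529))
 (.node (.leaf 86544)
 (.leaf 86561)))
 (.node (.node (.leaf 86576)
 (.leaf 86577))
 (.node (.leaf 86592)
 (.leaf 86593))))))
 (.node (.node (.node (.node (.node (.leaf 86608)
 (.leaf 86609))
 (.node (.leaf 86624)
 (.leaf 86625)))
 (.node (.node (.leaf 86657)
 (.leaf 86688))
 (.node (.leaf 86704)
 (.leaf 86721))))
 (.node (.node (.node (.leaf 86736)
 (.leaf 86737))
 (.node (.leaf 86752)
 (.leaf 86753)))
 (.node (.node (.leaf 86768)
 (.leaf 86801))
 (.node (.leaf 86832)
 (.leaf 86833)))))
 (.node (.node (.node (.node (.leaf 86864)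
 (.leaf 86881))
 (.node (.leaf 86897)
 (.leaf 86945)))
 (.node (.node (.leaf 86961)
 (.leaf 86976))
 (.node (.leaf 86977)
 (.leaf 86992))))
 (.node (.node (.node (.leaf 87025)
 (.leaf 87056))
 (.node (.leaf 87057)
 (.leaf 87072)))
 (.node (.node (.leaf 87088)
 (.leaf 87089))
 (.node (.leaf 87105)
 (.leaf 87120))))))

def entTB89 : RT := .node (.node (.node (.node (.node (.node (.leaf 87137)
 (.leaf 87153))
 (.node (.leaf 87168)
 (.leaf 87184)))
 (.node (.node (.leaf 87200)
 (.leaf 87217))
 (.node (.leaf 87233)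
 (.leaf 87249))))
 (.node (.node (.node (.leaf 87264)
 (.leaf 87265))
 (.node (.leaf 87296)
 (.leaf 87297)))
 (.node (.node (.leaf 87312)
 (.leaf 87392))
 (.node (.leaf 87393)
 (.leaf 87424)))))
 (.node (.node (.node (.node (.leaf 87425)
 (.leaf 87440))
 (.node (.leaf 87457)
 (.leaf 87472)))
 (.node (.node (.leaf 87488)
 (.leaf 87489))
 (.node (.leaf 87553)
 (.leaf 87568))))
 (.node (.node (.node (.leaf 87569)
 (.leaf 87584))
 (.node (.leaf 87585)
 (.leaf 87632)))
 (.node (.node (.leaf 87633)
 (.leaf 87648))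
 (.node (.leaf 87664)
 (.leaf 87665))))))
 (.node (.node (.node (.node (.node (.leaf 87680)
 (.leaf 87696))
 (.node (.leaf 87712)
 (.leaf 87744)))
 (.node (.node (.leaf 87760)
 (.leaf 87761))
 (.node (.leaf 87776)
 (.leaf 87777))))
 (.node (.node (.node (.leaf 87808)
 (.leaf 87809))
 (.node (.leaf 87825)
 (.leaf 87840)))
 (.node (.node (.leaf 87841)
 (.leaf 87856))
 (.node (.leaf 87872)
 (.leaf 87904)))))
 (.node (.node (.node (.node (.leaf 87937)
 (.leaf 87953))
 (.node (.leaf 87968)
 (.leaf 87985)))
 (.node (.node (.leaf 88000)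
 (.leaf 88016))
 (.node (.leaf 88017)
 (.leaf 88049))))
 (.node (.node (.node (.leaf 88065)
 (.leaf 88080))
 (.node (.leaf 88113)
 (.leaf 88144)))
 (.node (.node (.leaf 88177)
 (.leaf 88224))
 (.node (.leaf 88225)
 (.leaf 88241))))))

def entTB90 : RT := .node (.node (.node (.node (.node (.node (.leaf 88257)
 (.leaf 88273))
 (.node (.leaf 88289)
 (.leaf 88320)))
 (.node (.node (.leaf 88336)
 (.leaf 88352))
 (.node (.leaf 88353)
 (.leaf 88368))))
 (.node (.node (.node (.leaf 88384)
 (.leaf 88417))
 (.node (.leaf 88432)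
 (.leaf 88449)))
 (.node (.node (.leaf 88464)
 (.leaf 88481))
 (.node (.leaf 88513)
 (.leaf 88528)))))
 (.node (.node (.node (.node (.leaf 88529)
 (.leaf 88561))
 (.node (.leaf 88624)
 (.leaf 88657)))
 (.node (.node (.leaf 88673)
 (.leaf 88737))
 (.node (.leaf 88752)
 (.leaf 88753))))
 (.node (.node (.node (.leaf 88768)
 (.leaf 88769))
 (.node (.leaf 88800)
 (.leaf 88801)))
 (.node (.node (.leaf 88816)
 (.leaf 88817))
 (.node (.leaf 88896)
 (.leaf 88945))))))
 (.node (.node (.node (.node (.node (.leaf 88961)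
 (.leaf 88976))
 (.node (.leaf 89025)
 (.leaf 89041)))
 (.node (.node (.leaf 89057)
 (.leaf 89089))
 (.node (.leaf 89104)
 (.leaf 89121))))
 (.node (.node (.node (.leaf 89169)
 (.leaf 89185))
 (.node (.leaf 89201)
 (.leaf 89217)))
 (.node (.node (.leaf 89233)
 (.leaf 89248))
 (.node (.leaf 89264)
 (.leaf 89265)))))
 (.node (.node (.node (.node (.leaf 89280)
 (.leaf 89312))
 (.node (.leaf 89329)
 (.leaf 89361)))
 (.node (.node (.leaf 89392)
 (.leaf 89393))
 (.node (.leaf 89424)
 (.leaf 89425))))
 (.node (.node (.node (.leaf 89473)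
 (.leaf 89489))
 (.node (.leaf 89504)
 (.leaf 89553)))
 (.node (.node (.leaf 89584)
 (.leaf 89585))
 (.node (.leaf 89600)
 (.leaf 89601))))))

def entTB91 : RT := .node (.node (.node (.node (.node (.node (.leaf 89616)
 (.leaf 89617))
 (.node (.leaf 89648)
 (.leaf 89664)))
 (.node (.node (.leaf 89665)
 (.leaf 89696))
 (.node (.leaf 89697)
 (.leaf 89712))))
 (.node (.node (.node (.leaf 89713)
 (.leaf 89728))
 (.node (.leaf 89729)
 (.leaf 89744)))
 (.node (.node (.leaf 89760)
 (.leaf 89776))
 (.node (.leaf 89777)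
 (.leaf 89792)))))
 (.node (.node (.node (.node (.leaf 89793)
 (.leaf 89809))
 (.node (.leaf 89824)
 (.leaf 89825)))
 (.node (.node (.leaf 89840)
 (.leaf 89857))
 (.node (.leaf 89889)
 (.leaf 89904))))
 (.node (.node (.node (.leaf 89905)
 (.leaf 89921))
 (.node (.leaf 89937)
 (.leaf 89984)))
 (.node (.node (.leaf 90000)
 (.leaf 90017))
 (.node (.leaf 90048)
 (.leaf 90064))))))
 (.node (.node (.node (.node (.node (.leaf 90128)
 (.leaf 90144))
 (.node (.leaf 90160)
 (.leaf 90161)))
 (.node (.node (.leaf 90208)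
 (.leaf 90209))
 (.node (.leaf 90240)
 (.leaf 90256))))
 (.node (.node (.node (.leaf 90273)
 (.leaf 90288))
 (.node (.leaf 90305)
 (.leaf 90321)))
 (.node (.node (.leaf 90353)
 (.leaf 90400))
 (.node (.leaf 90401)
 (.leaf 90433)))))
 (.node (.node (.node (.node (.leaf 90448)
 (.leaf 90449))
 (.node (.leaf 90465)
 (.leaf 90513)))
 (.node (.node (.leaf 90529)
 (.leaf 90560))
 (.node (.leaf 90561)
 (.leaf 90576))))
 (.node (.node (.node (.leaf 90608)
 (.leaf 90609))
 (.node (.leaf 90625)
 (.leaf 90640)))
 (.node (.node (.leaf 90673)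
 (.leaf 90688))
 (.node (.leaf 90704)
 (.leaf 90720))))))

def entTB92 : RT := .node (.node (.node (.node (.node (.node (.leaf 90721)
 (.leaf 90737))
 (.node (.leaf 90752)
 (.leaf 90768)))
 (.node (.node (.leaf 90801)
 (.leaf 90816))
 (.node (.leaf 90833)
 (.leaf 90848))))
 (.node (.node (.node (.leaf 90913)
 (.leaf 91008))
 (.node (.leaf 91009)
 (.leaf 91041)))
 (.node (.node (.leaf 91073)
 (.leaf 91088))
 (.node (.leaf 91104)
 (.leaf 91120)))))
 (.node (.node (.node (.node (.leaf 91153)
 (.leaf 91168))
 (.node (.leaf 91185)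
 (.leaf 91249)))
 (.node (.node (.leaf 91313)
 (.leaf 91328))
 (.node (.leaf 91344)
 (.leaf 91360))))
 (.node (.node (.node (.leaf 91472)
 (.leaf 91473))
 (.node (.leaf 91489)
 (.leaf 91521)))
 (.node (.node (.leaf 91553)
 (.leaf 91584))
 (.node (.leaf 91585)
 (.leaf 91681))))))
 (.node (.node (.node (.node (.node (.leaf 91696)
 (.leaf 91776))
 (.node (.leaf 91825)
 (.leaf 91841)))
 (.node (.node (.leaf 91904)
 (.leaf 91905))
 (.node (.leaf 91985)
 (.leaf 92017))))
 (.node (.node (.node (.leaf 92048)
 (.leaf 92113))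
 (.node (.leaf 92145)
 (.leaf 92161)))
 (.node (.node (.leaf 92225)
 (.leaf 92241))
 (.node (.leaf 92257)
 (.leaf 92273)))))
 (.node (.node (.node (.node (.leaf 92385)
 (.leaf 92497))
 (.node (.leaf 92577)
 (.leaf 92641)))
 (.node (.node (.leaf 92656)
 (.leaf 92721))
 (.node (.leaf 92784)
 (.leaf 92785))))
 (.node (.node (.node (.leaf 92848)
 (.leaf 92865))
 (.node (.leaf 92912)
 (.leaf 92913)))
 (.node (.node (.leaf 92960)
 (.leaf 92976))
 (.node (.leaf 93009)
 (.leaf 93025))))))

def entTB93 : RT := .node (.node (.node (.node (.node (.node (.leaf 93056)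
 (.leaf 93105))
 (.node (.leaf 93120)
 (.leaf 93121)))
 (.node (.node (.leaf 93169)
 (.leaf 93232))
 (.node (.leaf 93249)
 (.leaf 93265))))
 (.node (.node (.node (.leaf 93280)
 (.leaf 93313))
 (.node (.leaf 93328)
 (.leaf 93344)))
 (.node (.node (.leaf 93392)
 (.leaf 93409))
 (.node (.leaf 93472)
 (.leaf 93489)))))
 (.node (.node (.node (.node (.leaf 93521)
 (.leaf 93536))
 (.node (.leaf 93568)
 (.leaf 93584)))
 (.node (.node (.leaf 93664)
 (.leaf 93665))
 (.node (.leaf 93681)
 (.leaf 93696))))
 (.node (.node (.node (.leaf 93729)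
 (.leaf 93760))
 (.node (.leaf 93776)
 (.leaf 93937)))
 (.node (.node (.leaf 94001)
 (.leaf 94017))
 (.node (.leaf 94032)
 (.leaf 94065))))))
 (.node (.node (.node (.node (.node (.leaf 94112)
 (.leaf 94144))
 (.node (.leaf 94240)
 (.leaf 94256)))
 (.node (.node (.leaf 94304)
 (.leaf 94353))
 (.node (.leaf 94561)
 (.leaf 94784))))
 (.node (.node (.node (.leaf 95009)
 (.leaf 95072))
 (.node (.leaf 95105)
 (.leaf 95136)))
 (.node (.node (.leaf 95185)
 (.leaf 95425))
 (.node (.leaf 95440)
 (.leaf 95488)))))
 (.node (.node (.node (.node (.leaf 95888)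
 (.leaf 96021))
 (.node (.leaf 96016)
 (.leaf 96017)))
 (.node (.node (.leaf 96032)
 (.leaf 96033))
 (.node (.leaf 96048)
 (.leaf 96049))))
 (.node (.node (.node (.leaf 96064)
 (.leaf 96065))
 (.node (.leaf 96080)
 (.leaf 96081)))
 (.node (.node (.leaf 96096)
 (.leaf 96097))
 (.node (.leaf 96112)
 (.leaf 96113))))))

def entTB94 : RT := .node (.node (.node (.node (.node (.node (.leaf 96129)
 (.leaf 96144))
 (.node (.leaf 96145)
 (.leaf 96160)))
 (.node (.node (.leaf 96161)
 (.leaf 96176))
 (.node (.leaf 96177)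
 (.leaf 96192))))
 (.node (.node (.node (.leaf 96193)
 (.leaf 96208))
 (.node (.leaf 96209)
 (.leaf 96224)))
 (.node (.node (.leaf 96225)
 (.leaf 96240))
 (.node (.leaf 96241)
 (.leaf 96256)))))
 (.node (.node (.node (.node (.leaf 96257)
 (.leaf 96272))
 (.node (.leaf 96273)
 (.leaf 96288)))
 (.node (.node (.leaf 96289)
 (.leaf 96304))
 (.node (.leaf 96305)
 (.leaf 96320))))
 (.node (.node (.node (.leaf 96321)
 (.leaf 96336))
 (.node (.leaf 96337)
 (.leaf 96352)))
 (.node (.node (.leaf 96353)
 (.leaf 96369))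
 (.node (.leaf 96384)
 (.leaf 96385))))))
 (.node (.node (.node (.node (.node (.leaf 96400)
 (.leaf 96416))
 (.node (.leaf 96417)
 (.leaf 96432)))
 (.node (.node (.leaf 96433)
 (.leaf 96448))
 (.node (.leaf 96449)
 (.leaf 96464))))
 (.node (.node (.node (.leaf 96465)
 (.leaf 96480))
 (.node (.leaf 96481)
 (.leaf 96496)))
 (.node (.node (.leaf 96497)
 (.leaf 96512))
 (.node (.leaf 96513)
 (.leaf 96528)))))
 (.node (.node (.node (.node (.leaf 96529)
 (.leaf 96544))
 (.node (.leaf 96545)
 (.leaf 96560)))
 (.node (.node (.leaf 96561)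
 (.leaf 96576))
 (.node (.leaf 96577)
 (.leaf 96593))))
 (.node (.node (.node (.leaf 96608)
 (.leaf 96609))
 (.node (.leaf 96624)
 (.leaf 96640)))
 (.node (.node (.leaf 96641)
 (.leaf 96656))
 (.node (.leaf 96657)
 (.leaf 96672))))))

def entTB95 : RT := .node (.node (.node (.node (.node (.node (.leaf 96673)
 (.leaf 96688))
 (.node (.leaf 96689)
 (.leaf 96704)))
 (.node (.node (.leaf 96705)
 (.leaf 96720))
 (.node (.leaf 96721)
 (.leaf 96736))))
 (.node (.node (.node (.leaf 96737)
 (.leaf 96752))
 (.node (.leaf 96753)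
 (.leaf 96768)))
 (.node (.node (.leaf 96769)
 (.leaf 96784))
 (.node (.leaf 96785)
 (.leaf 96800)))))
 (.node (.node (.node (.node (.leaf 96801)
 (.leaf 96817))
 (.node (.leaf 96832)
 (.leaf 96833)))
 (.node (.node (.leaf 96848)
 (.leaf 96864))
 (.node (.leaf 96865)
 (.leaf 96880))))
 (.node (.node (.node (.leaf 96881)
 (.leaf 96896))
 (.node (.leaf 96897)
 (.leaf 96912)))
 (.node (.node (.leaf 96913)
 (.leaf 96928))
 (.node (.leaf 96929)
 (.leaf 96944))))))
 (.node (.node (.node (.node (.node (.leaf 96945)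
 (.leaf 96960))
 (.node (.leaf 96961)
 (.leaf 96976)))
 (.node (.node (.leaf 96977)
 (.leaf 96992))
 (.node (.leaf 96993)
 (.leaf 97009))))
 (.node (.node (.node (.leaf 97024)
 (.leaf 97025))
 (.node (.leaf 97040)
 (.leaf 97056)))
 (.node (.node (.leaf 97057)
 (.leaf 97072))
 (.node (.leaf 97073)
 (.leaf 97088)))))
 (.node (.node (.node (.node (.leaf 97089)
 (.leaf 97104))
 (.node (.leaf 97105)
 (.leaf 97120)))
 (.node (.node (.leaf 97121)
 (.leaf 97136))
 (.node (.leaf 97137)
 (.leaf 97152))))
 (.node (.node (.node (.leaf 97153)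
 (.leaf 97168))
 (.node (.leaf 97169)
 (.leaf 97184)))
 (.node (.node (.leaf 97185)
 (.leaf 97200))
 (.node (.leaf 97201)
 (.leaf 97216))))))

def entTB96 : RT := .node (.node (.node (.node (.node (.node (.leaf 97217)
 (.leaf 97233))
 (.node (.leaf 97248)
 (.leaf 97249)))
 (.node (.node (.leaf 97264)
 (.leaf 97280))
 (.node (.leaf 97281)
 (.leaf 97296))))
 (.node (.node (.node (.leaf 97297)
 (.leaf 97312))
 (.node (.leaf 97313)
 (.leaf 97328)))
 (.node (.node (.leaf 97329)
 (.leaf 97344))
 (.node (.leaf 97345)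
 (.leaf 97360)))))
 (.node (.node (.node (.node (.leaf 97361)
 (.leaf 97376))
 (.node (.leaf 97377)
 (.leaf 97392)))
 (.node (.node (.leaf 97393)
 (.leaf 97408))
 (.node (.leaf 97409)
 (.leaf 97424))))
 (.node (.node (.node (.leaf 97425)
 (.leaf 97440))
 (.node (.leaf 97441)
 (.leaf 97457)))
 (.node (.node (.leaf 97472)
 (.leaf 97473))
 (.node (.leaf 97488)
 (.leaf 97489))))))
 (.node (.node (.node (.node (.node (.leaf 97504)
 (.leaf 97505))
 (.node (.leaf 97520)
 (.leaf 97521)))
 (.node (.node (.leaf 97536)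
 (.leaf 97537))
 (.node (.leaf 97552)
 (.leaf 97553))))
 (.node (.node (.node (.leaf 97568)
 (.leaf 97569))
 (.node (.leaf 97584)
 (.leaf 97585)))
 (.node (.node (.leaf 97600)
 (.leaf 97616))
 (.node (.leaf 97617)
 (.leaf 97632)))))
 (.node (.node (.node (.node (.leaf 97633)
 (.leaf 97649))
 (.node (.leaf 97664)
 (.leaf 97665)))
 (.node (.node (.leaf 97680)
 (.leaf 97696))
 (.node (.leaf 97697)
 (.leaf 97712))))
 (.node (.node (.node (.leaf 97713)
 (.leaf 97728))
 (.node (.leaf 97729)
 (.leaf 97744)))
 (.node (.node (.leaf 97745)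
 (.leaf 97760))
 (.node (.leaf 97777)
 (.leaf 97792))))))

def entTB97 : RT := .node (.node (.node (.node (.node (.node (.leaf 97793)
 (.leaf 97808))
 (.node (.leaf 97824)
 (.leaf 97825)))
 (.node (.node (.leaf 97840)
 (.leaf 97841))
 (.node (.leaf 97856)
 (.leaf 97857))))
 (.node (.node (.node (.leaf 97872)
 (.leaf 97873))
 (.node (.leaf 97888)
 (.leaf 97889)))
 (.node (.node (.leaf 97904)
 (.leaf 97905))
 (.node (.leaf 97920)
 (.leaf 97921)))))
 (.node (.node (.node (.node (.leaf 97936)
 (.leaf 97937))
 (.node (.leaf 97952)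
 (.leaf 97953)))
 (.node (.node (.leaf 97968)
 (.leaf 97969))
 (.node (.leaf 97984)
 (.leaf 97985))))
 (.node (.node (.node (.leaf 98001)
 (.leaf 98016))
 (.node (.leaf 98017)
 (.leaf 98032)))
 (.node (.node (.leaf 98048)
 (.leaf 98049))
 (.node (.leaf 98064)
 (.leaf 98065))))))
 (.node (.node (.node (.node (.node (.leaf 98080)
 (.leaf 98081))
 (.node (.leaf 98096)
 (.leaf 98097)))
 (.node (.node (.leaf 98112)
 (.leaf 98113))
 (.node (.leaf 98128)
 (.leaf 98129))))
 (.node (.node (.node (.leaf 98144)
 (.leaf 98145))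
 (.node (.leaf 98160)
 (.leaf 98161)))
 (.node (.node (.leaf 98176)
 (.leaf 98177))
 (.node (.leaf 98192)
 (.leaf 98193)))))
 (.node (.node (.node (.node (.leaf 98208)
 (.leaf 98209))
 (.node (.leaf 98225)
 (.leaf 98240)))
 (.node (.node (.leaf 98241)
 (.leaf 98256))
 (.node (.leaf 98257)
 (.leaf 98272))))
 (.node (.node (.node (.leaf 98273)
 (.leaf 98288))
 (.node (.leaf 98289)
 (.leaf 98304)))
 (.node (.node (.leaf 98305)
 (.leaf 98320))
 (.node (.leaf 98321)
 (.leaf 98336))))))

def entTB98 : RT := .node (.node (.node (.node (.node (.node (.leaf 98337)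
 (.leaf 98352))
 (.node (.leaf 98353)
 (.leaf 98368)))
 (.node (.node (.leaf 98384)
 (.leaf 98385))
 (.node (.leaf 98400)
 (.leaf 98401))))
 (.node (.node (.node (.leaf 98417)
 (.leaf 98432))
 (.node (.leaf 98433)
 (.leaf 98448)))
 (.node (.node (.leaf 98464)
 (.leaf 98465))
 (.node (.leaf 98480)
 (.leaf 98481)))))
 (.node (.node (.node (.node (.leaf 98496)
 (.leaf 98497))
 (.node (.leaf 98512)
 (.leaf 98528)))
 (.node (.node (.leaf 98544)
 (.leaf 98545))
 (.node (.leaf 98560)
 (.leaf 98561))))
 (.node (.node (.node (.leaf 98576)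
 (.leaf 98592))
 (.node (.leaf 98593)
 (.leaf 98609)))
 (.node (.node (.leaf 98624)
 (.leaf 98625))
 (.node (.leaf 98656)
 (.leaf 98657))))))
 (.node (.node (.node (.node (.node (.leaf 98672)
 (.leaf 98688))
 (.node (.leaf 98689)
 (.leaf 98704)))
 (.node (.node (.leaf 98705)
 (.leaf 98720))
 (.node (.leaf 98721)
 (.leaf 98736))))
 (.node (.node (.node (.leaf 98737)
 (.leaf 98752))
 (.node (.leaf 98753)
 (.leaf 98768)))
 (.node (.node (.leaf 98769)
 (.leaf 98785))
 (.node (.leaf 98800)
 (.leaf 98801)))))
 (.node (.node (.node (.node (.leaf 98816)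
 (.leaf 98832))
 (.node (.leaf 98833)
 (.leaf 98848)))
 (.node (.node (.leaf 98849)
 (.leaf 98864))
 (.node (.leaf 98865)
 (.leaf 98880))))
 (.node (.node (.node (.leaf 98881)
 (.leaf 98896))
 (.node (.leaf 98897)
 (.leaf 98912)))
 (.node (.node (.leaf 98913)
 (.leaf 98928))
 (.node (.leaf 98929)
 (.leaf 98944))))))

def entTB99 : RT := .node (.node (.node (.node (.node (.node (.leaf 98945)
 (.leaf 98960))
 (.node (.leaf 98961)
 (.leaf 98976)))
 (.node (.node (.leaf 98977)
 (.leaf 98993))
 (.node (.leaf 99009)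
 (.leaf 99024))))
 (.node (.node (.node (.leaf 99025)
 (.leaf 99040))
 (.node (.leaf 99041)
 (.leaf 99056)))
 (.node (.node (.leaf 99057)
 (.leaf 99072))
 (.node (.leaf 99073)
 (.leaf 99088)))))
 (.node (.node (.node (.node (.leaf 99089)
 (.leaf 99104))
 (.node (.leaf 99105)
 (.leaf 99120)))
 (.node (.node (.leaf 99121)
 (.leaf 99136))
 (.node (.leaf 99152)
 (.leaf 99153))))
 (.node (.node (.node (.leaf 99168)
 (.leaf 99169))
 (.node (.leaf 99185)
 (.leaf 99200)))
 (.node (.node (.leaf 99201)
 (.leaf 99216))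
 (.node (.leaf 99232)
 (.leaf 99233))))))
 (.node (.node (.node (.node (.node (.leaf 99248)
 (.leaf 99264))
 (.node (.leaf 99265)
 (.leaf 99280)))
 (.node (.node (.leaf 99281)
 (.leaf 99296))
 (.node (.leaf 99297)
 (.leaf 99312))))
 (.node (.node (.node (.leaf 99313)
 (.leaf 99329))
 (.node (.leaf 99344)
 (.leaf 99345)))
 (.node (.node (.leaf 99360)
 (.leaf 99361))
 (.node (.leaf 99376)
 (.leaf 99377)))))
 (.node (.node (.node (.node (.leaf 99393)
 (.leaf 99408))
 (.node (.leaf 99409)
 (.leaf 99424)))
 (.node (.node (.leaf 99440)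
 (.leaf 99441))
 (.node (.leaf 99456)
 (.leaf 99457))))
 (.node (.node (.node (.leaf 99472)
 (.leaf 99473))
 (.node (.leaf 99488)
 (.leaf 99489)))
 (.node (.node (.leaf 99504)
 (.leaf 99505))
 (.node (.leaf 99520)
 (.leaf 99521))))))

def entTB100 : RT := .node (.node (.node (.node (.node (.node (.leaf 99536)
 (.leaf 99537))
 (.node (.leaf 99552)
 (.leaf 99553)))
 (.node (.node (.leaf 99568)
 (.leaf 99569))
 (.node (.leaf 99584)
 (.leaf 99585))))
 (.node (.node (.node (.leaf 99600)
 (.leaf 99601))
 (.node (.leaf 99617)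
 (.leaf 99632)))
 (.node (.node (.leaf 99633)
 (.leaf 99648))
 (.node (.leaf 99649)
 (.leaf 99664)))))
 (.node (.node (.node (.node (.leaf 99665)
 (.leaf 99680))
 (.node (.leaf 99681)
 (.leaf 99696)))
 (.node (.node (.leaf 99697)
 (.leaf 99712))
 (.node (.leaf 99713)
 (.leaf 99728))))
 (.node (.node (.node (.leaf 99729)
 (.leaf 99744))
 (.node (.leaf 99745)
 (.leaf 99760)))
 (.node (.node (.leaf 99776)
 (.leaf 99777))
 (.node (.leaf 99792)
 (.leaf 99793))))))
 (.node (.node (.node (.node (.node (.leaf 99809)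
 (.leaf 99824))
 (.node (.leaf 99825)
 (.leaf 99840)))
 (.node (.node (.leaf 99856)
 (.leaf 99857))
 (.node (.leaf 99872)
 (.leaf 99873))))
 (.node (.node (.node (.leaf 99888)
 (.leaf 99889))
 (.node (.leaf 99904)
 (.leaf 99920)))
 (.node (.node (.leaf 99936)
 (.leaf 99937))
 (.node (.leaf 99952)
 (.leaf 99953)))))
 (.node (.node (.node (.node (.leaf 99968)
 (.leaf 99984))
 (.node (.leaf 99985)
 (.leaf 100001)))
 (.node (.node (.leaf 100016)
 (.leaf 100017))
 (.node (.leaf 100049)
 (.leaf 100064))))
 (.node (.node (.node (.leaf 100080)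
 (.leaf 100081))
 (.node (.leaf 100096)
 (.leaf 100097)))
 (.node (.node (.leaf 100112)
 (.leaf 100113))
 (.node (.leaf 100128)
 (.leaf 100129))))))

def entTB101 : RT := .node (.node (.node (.node (.node (.node (.leaf 100144)
 (.leaf 100145))
 (.node (.leaf 100160)
 (.leaf 100161)))
 (.node (.node (.leaf 100177)
 (.leaf 100192))
 (.node (.leaf 100193)
 (.leaf 100208))))
 (.node (.node (.node (.leaf 100224)
 (.leaf 100225))
 (.node (.leaf 100240)
 (.leaf 100241)))
 (.node (.node (.leaf 100256)
 (.leaf 100257))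
 (.node (.leaf 100272)
 (.leaf 100273)))))
 (.node (.node (.node (.node (.leaf 100288)
 (.leaf 100289))
 (.node (.leaf 100304)
 (.leaf 100305)))
 (.node (.node (.leaf 100320)
 (.leaf 100321))
 (.node (.leaf 100336)
 (.leaf 100337))))
 (.node (.node (.node (.leaf 100352)
 (.leaf 100353))
 (.node (.leaf 100368)
 (.leaf 100369)))
 (.node (.node (.leaf 100385)
 (.leaf 100401))
 (.node (.leaf 100416)
 (.leaf 100417))))))
 (.node (.node (.node (.node (.node (.leaf 100432)
 (.leaf 100433))
 (.node (.leaf 100448)
 (.leaf 100449)))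
 (.node (.node (.leaf 100464)
 (.leaf 100465))
 (.node (.leaf 100481)
 (.leaf 100496))))
 (.node (.node (.node (.leaf 100497)
 (.leaf 100512))
 (.node (.leaf 100513)
 (.leaf 100528)))
 (.node (.node (.leaf 100544)
 (.leaf 100545))
 (.node (.leaf 100560)
 (.leaf 100561)))))
 (.node (.node (.node (.node (.leaf 100577)
 (.leaf 100592))
 (.node (.leaf 100593)
 (.leaf 100608)))
 (.node (.node (.leaf 100624)
 (.leaf 100625))
 (.node (.leaf 100640)
 (.leaf 100656))))
 (.node (.node (.node (.leaf 100657)
 (.leaf 100673))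
 (.node (.leaf 100688)
 (.leaf 100689)))
 (.node (.node (.leaf 100704)
 (.leaf 100720))
 (.node (.leaf 100721)
 (.leaf 100736))))))

def entTB102 : RT := .node (.node (.node (.node (.node (.node (.leaf 100737)
 (.leaf 100752))
 (.node (.leaf 100753)
 (.leaf 100768)))
 (.node (.node (.leaf 100784)
 (.leaf 100785))
 (.node (.leaf 100800)
 (.leaf 100816))))
 (.node (.node (.node (.leaf 100817)
 (.leaf 100832))
 (.node (.leaf 100833)
 (.leaf 100848)))
 (.node (.node (.leaf 100865)
 (.leaf 100880))
 (.node (.leaf 100896)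
 (.leaf 100897)))))
 (.node (.node (.node (.node (.leaf 100912)
 (.leaf 100913))
 (.node (.leaf 100928)
 (.leaf 100929)))
 (.node (.node (.leaf 100945)
 (.leaf 100960))
 (.node (.leaf 100961)
 (.leaf 100976))))
 (.node (.node (.node (.leaf 100977)
 (.leaf 100992))
 (.node (.leaf 100993)
 (.leaf 101008)))
 (.node (.node (.leaf 101009)
 (.leaf 101025))
 (.node (.leaf 101040)
 (.leaf 101056))))))
 (.node (.node (.node (.node (.node (.leaf 101072)
 (.leaf 101073))
 (.node (.leaf 101088)
 (.leaf 101089)))
 (.node (.node (.leaf 101105)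
 (.leaf 101120))
 (.node (.leaf 101136)
 (.leaf 101137))))
 (.node (.node (.node (.leaf 101152)
 (.leaf 101153))
 (.node (.leaf 101169)
 (.leaf 101184)))
 (.node (.node (.leaf 101185)
 (.leaf 101200))
 (.node (.leaf 101216)
 (.leaf 101217)))))
 (.node (.node (.node (.node (.leaf 101232)
 (.leaf 101233))
 (.node (.leaf 101248)
 (.leaf 101249)))
 (.node (.node (.leaf 101264)
 (.leaf 101296))
 (.node (.leaf 101297)
 (.leaf 101312))))
 (.node (.node (.node (.leaf 101313)
 (.leaf 101344))
 (.node (.leaf 101345)
 (.leaf 101361)))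
 (.node (.node (.leaf 101376)
 (.leaf 101377))
 (.node (.leaf 101408)
 (.leaf 101409))))))

def entTB103 : RT := .node (.node (.node (.node (.node (.node (.leaf 101424)
 (.leaf 101440))
 (.node (.leaf 101441)
 (.leaf 101456)))
 (.node (.node (.leaf 101457)
 (.leaf 101472))
 (.node (.leaf 101505)
 (.leaf 101537))))
 (.node (.node (.node (.leaf 101552)
 (.leaf 101553))
 (.node (.leaf 101568)
 (.leaf 101569)))
 (.node (.node (.leaf 101585)
 (.leaf 101600))
 (.node (.leaf 101601)
 (.leaf 101616)))))
 (.node (.node (.node (.node (.leaf 101617)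
 (.leaf 101633))
 (.node (.leaf 101648)
 (.leaf 101649)))
 (.node (.node (.leaf 101664)
 (.leaf 101665))
 (.node (.leaf 101680)
 (.leaf 101681))))
 (.node (.node (.node (.leaf 101697)
 (.leaf 101713))
 (.node (.leaf 101729)
 (.leaf 101744)))
 (.node (.node (.leaf 101745)
 (.leaf 101760))
 (.node (.leaf 101761)
 (.leaf 101776))))))
 (.node (.node (.node (.node (.node (.leaf 101777)
 (.leaf 101792))
 (.node (.leaf 101793)
 (.leaf 101808)))
 (.node (.node (.leaf 101809)
 (.leaf 101824))
 (.node (.leaf 101825)
 (.leaf 101856))))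
 (.node (.node (.node (.leaf 101857)
 (.leaf 101872))
 (.node (.leaf 101873)
 (.leaf 101889)))
 (.node (.node (.leaf 101904)
 (.leaf 101920))
 (.node (.leaf 101921)
 (.leaf 101952)))))
 (.node (.node (.node (.node (.leaf 101953)
 (.leaf 101968))
 (.node (.leaf 101969)
 (.leaf 101984)))
 (.node (.node (.leaf 101985)
 (.leaf 102000))
 (.node (.leaf 102016)
 (.leaf 102017))))
 (.node (.node (.node (.leaf 102032)
 (.leaf 102033))
 (.node (.leaf 102064)
 (.leaf 102065)))
 (.node (.node (.leaf 102080)
 (.leaf 102081))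
 (.node (.leaf 102096)
 (.leaf 102097))))))

def entTB104 : RT := .node (.node (.node (.node (.node (.node (.leaf 102112)
 (.leaf 102113))
 (.node (.leaf 102128)
 (.leaf 102129)))
 (.node (.node (.leaf 102144)
 (.leaf 102145))
 (.node (.leaf 102160)
 (.leaf 102161))))
 (.node (.node (.node (.leaf 102176)
 (.leaf 102177))
 (.node (.leaf 102192)
 (.leaf 102208)))
 (.node (.node (.leaf 102209)
 (.leaf 102224))
 (.node (.leaf 102225)
 (.leaf 102241)))))
 (.node (.node (.node (.node (.leaf 102256)
 (.leaf 102257))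
 (.node (.leaf 102272)
 (.leaf 102288)))
 (.node (.node (.leaf 102289)
 (.leaf 102304))
 (.node (.leaf 102305)
 (.leaf 102320))))
 (.node (.node (.node (.leaf 102321)
 (.leaf 102336))
 (.node (.leaf 102352)
 (.leaf 102369)))
 (.node (.node (.leaf 102384)
 (.leaf 102385))
 (.node (.leaf 102400)
 (.leaf 102416))))))
 (.node (.node (.node (.node (.node (.leaf 102417)
 (.leaf 102433))
 (.node (.leaf 102448)
 (.leaf 102449)))
 (.node (.node (.leaf 102496)
 (.leaf 102512))
 (.node (.leaf 102513)
 (.leaf 102528))))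
 (.node (.node (.node (.leaf 102529)
 (.leaf 102544))
 (.node (.leaf 102545)
 (.leaf 102560)))
 (.node (.node (.leaf 102561)
 (.leaf 102576))
 (.node (.leaf 102577)
 (.leaf 102592)))))
 (.node (.node (.node (.node (.leaf 102593)
 (.leaf 102609))
 (.node (.leaf 102625)
 (.leaf 102640)))
 (.node (.node (.leaf 102656)
 (.leaf 102657))
 (.node (.leaf 102672)
 (.leaf 102673))))
 (.node (.node (.node (.leaf 102688)
 (.leaf 102689))
 (.node (.leaf 102704)
 (.leaf 102705)))
 (.node (.node (.leaf 102720)
 (.leaf 102721))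
 (.node (.leaf 102736)
 (.leaf 102737))))))

def entTB105 : RT := .node (.node (.node (.node (.node (.node (.leaf 102752)
 (.leaf 102753))
 (.node (.leaf 102768)
 (.leaf 102769)))
 (.node (.node (.leaf 102784)
 (.leaf 102785))
 (.node (.leaf 102800)
 (.leaf 102801))))
 (.node (.node (.node (.leaf 102817)
 (.leaf 102833))
 (.node (.leaf 102848)
 (.leaf 102864)))
 (.node (.node (.leaf 102865)
 (.leaf 102880))
 (.node (.leaf 102881)
 (.leaf 102896)))))
 (.node (.node (.node (.node (.leaf 102897)
 (.leaf 102913))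
 (.node (.leaf 102928)
 (.leaf 102929)))
 (.node (.node (.leaf 102944)
 (.leaf 102945))
 (.node (.leaf 102960)
 (.leaf 102976))))
 (.node (.node (.node (.leaf 102977)
 (.leaf 102992))
 (.node (.leaf 102993)
 (.leaf 103009)))
 (.node (.node (.leaf 103024)
 (.leaf 103025))
 (.node (.leaf 103040)
 (.leaf 103056))))))
 (.node (.node (.node (.node (.node (.leaf 103057)
 (.leaf 103072))
 (.node (.leaf 103088)
 (.leaf 103089)))
 (.node (.node (.leaf 103105)
 (.leaf 103120))
 (.node (.leaf 103121)
 (.leaf 103136))))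
 (.node (.node (.node (.leaf 103152)
 (.leaf 103153))
 (.node (.leaf 103168)
 (.leaf 103169)))
 (.node (.node (.leaf 103184)
 (.leaf 103185))
 (.node (.leaf 103200)
 (.leaf 103216)))))
 (.node (.node (.node (.node (.leaf 103217)
 (.leaf 103232))
 (.node (.leaf 103248)
 (.leaf 103249)))
 (.node (.node (.leaf 103264)
 (.leaf 103281))
 (.node (.leaf 103312)
 (.leaf 103313))))
 (.node (.node (.node (.leaf 103328)
 (.leaf 103329))
 (.node (.leaf 103344)
 (.leaf 103345)))
 (.node (.node (.leaf 103361)
 (.leaf 103376))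
 (.node (.leaf 103377)
 (.leaf 103392))))))

def entTB106 : RT := .node (.node (.node (.node (.node (.node (.leaf 103393)
 (.leaf 103408))
 (.node (.leaf 103409)
 (.leaf 103424)))
 (.node (.node (.leaf 103425)
 (.leaf 103441))
 (.node (.leaf 103456)
 (.leaf 103472))))
 (.node (.node (.node (.leaf 103488)
 (.leaf 103489))
 (.node (.leaf 103504)
 (.leaf 103521)))
 (.node (.node (.leaf 103536)
 (.leaf 103552))
 (.node (.leaf 103553)
 (.leaf 103568)))))
 (.node (.node (.node (.node (.leaf 103569)
 (.leaf 103585))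
 (.node (.leaf 103600)
 (.leaf 103601)))
 (.node (.node (.leaf 103616)
 (.leaf 103632))
 (.node (.leaf 103633)
 (.leaf 103648))))
 (.node (.node (.node (.leaf 103649)
 (.leaf 103664))
 (.node (.leaf 103665)
 (.leaf 103680)))
 (.node (.node (.leaf 103712)
 (.leaf 103713))
 (.node (.leaf 103728)
 (.leaf 103729))))))
 (.node (.node (.node (.node (.node (.leaf 103760)
 (.leaf 103761))
 (.node (.leaf 103777)
 (.leaf 103792)))
 (.node (.node (.leaf 103793)
 (.leaf 103824))
 (.node (.leaf 103825)
 (.leaf 103840))))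
 (.node (.node (.node (.leaf 103856)
 (.leaf 103857))
 (.node (.leaf 103872)
 (.leaf 103873)))
 (.node (.node (.leaf 103888)
 (.leaf 103921))
 (.node (.leaf 103953)
 (.leaf 103968)))))
 (.node (.node (.node (.node (.leaf 103969)
 (.leaf 103984))
 (.node (.leaf 103985)
 (.leaf 104001)))
 (.node (.node (.leaf 104016)
 (.leaf 104017))
 (.node (.leaf 104033)
 (.leaf 104048))))
 (.node (.node (.node (.leaf 104049)
 (.leaf 104064))
 (.node (.leaf 104065)
 (.leaf 104080)))
 (.node (.node (.leaf 104081)
 (.leaf 104097))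
 (.node (.leaf 104113)
 (.leaf 104129))))))

def entTB107 : RT := .node (.node (.node (.node (.node (.node (.leaf 104144)
 (.leaf 104160))
 (.node (.leaf 104161)
 (.leaf 104176)))
 (.node (.node (.leaf 104177)
 (.leaf 104192))
 (.node (.leaf 104193)
 (.leaf 104208))))
 (.node (.node (.node (.leaf 104209)
 (.leaf 104224))
 (.node (.leaf 104225)
 (.leaf 104256)))
 (.node (.node (.leaf 104257)
 (.leaf 104272))
 (.node (.leaf 104273)
 (.leaf 104289)))))
 (.node (.node (.node (.node (.leaf 104320)
 (.leaf 104321))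
 (.node (.leaf 104336)
 (.leaf 104337)))
 (.node (.node (.leaf 104352)
 (.leaf 104353))
 (.node (.leaf 104369)
 (.leaf 104384))))
 (.node (.node (.node (.leaf 104385)
 (.leaf 104400))
 (.node (.leaf 104416)
 (.leaf 104417)))
 (.node (.node (.leaf 104433)
 (.leaf 104448))
 (.node (.leaf 104449)
 (.leaf 104464))))))
 (.node (.node (.node (.node (.node (.leaf 104465)
 (.leaf 104480))
 (.node (.leaf 104481)
 (.leaf 104496)))
 (.node (.node (.leaf 104497)
 (.leaf 104512))
 (.node (.leaf 104513)
 (.leaf 104528))))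
 (.node (.node (.node (.leaf 104529)
 (.leaf 104545))
 (.node (.leaf 104560)
 (.leaf 104576)))
 (.node (.node (.leaf 104577)
 (.leaf 104593))
 (.node (.leaf 104608)
 (.leaf 104609)))))
 (.node (.node (.node (.node (.leaf 104640)
 (.leaf 104656))
 (.node (.leaf 104672)
 (.leaf 104688)))
 (.node (.node (.leaf 104689)
 (.leaf 104705))
 (.node (.leaf 104720)
 (.leaf 104721))))
 (.node (.node (.node (.leaf 104736)
 (.leaf 104752))
 (.node (.leaf 104753)
 (.leaf 104768)))
 (.node (.node (.leaf 104769)
 (.leaf 104784))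
 (.node (.leaf 104800)
 (.leaf 104817))))))

def entTB108 : RT := .node (.node (.node (.node (.node (.node (.leaf 104833)
 (.leaf 104848))
 (.node (.leaf 104864)
 (.leaf 104865)))
 (.node (.node (.leaf 104881)
 (.leaf 104896))
 (.node (.leaf 104897)
 (.leaf 104913))))
 (.node (.node (.node (.leaf 104928)
 (.leaf 104945))
 (.node (.leaf 104961)
 (.leaf 104977)))
 (.node (.node (.leaf 104992)
 (.leaf 105008))
 (.node (.leaf 105009)
 (.leaf 105025)))))
 (.node (.node (.node (.node (.leaf 105056)
 (.leaf 105057))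
 (.node (.leaf 105072)
 (.leaf 105073)))
 (.node (.node (.leaf 105088)
 (.leaf 105089))
 (.node (.leaf 105104)
 (.leaf 105105))))
 (.node (.node (.node (.leaf 105121)
 (.leaf 105136))
 (.node (.leaf 105137)
 (.leaf 105152)))
 (.node (.node (.leaf 105153)
 (.leaf 105168))
 (.node (.leaf 105184)
 (.leaf 105185))))))
 (.node (.node (.node (.node (.node (.leaf 105200)
 (.leaf 105201))
 (.node (.leaf 105232)
 (.leaf 105233)))
 (.node (.node (.leaf 105248)
 (.leaf 105264))
 (.node (.leaf 105265)
 (.leaf 105280))))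
 (.node (.node (.node (.leaf 105297)
 (.leaf 105328))
 (.node (.leaf 105344)
 (.leaf 105345)))
 (.node (.node (.leaf 105361)
 (.leaf 105376))
 (.node (.leaf 105392)
 (.leaf 105393)))))
 (.node (.node (.node (.node (.leaf 105408)
 (.leaf 105424))
 (.node (.leaf 105425)
 (.leaf 105440)))
 (.node (.node (.leaf 105441)
 (.leaf 105456))
 (.node (.leaf 105473)
 (.leaf 105488))))
 (.node (.node (.node (.leaf 105521)
 (.leaf 105537))
 (.node (.leaf 105552)
 (.leaf 105553)))
 (.node (.node (.leaf 105569)
 (.leaf 105584))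
 (.node (.leaf 105585)
 (.leaf 105601))))))

def entTB109 : RT := .node (.node (.node (.node (.node (.node (.leaf 105616)
 (.leaf 105617))
 (.node (.leaf 105632)
 (.leaf 105649)))
 (.node (.node (.leaf 105664)
 (.leaf 105665))
 (.node (.leaf 105680)
 (.leaf 105712))))
 (.node (.node (.node (.leaf 105729)
 (.leaf 105744))
 (.node (.leaf 105745)
 (.leaf 105776)))
 (.node (.node (.leaf 105777)
 (.leaf 105808))
 (.node (.leaf 105809)
 (.leaf 105824)))))
 (.node (.node (.node (.node (.leaf 105840)
 (.leaf 105841))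
 (.node (.leaf 105856)
 (.leaf 105872)))
 (.node (.node (.leaf 105889)
 (.leaf 105921))
 (.node (.leaf 105936)
 (.leaf 105937))))
 (.node (.node (.node (.leaf 105953)
 (.leaf 105969))
 (.node (.leaf 105984)
 (.leaf 105985)))
 (.node (.node (.leaf 106000)
 (.leaf 106001))
 (.node (.leaf 106017)
 (.leaf 106032))))))
 (.node (.node (.node (.node (.node (.leaf 106033)
 (.leaf 106048))
 (.node (.leaf 106049)
 (.leaf 106065)))
 (.node (.node (.leaf 106081)
 (.leaf 106113))
 (.node (.leaf 106128)
 (.leaf 106129))))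
 (.node (.node (.node (.leaf 106144)
 (.leaf 106145))
 (.node (.leaf 106161)
 (.leaf 106208)))
 (.node (.node (.leaf 106209)
 (.leaf 106224))
 (.node (.leaf 106240)
 (.leaf 106241)))))
 (.node (.node (.node (.node (.leaf 106257)
 (.leaf 106272))
 (.node (.leaf 106273)
 (.leaf 106288)))
 (.node (.node (.leaf 106305)
 (.leaf 106321))
 (.node (.leaf 106368)
 (.leaf 106369))))
 (.node (.node (.node (.leaf 106384)
 (.leaf 106385))
 (.node (.leaf 106400)
 (.leaf 106401)))
 (.node (.node (.leaf 106416)
 (.leaf 106433))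
 (.node (.leaf 106449)
 (.leaf 106480))))))

def entTB110 : RT := .node (.node (.node (.node (.node (.node (.leaf 106481)
 (.leaf 106496))
 (.node (.leaf 106497)
 (.leaf 106512)))
 (.node (.node (.leaf 106513)
 (.leaf 106528))
 (.node (.leaf 106529)
 (.leaf 106544))))
 (.node (.node (.node (.leaf 106545)
 (.leaf 106560))
 (.node (.leaf 106561)
 (.leaf 106576)))
 (.node (.node (.leaf 106577)
 (.leaf 106592))
 (.node (.leaf 106593)
 (.leaf 106608)))))
 (.node (.node (.node (.node (.leaf 106609)
 (.leaf 106624))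
 (.node (.leaf 106625)
 (.leaf 106641)))
 (.node (.node (.leaf 106657)
 (.leaf 106672))
 (.node (.leaf 106688)
 (.leaf 106689))))
 (.node (.node (.node (.leaf 106704)
 (.leaf 106705))
 (.node (.leaf 106720)
 (.leaf 106721)))
 (.node (.node (.leaf 106737)
 (.leaf 106752))
 (.node (.leaf 106753)
 (.leaf 106768))))))
 (.node (.node (.node (.node (.node (.leaf 106769)
 (.leaf 106784))
 (.node (.leaf 106800)
 (.leaf 106801)))
 (.node (.node (.leaf 106816)
 (.leaf 106817))
 (.node (.leaf 106833)
 (.leaf 106848))))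
 (.node (.node (.node (.leaf 106849)
 (.leaf 106864))
 (.node (.leaf 106880)
 (.leaf 106881)))
 (.node (.node (.leaf 106896)
 (.leaf 106912))
 (.node (.leaf 106913)
 (.leaf 106928)))))
 (.node (.node (.node (.node (.leaf 106929)
 (.leaf 106944))
 (.node (.leaf 106960)
 (.leaf 106961)))
 (.node (.node (.leaf 106976)
 (.leaf 106977))
 (.node (.leaf 106992)
 (.leaf 106993))))
 (.node (.node (.node (.leaf 107008)
 (.leaf 107024))
 (.node (.leaf 107025)
 (.leaf 107040)))
 (.node (.node (.leaf 107057)
 (.leaf 107073))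
 (.node (.leaf 107104)
 (.leaf 107105))))))

def entTB111 : RT := .node (.node (.node (.node (.node (.node (.leaf 107120)
 (.leaf 107121))
 (.node (.leaf 107136)
 (.leaf 107137)))
 (.node (.node (.leaf 107153)
 (.leaf 107168))
 (.node (.leaf 107169)
 (.leaf 107185))))
 (.node (.node (.node (.leaf 107200)
 (.leaf 107201))
 (.node (.leaf 107216)
 (.leaf 107217)))
 (.node (.node (.leaf 107233)
 (.leaf 107248))
 (.node (.leaf 107264)
 (.leaf 107280)))))
 (.node (.node (.node (.node (.leaf 107281)
 (.leaf 107297))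
 (.node (.leaf 107312)
 (.leaf 107328)))
 (.node (.node (.leaf 107329)
 (.leaf 107344))
 (.node (.leaf 107345)
 (.leaf 107361))))
 (.node (.node (.node (.leaf 107376)
 (.leaf 107377))
 (.node (.leaf 107392)
 (.leaf 107408)))
 (.node (.node (.leaf 107409)
 (.leaf 107424))
 (.node (.leaf 107425)
 (.leaf 107440))))))
 (.node (.node (.node (.node (.node (.leaf 107441)
 (.leaf 107456))
 (.node (.leaf 107488)
 (.leaf 107504)))
 (.node (.node (.leaf 107505)
 (.leaf 107536))
 (.node (.leaf 107537)
 (.leaf 107553))))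
 (.node (.node (.node (.leaf 107568)
 (.leaf 107569))
 (.node (.leaf 107600)
 (.leaf 107601)))
 (.node (.node (.leaf 107632)
 (.leaf 107633))
 (.node (.leaf 107648)
 (.leaf 107649)))))
 (.node (.node (.node (.node (.leaf 107713)
 (.leaf 107728))
 (.node (.leaf 107729)
 (.leaf 107744)))
 (.node (.node (.leaf 107745)
 (.leaf 107761))
 (.node (.leaf 107776)
 (.leaf 107777))))
 (.node (.node (.node (.leaf 107793)
 (.leaf 107808))
 (.node (.leaf 107809)
 (.leaf 107824)))
 (.node (.node (.leaf 107825)
 (.leaf 107840))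
 (.node (.leaf 107841)
 (.leaf 107889))))))

def entTB112 : RT := .node (.node (.node (.node (.node (.node (.leaf 107904)
 (.leaf 107920))
 (.node (.leaf 107936)
 (.leaf 107937)))
 (.node (.node (.leaf 107952)
 (.leaf 107953))
 (.node (.leaf 107968)
 (.leaf 107969))))
 (.node (.node (.node (.leaf 107984)
 (.leaf 107985))
 (.node (.leaf 108016)
 (.leaf 108017)))
 (.node (.node (.leaf 108032)
 (.leaf 108033))
 (.node (.leaf 108049)
 (.leaf 108080)))))
 (.node (.node (.node (.node (.leaf 108081)
 (.leaf 108096))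
 (.node (.leaf 108097)
 (.leaf 108112)))
 (.node (.node (.leaf 108113)
 (.leaf 108129))
 (.node (.leaf 108144)
 (.leaf 108145))))
 (.node (.node (.node (.leaf 108160)
 (.leaf 108176))
 (.node (.leaf 108177)
 (.leaf 108193)))
 (.node (.node (.leaf 108208)
 (.leaf 108209))
 (.node (.leaf 108224)
 (.leaf 108225))))))
 (.node (.node (.node (.node (.node (.leaf 108240)
 (.leaf 108241))
 (.node (.leaf 108256)
 (.leaf 108257)))
 (.node (.node (.leaf 108272)
 (.leaf 108273))
 (.node (.leaf 108288)
 (.leaf 108289))))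
 (.node (.node (.node (.leaf 108305)
 (.leaf 108320))
 (.node (.leaf 108336)
 (.leaf 108337)))
 (.node (.node (.leaf 108368)
 (.leaf 108384))
 (.node (.leaf 108400)
 (.leaf 108401)))))
 (.node (.node (.node (.node (.leaf 108417)
 (.leaf 108432))
 (.node (.leaf 108433)
 (.leaf 108448)))
 (.node (.node (.leaf 108464)
 (.leaf 108465))
 (.node (.leaf 108480)
 (.leaf 108481))))
 (.node (.node (.node (.leaf 108496)
 (.leaf 108512))
 (.node (.leaf 108545)
 (.leaf 108560)))
 (.node (.node (.leaf 108576)
 (.leaf 108577))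
 (.node (.leaf 108593)
 (.leaf 108608))))))

def entTB113 : RT := .node (.node (.node (.node (.node (.node (.leaf 108609)
 (.leaf 108625))
 (.node (.leaf 108640)
 (.leaf 108657)))
 (.node (.node (.leaf 108673)
 (.leaf 108689))
 (.node (.leaf 108752)
 (.leaf 108753))))
 (.node (.node (.node (.leaf 108768)
 (.leaf 108769))
 (.node (.leaf 108784)
 (.leaf 108785)))
 (.node (.node (.leaf 108800)
 (.leaf 108801))
 (.node (.leaf 108817)
 (.leaf 108833)))))
 (.node (.node (.node (.node (.leaf 108848)
 (.leaf 108849))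
 (.node (.leaf 108864)
 (.leaf 108880)))
 (.node (.node (.leaf 108896)
 (.leaf 108897))
 (.node (.leaf 108928)
 (.leaf 108929))))
 (.node (.node (.node (.leaf 108944)
 (.leaf 108960))
 (.node (.leaf 108961)
 (.leaf 108976)))
 (.node (.node (.leaf 108993)
 (.leaf 109024))
 (.node (.leaf 109040)
 (.leaf 109041))))))
 (.node (.node (.node (.node (.node (.leaf 109057)
 (.leaf 109072))
 (.node (.leaf 109088)
 (.leaf 109089)))
 (.node (.node (.leaf 109104)
 (.leaf 109120))
 (.node (.leaf 109121)
 (.leaf 109136))))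
 (.node (.node (.node (.leaf 109137)
 (.leaf 109152))
 (.node (.leaf 109169)
 (.leaf 109184)))
 (.node (.node (.leaf 109217)
 (.leaf 109233))
 (.node (.leaf 109248)
 (.leaf 109265)))))
 (.node (.node (.node (.node (.leaf 109280)
 (.leaf 109281))
 (.node (.leaf 109297)
 (.leaf 109313)))
 (.node (.node (.leaf 109328)
 (.leaf 109345))
 (.node (.leaf 109360)
 (.leaf 109361))))
 (.node (.node (.node (.leaf 109376)
 (.leaf 109408))
 (.node (.leaf 109409)
 (.leaf 109441)))
 (.node (.node (.leaf 109472)
 (.leaf 109473))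
 (.node (.leaf 109488)
 (.leaf 109504))))))

def entTB114 : RT := .node (.node (.node (.node (.node (.node (.leaf 109505)
 (.leaf 109520))
 (.node (.leaf 109536)
 (.leaf 109553)))
 (.node (.node (.leaf 109584)
 (.leaf 109585))
 (.node (.leaf 109601)
 (.leaf 109617))))
 (.node (.node (.node (.leaf 109632)
 (.leaf 109633))
 (.node (.leaf 109648)
 (.leaf 109649)))
 (.node (.node (.leaf 109665)
 (.leaf 109680))
 (.node (.leaf 109681)
 (.leaf 109696)))))
 (.node (.node (.node (.node (.leaf 109697)
 (.leaf 109713))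
 (.node (.leaf 109729)
 (.leaf 109761)))
 (.node (.node (.leaf 109776)
 (.leaf 109777))
 (.node (.leaf 109792)
 (.leaf 109793))))
 (.node (.node (.node (.leaf 109824)
 (.leaf 109840))
 (.node (.leaf 109841)
 (.leaf 109856)))
 (.node (.node (.leaf 109872)
 (.leaf 109873))
 (.node (.leaf 109888)
 (.leaf 109904))))))
 (.node (.node (.node (.node (.node (.leaf 109920)
 (.leaf 109921))
 (.node (.leaf 109952)
 (.leaf 109953)))
 (.node (.node (.leaf 109968)
 (.leaf 109969))
 (.node (.leaf 109984)
 (.leaf 109985))))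
 (.node (.node (.node (.leaf 110000)
 (.leaf 110001))
 (.node (.leaf 110032)
 (.leaf 110033)))
 (.node (.node (.leaf 110048)
 (.leaf 110049))
 (.node (.leaf 110065)
 (.leaf 110080)))))
 (.node (.node (.node (.node (.leaf 110081)
 (.leaf 110096))
 (.node (.leaf 110112)
 (.leaf 110113)))
 (.node (.node (.leaf 110128)
 (.leaf 110129))
 (.node (.leaf 110144)
 (.leaf 110145))))
 (.node (.node (.node (.leaf 110161)
 (.leaf 110176))
 (.node (.leaf 110192)
 (.leaf 110208)))
 (.node (.node (.leaf 110209)
 (.leaf 110224))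
 (.node (.leaf 110225)
 (.leaf 110240))))))

def entTB115 : RT := .node (.node (.node (.node (.node (.node (.leaf 110256)
 (.leaf 110257))
 (.node (.leaf 110272)
 (.leaf 110273)))
 (.node (.node (.leaf 110289)
 (.leaf 110304))
 (.node (.leaf 110320)
 (.leaf 110321))))
 (.node (.node (.node (.leaf 110337)
 (.leaf 110353))
 (.node (.leaf 110368)
 (.leaf 110384)))
 (.node (.node (.leaf 110385)
 (.leaf 110401))
 (.node (.leaf 110417)
 (.leaf 110432)))))
 (.node (.node (.node (.node (.leaf 110448)
 (.leaf 110449))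
 (.node (.leaf 110480)
 (.leaf 110481)))
 (.node (.node (.leaf 110496)
 (.leaf 110512))
 (.node (.leaf 110529)
 (.leaf 110544))))
 (.node (.node (.node (.leaf 110561)
 (.leaf 110577))
 (.node (.leaf 110593)
 (.leaf 110609)))
 (.node (.node (.leaf 110624)
 (.leaf 110640))
 (.node (.leaf 110657)
 (.leaf 110672))))))
 (.node (.node (.node (.node (.node (.leaf 110688)
 (.leaf 110689))
 (.node (.leaf 110704)
 (.leaf 110737)))
 (.node (.node (.leaf 110752)
 (.leaf 110769))
 (.node (.leaf 110785)
 (.leaf 110816))))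
 (.node (.node (.node (.leaf 110817)
 (.leaf 110832))
 (.node (.leaf 110833)
 (.leaf 110865)))
 (.node (.node (.leaf 110912)
 (.leaf 110913))
 (.node (.leaf 110928)
 (.leaf 110929)))))
 (.node (.node (.node (.node (.leaf 110945)
 (.leaf 110961))
 (.node (.leaf 110977)
 (.leaf 110992)))
 (.node (.node (.leaf 110993)
 (.leaf 111008))
 (.node (.leaf 111009)
 (.leaf 111024))))
 (.node (.node (.node (.leaf 111025)
 (.leaf 111057))
 (.node (.leaf 111073)
 (.leaf 111088)))
 (.node (.node (.leaf 111104)
 (.leaf 111120))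
 (.node (.leaf 111121)
 (.leaf 111136))))))

def entTB116 : RT := .node (.node (.node (.node (.node (.node (.leaf 111137)
 (.leaf 111152))
 (.node (.leaf 111153)
 (.leaf 111185)))
 (.node (.node (.leaf 111200)
 (.leaf 111201))
 (.node (.leaf 111217)
 (.leaf 111232))))
 (.node (.node (.node (.leaf 111248)
 (.leaf 111249))
 (.node (.leaf 111264)
 (.leaf 111280)))
 (.node (.node (.leaf 111281)
 (.leaf 111296))
 (.node (.leaf 111297)
 (.leaf 111312)))))
 (.node (.node (.node (.node (.leaf 111313)
 (.leaf 111345))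
 (.node (.leaf 111361)
 (.leaf 111376)))
 (.node (.node (.leaf 111392)
 (.leaf 111409))
 (.node (.leaf 111456)
 (.leaf 111488))))
 (.node (.node (.node (.leaf 111489)
 (.leaf 111521))
 (.node (.leaf 111553)
 (.leaf 111569)))
 (.node (.node (.leaf 111585)
 (.leaf 111616))
 (.node (.leaf 111617)
 (.leaf 111632))))))
 (.node (.node (.node (.node (.node (.leaf 111633)
 (.leaf 111648))
 (.node (.leaf 111664)
 (.leaf 111697)))
 (.node (.node (.leaf 111712)
 (.leaf 111729))
 (.node (.leaf 111744)
 (.leaf 111745))))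
 (.node (.node (.node (.leaf 111761)
 (.leaf 111776))
 (.node (.leaf 111792)
 (.leaf 111808)))
 (.node (.node (.leaf 111809)
 (.leaf 111824))
 (.node (.leaf 111825)
 (.leaf 111840)))))
 (.node (.node (.node (.node (.leaf 111857)
 (.leaf 111872))
 (.node (.leaf 111905)
 (.leaf 111920)))
 (.node (.node (.leaf 111921)
 (.leaf 111952))
 (.node (.leaf 111953)
 (.leaf 111969))))
 (.node (.node (.node (.leaf 111984)
 (.leaf 112016))
 (.node (.leaf 112017)
 (.leaf 112032)))
 (.node (.node (.leaf 112064)
 (.leaf 112096))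
 (.node (.leaf 112097)
 (.leaf 112128))))))

def entTB117 : RT := .node (.node (.node (.node (.node (.node (.leaf 112129)
 (.leaf 112160))
 (.node (.leaf 112161)
 (.leaf 112177)))
 (.node (.node (.leaf 112192)
 (.leaf 112209))
 (.node (.leaf 112241)
 (.leaf 112257))))
 (.node (.node (.node (.leaf 112272)
 (.leaf 112273))
 (.node (.leaf 112320)
 (.leaf 112321)))
 (.node (.node (.leaf 112368)
 (.leaf 112369))
 (.node (.leaf 112385)
 (.leaf 112400)))))
 (.node (.node (.node (.node (.leaf 112432)
 (.leaf 112433))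
 (.node (.leaf 112448)
 (.leaf 112464)))
 (.node (.node (.leaf 112465)
 (.leaf 112480))
 (.node (.leaf 112481)
 (.leaf 112496))))
 (.node (.node (.node (.leaf 112497)
 (.leaf 112513))
 (.node (.leaf 112528)
 (.leaf 112529)))
 (.node (.node (.leaf 112545)
 (.leaf 112561))
 (.node (.leaf 112592)
 (.leaf 112593))))))
 (.node (.node (.node (.node (.node (.leaf 112609)
 (.leaf 112624))
 (.node (.leaf 112625)
 (.leaf 112640)))
 (.node (.node (.leaf 112641)
 (.leaf 112657))
 (.node (.leaf 112672)
 (.leaf 112673))))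
 (.node (.node (.node (.leaf 112688)
 (.leaf 112704))
 (.node (.leaf 112705)
 (.leaf 112720)))
 (.node (.node (.leaf 112721)
 (.leaf 112736))
 (.node (.leaf 112737)
 (.leaf 112752)))))
 (.node (.node (.node (.node (.leaf 112784)
 (.leaf 112800))
 (.node (.leaf 112801)
 (.leaf 112832)))
 (.node (.node (.leaf 112833)
 (.leaf 112864))
 (.node (.leaf 112865)
 (.leaf 112896))))
 (.node (.node (.node (.leaf 112897)
 (.leaf 112928))
 (.node (.leaf 112929)
 (.leaf 112944)))
 (.node (.node (.leaf 112945)
 (.leaf 113009))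
 (.node (.leaf 113024)
 (.leaf 113025))))))

def entTB118 : RT := .node (.node (.node (.node (.node (.node (.leaf 113040)
 (.leaf 113041))
 (.node (.leaf 113057)
 (.leaf 113072)))
 (.node (.node (.leaf 113073)
 (.leaf 113089))
 (.node (.leaf 113104)
 (.leaf 113105))))
 (.node (.node (.node (.leaf 113120)
 (.leaf 113121))
 (.node (.leaf 113136)
 (.leaf 113137)))
 (.node (.node (.leaf 113185)
 (.leaf 113216))
 (.node (.leaf 113232)
 (.leaf 113233)))))
 (.node (.node (.node (.node (.leaf 113248)
 (.leaf 113249))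
 (.node (.leaf 113264)
 (.leaf 113265)))
 (.node (.node (.leaf 113280)
 (.leaf 113281))
 (.node (.leaf 113312)
 (.leaf 113328))))
 (.node (.node (.node (.leaf 113329)
 (.leaf 113345))
 (.node (.leaf 113376)
 (.leaf 113377)))
 (.node (.node (.leaf 113392)
 (.leaf 113393))
 (.node (.leaf 113409)
 (.leaf 113425))))))
 (.node (.node (.node (.node (.node (.leaf 113440)
 (.leaf 113456))
 (.node (.leaf 113457)
 (.leaf 113488)))
 (.node (.node (.leaf 113489)
 (.leaf 113504))
 (.node (.leaf 113505)
 (.leaf 113520))))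
 (.node (.node (.node (.leaf 113521)
 (.leaf 113536))
 (.node (.leaf 113552)
 (.leaf 113568)))
 (.node (.node (.leaf 113569)
 (.leaf 113585))
 (.node (.leaf 113600)
 (.leaf 113601)))))
 (.node (.node (.node (.node (.leaf 113616)
 (.leaf 113648))
 (.node (.leaf 113649)
 (.leaf 113665)))
 (.node (.node (.leaf 113680)
 (.leaf 113681))
 (.node (.leaf 113696)
 (.leaf 113712))))
 (.node (.node (.node (.leaf 113728)
 (.leaf 113729))
 (.node (.leaf 113744)
 (.leaf 113760)))
 (.node (.node (.leaf 113777)
 (.leaf 113792))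
 (.node (.leaf 113808)
 (.leaf 113809))))))

def entTB119 : RT := .node (.node (.node (.node (.node (.node (.leaf 113825)
 (.leaf 113840))
 (.node (.leaf 113841)
 (.leaf 113857)))
 (.node (.node (.leaf 113872)
 (.leaf 113889))
 (.node (.leaf 113905)
 (.leaf 113921))))
 (.node (.node (.node (.leaf 113968)
 (.leaf 113969))
 (.node (.leaf 113984)
 (.leaf 113985)))
 (.node (.node (.leaf 114000)
 (.leaf 114001))
 (.node (.leaf 114016)
 (.leaf 114017)))))
 (.node (.node (.node (.node (.leaf 114033)
 (.leaf 114049))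
 (.node (.leaf 114064)
 (.leaf 114065)))
 (.node (.node (.leaf 114080)
 (.leaf 114096))
 (.node (.leaf 114112)
 (.leaf 114113))))
 (.node (.node (.node (.leaf 114144)
 (.leaf 114145))
 (.node (.leaf 114160)
 (.leaf 114176)))
 (.node (.node (.leaf 114177)
 (.leaf 114192))
 (.node (.leaf 114209)
 (.leaf 114224))))))
 (.node (.node (.node (.node (.node (.leaf 114240)
 (.leaf 114241))
 (.node (.leaf 114257)
 (.leaf 114272)))
 (.node (.node (.leaf 114288)
 (.leaf 114289))
 (.node (.leaf 114304)
 (.leaf 114321))))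
 (.node (.node (.node (.leaf 114336)
 (.leaf 114337))
 (.node (.leaf 114352)
 (.leaf 114368)))
 (.node (.node (.leaf 114401)
 (.leaf 114417))
 (.node (.leaf 114432)
 (.leaf 114433)))))
 (.node (.node (.node (.node (.leaf 114449)
 (.leaf 114465))
 (.node (.leaf 114480)
 (.leaf 114512)))
 (.node (.node (.leaf 114513)
 (.leaf 114528))
 (.node (.leaf 114561)
 (.leaf 114593))))
 (.node (.node (.node (.leaf 114624)
 (.leaf 114625))
 (.node (.leaf 114640)
 (.leaf 114656)))
 (.node (.node (.leaf 114657)
 (.leaf 114673))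
 (.node (.leaf 114704)
 (.leaf 114705))))))

def entTB120 : RT := .node (.node (.node (.node (.node (.node (.leaf 114721)
 (.leaf 114736))
 (.node (.leaf 114737)
 (.leaf 114752)))
 (.node (.node (.leaf 114753)
 (.leaf 114769))
 (.node (.leaf 114784)
 (.leaf 114785))))
 (.node (.node (.node (.leaf 114800)
 (.leaf 114801))
 (.node (.leaf 114817)
 (.leaf 114833)))
 (.node (.node (.leaf 114865)
 (.leaf 114880))
 (.node (.leaf 114881)
 (.leaf 114896)))))
 (.node (.node (.node (.node (.leaf 114897)
 (.leaf 114928))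
 (.node (.leaf 114944)
 (.leaf 114945)))
 (.node (.node (.leaf 114960)
 (.leaf 114976))
 (.node (.leaf 114977)
 (.leaf 114992))))
 (.node (.node (.node (.leaf 115008)
 (.leaf 115024))
 (.node (.leaf 115025)
 (.leaf 115056)))
 (.node (.node (.leaf 115057)
 (.leaf 115072))
 (.node (.leaf 115073)
 (.leaf 115088))))))
 (.node (.node (.node (.node (.node (.leaf 115089)
 (.leaf 115105))
 (.node (.leaf 115136)
 (.leaf 115137)))
 (.node (.node (.leaf 115152)
 (.leaf 115153))
 (.node (.leaf 115184)
 (.leaf 115185))))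
 (.node (.node (.node (.leaf 115200)
 (.leaf 115216))
 (.node (.leaf 115217)
 (.leaf 115232)))
 (.node (.node (.leaf 115233)
 (.leaf 115248))
 (.node (.leaf 115265)
 (.leaf 115280)))))
 (.node (.node (.node (.node (.leaf 115296)
 (.leaf 115312))
 (.node (.leaf 115313)
 (.leaf 115328)))
 (.node (.node (.leaf 115329)
 (.leaf 115344))
 (.node (.leaf 115360)
 (.leaf 115361))))
 (.node (.node (.node (.leaf 115376)
 (.leaf 115393))
 (.node (.leaf 115408)
 (.leaf 115424)))
 (.node (.node (.leaf 115425)
 (.leaf 115441))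
 (.node (.leaf 115457)
 (.leaf 115472))))))

def entTB121 : RT := .node (.node (.node (.node (.node (.node (.leaf 115488)
 (.leaf 115489))
 (.node (.leaf 115520)
 (.leaf 115521)))
 (.node (.node (.leaf 115536)
 (.leaf 115569))
 (.node (.leaf 115584)
 (.leaf 115601))))
 (.node (.node (.node (.leaf 115617)
 (.leaf 115633))
 (.node (.leaf 115648)
 (.leaf 115664)))
 (.node (.node (.leaf 115681)
 (.leaf 115696))
 (.node (.leaf 115712)
 (.leaf 115728)))))
 (.node (.node (.node (.node (.leaf 115761)
 (.leaf 115776))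
 (.node (.leaf 115793)
 (.leaf 115825)))
 (.node (.node (.leaf 115872)
 (.leaf 115873))
 (.node (.leaf 115888)
 (.leaf 115889))))
 (.node (.node (.node (.leaf 115905)
 (.leaf 115937))
 (.node (.leaf 115952)
 (.leaf 115953)))
 (.node (.node (.leaf 115968)
 (.leaf 115969))
 (.node (.leaf 116001)
 (.leaf 116017))))))
 (.node (.node (.node (.node (.node (.leaf 116032)
 (.leaf 116048))
 (.node (.leaf 116049)
 (.leaf 116064)))
 (.node (.node (.leaf 116080)
 (.leaf 116081))
 (.node (.leaf 116113)
 (.leaf 116128))))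
 (.node (.node (.node (.leaf 116129)
 (.leaf 116145))
 (.node (.leaf 116160)
 (.leaf 116176)))
 (.node (.node (.leaf 116177)
 (.leaf 116192))
 (.node (.leaf 116208)
 (.leaf 116209)))))
 (.node (.node (.node (.node (.leaf 116224)
 (.leaf 116225))
 (.node (.leaf 116240)
 (.leaf 116241)))
 (.node (.node (.leaf 116273)
 (.leaf 116304))
 (.node (.leaf 116320)
 (.leaf 116337))))
 (.node (.node (.node (.leaf 116384)
 (.leaf 116417))
 (.node (.leaf 116449)
 (.leaf 116465)))
 (.node (.node (.leaf 116528)
 (.leaf 116529))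
 (.node (.leaf 116544)
 (.leaf 116560))))))

def entTB122 : RT := .node (.node (.node (.node (.node (.node (.leaf 116593)
 (.leaf 116608))
 (.node (.leaf 116640)
 (.leaf 116656)))
 (.node (.node (.leaf 116672)
 (.leaf 116688))
 (.node (.leaf 116705)
 (.leaf 116720))))
 (.node (.node (.node (.leaf 116753)
 (.leaf 116768))
 (.node (.leaf 116769)
 (.leaf 116801)))
 (.node (.node (.leaf 116816)
 (.leaf 116848))
 (.node (.leaf 116928)
 (.leaf 116929)))))
 (.node (.node (.node (.node (.leaf 116960)
 (.leaf 116961))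
 (.node (.leaf 116992)
 (.leaf 116993)))
 (.node (.node (.leaf 117009)
 (.leaf 117024))
 (.node (.leaf 117041)
 (.leaf 117073))))
 (.node (.node (.node (.leaf 117089)
 (.leaf 117104))
 (.node (.leaf 117105)
 (.leaf 117152)))
 (.node (.node (.leaf 117153)
 (.leaf 117201))
 (.node (.leaf 117217)
 (.leaf 117248))))))
 (.node (.node (.node (.node (.node (.leaf 117249)
 (.leaf 117264))
 (.node (.leaf 117280)
 (.leaf 117329)))
 (.node (.node (.leaf 117361)
 (.leaf 117376))
 (.node (.leaf 117392)
 (.leaf 117393))))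
 (.node (.node (.node (.leaf 117408)
 (.leaf 117441))
 (.node (.leaf 117473)
 (.leaf 117504)))
 (.node (.node (.leaf 117520)
 (.leaf 117536))
 (.node (.leaf 117552)
 (.leaf 117553)))))
 (.node (.node (.node (.node (.leaf 117569)
 (.leaf 117584))
 (.node (.leaf 117585)
 (.leaf 117616)))
 (.node (.node (.leaf 117617)
 (.leaf 117632))
 (.node (.leaf 117633)
 (.leaf 117664))))
 (.node (.node (.node (.leaf 117665)
 (.leaf 117680))
 (.node (.leaf 117681)
 (.leaf 117696)))
 (.node (.node (.leaf 117729)
 (.leaf 117760))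
 (.node (.leaf 117761)
 (.leaf 117776))))))

def entTB123 : RT := .node (.node (.node (.node (.node (.node (.leaf 117777)
 (.leaf 117808))
 (.node (.leaf 117809)
 (.leaf 117825)))
 (.node (.node (.leaf 117856)
 (.leaf 117872))
 (.node (.leaf 117873)
 (.leaf 117888))))
 (.node (.node (.node (.leaf 117889)
 (.leaf 117936))
 (.node (.leaf 117937)
 (.leaf 118000)))
 (.node (.node (.leaf 118016)
 (.leaf 118017))
 (.node (.leaf 118080)
 (.leaf 118113)))))
 (.node (.node (.node (.node (.leaf 118144)
 (.leaf 118145))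
 (.node (.leaf 118161)
 (.leaf 118176)))
 (.node (.node (.leaf 118192)
 (.leaf 118208))
 (.node (.leaf 118209)
 (.leaf 118224))))
 (.node (.node (.node (.leaf 118225)
 (.leaf 118241))
 (.node (.leaf 118257)
 (.leaf 118289)))
 (.node (.node (.leaf 118321)
 (.leaf 118336))
 (.node (.leaf 118369)
 (.leaf 118384))))))
 (.node (.node (.node (.node (.node (.leaf 118400)
 (.leaf 118433))
 (.node (.leaf 118465)
 (.leaf 118513)))
 (.node (.node (.leaf 118529)
 (.leaf 118560))
 (.node (.leaf 118561)
 (.leaf 118624))))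
 (.node (.node (.node (.leaf 118625)
 (.leaf 118640))
 (.node (.leaf 118656)
 (.leaf 118689)))
 (.node (.node (.leaf 118720)
 (.leaf 118721))
 (.node (.leaf 118737)
 (.leaf 118752)))))
 (.node (.node (.node (.node (.leaf 118753)
 (.leaf 118768))
 (.node (.leaf 118769)
 (.leaf 118784)))
 (.node (.node (.leaf 118785)
 (.leaf 118801))
 (.node (.leaf 118849)
 (.leaf 118864))))
 (.node (.node (.node (.leaf 118896)
 (.leaf 118929))
 (.node (.leaf 118944)
 (.leaf 118945)))
 (.node (.node (.leaf 118977)
 (.leaf 119024))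
 (.node (.leaf 119040)
 (.leaf 119056))))))

def entTB124 : RT := .node (.node (.node (.node (.node (.node (.leaf 119088)
 (.leaf 119105))
 (.node (.leaf 119137)
 (.leaf 119152)))
 (.node (.node (.leaf 119169)
 (.leaf 119185))
 (.node (.leaf 119233)
 (.leaf 119248))))
 (.node (.node (.node (.leaf 119249)
 (.leaf 119265))
 (.node (.leaf 119281)
 (.leaf 119328)))
 (.node (.node (.leaf 119344)
 (.leaf 119345))
 (.node (.leaf 119376)
 (.leaf 119392)))))
 (.node (.node (.node (.node (.leaf 119457)
 (.leaf 119488))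
 (.node (.leaf 119505)
 (.leaf 119552)))
 (.node (.node (.leaf 119601)
 (.leaf 119681))
 (.node (.leaf 119728)
 (.leaf 119745))))
 (.node (.node (.node (.leaf 119761)
 (.leaf 119825))
 (.node (.leaf 119840)
 (.leaf 119873)))
 (.node (.node (.leaf 119889)
 (.leaf 119921))
 (.node (.leaf 119985)
 (.leaf 120016))))))
 (.node (.node (.node (.node (.node (.leaf 120017)
 (.leaf 120033))
 (.node (.leaf 120049)
 (.leaf 120096)))
 (.node (.node (.leaf 120112)
 (.leaf 120128))
 (.node (.leaf 120129)
 (.leaf 120145))))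
 (.node (.node (.node (.leaf 120160)
 (.leaf 120161))
 (.node (.leaf 120176)
 (.leaf 120209)))
 (.node (.node (.leaf 120240)
 (.leaf 120256))
 (.node (.leaf 120257)
 (.leaf 120273)))))
 (.node (.node (.node (.node (.leaf 120289)
 (.leaf 120305))
 (.node (.leaf 120336)
 (.leaf 120337)))
 (.node (.node (.leaf 120353)
 (.leaf 120368))
 (.node (.leaf 120369)
 (.leaf 120384))))
 (.node (.node (.node (.leaf 120385)
 (.leaf 120401))
 (.node (.leaf 120417)
 (.leaf 120448)))
 (.node (.node (.leaf 120480)
 (.leaf 120481))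
 (.node (.leaf 120513)
 (.leaf 120528))))))

def entTB125 : RT := .node (.node (.node (.node (.node (.node (.leaf 120544)
 (.leaf 120545))
 (.node (.leaf 120592)
 (.leaf 120608)))
 (.node (.node (.leaf 120609)
 (.leaf 120625))
 (.node (.leaf 120640)
 (.leaf 120656))))
 (.node (.node (.node (.leaf 120673)
 (.leaf 120689))
 (.node (.leaf 120704)
 (.leaf 120720)))
 (.node (.node (.leaf 120753)
 (.leaf 120769))
 (.node (.leaf 120784)
 (.leaf 120785)))))
 (.node (.node (.node (.node (.leaf 120801)
 (.leaf 120817))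
 (.node (.leaf 120832)
 (.leaf 120864)))
 (.node (.node (.leaf 120865)
 (.leaf 120880))
 (.node (.leaf 120913)
 (.leaf 120945))))
 (.node (.node (.node (.leaf 120976)
 (.leaf 120977))
 (.node (.leaf 120992)
 (.leaf 121008)))
 (.node (.node (.leaf 121009)
 (.leaf 121025))
 (.node (.leaf 121040)
 (.leaf 121057))))))
 (.node (.node (.node (.node (.node (.leaf 121072)
 (.leaf 121073))
 (.node (.leaf 121088)
 (.leaf 121089)))
 (.node (.node (.leaf 121105)
 (.leaf 121121))
 (.node (.leaf 121136)
 (.leaf 121137))))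
 (.node (.node (.node (.leaf 121153)
 (.leaf 121169))
 (.node (.leaf 121200)
 (.leaf 121217)))
 (.node (.node (.leaf 121248)
 (.leaf 121264))
 (.node (.leaf 121265)
 (.leaf 121280)))))
 (.node (.node (.node (.node (.leaf 121296)
 (.leaf 121312))
 (.node (.leaf 121328)
 (.leaf 121344)))
 (.node (.node (.leaf 121345)
 (.leaf 121360))
 (.node (.leaf 121361)
 (.leaf 121377))))
 (.node (.node (.node (.leaf 121392)
 (.leaf 121393))
 (.node (.leaf 121408)
 (.leaf 121409)))
 (.node (.node (.leaf 121440)
 (.leaf 121441))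
 (.node (.leaf 121456)
 (.leaf 121472))))))

def entTB126 : RT := .node (.node (.node (.node (.node (.node (.leaf 121505)
 (.leaf 121520))
 (.node (.leaf 121537)
 (.leaf 121552)))
 (.node (.node (.leaf 121553)
 (.leaf 121568))
 (.node (.leaf 121601)
 (.leaf 121616))))
 (.node (.node (.node (.leaf 121633)
 (.leaf 121649))
 (.node (.leaf 121664)
 (.leaf 121681)))
 (.node (.node (.leaf 121745)
 (.leaf 121760))
 (.node (.leaf 121777)
 (.leaf 121793)))))
 (.node (.node (.node (.node (.leaf 121809)
 (.leaf 121824))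
 (.node (.leaf 121840)
 (.leaf 121857)))
 (.node (.node (.leaf 121872)
 (.leaf 121888))
 (.node (.leaf 121904)
 (.leaf 121937))))
 (.node (.node (.node (.leaf 121952)
 (.leaf 121969))
 (.node (.leaf 122001)
 (.leaf 122048)))
 (.node (.node (.leaf 122049)
 (.leaf 122064))
 (.node (.leaf 122065)
 (.leaf 122081))))))
 (.node (.node (.node (.node (.node (.leaf 122128)
 (.leaf 122129))
 (.node (.leaf 122144)
 (.leaf 122145)))
 (.node (.node (.leaf 122177)
 (.leaf 122208))
 (.node (.leaf 122224)
 (.leaf 122240))))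
 (.node (.node (.node (.leaf 122256)
 (.leaf 122257))
 (.node (.leaf 122289)
 (.leaf 122305)))
 (.node (.node (.leaf 122336)
 (.leaf 122352))
 (.node (.leaf 122353)
 (.leaf 122368)))))
 (.node (.node (.node (.node (.leaf 122384)
 (.leaf 122385))
 (.node (.leaf 122400)
 (.leaf 122417)))
 (.node (.node (.leaf 122480)
 (.leaf 122561))
 (.node (.leaf 122640)
 (.leaf 122641))))
 (.node (.node (.node (.leaf 122689)
 (.leaf 122704))
 (.node (.leaf 122720)
 (.leaf 122768)))
 (.node (.node (.leaf 122785)
 (.leaf 122800))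
 (.node (.leaf 122864)
 (.leaf 122960))))))

def entTB127 : RT := .node (.node (.node (.node (.node (.node (.leaf 122961)
 (.leaf 122992))
 (.node (.leaf 122993)
 (.leaf 123024)))
 (.node (.node (.leaf 123025)
 (.leaf 123041))
 (.node (.leaf 123056)
 (.leaf 123073))))
 (.node (.node (.node (.leaf 123105)
 (.leaf 123121))
 (.node (.leaf 123137)
 (.leaf 123185)))
 (.node (.node (.leaf 123249)
 (.leaf 123280))
 (.node (.leaf 123281)
 (.leaf 123296)))))
 (.node (.node (.node (.node (.leaf 123312)
 (.leaf 123424))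
 (.node (.leaf 123457)
 (.leaf 123520)))
 (.node (.node (.leaf 123553)
 (.leaf 123569))
 (.node (.leaf 123584)
 (.leaf 123585))))
 (.node (.node (.node (.leaf 123648)
 (.leaf 123649))
 (.node (.leaf 123664)
 (.leaf 123665)))
 (.node (.node (.leaf 123680)
 (.leaf 123713))
 (.node (.leaf 123744)
 (.leaf 123745))))))
 (.node (.node (.node (.node (.node (.leaf 123760)
 (.leaf 123761))
 (.node (.leaf 123792)
 (.leaf 123793)))
 (.node (.node (.leaf 123824)
 (.leaf 123888))
 (.node (.leaf 123904)
 (.leaf 123905))))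
 (.node (.node (.node (.leaf 123968)
 (.leaf 123985))
 (.node (.leaf 124032)
 (.leaf 124065)))
 (.node (.node (.leaf 124080)
 (.leaf 124081))
 (.node (.leaf 124097)
 (.leaf 124161)))))
 (.node (.node (.node (.node (.leaf 124176)
 (.leaf 124225))
 (.node (.leaf 124273)
 (.leaf 124304)))
 (.node (.node (.leaf 124305)
 (.leaf 124336))
 (.node (.leaf 124337)
 (.leaf 124352))))
 (.node (.node (.node (.leaf 124368)
 (.leaf 124401))
 (.node (.leaf 124416)
 (.leaf 124417)))
 (.node (.node (.leaf 124433)
 (.leaf 124448))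
 (.node (.leaf 124464)
 (.leaf 124465))))))

def entTB128 : RT := .node (.node (.node (.node (.node (.node (.leaf 124481)
 (.leaf 124529))
 (.node (.leaf 124544)
 (.leaf 124576)))
 (.node (.node (.leaf 124609)
 (.leaf 124624))
 (.node (.leaf 124625)
 (.leaf 124657))))
 (.node (.node (.node (.leaf 124704)
 (.leaf 124720))
 (.node (.leaf 124752)
 (.leaf 124769)))
 (.node (.node (.leaf 124801)
 (.leaf 124817))
 (.node (.leaf 124865)
 (.leaf 124912)))))
 (.node (.node (.node (.node (.leaf 124928)
 (.leaf 124929))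
 (.node (.leaf 124993)
 (.leaf 125024)))
 (.node (.node (.leaf 125121)
 (.leaf 125153))
 (.node (.leaf 125217)
 (.leaf 125232))))
 (.node (.node (.node (.leaf 125265)
 (.leaf 125281))
 (.node (.leaf 125313)
 (.leaf 125376)))
 (.node (.node (.leaf 125392)
 (.leaf 125409))
 (.node (.leaf 125424)
 (.leaf 125425))))))
 (.node (.node (.node (.node (.node (.leaf 125473)
 (.leaf 125489))
 (.node (.leaf 125521)
 (.leaf 125536)))
 (.node (.node (.leaf 125601)
 (.leaf 125616))
 (.node (.leaf 125617)
 (.leaf 125649))))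
 (.node (.node (.node (.leaf 125664)
 (.leaf 125712))
 (.node (.leaf 125713)
 (.leaf 125840)))
 (.node (.node (.leaf 125841)
 (.leaf 125856))
 (.node (.leaf 125857)
 (.leaf 125921)))))
 (.node (.node (.node (.node (.leaf 125952)
 (.leaf 125968))
 (.node (.leaf 125984)
 (.leaf 126017)))
 (.node (.node (.leaf 126032)
 (.leaf 126033))
 (.node (.leaf 126081)
 (.leaf 126113))))
 (.node (.node (.node (.leaf 126160)
 (.leaf 126177))
 (.node (.leaf 126225)
 (.leaf 126241)))
 (.node (.node (.leaf 126272)
 (.leaf 126321))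
 (.node (.leaf 126353)
 (.leaf 126384))))))

def entTB129 : RT := .node (.node (.node (.node (.node (.node (.leaf 126416)
 (.leaf 126433))
 (.node (.leaf 126449)
 (.leaf 126688)))
 (.node (.node (.leaf 126784)
 (.leaf 126785))
 (.node (.leaf 126833)
 (.leaf 126897))))
 (.node (.node (.node (.leaf 126912)
 (.leaf 126960))
 (.node (.leaf 127008)
 (.leaf 127136)))
 (.node (.node (.leaf 127217)
 (.leaf 127281))
 (.node (.leaf 127297)
 (.leaf 127344)))))
 (.node (.node (.node (.node (.leaf 127520)
 (.leaf 127553))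
 (.node (.leaf 127568)
 (.leaf 127633)))
 (.node (.node (.leaf 127665)
 (.leaf 127681))
 (.node (.leaf 127696)
 (.leaf 127712))))
 (.node (.node (.node (.leaf 127728)
 (.leaf 127744))
 (.node (.leaf 127761)
 (.leaf 127793)))
 (.node (.node (.leaf 127841)
 (.leaf 127857))
 (.node (.leaf 127904)
 (.leaf 127905))))))
 (.node (.node (.node (.node (.node (.leaf 127921)
 (.leaf 127936))
 (.node (.leaf 127968)
 (.leaf 127969)))
 (.node (.node (.leaf 128001)
 (.leaf 128032))
 (.node (.leaf 128033)
 (.leaf 128048))))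
 (.node (.node (.node (.leaf 128065)
 (.leaf 128097))
 (.node (.leaf 128128)
 (.leaf 128193)))
 (.node (.node (.leaf 128272)
 (.leaf 128336))
 (.node (.leaf 128400)
 (.leaf 128417)))))
 (.node (.node (.node (.node (.leaf 128432)
 (.leaf 128576))
 (.node (.leaf 128577)
 (.leaf 128592)))
 (.node (.node (.leaf 128593)
 (.leaf 128625))
 (.node (.leaf 128641)
 (.leaf 128656))))
 (.node (.node (.node (.leaf 128689)
 (.leaf 128753))
 (.node (.leaf 128784)
 (.leaf 128785)))
 (.node (.node (.leaf 128800)
 (.leaf 128896))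
 (.node (.leaf 128929)
 (.leaf 129040))))))

def entTB130 : RT := .node (.node (.node (.node (.node (.node (.leaf 129041)
 (.leaf 129056))
 (.node (.leaf 129089)
 (.leaf 129105)))
 (.node (.node (.leaf 129120)
 (.leaf 129121))
 (.node (.leaf 129184)
 (.leaf 129217))))
 (.node (.node (.node (.leaf 129264)
 (.leaf 129297))
 (.node (.leaf 129312)
 (.leaf 129313)))
 (.node (.node (.leaf 129329)
 (.leaf 129393))
 (.node (.leaf 129408)
 (.leaf 129505)))))
 (.node (.node (.node (.node (.leaf 129552)
 (.leaf 129553))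
 (.node (.leaf 129568)
 (.leaf 129584)))
 (.node (.node (.leaf 129616)
 (.leaf 129633))
 (.node (.leaf 129649)
 (.leaf 129665))))
 (.node (.node (.node (.leaf 129712)
 (.leaf 129728))
 (.node (.leaf 129761)
 (.leaf 129809)))
 (.node (.node (.leaf 129840)
 (.leaf 129857))
 (.node (.leaf 129889)
 (.leaf 129920))))))
 (.node (.node (.node (.node (.node (.leaf 129921)
 (.leaf 129984))
 (.node (.leaf 130017)
 (.leaf 130033)))
 (.node (.node (.leaf 130097)
 (.leaf 130112))
 (.node (.leaf 130161)
 (.leaf 130193))))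
 (.node (.node (.node (.leaf 130224)
 (.leaf 130305))
 (.node (.leaf 130400)
 (.leaf 130401)))
 (.node (.node (.leaf 130464)
 (.leaf 130465))
 (.node (.leaf 130576)
 (.leaf 130609)))))
 (.node (.node (.node (.node (.leaf 130753)
 (.leaf 130785))
 (.node (.leaf 131008)
 (.leaf 131105)))
 (.node (.node (.leaf 131184)
 (.leaf 131264))
 (.node (.leaf 131377)
 (.leaf 131537))))
 (.node (.node (.node (.leaf 131553)
 (.leaf 131664))
 (.node (.leaf 131825)
 (.leaf 131905)))
 (.node (.node (.leaf 131952)
 (.leaf 131968))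
 (.node (.leaf 132241)
 (.leaf 132384))))))

def entTB131 : RT := .node (.node (.node (.node (.node (.node (.leaf 132417)
 (.leaf 132496))
 (.node (.leaf 132592)
 (.leaf 132593)))
 (.node (.node (.leaf 132624)
 (.leaf 132641))
 (.node (.leaf 132705)
 (.leaf 132801))))
 (.node (.node (.node (.leaf 132944)
 (.leaf 133057))
 (.node (.leaf 133201)
 (.leaf 133281)))
 (.node (.node (.leaf 133313)
 (.leaf 133456))
 (.node (.leaf 133505)
 (.leaf 133552)))))
 (.node (.node (.node (.node (.leaf 133649)
 (.leaf 134422))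
 (.node (.leaf 134416)
 (.leaf 134417)))
 (.node (.node (.leaf 134432)
 (.leaf 134433))
 (.node (.leaf 134448)
 (.leaf 134449))))
 (.node (.node (.node (.leaf 134464)
 (.leaf 134465))
 (.node (.leaf 134480)
 (.leaf 134481)))
 (.node (.node (.leaf 134496)
 (.leaf 134497))
 (.node (.leaf 134512)
 (.leaf 134513))))))
 (.node (.node (.node (.node (.node (.leaf 134529)
 (.leaf 134544))
 (.node (.leaf 134545)
 (.leaf 134560)))
 (.node (.node (.leaf 134561)
 (.leaf 134576))
 (.node (.leaf 134577)
 (.leaf 134592))))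
 (.node (.node (.node (.leaf 134593)
 (.leaf 134608))
 (.node (.leaf 134609)
 (.leaf 134624)))
 (.node (.node (.leaf 134625)
 (.leaf 134640))
 (.node (.leaf 134641)
 (.leaf 134656)))))
 (.node (.node (.node (.node (.leaf 134657)
 (.leaf 134672))
 (.node (.leaf 134673)
 (.leaf 134688)))
 (.node (.node (.leaf 134704)
 (.leaf 134705))
 (.node (.leaf 134720)
 (.leaf 134721))))
 (.node (.node (.node (.leaf 134736)
 (.leaf 134737))
 (.node (.leaf 134752)
 (.leaf 134753)))
 (.node (.node (.leaf 134769)
 (.leaf 134784))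
 (.node (.leaf 134785)
 (.leaf 134800))))))

def entTB132 : RT := .node (.node (.node (.node (.node (.node (.leaf 134816)
 (.leaf 134817))
 (.node (.leaf 134832)
 (.leaf 134833)))
 (.node (.node (.leaf 134848)
 (.leaf 134849))
 (.node (.leaf 134864)
 (.leaf 134865))))
 (.node (.node (.node (.leaf 134880)
 (.leaf 134881))
 (.node (.leaf 134896)
 (.leaf 134897)))
 (.node (.node (.leaf 134912)
 (.leaf 134913))
 (.node (.leaf 134928)
 (.leaf 134929)))))
 (.node (.node (.node (.node (.leaf 134944)
 (.leaf 134945))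
 (.node (.leaf 134960)
 (.leaf 134961)))
 (.node (.node (.leaf 134977)
 (.leaf 134992))
 (.node (.leaf 134993)
 (.leaf 135008))))
 (.node (.node (.node (.leaf 135024)
 (.leaf 135025))
 (.node (.leaf 135040)
 (.leaf 135041)))
 (.node (.node (.leaf 135056)
 (.leaf 135057))
 (.node (.leaf 135072)
 (.leaf 135073))))))
 (.node (.node (.node (.node (.node (.leaf 135088)
 (.leaf 135089))
 (.node (.leaf 135104)
 (.leaf 135105)))
 (.node (.node (.leaf 135120)
 (.leaf 135121))
 (.node (.leaf 135136)
 (.leaf 135137))))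
 (.node (.node (.node (.leaf 135152)
 (.leaf 135153))
 (.node (.leaf 135168)
 (.leaf 135169)))
 (.node (.node (.leaf 135185)
 (.leaf 135201))
 (.node (.leaf 135216)
 (.leaf 135217)))))
 (.node (.node (.node (.node (.leaf 135232)
 (.leaf 135248))
 (.node (.leaf 135249)
 (.leaf 135264)))
 (.node (.node (.leaf 135265)
 (.leaf 135280))
 (.node (.leaf 135281)
 (.leaf 135296))))
 (.node (.node (.node (.leaf 135297)
 (.leaf 135312))
 (.node (.leaf 135313)
 (.leaf 135328)))
 (.node (.node (.leaf 135329)
 (.leaf 135344))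
 (.node (.leaf 135345)
 (.leaf 135360))))))

def entTB133 : RT := .node (.node (.node (.node (.node (.node (.leaf 135361)
 (.leaf 135376))
 (.node (.leaf 135377)
 (.leaf 135393)))
 (.node (.node (.leaf 135408)
 (.leaf 135409))
 (.node (.leaf 135424)
 (.leaf 135440))))
 (.node (.node (.node (.leaf 135441)
 (.leaf 135456))
 (.node (.leaf 135457)
 (.leaf 135472)))
 (.node (.node (.leaf 135473)
 (.leaf 135488))
 (.node (.leaf 135504)
 (.leaf 135505)))))
 (.node (.node (.node (.node (.leaf 135520)
 (.leaf 135536))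
 (.node (.leaf 135537)
 (.leaf 135552)))
 (.node (.node (.leaf 135553)
 (.leaf 135568))
 (.node (.leaf 135569)
 (.leaf 135585))))
 (.node (.node (.node (.leaf 135600)
 (.leaf 135601))
 (.node (.leaf 135616)
 (.leaf 135632)))
 (.node (.node (.leaf 135633)
 (.leaf 135648))
 (.node (.leaf 135649)
 (.leaf 135664))))))
 (.node (.node (.node (.node (.node (.leaf 135665)
 (.leaf 135680))
 (.node (.leaf 135681)
 (.leaf 135696)))
 (.node (.node (.leaf 135697)
 (.leaf 135712))
 (.node (.leaf 135713)
 (.leaf 135728))))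
 (.node (.node (.node (.leaf 135729)
 (.leaf 135744))
 (.node (.leaf 135745)
 (.leaf 135760)))
 (.node (.node (.leaf 135761)
 (.leaf 135776))
 (.node (.leaf 135777)
 (.leaf 135792)))))
 (.node (.node (.node (.node (.leaf 135793)
 (.leaf 135809))
 (.node (.leaf 135824)
 (.leaf 135825)))
 (.node (.node (.leaf 135840)
 (.leaf 135841))
 (.node (.leaf 135856)
 (.leaf 135857))))
 (.node (.node (.node (.leaf 135872)
 (.leaf 135873))
 (.node (.leaf 135888)
 (.leaf 135889)))
 (.node (.node (.leaf 135904)
 (.leaf 135920))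
 (.node (.leaf 135921)
 (.leaf 135936))))))

def entTB134 : RT := .node (.node (.node (.node (.node (.node (.leaf 135952)
 (.leaf 135968))
 (.node (.leaf 135985)
 (.leaf 136000)))
 (.node (.node (.leaf 136016)
 (.leaf 136032))
 (.node (.leaf 136048)
 (.leaf 136049))))
 (.node (.node (.node (.leaf 136064)
 (.leaf 136065))
 (.node (.leaf 136080)
 (.leaf 136081)))
 (.node (.node (.leaf 136096)
 (.leaf 136113))
 (.node (.leaf 136128)
 (.leaf 136129)))))
 (.node (.node (.node (.node (.leaf 136144)
 (.leaf 136160))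
 (.node (.leaf 136161)
 (.leaf 136176)))
 (.node (.node (.leaf 136177)
 (.leaf 136193))
 (.node (.leaf 136208)
 (.leaf 136209))))
 (.node (.node (.node (.leaf 136224)
 (.leaf 136225))
 (.node (.leaf 136240)
 (.leaf 136241)))
 (.node (.node (.leaf 136256)
 (.leaf 136257))
 (.node (.leaf 136272)
 (.leaf 136273))))))
 (.node (.node (.node (.node (.node (.leaf 136288)
 (.leaf 136289))
 (.node (.leaf 136304)
 (.leaf 136305)))
 (.node (.node (.leaf 136320)
 (.leaf 136321))
 (.node (.leaf 136337)
 (.leaf 136368))))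
 (.node (.node (.node (.leaf 136384)
 (.leaf 136385))
 (.node (.leaf 136400)
 (.leaf 136401)))
 (.node (.node (.leaf 136416)
 (.leaf 136432))
 (.node (.leaf 136433)
 (.leaf 136448)))))
 (.node (.node (.node (.node (.leaf 136449)
 (.leaf 136465))
 (.node (.leaf 136480)
 (.leaf 136481)))
 (.node (.node (.leaf 136496)
 (.leaf 136497))
 (.node (.leaf 136513)
 (.leaf 136528))))
 (.node (.node (.node (.leaf 136529)
 (.leaf 136544))
 (.node (.leaf 136545)
 (.leaf 136560)))
 (.node (.node (.leaf 136561)
 (.leaf 136576))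
 (.node (.leaf 136577)
 (.leaf 136592))))))

def entTB135 : RT := .node (.node (.node (.node (.node (.node (.leaf 136593)
 (.leaf 136608))
 (.node (.leaf 136624)
 (.leaf 136625)))
 (.node (.node (.leaf 136640)
 (.leaf 136641))
 (.node (.leaf 136657)
 (.leaf 136672))))
 (.node (.node (.node (.leaf 136673)
 (.leaf 136688))
 (.node (.leaf 136704)
 (.leaf 136705)))
 (.node (.node (.leaf 136720)
 (.leaf 136721))
 (.node (.leaf 136736)
 (.leaf 136737)))))
 (.node (.node (.node (.node (.leaf 136752)
 (.leaf 136768))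
 (.node (.leaf 136784)
 (.leaf 136785)))
 (.node (.node (.leaf 136800)
 (.leaf 136801))
 (.node (.leaf 136816)
 (.leaf 136832))))
 (.node (.node (.node (.leaf 136833)
 (.leaf 136864))
 (.node (.leaf 136865)
 (.leaf 136896)))
 (.node (.node (.leaf 136897)
 (.leaf 136912))
 (.node (.leaf 136928)
 (.leaf 136929))))))
 (.node (.node (.node (.node (.node (.leaf 136944)
 (.leaf 136945))
 (.node (.leaf 136960)
 (.leaf 136961)))
 (.node (.node (.leaf 136976)
 (.leaf 136977))
 (.node (.leaf 136992)
 (.leaf 136993))))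
 (.node (.node (.node (.leaf 137008)
 (.leaf 137009))
 (.node (.leaf 137025)
 (.leaf 137040)))
 (.node (.node (.leaf 137041)
 (.leaf 137056))
 (.node (.leaf 137072)
 (.leaf 137073)))))
 (.node (.node (.node (.node (.leaf 137088)
 (.leaf 137089))
 (.node (.leaf 137104)
 (.leaf 137105)))
 (.node (.node (.leaf 137120)
 (.leaf 137121))
 (.node (.leaf 137136)
 (.leaf 137137))))
 (.node (.node (.node (.leaf 137152)
 (.leaf 137153))
 (.node (.leaf 137168)
 (.leaf 137169)))
 (.node (.node (.leaf 137185)
 (.leaf 137201))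
 (.node (.leaf 137216)
 (.leaf 137217))))))

def entTB136 : RT := .node (.node (.node (.node (.node (.node (.leaf 137232)
 (.leaf 137233))
 (.node (.leaf 137248)
 (.leaf 137249)))
 (.node (.node (.leaf 137264)
 (.leaf 137280))
 (.node (.leaf 137296)
 (.leaf 137297))))
 (.node (.node (.node (.leaf 137313)
 (.leaf 137329))
 (.node (.leaf 137344)
 (.leaf 137361)))
 (.node (.node (.leaf 137376)
 (.leaf 137392))
 (.node (.leaf 137393)
 (.leaf 137408)))))
 (.node (.node (.node (.node (.leaf 137409)
 (.leaf 137424))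
 (.node (.leaf 137425)
 (.leaf 137440)))
 (.node (.node (.leaf 137441)
 (.leaf 137457))
 (.node (.leaf 137472)
 (.leaf 137473))))
 (.node (.node (.node (.leaf 137488)
 (.leaf 137489))
 (.node (.leaf 137504)
 (.leaf 137505)))
 (.node (.node (.leaf 137521)
 (.leaf 137536))
 (.node (.leaf 137537)
 (.leaf 137553))))))
 (.node (.node (.node (.node (.node (.leaf 137568)
 (.leaf 137569))
 (.node (.leaf 137584)
 (.leaf 137585)))
 (.node (.node (.leaf 137600)
 (.leaf 137601))
 (.node (.leaf 137616)
 (.leaf 137617))))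
 (.node (.node (.node (.leaf 137633)
 (.leaf 137648))
 (.node (.leaf 137665)
 (.leaf 137680)))
 (.node (.node (.leaf 137681)
 (.leaf 137696))
 (.node (.leaf 137712)
 (.leaf 137713)))))
 (.node (.node (.node (.node (.leaf 137729)
 (.leaf 137744))
 (.node (.leaf 137745)
 (.leaf 137760)))
 (.node (.node (.leaf 137761)
 (.leaf 137776))
 (.node (.leaf 137777)
 (.leaf 137792))))
 (.node (.node (.node (.leaf 137793)
 (.leaf 137808))
 (.node (.leaf 137809)
 (.leaf 137824)))
 (.node (.node (.leaf 137825)
 (.leaf 137840))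
 (.node (.leaf 137856)
 (.leaf 137857))))))

def entTB137 : RT := .node (.node (.node (.node (.node (.node (.leaf 137872)
 (.leaf 137889))
 (.node (.leaf 137905)
 (.leaf 137921)))
 (.node (.node (.leaf 137953)
 (.leaf 137984))
 (.node (.leaf 137985)
 (.leaf 138000))))
 (.node (.node (.node (.leaf 138001)
 (.leaf 138016))
 (.node (.leaf 138017)
 (.leaf 138049)))
 (.node (.node (.leaf 138064)
 (.leaf 138065))
 (.node (.leaf 138080)
 (.leaf 138081)))))
 (.node (.node (.node (.node (.leaf 138096)
 (.leaf 138097))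
 (.node (.leaf 138112)
 (.leaf 138113)))
 (.node (.node (.leaf 138128)
 (.leaf 138129))
 (.node (.leaf 138145)
 (.leaf 138160))))
 (.node (.node (.node (.leaf 138161)
 (.leaf 138176))
 (.node (.leaf 138177)
 (.leaf 138192)))
 (.node (.node (.leaf 138193)
 (.leaf 138208))
 (.node (.leaf 138209)
 (.leaf 138225))))))
 (.node (.node (.node (.node (.node (.leaf 138257)
 (.leaf 138272))
 (.node (.leaf 138273)
 (.leaf 138288)))
 (.node (.node (.leaf 138289)
 (.leaf 138304))
 (.node (.leaf 138305)
 (.leaf 138320))))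
 (.node (.node (.node (.leaf 138321)
 (.leaf 138337))
 (.node (.leaf 138352)
 (.leaf 138353)))
 (.node (.node (.leaf 138368)
 (.leaf 138369))
 (.node (.leaf 138384)
 (.leaf 138400)))))
 (.node (.node (.node (.node (.leaf 138401)
 (.leaf 138416))
 (.node (.leaf 138417)
 (.leaf 138448)))
 (.node (.node (.leaf 138449)
 (.leaf 138481))
 (.node (.leaf 138496)
 (.leaf 138544))))
 (.node (.node (.node (.leaf 138545)
 (.leaf 138576))
 (.node (.leaf 138577)
 (.leaf 138592)))
 (.node (.node (.leaf 138593)
 (.leaf 138608))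
 (.node (.leaf 138656)
 (.leaf 138657))))))

def entTB138 : RT := .node (.node (.node (.node (.node (.node (.leaf 138672)
 (.leaf 138673))
 (.node (.leaf 138688)
 (.leaf 138705)))
 (.node (.node (.leaf 138720)
 (.leaf 138736))
 (.node (.leaf 138737)
 (.leaf 138752))))
 (.node (.node (.node (.leaf 138753)
 (.leaf 138768))
 (.node (.leaf 138785)
 (.leaf 138800)))
 (.node (.node (.leaf 138816)
 (.leaf 138832))
 (.node (.leaf 138833)
 (.leaf 138848)))))
 (.node (.node (.node (.node (.leaf 138865)
 (.leaf 138880))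
 (.node (.leaf 138896)
 (.leaf 138912)))
 (.node (.node (.leaf 138913)
 (.leaf 138928))
 (.node (.leaf 138945)
 (.leaf 138976))))
 (.node (.node (.node (.leaf 138992)
 (.leaf 138993))
 (.node (.leaf 139008)
 (.leaf 139009)))
 (.node (.node (.leaf 139024)
 (.leaf 139025))
 (.node (.leaf 139040)
 (.leaf 139073))))))
 (.node (.node (.node (.node (.node (.leaf 139088)
 (.leaf 139089))
 (.node (.leaf 139120)
 (.leaf 139121)))
 (.node (.node (.leaf 139152)
 (.leaf 139184))
 (.node (.leaf 139200)
 (.leaf 139201))))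
 (.node (.node (.node (.leaf 139249)
 (.leaf 139264))
 (.node (.leaf 139265)
 (.leaf 139280)))
 (.node (.node (.leaf 139281)
 (.leaf 139296))
 (.node (.leaf 139313)
 (.leaf 139329)))))
 (.node (.node (.node (.node (.leaf 139345)
 (.leaf 139376))
 (.node (.leaf 139377)
 (.leaf 139392)))
 (.node (.node (.leaf 139393)
 (.leaf 139408))
 (.node (.leaf 139409)
 (.leaf 139440))))
 (.node (.node (.node (.leaf 139457)
 (.leaf 139488))
 (.node (.leaf 139489)
 (.leaf 139520)))
 (.node (.node (.leaf 139536)
 (.leaf 139552))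
 (.node (.leaf 139553)
 (.leaf 139568))))))

def entTB139 : RT := .node (.node (.node (.node (.node (.node (.leaf 139585)
 (.leaf 139601))
 (.node (.leaf 139632)
 (.leaf 139633)))
 (.node (.node (.leaf 139648)
 (.leaf 139665))
 (.node (.leaf 139680)
 (.leaf 139681))))
 (.node (.node (.node (.leaf 139696)
 (.leaf 139712))
 (.node (.leaf 139713)
 (.leaf 139745)))
 (.node (.node (.leaf 139760)
 (.leaf 139761))
 (.node (.leaf 139777)
 (.leaf 139793)))))
 (.node (.node (.node (.node (.leaf 139824)
 (.leaf 139825))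
 (.node (.leaf 139840)
 (.leaf 139841)))
 (.node (.node (.leaf 139856)
 (.leaf 139857))
 (.node (.leaf 139872)
 (.leaf 139888))))
 (.node (.node (.node (.leaf 139904)
 (.leaf 139905))
 (.node (.leaf 139920)
 (.leaf 139937)))
 (.node (.node (.leaf 139984)
 (.leaf 140000))
 (.node (.leaf 140001)
 (.leaf 140016))))))
 (.node (.node (.node (.node (.node (.leaf 140017)
 (.leaf 140033))
 (.node (.leaf 140049)
 (.leaf 140064)))
 (.node (.node (.leaf 140065)
 (.leaf 140081))
 (.node (.leaf 140112)
 (.leaf 140128))))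
 (.node (.node (.node (.leaf 140129)
 (.leaf 140144))
 (.node (.leaf 140145)
 (.leaf 140160)))
 (.node (.node (.leaf 140161)
 (.leaf 140176))
 (.node (.leaf 140177)
 (.leaf 140192)))))
 (.node (.node (.node (.node (.leaf 140193)
 (.leaf 140208))
 (.node (.leaf 140209)
 (.leaf 140224)))
 (.node (.node (.leaf 140241)
 (.leaf 140272))
 (.node (.leaf 140273)
 (.leaf 140289))))
 (.node (.node (.node (.leaf 140336)
 (.leaf 140337))
 (.node (.leaf 140352)
 (.leaf 140384)))
 (.node (.node (.leaf 140385)
 (.leaf 140400))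
 (.node (.leaf 140401)
 (.leaf 140416))))))

def entTB140 : RT := .node (.node (.node (.node (.node (.node (.leaf 140417)
 (.leaf 140432))
 (.node (.leaf 140449)
 (.leaf 140480)))
 (.node (.node (.leaf 140497)
 (.leaf 140512))
 (.node (.leaf 140513)
 (.leaf 140529))))
 (.node (.node (.node (.leaf 140561)
 (.leaf 140576))
 (.node (.leaf 140592)
 (.leaf 140593)))
 (.node (.node (.leaf 140609)
 (.leaf 140624))
 (.node (.leaf 140625)
 (.leaf 140656)))))
 (.node (.node (.node (.node (.leaf 140657)
 (.leaf 140673))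
 (.node (.leaf 140704)
 (.leaf 140705)))
 (.node (.node (.leaf 140737)
 (.leaf 140768))
 (.node (.leaf 140784)
 (.leaf 140800))))
 (.node (.node (.node (.leaf 140865)
 (.leaf 140880))
 (.node (.leaf 140881)
 (.leaf 140896)))
 (.node (.node (.leaf 140897)
 (.leaf 140913))
 (.node (.leaf 140928)
 (.leaf 140929))))))
 (.node (.node (.node (.node (.node (.leaf 140945)
 (.leaf 140961))
 (.node (.leaf 140976)
 (.leaf 140977)))
 (.node (.node (.leaf 140993)
 (.leaf 141009))
 (.node (.leaf 141041)
 (.leaf 141088))))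
 (.node (.node (.node (.leaf 141089)
 (.leaf 141104))
 (.node (.leaf 141105)
 (.leaf 141120)))
 (.node (.node (.leaf 141137)
 (.leaf 141153))
 (.node (.leaf 141168)
 (.leaf 141169)))))
 (.node (.node (.node (.node (.leaf 141185)
 (.leaf 141217))
 (.node (.leaf 141233)
 (.leaf 141248)))
 (.node (.node (.leaf 141249)
 (.leaf 141265))
 (.node (.leaf 141280)
 (.leaf 141296))))
 (.node (.node (.node (.leaf 141297)
 (.leaf 141360))
 (.node (.leaf 141408)
 (.leaf 141440)))
 (.node (.node (.leaf 141441)
 (.leaf 141456))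
 (.node (.leaf 141473)
 (.leaf 141488))))))

def entTB141 : RT := .node (.node (.node (.node (.node (.node (.leaf 141505)
 (.leaf 141536))
 (.node (.leaf 141537)
 (.leaf 141553)))
 (.node (.node (.leaf 141569)
 (.leaf 141601))
 (.node (.leaf 141633)
 (.leaf 141648))))
 (.node (.node (.node (.leaf 141665)
 (.leaf 141680))
 (.node (.leaf 141696)
 (.leaf 141697)))
 (.node (.node (.leaf 141712)
 (.leaf 141744))
 (.node (.leaf 141745)
 (.leaf 141792)))))
 (.node (.node (.node (.node (.leaf 141824)
 (.leaf 141840))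
 (.node (.leaf 141841)
 (.leaf 141857)))
 (.node (.node (.leaf 141872)
 (.leaf 141904))
 (.node (.leaf 141921)
 (.leaf 141953))))
 (.node (.node (.node (.leaf 141969)
 (.leaf 142000))
 (.node (.leaf 142080)
 (.leaf 142128)))
 (.node (.node (.leaf 142129)
 (.leaf 142145))
 (.node (.leaf 142177)
 (.leaf 142240))))))
 (.node (.node (.node (.node (.node (.leaf 142256)
 (.leaf 142273))
 (.node (.leaf 142288)
 (.leaf 142321)))
 (.node (.node (.leaf 142352)
 (.leaf 142353))
 (.node (.leaf 142368)
 (.leaf 142417))))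
 (.node (.node (.node (.leaf 142432)
 (.leaf 142433))
 (.node (.leaf 142448)
 (.leaf 142449)))
 (.node (.node (.leaf 142464)
 (.leaf 142465))
 (.node (.leaf 142496)
 (.leaf 142497)))))
 (.node (.node (.node (.node (.leaf 142513)
 (.leaf 142544))
 (.node (.leaf 142545)
 (.leaf 142561)))
 (.node (.node (.leaf 142576)
 (.leaf 142577))
 (.node (.leaf 142608)
 (.leaf 142641))))
 (.node (.node (.node (.leaf 142656)
 (.leaf 142688))
 (.node (.leaf 142705)
 (.leaf 142720)))
 (.node (.node (.leaf 142736)
 (.leaf 142737))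
 (.node (.leaf 142752)
 (.leaf 142769))))))

def entTB142 : RT := .node (.node (.node (.node (.node (.node (.leaf 142785)
 (.leaf 142800))
 (.node (.leaf 142801)
 (.leaf 142816)))
 (.node (.node (.leaf 142833)
 (.leaf 142848))
 (.node (.leaf 142864)
 (.leaf 142865))))
 (.node (.node (.node (.leaf 142896)
 (.leaf 142928))
 (.node (.leaf 142929)
 (.leaf 142944)))
 (.node (.node (.leaf 142976)
 (.leaf 142977))
 (.node (.leaf 143057)
 (.leaf 143073)))))
 (.node (.node (.node (.node (.leaf 143088)
 (.leaf 143136))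
 (.node (.leaf 143137)
 (.leaf 143201)))
 (.node (.node (.leaf 143217)
 (.leaf 143232))
 (.node (.leaf 143233)
 (.leaf 143248))))
 (.node (.node (.node (.leaf 143296)
 (.leaf 143297))
 (.node (.leaf 143329)
 (.leaf 143344)))
 (.node (.node (.leaf 143377)
 (.leaf 143456))
 (.node (.leaf 143457)
 (.leaf 143472))))))
 (.node (.node (.node (.node (.node (.leaf 143488)
 (.leaf 143504))
 (.node (.leaf 143537)
 (.leaf 143552)))
 (.node (.node (.leaf 143553)
 (.leaf 143568))
 (.node (.leaf 143584)
 (.leaf 143633))))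
 (.node (.node (.node (.leaf 143681)
 (.leaf 143712))
 (.node (.leaf 143744)
 (.leaf 143761)))
 (.node (.node (.leaf 143872)
 (.leaf 143873))
 (.node (.leaf 143889)
 (.leaf 143921)))))
 (.node (.node (.node (.node (.leaf 143952)
 (.leaf 143969))
 (.node (.leaf 144001)
 (.leaf 144016)))
 (.node (.node (.leaf 144032)
 (.leaf 144033))
 (.node (.leaf 144049)
 (.leaf 144128))))
 (.node (.node (.node (.leaf 144129)
 (.leaf 144144))
 (.node (.leaf 144177)
 (.leaf 144209)))
 (.node (.node (.leaf 144257)
 (.leaf 144289))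
 (.node (.leaf 144304)
 (.leaf 144385))))))

def entTB143 : RT := .node (.node (.node (.node (.node (.node (.leaf 144448)
 (.leaf 144481))
 (.node (.leaf 144560)
 (.leaf 144561)))
 (.node (.node (.leaf 144609)
 (.leaf 144625))
 (.node (.leaf 144672)
 (.leaf 144689))))
 (.node (.node (.node (.leaf 144864)
 (.leaf 144977))
 (.node (.leaf 145009)
 (.leaf 145041)))
 (.node (.node (.leaf 145072)
 (.leaf 145073))
 (.node (.leaf 145105)
 (.leaf 145136)))))
 (.node (.node (.node (.node (.leaf 145152)
 (.leaf 145184))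
 (.node (.leaf 145248)
 (.leaf 145265)))
 (.node (.node (.leaf 145297)
 (.leaf 145312))
 (.node (.leaf 145313)
 (.leaf 145392))))
 (.node (.node (.node (.leaf 145393)
 (.leaf 145408))
 (.node (.leaf 145441)
 (.leaf 145488)))
 (.node (.node (.leaf 145504)
 (.leaf 145536))
 (.node (.leaf 145601)
 (.leaf 145649))))))
 (.node (.node (.node (.node (.node (.leaf 145696)
 (.leaf 145697))
 (.node (.leaf 145905)
 (.leaf 145921)))
 (.node (.node (.leaf 145968)
 (.leaf 145985))
 (.node (.leaf 146257)
 (.leaf 146273))))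
 (.node (.node (.node (.leaf 146289)
 (.leaf 146368))
 (.node (.leaf 146576)
 (.leaf 146673)))
 (.node (.node (.leaf 146800)
 (.leaf 146849))
 (.node (.leaf 146881)
 (.leaf 146913)))))
 (.node (.node (.node (.node (.leaf 147105)
 (.leaf 147223))
 (.node (.leaf 147216)
 (.leaf 147217)))
 (.node (.node (.leaf 147232)
 (.leaf 147233))
 (.node (.leaf 147248)
 (.leaf 147249))))
 (.node (.node (.node (.leaf 147264)
 (.leaf 147265))
 (.node (.leaf 147280)
 (.leaf 147281)))
 (.node (.node (.leaf 147296)
 (.leaf 147297))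
 (.node (.leaf 147312)
 (.leaf 147313))))))

def entTB144 : RT := .node (.node (.node (.node (.node (.node (.leaf 147329)
 (.leaf 147344))
 (.node (.leaf 147345)
 (.leaf 147360)))
 (.node (.node (.leaf 147361)
 (.leaf 147376))
 (.node (.leaf 147377)
 (.leaf 147392))))
 (.node (.node (.node (.leaf 147393)
 (.leaf 147408))
 (.node (.leaf 147409)
 (.leaf 147424)))
 (.node (.node (.leaf 147425)
 (.leaf 147440))
 (.node (.leaf 147441)
 (.leaf 147456)))))
 (.node (.node (.node (.node (.leaf 147457)
 (.leaf 147472))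
 (.node (.leaf 147473)
 (.leaf 147488)))
 (.node (.node (.leaf 147489)
 (.leaf 147504))
 (.node (.leaf 147505)
 (.leaf 147520))))
 (.node (.node (.node (.leaf 147521)
 (.leaf 147536))
 (.node (.leaf 147537)
 (.leaf 147552)))
 (.node (.node (.leaf 147553)
 (.leaf 147569))
 (.node (.leaf 147584)
 (.leaf 147585))))))
 (.node (.node (.node (.node (.node (.leaf 147600)
 (.leaf 147616))
 (.node (.leaf 147617)
 (.leaf 147632)))
 (.node (.node (.leaf 147633)
 (.leaf 147648))
 (.node (.leaf 147649)
 (.leaf 147664))))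
 (.node (.node (.node (.leaf 147665)
 (.leaf 147680))
 (.node (.leaf 147681)
 (.leaf 147696)))
 (.node (.node (.leaf 147697)
 (.leaf 147712))
 (.node (.leaf 147713)
 (.leaf 147728)))))
 (.node (.node (.node (.node (.leaf 147729)
 (.leaf 147744))
 (.node (.leaf 147745)
 (.leaf 147760)))
 (.node (.node (.leaf 147761)
 (.leaf 147776))
 (.node (.leaf 147777)
 (.leaf 147793))))
 (.node (.node (.node (.leaf 147808)
 (.leaf 147809))
 (.node (.leaf 147824)
 (.leaf 147840)))
 (.node (.node (.leaf 147841)
 (.leaf 147856))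
 (.node (.leaf 147857)
 (.leaf 147872))))))

def entTB145 : RT := .node (.node (.node (.node (.node (.node (.leaf 147873)
 (.leaf 147888))
 (.node (.leaf 147889)
 (.leaf 147904)))
 (.node (.node (.leaf 147905)
 (.leaf 147920))
 (.node (.leaf 147921)
 (.leaf 147936))))
 (.node (.node (.node (.leaf 147937)
 (.leaf 147952))
 (.node (.leaf 147953)
 (.leaf 147968)))
 (.node (.node (.leaf 147969)
 (.leaf 147984))
 (.node (.leaf 147985)
 (.leaf 148000)))))
 (.node (.node (.node (.node (.leaf 148001)
 (.leaf 148017))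
 (.node (.leaf 148032)
 (.leaf 148033)))
 (.node (.node (.leaf 148048)
 (.leaf 148064))
 (.node (.leaf 148065)
 (.leaf 148080))))
 (.node (.node (.node (.leaf 148081)
 (.leaf 148096))
 (.node (.leaf 148097)
 (.leaf 148112)))
 (.node (.node (.leaf 148113)
 (.leaf 148128))
 (.node (.leaf 148129)
 (.leaf 148144))))))
 (.node (.node (.node (.node (.node (.leaf 148145)
 (.leaf 148160))
 (.node (.leaf 148161)
 (.leaf 148176)))
 (.node (.node (.leaf 148177)
 (.leaf 148192))
 (.node (.leaf 148193)
 (.leaf 148209))))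
 (.node (.node (.node (.leaf 148224)
 (.leaf 148225))
 (.node (.leaf 148240)
 (.leaf 148256)))
 (.node (.node (.leaf 148257)
 (.leaf 148272))
 (.node (.leaf 148273)
 (.leaf 148288)))))
 (.node (.node (.node (.node (.leaf 148289)
 (.leaf 148304))
 (.node (.leaf 148305)
 (.leaf 148320)))
 (.node (.node (.leaf 148321)
 (.leaf 148336))
 (.node (.leaf 148337)
 (.leaf 148352))))
 (.node (.node (.node (.leaf 148353)
 (.leaf 148368))
 (.node (.leaf 148369)
 (.leaf 148384)))
 (.node (.node (.leaf 148385)
 (.leaf 148400))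
 (.node (.leaf 148401)
 (.leaf 148416))))))

def entTB146 : RT := .node (.node (.node (.node (.node (.node (.leaf 148417)
 (.leaf 148433))
 (.node (.leaf 148448)
 (.leaf 148449)))
 (.node (.node (.leaf 148464)
 (.leaf 148480))
 (.node (.leaf 148481)
 (.leaf 148496))))
 (.node (.node (.node (.leaf 148497)
 (.leaf 148512))
 (.node (.leaf 148513)
 (.leaf 148528)))
 (.node (.node (.leaf 148529)
 (.leaf 148544))
 (.node (.leaf 148545)
 (.leaf 148560)))))
 (.node (.node (.node (.node (.leaf 148561)
 (.leaf 148576))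
 (.node (.leaf 148577)
 (.leaf 148592)))
 (.node (.node (.leaf 148593)
 (.leaf 148608))
 (.node (.leaf 148609)
 (.leaf 148624))))
 (.node (.node (.node (.leaf 148625)
 (.leaf 148640))
 (.node (.leaf 148641)
 (.leaf 148657)))
 (.node (.node (.leaf 148672)
 (.leaf 148673))
 (.node (.leaf 148688)
 (.leaf 148689))))))
 (.node (.node (.node (.node (.node (.leaf 148704)
 (.leaf 148705))
 (.node (.leaf 148720)
 (.leaf 148721)))
 (.node (.node (.leaf 148736)
 (.leaf 148737))
 (.node (.leaf 148752)
 (.leaf 148753))))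
 (.node (.node (.node (.leaf 148768)
 (.leaf 148769))
 (.node (.leaf 148784)
 (.leaf 148785)))
 (.node (.node (.leaf 148800)
 (.leaf 148816))
 (.node (.leaf 148817)
 (.leaf 148832)))))
 (.node (.node (.node (.node (.leaf 148833)
 (.leaf 148849))
 (.node (.leaf 148864)
 (.leaf 148865)))
 (.node (.node (.leaf 148880)
 (.leaf 148896))
 (.node (.leaf 148897)
 (.leaf 148912))))
 (.node (.node (.node (.leaf 148913)
 (.leaf 148928))
 (.node (.leaf 148929)
 (.leaf 148944)))
 (.node (.node (.leaf 148945)
 (.leaf 148960))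
 (.node (.leaf 148977)
 (.leaf 148992))))))

def entTB147 : RT := .node (.node (.node (.node (.node (.node (.leaf 148993)
 (.leaf 149008))
 (.node (.leaf 149024)
 (.leaf 149025)))
 (.node (.node (.leaf 149040)
 (.leaf 149041))
 (.node (.leaf 149056)
 (.leaf 149057))))
 (.node (.node (.node (.leaf 149072)
 (.leaf 149073))
 (.node (.leaf 149088)
 (.leaf 149089)))
 (.node (.node (.leaf 149104)
 (.leaf 149105))
 (.node (.leaf 149120)
 (.leaf 149121)))))
 (.node (.node (.node (.node (.leaf 149136)
 (.leaf 149137))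
 (.node (.leaf 149152)
 (.leaf 149153)))
 (.node (.node (.leaf 149168)
 (.leaf 149169))
 (.node (.leaf 149184)
 (.leaf 149185))))
 (.node (.node (.node (.leaf 149201)
 (.leaf 149216))
 (.node (.leaf 149217)
 (.leaf 149232)))
 (.node (.node (.leaf 149248)
 (.leaf 149249))
 (.node (.leaf 149264)
 (.leaf 149265))))))
 (.node (.node (.node (.node (.node (.leaf 149280)
 (.leaf 149281))
 (.node (.leaf 149296)
 (.leaf 149297)))
 (.node (.node (.leaf 149312)
 (.leaf 149313))
 (.node (.leaf 149328)
 (.leaf 149329))))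
 (.node (.node (.node (.leaf 149344)
 (.leaf 149345))
 (.node (.leaf 149360)
 (.leaf 149361)))
 (.node (.node (.leaf 149376)
 (.leaf 149377))
 (.node (.leaf 149392)
 (.leaf 149393)))))
 (.node (.node (.node (.node (.leaf 149408)
 (.leaf 149409))
 (.node (.leaf 149425)
 (.leaf 149440)))
 (.node (.node (.leaf 149441)
 (.leaf 149456))
 (.node (.leaf 149457)
 (.leaf 149472))))
 (.node (.node (.node (.leaf 149473)
 (.leaf 149488))
 (.node (.leaf 149489)
 (.leaf 149504)))
 (.node (.node (.leaf 149505)
 (.leaf 149520))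
 (.node (.leaf 149521)
 (.leaf 149536))))))

def entTB148 : RT := .node (.node (.node (.node (.node (.node (.leaf 149537)
 (.leaf 149552))
 (.node (.leaf 149553)
 (.leaf 149568)))
 (.node (.node (.leaf 149584)
 (.leaf 149585))
 (.node (.leaf 149600)
 (.leaf 149601))))
 (.node (.node (.node (.leaf 149617)
 (.leaf 149632))
 (.node (.leaf 149633)
 (.leaf 149648)))
 (.node (.node (.leaf 149664)
 (.leaf 149665))
 (.node (.leaf 149680)
 (.leaf 149681)))))
 (.node (.node (.node (.node (.leaf 149696)
 (.leaf 149697))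
 (.node (.leaf 149712)
 (.leaf 149728)))
 (.node (.node (.leaf 149744)
 (.leaf 149745))
 (.node (.leaf 149760)
 (.leaf 149761))))
 (.node (.node (.node (.leaf 149776)
 (.leaf 149792))
 (.node (.leaf 149793)
 (.leaf 149809)))
 (.node (.node (.leaf 149824)
 (.leaf 149825))
 (.node (.leaf 149856)
 (.leaf 149857))))))
 (.node (.node (.node (.node (.node (.leaf 149872)
 (.leaf 149888))
 (.node (.leaf 149889)
 (.leaf 149904)))
 (.node (.node (.leaf 149905)
 (.leaf 149920))
 (.node (.leaf 149921)
 (.leaf 149936))))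
 (.node (.node (.node (.leaf 149937)
 (.leaf 149952))
 (.node (.leaf 149953)
 (.leaf 149968)))
 (.node (.node (.leaf 149969)
 (.leaf 149985))
 (.node (.leaf 150000)
 (.leaf 150001)))))
 (.node (.node (.node (.node (.leaf 150016)
 (.leaf 150032))
 (.node (.leaf 150033)
 (.leaf 150048)))
 (.node (.node (.leaf 150049)
 (.leaf 150064))
 (.node (.leaf 150065)
 (.leaf 150080))))
 (.node (.node (.node (.leaf 150081)
 (.leaf 150096))
 (.node (.leaf 150097)
 (.leaf 150112)))
 (.node (.node (.leaf 150113)
 (.leaf 150128))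
 (.node (.leaf 150129)
 (.leaf 150144))))))

def entTB149 : RT := .node (.node (.node (.node (.node (.node (.leaf 150145)
 (.leaf 150160))
 (.node (.leaf 150161)
 (.leaf 150176)))
 (.node (.node (.leaf 150177)
 (.leaf 150193))
 (.node (.leaf 150209)
 (.leaf 150224))))
 (.node (.node (.node (.leaf 150225)
 (.leaf 150240))
 (.node (.leaf 150241)
 (.leaf 150256)))
 (.node (.node (.leaf 150257)
 (.leaf 150272))
 (.node (.leaf 150273)
 (.leaf 150288)))))
 (.node (.node (.node (.node (.leaf 150289)
 (.leaf 150304))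
 (.node (.leaf 150305)
 (.leaf 150320)))
 (.node (.node (.leaf 150321)
 (.leaf 150336))
 (.node (.leaf 150352)
 (.leaf 150353))))
 (.node (.node (.node (.leaf 150368)
 (.leaf 150369))
 (.node (.leaf 150385)
 (.leaf 150400)))
 (.node (.node (.leaf 150401)
 (.leaf 150416))
 (.node (.leaf 150432)
 (.leaf 150433))))))
 (.node (.node (.node (.node (.node (.leaf 150448)
 (.leaf 150464))
 (.node (.leaf 150465)
 (.leaf 150480)))
 (.node (.node (.leaf 150481)
 (.leaf 150496))
 (.node (.leaf 150497)
 (.leaf 150512))))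
 (.node (.node (.node (.leaf 150513)
 (.leaf 150529))
 (.node (.leaf 150544)
 (.leaf 150545)))
 (.node (.node (.leaf 150560)
 (.leaf 150561))
 (.node (.leaf 150576)
 (.leaf 150577)))))
 (.node (.node (.node (.node (.leaf 150593)
 (.leaf 150608))
 (.node (.leaf 150609)
 (.leaf 150624)))
 (.node (.node (.leaf 150640)
 (.leaf 150641))
 (.node (.leaf 150656)
 (.leaf 150657))))
 (.node (.node (.node (.leaf 150672)
 (.leaf 150673))
 (.node (.leaf 150688)
 (.leaf 150689)))
 (.node (.node (.leaf 150704)
 (.leaf 150705))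
 (.node (.leaf 150720)
 (.leaf 150721))))))

def entTB150 : RT := .node (.node (.node (.node (.node (.node (.leaf 150736)
 (.leaf 150737))
 (.node (.leaf 150752)
 (.leaf 150753)))
 (.node (.node (.leaf 150768)
 (.leaf 150769))
 (.node (.leaf 150784)
 (.leaf 150785))))
 (.node (.node (.node (.leaf 150800)
 (.leaf 150801))
 (.node (.leaf 150817)
 (.leaf 150832)))
 (.node (.node (.leaf 150833)
 (.leaf 150848))
 (.node (.leaf 150849)
 (.leaf 150864)))))
 (.node (.node (.node (.node (.leaf 150865)
 (.leaf 150880))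
 (.node (.leaf 150881)
 (.leaf 150896)))
 (.node (.node (.leaf 150897)
 (.leaf 150912))
 (.node (.leaf 150913)
 (.leaf 150928))))
 (.node (.node (.node (.leaf 150929)
 (.leaf 150944))
 (.node (.leaf 150945)
 (.leaf 150960)))
 (.node (.node (.leaf 150976)
 (.leaf 150977))
 (.node (.leaf 150992)
 (.leaf 150993))))))
 (.node (.node (.node (.node (.node (.leaf 151009)
 (.leaf 151024))
 (.node (.leaf 151025)
 (.leaf 151040)))
 (.node (.node (.leaf 151056)
 (.leaf 151057))
 (.node (.leaf 151072)
 (.leaf 151073))))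
 (.node (.node (.node (.leaf 151088)
 (.leaf 151089))
 (.node (.leaf 151104)
 (.leaf 151120)))
 (.node (.node (.leaf 151136)
 (.leaf 151137))
 (.node (.leaf 151152)
 (.leaf 151153)))))
 (.node (.node (.node (.node (.leaf 151168)
 (.leaf 151184))
 (.node (.leaf 151185)
 (.leaf 151201)))
 (.node (.node (.leaf 151216)
 (.leaf 151217))
 (.node (.leaf 151249)
 (.leaf 151264))))
 (.node (.node (.node (.leaf 151280)
 (.leaf 151281))
 (.node (.leaf 151296)
 (.leaf 151297)))
 (.node (.node (.leaf 151312)
 (.leaf 151313))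
 (.node (.leaf 151328)
 (.leaf 151329))))))

def entTB151 : RT := .node (.node (.node (.node (.node (.node (.leaf 151344)
 (.leaf 151345))
 (.node (.leaf 151360)
 (.leaf 151361)))
 (.node (.node (.leaf 151377)
 (.leaf 151392))
 (.node (.leaf 151393)
 (.leaf 151408))))
 (.node (.node (.node (.leaf 151424)
 (.leaf 151425))
 (.node (.leaf 151440)
 (.leaf 151441)))
 (.node (.node (.leaf 151456)
 (.leaf 151457))
 (.node (.leaf 151472)
 (.leaf 151473)))))
 (.node (.node (.node (.node (.leaf 151488)
 (.leaf 151489))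
 (.node (.leaf 151504)
 (.leaf 151505)))
 (.node (.node (.leaf 151520)
 (.leaf 151521))
 (.node (.leaf 151536)
 (.leaf 151537))))
 (.node (.node (.node (.leaf 151552)
 (.leaf 151553))
 (.node (.leaf 151568)
 (.leaf 151569)))
 (.node (.node (.leaf 151585)
 (.leaf 151601))
 (.node (.leaf 151616)
 (.leaf 151617))))))
 (.node (.node (.node (.node (.node (.leaf 151632)
 (.leaf 151633))
 (.node (.leaf 151648)
 (.leaf 151649)))
 (.node (.node (.leaf 151664)
 (.leaf 151665))
 (.node (.leaf 151681)
 (.leaf 151696))))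
 (.node (.node (.node (.leaf 151697)
 (.leaf 151712))
 (.node (.leaf 151713)
 (.leaf 151728)))
 (.node (.node (.leaf 151744)
 (.leaf 151745))
 (.node (.leaf 151760)
 (.leaf 151761)))))
 (.node (.node (.node (.node (.leaf 151777)
 (.leaf 151792))
 (.node (.leaf 151793)
 (.leaf 151808)))
 (.node (.node (.leaf 151824)
 (.leaf 151825))
 (.node (.leaf 151840)
 (.leaf 151856))))
 (.node (.node (.node (.leaf 151857)
 (.leaf 151873))
 (.node (.leaf 151888)
 (.leaf 151889)))
 (.node (.node (.leaf 151904)
 (.leaf 151920))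
 (.node (.leaf 151921)
 (.leaf 151936))))))

def entTB152 : RT := .node (.node (.node (.node (.node (.node (.leaf 151937)
 (.leaf 151952))
 (.node (.leaf 151953)
 (.leaf 151968)))
 (.node (.node (.leaf 151984)
 (.leaf 151985))
 (.node (.leaf 152000)
 (.leaf 152016))))
 (.node (.node (.node (.leaf 152017)
 (.leaf 152032))
 (.node (.leaf 152033)
 (.leaf 152048)))
 (.node (.node (.leaf 152065)
 (.leaf 152080))
 (.node (.leaf 152096)
 (.leaf 152097)))))
 (.node (.node (.node (.node (.leaf 152112)
 (.leaf 152113))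
 (.node (.leaf 152128)
 (.leaf 152129)))
 (.node (.node (.leaf 152145)
 (.leaf 152160))
 (.node (.leaf 152161)
 (.leaf 152176))))
 (.node (.node (.node (.leaf 152177)
 (.leaf 152192))
 (.node (.leaf 152193)
 (.leaf 152208)))
 (.node (.node (.leaf 152209)
 (.leaf 152225))
 (.node (.leaf 152240)
 (.leaf 152256))))))
 (.node (.node (.node (.node (.node (.leaf 152272)
 (.leaf 152273))
 (.node (.leaf 152288)
 (.leaf 152289)))
 (.node (.node (.leaf 152305)
 (.leaf 152320))
 (.node (.leaf 152336)
 (.leaf 152337))))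
 (.node (.node (.node (.leaf 152352)
 (.leaf 152353))
 (.node (.leaf 152369)
 (.leaf 152384)))
 (.node (.node (.leaf 152385)
 (.leaf 152400))
 (.node (.leaf 152416)
 (.leaf 152417)))))
 (.node (.node (.node (.node (.leaf 152432)
 (.leaf 152433))
 (.node (.leaf 152448)
 (.leaf 152449)))
 (.node (.node (.leaf 152464)
 (.leaf 152496))
 (.node (.leaf 152497)
 (.leaf 152512))))
 (.node (.node (.node (.leaf 152513)
 (.leaf 152544))
 (.node (.leaf 152545)
 (.leaf 152561)))
 (.node (.node (.leaf 152576)
 (.leaf 152577))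
 (.node (.leaf 152608)
 (.leaf 152609))))))

def entTB153 : RT := .node (.node (.node (.node (.node (.node (.leaf 152624)
 (.leaf 152640))
 (.node (.leaf 152641)
 (.leaf 152656)))
 (.node (.node (.leaf 152657)
 (.leaf 152672))
 (.node (.leaf 152705)
 (.leaf 152737))))
 (.node (.node (.node (.leaf 152752)
 (.leaf 152753))
 (.node (.leaf 152768)
 (.leaf 152769)))
 (.node (.node (.leaf 152785)
 (.leaf 152800))
 (.node (.leaf 152801)
 (.leaf 152816)))))
 (.node (.node (.node (.node (.leaf 152817)
 (.leaf 152833))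
 (.node (.leaf 152848)
 (.leaf 152849)))
 (.node (.node (.leaf 152864)
 (.leaf 152865))
 (.node (.leaf 152880)
 (.leaf 152881))))
 (.node (.node (.node (.leaf 152897)
 (.leaf 152913))
 (.node (.leaf 152929)
 (.leaf 152944)))
 (.node (.node (.leaf 152945)
 (.leaf 152960))
 (.node (.leaf 152961)
 (.leaf 152976))))))
 (.node (.node (.node (.node (.node (.leaf 152977)
 (.leaf 152992))
 (.node (.leaf 152993)
 (.leaf 153008)))
 (.node (.node (.leaf 153009)
 (.leaf 153024))
 (.node (.leaf 153025)
 (.leaf 153056))))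
 (.node (.node (.node (.leaf 153057)
 (.leaf 153072))
 (.node (.leaf 153073)
 (.leaf 153089)))
 (.node (.node (.leaf 153104)
 (.leaf 153120))
 (.node (.leaf 153121)
 (.leaf 153152)))))
 (.node (.node (.node (.node (.leaf 153153)
 (.leaf 153168))
 (.node (.leaf 153169)
 (.leaf 153184)))
 (.node (.node (.leaf 153185)
 (.leaf 153200))
 (.node (.leaf 153216)
 (.leaf 153217))))
 (.node (.node (.node (.leaf 153232)
 (.leaf 153233))
 (.node (.leaf 153264)
 (.leaf 153265)))
 (.node (.node (.leaf 153280)
 (.leaf 153281))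
 (.node (.leaf 153296)
 (.leaf 153297))))))

def entTB154 : RT := .node (.node (.node (.node (.node (.node (.leaf 153312)
 (.leaf 153313))
 (.node (.leaf 153328)
 (.leaf 153329)))
 (.node (.node (.leaf 153344)
 (.leaf 153345))
 (.node (.leaf 153360)
 (.leaf 153361))))
 (.node (.node (.node (.leaf 153376)
 (.leaf 153377))
 (.node (.leaf 153392)
 (.leaf 153408)))
 (.node (.node (.leaf 153409)
 (.leaf 153424))
 (.node (.leaf 153425)
 (.leaf 153441)))))
 (.node (.node (.node (.node (.leaf 153456)
 (.leaf 153457))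
 (.node (.leaf 153472)
 (.leaf 153488)))
 (.node (.node (.leaf 153489)
 (.leaf 153504))
 (.node (.leaf 153505)
 (.leaf 153520))))
 (.node (.node (.node (.leaf 153521)
 (.leaf 153536))
 (.node (.leaf 153552)
 (.leaf 153569)))
 (.node (.node (.leaf 153584)
 (.leaf 153585))
 (.node (.leaf 153600)
 (.leaf 153616))))))
 (.node (.node (.node (.node (.node (.leaf 153617)
 (.leaf 153633))
 (.node (.leaf 153648)
 (.leaf 153649)))
 (.node (.node (.leaf 153696)
 (.leaf 153712))
 (.node (.leaf 153713)
 (.leaf 153728))))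
 (.node (.node (.node (.leaf 153729)
 (.leaf 153744))
 (.node (.leaf 153745)
 (.leaf 153760)))
 (.node (.node (.leaf 153761)
 (.leaf 153776))
 (.node (.leaf 153777)
 (.leaf 153792)))))
 (.node (.node (.node (.node (.leaf 153793)
 (.leaf 153809))
 (.node (.leaf 153825)
 (.leaf 153840)))
 (.node (.node (.leaf 153856)
 (.leaf 153857))
 (.node (.leaf 153872)
 (.leaf 153873))))
 (.node (.node (.node (.leaf 153888)
 (.leaf 153889))
 (.node (.leaf 153904)
 (.leaf 153905)))
 (.node (.node (.leaf 153920)
 (.leaf 153921))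
 (.node (.leaf 153936)
 (.leaf 153937))))))

def entTB155 : RT := .node (.node (.node (.node (.node (.node (.leaf 153952)
 (.leaf 153953))
 (.node (.leaf 153968)
 (.leaf 153969)))
 (.node (.node (.leaf 153984)
 (.leaf 153985))
 (.node (.leaf 154000)
 (.leaf 154001))))
 (.node (.node (.node (.leaf 154017)
 (.leaf 154033))
 (.node (.leaf 154048)
 (.leaf 154064)))
 (.node (.node (.leaf 154065)
 (.leaf 154080))
 (.node (.leaf 154081)
 (.leaf 154096)))))
 (.node (.node (.node (.node (.leaf 154097)
 (.leaf 154113))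
 (.node (.leaf 154128)
 (.leaf 154129)))
 (.node (.node (.leaf 154144)
 (.leaf 154145))
 (.node (.leaf 154160)
 (.leaf 154176))))
 (.node (.node (.node (.leaf 154177)
 (.leaf 154192))
 (.node (.leaf 154193)
 (.leaf 154209)))
 (.node (.node (.leaf 154224)
 (.leaf 154225))
 (.node (.leaf 154240)
 (.leaf 154256))))))
 (.node (.node (.node (.node (.node (.leaf 154257)
 (.leaf 154272))
 (.node (.leaf 154288)
 (.leaf 154289)))
 (.node (.node (.leaf 154305)
 (.leaf 154320))
 (.node (.leaf 154321)
 (.leaf 154336))))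
 (.node (.node (.node (.leaf 154352)
 (.leaf 154353))
 (.node (.leaf 154368)
 (.leaf 154369)))
 (.node (.node (.leaf 154384)
 (.leaf 154385))
 (.node (.leaf 154400)
 (.leaf 154416)))))
 (.node (.node (.node (.node (.leaf 154417)
 (.leaf 154432))
 (.node (.leaf 154448)
 (.leaf 154449)))
 (.node (.node (.leaf 154464)
 (.leaf 154481))
 (.node (.leaf 154512)
 (.leaf 154513))))
 (.node (.node (.node (.leaf 154528)
 (.leaf 154529))
 (.node (.leaf 154544)
 (.leaf 154545)))
 (.node (.node (.leaf 154561)
 (.leaf 154576))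
 (.node (.leaf 154577)
 (.leaf 154592))))))

def entTB156 : RT := .node (.node (.node (.node (.node (.node (.leaf 154593)
 (.leaf 154608))
 (.node (.leaf 154609)
 (.leaf 154624)))
 (.node (.node (.leaf 154625)
 (.leaf 154641))
 (.node (.leaf 154656)
 (.leaf 154672))))
 (.node (.node (.node (.leaf 154688)
 (.leaf 154689))
 (.node (.leaf 154704)
 (.leaf 154721)))
 (.node (.node (.leaf 154736)
 (.leaf 154752))
 (.node (.leaf 154753)
 (.leaf 154768)))))
 (.node (.node (.node (.node (.leaf 154769)
 (.leaf 154785))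
 (.node (.leaf 154800)
 (.leaf 154801)))
 (.node (.node (.leaf 154816)
 (.leaf 154832))
 (.node (.leaf 154833)
 (.leaf 154848))))
 (.node (.node (.node (.leaf 154849)
 (.leaf 154864))
 (.node (.leaf 154865)
 (.leaf 154880)))
 (.node (.node (.leaf 154912)
 (.leaf 154913))
 (.node (.leaf 154928)
 (.leaf 154929))))))
 (.node (.node (.node (.node (.node (.leaf 154960)
 (.leaf 154961))
 (.node (.leaf 154977)
 (.leaf 154992)))
 (.node (.node (.leaf 154993)
 (.leaf 155024))
 (.node (.leaf 155025)
 (.leaf 155040))))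
 (.node (.node (.node (.leaf 155056)
 (.leaf 155057))
 (.node (.leaf 155072)
 (.leaf 155073)))
 (.node (.node (.leaf 155088)
 (.leaf 155121))
 (.node (.leaf 155153)
 (.leaf 155168)))))
 (.node (.node (.node (.node (.leaf 155169)
 (.leaf 155184))
 (.node (.leaf 155185)
 (.leaf 155201)))
 (.node (.node (.leaf 155216)
 (.leaf 155217))
 (.node (.leaf 155233)
 (.leaf 155248))))
 (.node (.node (.node (.leaf 155249)
 (.leaf 155264))
 (.node (.leaf 155265)
 (.leaf 155280)))
 (.node (.node (.leaf 155281)
 (.leaf 155297))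
 (.node (.leaf 155313)
 (.leaf 155329))))))

def entTB157 : RT := .node (.node (.node (.node (.node (.node (.leaf 155344)
 (.leaf 155360))
 (.node (.leaf 155361)
 (.leaf 155376)))
 (.node (.node (.leaf 155377)
 (.leaf 155392))
 (.node (.leaf 155393)
 (.leaf 155408))))
 (.node (.node (.node (.leaf 155409)
 (.leaf 155424))
 (.node (.leaf 155425)
 (.leaf 155456)))
 (.node (.node (.leaf 155457)
 (.leaf 155472))
 (.node (.leaf 155473)
 (.leaf 155489)))))
 (.node (.node (.node (.node (.leaf 155520)
 (.leaf 155521))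
 (.node (.leaf 155536)
 (.leaf 155537)))
 (.node (.node (.leaf 155552)
 (.leaf 155553))
 (.node (.leaf 155569)
 (.leaf 155584))))
 (.node (.node (.node (.leaf 155585)
 (.leaf 155600))
 (.node (.leaf 155616)
 (.leaf 155617)))
 (.node (.node (.leaf 155633)
 (.leaf 155648))
 (.node (.leaf 155649)
 (.leaf 155664))))))
 (.node (.node (.node (.node (.node (.leaf 155665)
 (.leaf 155680))
 (.node (.leaf 155681)
 (.leaf 155696)))
 (.node (.node (.leaf 155697)
 (.leaf 155712))
 (.node (.leaf 155713)
 (.leaf 155728))))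
 (.node (.node (.node (.leaf 155729)
 (.leaf 155745))
 (.node (.leaf 155760)
 (.leaf 155776)))
 (.node (.node (.leaf 155777)
 (.leaf 155793))
 (.node (.leaf 155808)
 (.leaf 155809)))))
 (.node (.node (.node (.node (.leaf 155840)
 (.leaf 155856))
 (.node (.leaf 155872)
 (.leaf 155888)))
 (.node (.node (.leaf 155889)
 (.leaf 155905))
 (.node (.leaf 155920)
 (.leaf 155921))))
 (.node (.node (.node (.leaf 155936)
 (.leaf 155952))
 (.node (.leaf 155953)
 (.leaf 155968)))
 (.node (.node (.leaf 155969)
 (.leaf 155984))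
 (.node (.leaf 156000)
 (.leaf 156017))))))

def entTB158 : RT := .node (.node (.node (.node (.node (.node (.leaf 156033)
 (.leaf 156048))
 (.node (.leaf 156064)
 (.leaf 156065)))
 (.node (.node (.leaf 156081)
 (.leaf 156096))
 (.node (.leaf 156097)
 (.leaf 156113))))
 (.node (.node (.node (.leaf 156128)
 (.leaf 156145))
 (.node (.leaf 156161)
 (.leaf 156177)))
 (.node (.node (.leaf 156192)
 (.leaf 156208))
 (.node (.leaf 156209)
 (.leaf 156225)))))
 (.node (.node (.node (.node (.leaf 156256)
 (.leaf 156257))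
 (.node (.leaf 156272)
 (.leaf 156273)))
 (.node (.node (.leaf 156288)
 (.leaf 156289))
 (.node (.leaf 156304)
 (.leaf 156305))))
 (.node (.node (.node (.leaf 156321)
 (.leaf 156336))
 (.node (.leaf 156337)
 (.leaf 156352)))
 (.node (.node (.leaf 156353)
 (.leaf 156368))
 (.node (.leaf 156384)
 (.leaf 156385))))))
 (.node (.node (.node (.node (.node (.leaf 156400)
 (.leaf 156401))
 (.node (.leaf 156432)
 (.leaf 156433)))
 (.node (.node (.leaf 156448)
 (.leaf 156464))
 (.node (.leaf 156465)
 (.leaf 156480))))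
 (.node (.node (.node (.leaf 156497)
 (.leaf 156528))
 (.node (.leaf 156544)
 (.leaf 156545)))
 (.node (.node (.leaf 156561)
 (.leaf 156576))
 (.node (.leaf 156592)
 (.leaf 156593)))))
 (.node (.node (.node (.node (.leaf 156608)
 (.leaf 156624))
 (.node (.leaf 156625)
 (.leaf 156640)))
 (.node (.node (.leaf 156641)
 (.leaf 156656))
 (.node (.leaf 156673)
 (.leaf 156688))))
 (.node (.node (.node (.leaf 156721)
 (.leaf 156737))
 (.node (.leaf 156752)
 (.leaf 156753)))
 (.node (.node (.leaf 156769)
 (.leaf 156784))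
 (.node (.leaf 156785)
 (.leaf 156801))))))

def entTB159 : RT := .node (.node (.node (.node (.node (.node (.leaf 156816)
 (.leaf 156817))
 (.node (.leaf 156832)
 (.leaf 156849)))
 (.node (.node (.leaf 156864)
 (.leaf 156865))
 (.node (.leaf 156880)
 (.leaf 156912))))
 (.node (.node (.node (.leaf 156929)
 (.leaf 156944))
 (.node (.leaf 156945)
 (.leaf 156976)))
 (.node (.node (.leaf 156977)
 (.leaf 157008))
 (.node (.leaf 157009)
 (.leaf 157024)))))
 (.node (.node (.node (.node (.leaf 157040)
 (.leaf 157041))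
 (.node (.leaf 157056)
 (.leaf 157072)))
 (.node (.node (.leaf 157089)
 (.leaf 157121))
 (.node (.leaf 157136)
 (.leaf 157137))))
 (.node (.node (.node (.leaf 157153)
 (.leaf 157169))
 (.node (.leaf 157184)
 (.leaf 157185)))
 (.node (.node (.leaf 157200)
 (.leaf 157201))
 (.node (.leaf 157217)
 (.leaf 157232))))))
 (.node (.node (.node (.node (.node (.leaf 157233)
 (.leaf 157248))
 (.node (.leaf 157249)
 (.leaf 157265)))
 (.node (.node (.leaf 157281)
 (.leaf 157313))
 (.node (.leaf 157328)
 (.leaf 157329))))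
 (.node (.node (.node (.leaf 157344)
 (.leaf 157345))
 (.node (.leaf 157361)
 (.leaf 157408)))
 (.node (.node (.leaf 157409)
 (.leaf 157424))
 (.node (.leaf 157440)
 (.leaf 157441)))))
 (.node (.node (.node (.node (.leaf 157457)
 (.leaf 157472))
 (.node (.leaf 157473)
 (.leaf 157488)))
 (.node (.node (.leaf 157505)
 (.leaf 157521))
 (.node (.leaf 157568)
 (.leaf 157569))))
 (.node (.node (.node (.leaf 157584)
 (.leaf 157585))
 (.node (.leaf 157600)
 (.leaf 157601)))
 (.node (.node (.leaf 157616)
 (.leaf 157633))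
 (.node (.leaf 157649)
 (.leaf 157680))))))

def entTB160 : RT := .node (.node (.node (.node (.node (.node (.leaf 157681)
 (.leaf 157696))
 (.node (.leaf 157697)
 (.leaf 157712)))
 (.node (.node (.leaf 157713)
 (.leaf 157728))
 (.node (.leaf 157729)
 (.leaf 157744))))
 (.node (.node (.node (.leaf 157745)
 (.leaf 157760))
 (.node (.leaf 157761)
 (.leaf 157776)))
 (.node (.node (.leaf 157777)
 (.leaf 157792))
 (.node (.leaf 157793)
 (.leaf 157808)))))
 (.node (.node (.node (.node (.leaf 157809)
 (.leaf 157824))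
 (.node (.leaf 157825)
 (.leaf 157841)))
 (.node (.node (.leaf 157857)
 (.leaf 157872))
 (.node (.leaf 157888)
 (.leaf 157889))))
 (.node (.node (.node (.leaf 157904)
 (.leaf 157905))
 (.node (.leaf 157920)
 (.leaf 157921)))
 (.node (.node (.leaf 157937)
 (.leaf 157952))
 (.node (.leaf 157953)
 (.leaf 157968))))))
 (.node (.node (.node (.node (.node (.leaf 157969)
 (.leaf 157984))
 (.node (.leaf 158000)
 (.leaf 158001)))
 (.node (.node (.leaf 158016)
 (.leaf 158017))
 (.node (.leaf 158033)
 (.leaf 158048))))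
 (.node (.node (.node (.leaf 158049)
 (.leaf 158064))
 (.node (.leaf 158080)
 (.leaf 158081)))
 (.node (.node (.leaf 158096)
 (.leaf 158112))
 (.node (.leaf 158113)
 (.leaf 158128)))))
 (.node (.node (.node (.node (.leaf 158129)
 (.leaf 158144))
 (.node (.leaf 158160)
 (.leaf 158161)))
 (.node (.node (.leaf 158176)
 (.leaf 158177))
 (.node (.leaf 158192)
 (.leaf 158193))))
 (.node (.node (.node (.leaf 158208)
 (.leaf 158224))
 (.node (.leaf 158225)
 (.leaf 158240)))
 (.node (.node (.leaf 158257)
 (.leaf 158273))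
 (.node (.leaf 158304)
 (.leaf 158305))))))

def entTB161 : RT := .node (.node (.node (.node (.node (.node (.leaf 158320)
 (.leaf 158321))
 (.node (.leaf 158336)
 (.leaf 158337)))
 (.node (.node (.leaf 158353)
 (.leaf 158368))
 (.node (.leaf 158369)
 (.leaf 158385))))
 (.node (.node (.node (.leaf 158400)
 (.leaf 158401))
 (.node (.leaf 158416)
 (.leaf 158417)))
 (.node (.node (.leaf 158433)
 (.leaf 158448))
 (.node (.leaf 158464)
 (.leaf 158480)))))
 (.node (.node (.node (.node (.leaf 158481)
 (.leaf 158497))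
 (.node (.leaf 158512)
 (.leaf 158528)))
 (.node (.node (.leaf 158529)
 (.leaf 158544))
 (.node (.leaf 158545)
 (.leaf 158561))))
 (.node (.node (.node (.leaf 158576)
 (.leaf 158577))
 (.node (.leaf 158592)
 (.leaf 158608)))
 (.node (.node (.leaf 158609)
 (.leaf 158624))
 (.node (.leaf 158625)
 (.leaf 158640))))))
 (.node (.node (.node (.node (.node (.leaf 158641)
 (.leaf 158656))
 (.node (.leaf 158688)
 (.leaf 158704)))
 (.node (.node (.leaf 158705)
 (.leaf 158736))
 (.node (.leaf 158737)
 (.leaf 158753))))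
 (.node (.node (.node (.leaf 158768)
 (.leaf 158769))
 (.node (.leaf 158800)
 (.leaf 158801)))
 (.node (.node (.leaf 158832)
 (.leaf 158833))
 (.node (.leaf 158848)
 (.leaf 158849)))))
 (.node (.node (.node (.node (.leaf 158913)
 (.leaf 158928))
 (.node (.leaf 158929)
 (.leaf 158944)))
 (.node (.node (.leaf 158945)
 (.leaf 158961))
 (.node (.leaf 158976)
 (.leaf 158977))))
 (.node (.node (.node (.leaf 158993)
 (.leaf 159008))
 (.node (.leaf 159009)
 (.leaf 159024)))
 (.node (.node (.leaf 159025)
 (.leaf 159040))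
 (.node (.leaf 159041)
 (.leaf 159089))))))

def entTB162 : RT := .node (.node (.node (.node (.node (.node (.leaf 159104)
 (.leaf 159120))
 (.node (.leaf 159136)
 (.leaf 159137)))
 (.node (.node (.leaf 159152)
 (.leaf 159153))
 (.node (.leaf 159168)
 (.leaf 159169))))
 (.node (.node (.node (.leaf 159184)
 (.leaf 159185))
 (.node (.leaf 159216)
 (.leaf 159217)))
 (.node (.node (.leaf 159232)
 (.leaf 159233))
 (.node (.leaf 159249)
 (.leaf 159280)))))
 (.node (.node (.node (.node (.leaf 159281)
 (.leaf 159296))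
 (.node (.leaf 159297)
 (.leaf 159312)))
 (.node (.node (.leaf 159313)
 (.leaf 159329))
 (.node (.leaf 159344)
 (.leaf 159345))))
 (.node (.node (.node (.leaf 159360)
 (.leaf 159376))
 (.node (.leaf 159377)
 (.leaf 159393)))
 (.node (.node (.leaf 159408)
 (.leaf 159409))
 (.node (.leaf 159424)
 (.leaf 159425))))))
 (.node (.node (.node (.node (.node (.leaf 159440)
 (.leaf 159441))
 (.node (.leaf 159456)
 (.leaf 159457)))
 (.node (.node (.leaf 159472)
 (.leaf 159473))
 (.node (.leaf 159488)
 (.leaf 159489))))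
 (.node (.node (.node (.leaf 159505)
 (.leaf 159520))
 (.node (.leaf 159536)
 (.leaf 159537)))
 (.node (.node (.leaf 159568)
 (.leaf 159584))
 (.node (.leaf 159600)
 (.leaf 159601)))))
 (.node (.node (.node (.node (.leaf 159617)
 (.leaf 159632))
 (.node (.leaf 159633)
 (.leaf 159648)))
 (.node (.node (.leaf 159664)
 (.leaf 159665))
 (.node (.leaf 159680)
 (.leaf 159681))))
 (.node (.node (.node (.leaf 159696)
 (.leaf 159712))
 (.node (.leaf 159745)
 (.leaf 159760)))
 (.node (.node (.leaf 159776)
 (.leaf 159777))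
 (.node (.leaf 159793)
 (.leaf 159808))))))

def entTB163 : RT := .node (.node (.node (.node (.node (.node (.leaf 159809)
 (.leaf 159825))
 (.node (.leaf 159840)
 (.leaf 159857)))
 (.node (.node (.leaf 159873)
 (.leaf 159889))
 (.node (.leaf 159952)
 (.leaf 159953))))
 (.node (.node (.node (.leaf 159968)
 (.leaf 159969))
 (.node (.leaf 159984)
 (.leaf 159985)))
 (.node (.node (.leaf 160000)
 (.leaf 160001))
 (.node (.leaf 160017)
 (.leaf 160033)))))
 (.node (.node (.node (.node (.leaf 160048)
 (.leaf 160049))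
 (.node (.leaf 160064)
 (.leaf 160080)))
 (.node (.node (.leaf 160096)
 (.leaf 160097))
 (.node (.leaf 160128)
 (.leaf 160129))))
 (.node (.node (.node (.leaf 160144)
 (.leaf 160160))
 (.node (.leaf 160161)
 (.leaf 160176)))
 (.node (.node (.leaf 160193)
 (.leaf 160224))
 (.node (.leaf 160240)
 (.leaf 160241))))))
 (.node (.node (.node (.node (.node (.leaf 160257)
 (.leaf 160272))
 (.node (.leaf 160288)
 (.leaf 160289)))
 (.node (.node (.leaf 160304)
 (.leaf 160320))
 (.node (.leaf 160321)
 (.leaf 160336))))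
 (.node (.node (.node (.leaf 160337)
 (.leaf 160352))
 (.node (.leaf 160369)
 (.leaf 160384)))
 (.node (.node (.leaf 160417)
 (.leaf 160433))
 (.node (.leaf 160448)
 (.leaf 160465)))))
 (.node (.node (.node (.node (.leaf 160480)
 (.leaf 160481))
 (.node (.leaf 160497)
 (.leaf 160513)))
 (.node (.node (.leaf 160528)
 (.leaf 160545))
 (.node (.leaf 160560)
 (.leaf 160561))))
 (.node (.node (.node (.leaf 160576)
 (.leaf 160608))
 (.node (.leaf 160609)
 (.leaf 160641)))
 (.node (.node (.leaf 160672)
 (.leaf 160673))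
 (.node (.leaf 160688)
 (.leaf 160704))))))

def entTB164 : RT := .node (.node (.node (.node (.node (.node (.leaf 160705)
 (.leaf 160720))
 (.node (.leaf 160736)
 (.leaf 160753)))
 (.node (.node (.leaf 160784)
 (.leaf 160785))
 (.node (.leaf 160801)
 (.leaf 160817))))
 (.node (.node (.node (.leaf 160832)
 (.leaf 160833))
 (.node (.leaf 160848)
 (.leaf 160849)))
 (.node (.node (.leaf 160865)
 (.leaf 160880))
 (.node (.leaf 160881)
 (.leaf 160896)))))
 (.node (.node (.node (.node (.leaf 160897)
 (.leaf 160913))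
 (.node (.leaf 160929)
 (.leaf 160961)))
 (.node (.node (.leaf 160976)
 (.leaf 160977))
 (.node (.leaf 160992)
 (.leaf 160993))))
 (.node (.node (.node (.leaf 161024)
 (.leaf 161040))
 (.node (.leaf 161041)
 (.leaf 161056)))
 (.node (.node (.leaf 161072)
 (.leaf 161073))
 (.node (.leaf 161088)
 (.leaf 161104))))))
 (.node (.node (.node (.node (.node (.leaf 161120)
 (.leaf 161121))
 (.node (.leaf 161152)
 (.leaf 161153)))
 (.node (.node (.leaf 161168)
 (.leaf 161169))
 (.node (.leaf 161184)
 (.leaf 161185))))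
 (.node (.node (.node (.leaf 161200)
 (.leaf 161201))
 (.node (.leaf 161232)
 (.leaf 161233)))
 (.node (.node (.leaf 161248)
 (.leaf 161249))
 (.node (.leaf 161265)
 (.leaf 161280)))))
 (.node (.node (.node (.node (.leaf 161281)
 (.leaf 161296))
 (.node (.leaf 161312)
 (.leaf 161313)))
 (.node (.node (.leaf 161328)
 (.leaf 161329))
 (.node (.leaf 161344)
 (.leaf 161345))))
 (.node (.node (.node (.leaf 161361)
 (.leaf 161376))
 (.node (.leaf 161392)
 (.leaf 161408)))
 (.node (.node (.leaf 161409)
 (.leaf 161424))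
 (.node (.leaf 161425)
 (.leaf 161440))))))

def entTB165 : RT := .node (.node (.node (.node (.node (.node (.leaf 161456)
 (.leaf 161457))
 (.node (.leaf 161472)
 (.leaf 161473)))
 (.node (.node (.leaf 161489)
 (.leaf 161504))
 (.node (.leaf 161520)
 (.leaf 161521))))
 (.node (.node (.node (.leaf 161537)
 (.leaf 161553))
 (.node (.leaf 161568)
 (.leaf 161584)))
 (.node (.node (.leaf 161585)
 (.leaf 161601))
 (.node (.leaf 161617)
 (.leaf 161632)))))
 (.node (.node (.node (.node (.leaf 161648)
 (.leaf 161649))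
 (.node (.leaf 161680)
 (.leaf 161681)))
 (.node (.node (.leaf 161696)
 (.leaf 161712))
 (.node (.leaf 161729)
 (.leaf 161744))))
 (.node (.node (.node (.leaf 161761)
 (.leaf 161777))
 (.node (.leaf 161793)
 (.leaf 161809)))
 (.node (.node (.leaf 161824)
 (.leaf 161840))
 (.node (.leaf 161857)
 (.leaf 161872))))))
 (.node (.node (.node (.node (.node (.leaf 161888)
 (.leaf 161889))
 (.node (.leaf 161904)
 (.leaf 161937)))
 (.node (.node (.leaf 161952)
 (.leaf 161969))
 (.node (.leaf 161985)
 (.leaf 162016))))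
 (.node (.node (.node (.leaf 162017)
 (.leaf 162032))
 (.node (.leaf 162033)
 (.leaf 162065)))
 (.node (.node (.leaf 162112)
 (.leaf 162113))
 (.node (.leaf 162128)
 (.leaf 162129)))))
 (.node (.node (.node (.node (.leaf 162145)
 (.leaf 162161))
 (.node (.leaf 162177)
 (.leaf 162192)))
 (.node (.node (.leaf 162193)
 (.leaf 162208))
 (.node (.leaf 162209)
 (.leaf 162224))))
 (.node (.node (.node (.leaf 162225)
 (.leaf 162257))
 (.node (.leaf 162273)
 (.leaf 162288)))
 (.node (.node (.leaf 162304)
 (.leaf 162320))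
 (.node (.leaf 162321)
 (.leaf 162336))))))

def entTB166 : RT := .node (.node (.node (.node (.node (.node (.leaf 162337)
 (.leaf 162352))
 (.node (.leaf 162353)
 (.leaf 162385)))
 (.node (.node (.leaf 162400)
 (.leaf 162401))
 (.node (.leaf 162417)
 (.leaf 162432))))
 (.node (.node (.node (.leaf 162448)
 (.leaf 162449))
 (.node (.leaf 162464)
 (.leaf 162480)))
 (.node (.node (.leaf 162481)
 (.leaf 162496))
 (.node (.leaf 162497)
 (.leaf 162512)))))
 (.node (.node (.node (.node (.leaf 162513)
 (.leaf 162545))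
 (.node (.leaf 162561)
 (.leaf 162576)))
 (.node (.node (.leaf 162592)
 (.leaf 162609))
 (.node (.leaf 162656)
 (.leaf 162688))))
 (.node (.node (.node (.leaf 162689)
 (.leaf 162721))
 (.node (.leaf 162753)
 (.leaf 162769)))
 (.node (.node (.leaf 162785)
 (.leaf 162816))
 (.node (.leaf 162817)
 (.leaf 162832))))))
 (.node (.node (.node (.node (.node (.leaf 162833)
 (.leaf 162848))
 (.node (.leaf 162864)
 (.leaf 162897)))
 (.node (.node (.leaf 162912)
 (.leaf 162929))
 (.node (.leaf 162944)
 (.leaf 162945))))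
 (.node (.node (.node (.leaf 162961)
 (.leaf 162976))
 (.node (.leaf 162992)
 (.leaf 163008)))
 (.node (.node (.leaf 163009)
 (.leaf 163024))
 (.node (.leaf 163025)
 (.leaf 163040)))))
 (.node (.node (.node (.node (.leaf 163057)
 (.leaf 163072))
 (.node (.leaf 163105)
 (.leaf 163120)))
 (.node (.node (.leaf 163121)
 (.leaf 163152))
 (.node (.leaf 163153)
 (.leaf 163169))))
 (.node (.node (.node (.leaf 163184)
 (.leaf 163216))
 (.node (.leaf 163217)
 (.leaf 163232)))
 (.node (.node (.leaf 163264)
 (.leaf 163296))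
 (.node (.leaf 163297)
 (.leaf 163328))))))

def entTB167 : RT := .node (.node (.node (.node (.node (.node (.leaf 163329)
 (.leaf 163360))
 (.node (.leaf 163361)
 (.leaf 163377)))
 (.node (.node (.leaf 163392)
 (.leaf 163409))
 (.node (.leaf 163441)
 (.leaf 163457))))
 (.node (.node (.node (.leaf 163472)
 (.leaf 163473))
 (.node (.leaf 163520)
 (.leaf 163521)))
 (.node (.node (.leaf 163568)
 (.leaf 163569))
 (.node (.leaf 163585)
 (.leaf 163600)))))
 (.node (.node (.node (.node (.leaf 163632)
 (.leaf 163633))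
 (.node (.leaf 163648)
 (.leaf 163664)))
 (.node (.node (.leaf 163665)
 (.leaf 163680))
 (.node (.leaf 163681)
 (.leaf 163696))))
 (.node (.node (.node (.leaf 163697)
 (.leaf 163713))
 (.node (.leaf 163728)
 (.leaf 163729)))
 (.node (.node (.leaf 163745)
 (.leaf 163761))
 (.node (.leaf 163792)
 (.leaf 163793))))))
 (.node (.node (.node (.node (.node (.leaf 163809)
 (.leaf 163824))
 (.node (.leaf 163825)
 (.leaf 163840)))
 (.node (.node (.leaf 163841)
 (.leaf 163857))
 (.node (.leaf 163872)
 (.leaf 163873))))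
 (.node (.node (.node (.leaf 163888)
 (.leaf 163904))
 (.node (.leaf 163905)
 (.leaf 163920)))
 (.node (.node (.leaf 163921)
 (.leaf 163936))
 (.node (.leaf 163937)
 (.leaf 163952)))))
 (.node (.node (.node (.node (.leaf 163984)
 (.leaf 164000))
 (.node (.leaf 164001)
 (.leaf 164032)))
 (.node (.node (.leaf 164033)
 (.leaf 164064))
 (.node (.leaf 164065)
 (.leaf 164096))))
 (.node (.node (.node (.leaf 164097)
 (.leaf 164128))
 (.node (.leaf 164129)
 (.leaf 164144)))
 (.node (.node (.leaf 164145)
 (.leaf 164209))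
 (.node (.leaf 164224)
 (.leaf 164225))))))

def entTB168 : RT := .node (.node (.node (.node (.node (.node (.leaf 164240)
 (.leaf 164241))
 (.node (.leaf 164257)
 (.leaf 164272)))
 (.node (.node (.leaf 164273)
 (.leaf 164289))
 (.node (.leaf 164304)
 (.leaf 164305))))
 (.node (.node (.node (.leaf 164320)
 (.leaf 164321))
 (.node (.leaf 164336)
 (.leaf 164337)))
 (.node (.node (.leaf 164385)
 (.leaf 164416))
 (.node (.leaf 164432)
 (.leaf 164433)))))
 (.node (.node (.node (.node (.leaf 164448)
 (.leaf 164449))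
 (.node (.leaf 164464)
 (.leaf 164465)))
 (.node (.node (.leaf 164480)
 (.leaf 164481))
 (.node (.leaf 164512)
 (.leaf 164528))))
 (.node (.node (.node (.leaf 164529)
 (.leaf 164545))
 (.node (.leaf 164576)
 (.leaf 164577)))
 (.node (.node (.leaf 164592)
 (.leaf 164593))
 (.node (.leaf 164609)
 (.leaf 164625))))))
 (.node (.node (.node (.node (.node (.leaf 164640)
 (.leaf 164656))
 (.node (.leaf 164657)
 (.leaf 164688)))
 (.node (.node (.leaf 164689)
 (.leaf 164704))
 (.node (.leaf 164705)
 (.leaf 164720))))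
 (.node (.node (.node (.leaf 164721)
 (.leaf 164736))
 (.node (.leaf 164752)
 (.leaf 164768)))
 (.node (.node (.leaf 164769)
 (.leaf 164785))
 (.node (.leaf 164800)
 (.leaf 164801)))))
 (.node (.node (.node (.node (.leaf 164816)
 (.leaf 164848))
 (.node (.leaf 164849)
 (.leaf 164865)))
 (.node (.node (.leaf 164880)
 (.leaf 164881))
 (.node (.leaf 164896)
 (.leaf 164912))))
 (.node (.node (.node (.leaf 164928)
 (.leaf 164929))
 (.node (.leaf 164944)
 (.leaf 164960)))
 (.node (.node (.leaf 164977)
 (.leaf 164992))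
 (.node (.leaf 165008)
 (.leaf 165009))))))

def entTB169 : RT := .node (.node (.node (.node (.node (.node (.leaf 165025)
 (.leaf 165040))
 (.node (.leaf 165041)
 (.leaf 165057)))
 (.node (.node (.leaf 165072)
 (.leaf 165089))
 (.node (.leaf 165105)
 (.leaf 165121))))
 (.node (.node (.node (.leaf 165168)
 (.leaf 165169))
 (.node (.leaf 165184)
 (.leaf 165185)))
 (.node (.node (.leaf 165200)
 (.leaf 165201))
 (.node (.leaf 165216)
 (.leaf 165217)))))
 (.node (.node (.node (.node (.leaf 165233)
 (.leaf 165249))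
 (.node (.leaf 165264)
 (.leaf 165265)))
 (.node (.node (.leaf 165280)
 (.leaf 165296))
 (.node (.leaf 165312)
 (.leaf 165313))))
 (.node (.node (.node (.leaf 165344)
 (.leaf 165345))
 (.node (.leaf 165360)
 (.leaf 165376)))
 (.node (.node (.leaf 165377)
 (.leaf 165392))
 (.node (.leaf 165409)
 (.leaf 165424))))))
 (.node (.node (.node (.node (.node (.leaf 165440)
 (.leaf 165441))
 (.node (.leaf 165457)
 (.leaf 165472)))
 (.node (.node (.leaf 165488)
 (.leaf 165489))
 (.node (.leaf 165504)
 (.leaf 165521))))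
 (.node (.node (.node (.leaf 165536)
 (.leaf 165537))
 (.node (.leaf 165552)
 (.leaf 165568)))
 (.node (.node (.leaf 165601)
 (.leaf 165617))
 (.node (.leaf 165632)
 (.leaf 165633)))))
 (.node (.node (.node (.node (.leaf 165649)
 (.leaf 165665))
 (.node (.leaf 165680)
 (.leaf 165712)))
 (.node (.node (.leaf 165713)
 (.leaf 165728))
 (.node (.leaf 165761)
 (.leaf 165793))))
 (.node (.node (.node (.leaf 165824)
 (.leaf 165825))
 (.node (.leaf 165840)
 (.leaf 165856)))
 (.node (.node (.leaf 165857)
 (.leaf 165873))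
 (.node (.leaf 165904)
 (.leaf 165905))))))

def entTB170 : RT := .node (.node (.node (.node (.node (.node (.leaf 165921)
 (.leaf 165936))
 (.node (.leaf 165937)
 (.leaf 165952)))
 (.node (.node (.leaf 165953)
 (.leaf 165969))
 (.node (.leaf 165984)
 (.leaf 165985))))
 (.node (.node (.node (.leaf 166000)
 (.leaf 166001))
 (.node (.leaf 166017)
 (.leaf 166033)))
 (.node (.node (.leaf 166065)
 (.leaf 166080))
 (.node (.leaf 166081)
 (.leaf 166096)))))
 (.node (.node (.node (.node (.leaf 166097)
 (.leaf 166128))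
 (.node (.leaf 166144)
 (.leaf 166145)))
 (.node (.node (.leaf 166160)
 (.leaf 166176))
 (.node (.leaf 166177)
 (.leaf 166192))))
 (.node (.node (.node (.leaf 166208)
 (.leaf 166224))
 (.node (.leaf 166225)
 (.leaf 166256)))
 (.node (.node (.leaf 166257)
 (.leaf 166272))
 (.node (.leaf 166273)
 (.leaf 166288))))))
 (.node (.node (.node (.node (.node (.leaf 166289)
 (.leaf 166305))
 (.node (.leaf 166336)
 (.leaf 166337)))
 (.node (.node (.leaf 166352)
 (.leaf 166353))
 (.node (.leaf 166384)
 (.leaf 166385))))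
 (.node (.node (.node (.leaf 166400)
 (.leaf 166416))
 (.node (.leaf 166417)
 (.leaf 166432)))
 (.node (.node (.leaf 166433)
 (.leaf 166448))
 (.node (.leaf 166465)
 (.leaf 166480)))))
 (.node (.node (.node (.node (.leaf 166496)
 (.leaf 166512))
 (.node (.leaf 166513)
 (.leaf 166528)))
 (.node (.node (.leaf 166529)
 (.leaf 166544))
 (.node (.leaf 166560)
 (.leaf 166561))))
 (.node (.node (.node (.leaf 166576)
 (.leaf 166593))
 (.node (.leaf 166608)
 (.leaf 166624)))
 (.node (.node (.leaf 166625)
 (.leaf 166641))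
 (.node (.leaf 166657)
 (.leaf 166672))))))

def entTB171 : RT := .node (.node (.node (.node (.node (.node (.leaf 166688)
 (.leaf 166689))
 (.node (.leaf 166720)
 (.leaf 166721)))
 (.node (.node (.leaf 166736)
 (.leaf 166769))
 (.node (.leaf 166784)
 (.leaf 166801))))
 (.node (.node (.node (.leaf 166817)
 (.leaf 166833))
 (.node (.leaf 166848)
 (.leaf 166864)))
 (.node (.node (.leaf 166881)
 (.leaf 166896))
 (.node (.leaf 166912)
 (.leaf 166928)))))
 (.node (.node (.node (.node (.leaf 166961)
 (.leaf 166976))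
 (.node (.leaf 166993)
 (.leaf 167025)))
 (.node (.node (.leaf 167072)
 (.leaf 167073))
 (.node (.leaf 167088)
 (.leaf 167089))))
 (.node (.node (.node (.leaf 167105)
 (.leaf 167137))
 (.node (.leaf 167152)
 (.leaf 167153)))
 (.node (.node (.leaf 167168)
 (.leaf 167169))
 (.node (.leaf 167201)
 (.leaf 167217))))))
 (.node (.node (.node (.node (.node (.leaf 167232)
 (.leaf 167248))
 (.node (.leaf 167249)
 (.leaf 167264)))
 (.node (.node (.leaf 167280)
 (.leaf 167281))
 (.node (.leaf 167313)
 (.leaf 167328))))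
 (.node (.node (.node (.leaf 167329)
 (.leaf 167345))
 (.node (.leaf 167360)
 (.leaf 167376)))
 (.node (.node (.leaf 167377)
 (.leaf 167392))
 (.node (.leaf 167408)
 (.leaf 167409)))))
 (.node (.node (.node (.node (.leaf 167424)
 (.leaf 167425))
 (.node (.leaf 167440)
 (.leaf 167441)))
 (.node (.node (.leaf 167473)
 (.leaf 167504))
 (.node (.leaf 167520)
 (.leaf 167537))))
 (.node (.node (.node (.leaf 167584)
 (.leaf 167617))
 (.node (.leaf 167649)
 (.leaf 167665)))
 (.node (.node (.leaf 167728)
 (.leaf 167729))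
 (.node (.leaf 167744)
 (.leaf 167760))))))

def entTB172 : RT := .node (.node (.node (.node (.node (.node (.leaf 167793)
 (.leaf 167808))
 (.node (.leaf 167840)
 (.leaf 167856)))
 (.node (.node (.leaf 167872)
 (.leaf 167888))
 (.node (.leaf 167905)
 (.leaf 167920))))
 (.node (.node (.node (.leaf 167953)
 (.leaf 167968))
 (.node (.leaf 167969)
 (.leaf 168001)))
 (.node (.node (.leaf 168016)
 (.leaf 168048))
 (.node (.leaf 168128)
 (.leaf 168129)))))
 (.node (.node (.node (.node (.leaf 168160)
 (.leaf 168161))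
 (.node (.leaf 168192)
 (.leaf 168193)))
 (.node (.node (.leaf 168209)
 (.leaf 168224))
 (.node (.leaf 168241)
 (.leaf 168273))))
 (.node (.node (.node (.leaf 168289)
 (.leaf 168304))
 (.node (.leaf 168305)
 (.leaf 168352)))
 (.node (.node (.leaf 168353)
 (.leaf 168401))
 (.node (.leaf 168417)
 (.leaf 168448))))))
 (.node (.node (.node (.node (.node (.leaf 168449)
 (.leaf 168464))
 (.node (.leaf 168480)
 (.leaf 168529)))
 (.node (.node (.leaf 168561)
 (.leaf 168576))
 (.node (.leaf 168592)
 (.leaf 168593))))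
 (.node (.node (.node (.leaf 168608)
 (.leaf 168641))
 (.node (.leaf 168673)
 (.leaf 168704)))
 (.node (.node (.leaf 168720)
 (.leaf 168736))
 (.node (.leaf 168752)
 (.leaf 168753)))))
 (.node (.node (.node (.node (.leaf 168769)
 (.leaf 168784))
 (.node (.leaf 168785)
 (.leaf 168816)))
 (.node (.node (.leaf 168817)
 (.leaf 168832))
 (.node (.leaf 168833)
 (.leaf 168864))))
 (.node (.node (.node (.leaf 168865)
 (.leaf 168880))
 (.node (.leaf 168881)
 (.leaf 168896)))
 (.node (.node (.leaf 168929)
 (.leaf 168960))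
 (.node (.leaf 168961)
 (.leaf 168976))))))

def entTB173 : RT := .node (.node (.node (.node (.node (.node (.leaf 168977)
 (.leaf 169008))
 (.node (.leaf 169009)
 (.leaf 169025)))
 (.node (.node (.leaf 169056)
 (.leaf 169072))
 (.node (.leaf 169073)
 (.leaf 169088))))
 (.node (.node (.node (.leaf 169089)
 (.leaf 169136))
 (.node (.leaf 169137)
 (.leaf 169200)))
 (.node (.node (.leaf 169216)
 (.leaf 169217))
 (.node (.leaf 169280)
 (.leaf 169313)))))
 (.node (.node (.node (.node (.leaf 169344)
 (.leaf 169345))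
 (.node (.leaf 169361)
 (.leaf 169376)))
 (.node (.node (.leaf 169392)
 (.leaf 169408))
 (.node (.leaf 169409)
 (.leaf 169424))))
 (.node (.node (.node (.leaf 169425)
 (.leaf 169441))
 (.node (.leaf 169457)
 (.leaf 169489)))
 (.node (.node (.leaf 169521)
 (.leaf 169536))
 (.node (.leaf 169569)
 (.leaf 169584))))))
 (.node (.node (.node (.node (.node (.leaf 169600)
 (.leaf 169633))
 (.node (.leaf 169665)
 (.leaf 169713)))
 (.node (.node (.leaf 169729)
 (.leaf 169760))
 (.node (.leaf 169761)
 (.leaf 169824))))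
 (.node (.node (.node (.leaf 169825)
 (.leaf 169840))
 (.node (.leaf 169856)
 (.leaf 169889)))
 (.node (.node (.leaf 169920)
 (.leaf 169921))
 (.node (.leaf 169937)
 (.leaf 169952)))))
 (.node (.node (.node (.node (.leaf 169953)
 (.leaf 169968))
 (.node (.leaf 169969)
 (.leaf 169984)))
 (.node (.node (.leaf 169985)
 (.leaf 170001))
 (.node (.leaf 170049)
 (.leaf 170064))))
 (.node (.node (.node (.leaf 170096)
 (.leaf 170129))
 (.node (.leaf 170144)
 (.leaf 170145)))
 (.node (.node (.leaf 170177)
 (.leaf 170224))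
 (.node (.leaf 170240)
 (.leaf 170256))))))

def entTB174 : RT := .node (.node (.node (.node (.node (.node (.leaf 170288)
 (.leaf 170305))
 (.node (.leaf 170337)
 (.leaf 170352)))
 (.node (.node (.leaf 170369)
 (.leaf 170385))
 (.node (.leaf 170433)
 (.leaf 170448))))
 (.node (.node (.node (.leaf 170449)
 (.leaf 170465))
 (.node (.leaf 170481)
 (.leaf 170528)))
 (.node (.node (.leaf 170544)
 (.leaf 170545))
 (.node (.leaf 170576)
 (.leaf 170592)))))
 (.node (.node (.node (.node (.leaf 170657)
 (.leaf 170688))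
 (.node (.leaf 170705)
 (.leaf 170752)))
 (.node (.node (.leaf 170801)
 (.leaf 170881))
 (.node (.leaf 170928)
 (.leaf 170945))))
 (.node (.node (.node (.leaf 170961)
 (.leaf 171025))
 (.node (.leaf 171040)
 (.leaf 171073)))
 (.node (.node (.leaf 171089)
 (.leaf 171121))
 (.node (.leaf 171185)
 (.leaf 171216))))))
 (.node (.node (.node (.node (.node (.leaf 171217)
 (.leaf 171233))
 (.node (.leaf 171249)
 (.leaf 171296)))
 (.node (.node (.leaf 171312)
 (.leaf 171328))
 (.node (.leaf 171329)
 (.leaf 171345))))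
 (.node (.node (.node (.leaf 171360)
 (.leaf 171361))
 (.node (.leaf 171376)
 (.leaf 171409)))
 (.node (.node (.leaf 171440)
 (.leaf 171456))
 (.node (.leaf 171457)
 (.leaf 171473)))))
 (.node (.node (.node (.node (.leaf 171489)
 (.leaf 171505))
 (.node (.leaf 171536)
 (.leaf 171537)))
 (.node (.node (.leaf 171553)
 (.leaf 171568))
 (.node (.leaf 171569)
 (.leaf 171584))))
 (.node (.node (.node (.leaf 171585)
 (.leaf 171601))
 (.node (.leaf 171617)
 (.leaf 171648)))
 (.node (.node (.leaf 171680)
 (.leaf 171681))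
 (.node (.leaf 171713)
 (.leaf 171728))))))

def entTB175 : RT := .node (.node (.node (.node (.node (.node (.leaf 171744)
 (.leaf 171745))
 (.node (.leaf 171792)
 (.leaf 171808)))
 (.node (.node (.leaf 171809)
 (.leaf 171825))
 (.node (.leaf 171840)
 (.leaf 171856))))
 (.node (.node (.node (.leaf 171873)
 (.leaf 171889))
 (.node (.leaf 171904)
 (.leaf 171920)))
 (.node (.node (.leaf 171953)
 (.leaf 171969))
 (.node (.leaf 171984)
 (.leaf 171985)))))
 (.node (.node (.node (.node (.leaf 172001)
 (.leaf 172017))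
 (.node (.leaf 172032)
 (.leaf 172064)))
 (.node (.node (.leaf 172065)
 (.leaf 172080))
 (.node (.leaf 172113)
 (.leaf 172145))))
 (.node (.node (.node (.leaf 172176)
 (.leaf 172177))
 (.node (.leaf 172192)
 (.leaf 172208)))
 (.node (.node (.leaf 172209)
 (.leaf 172225))
 (.node (.leaf 172240)
 (.leaf 172257))))))
 (.node (.node (.node (.node (.node (.leaf 172272)
 (.leaf 172273))
 (.node (.leaf 172288)
 (.leaf 172289)))
 (.node (.node (.leaf 172305)
 (.leaf 172321))
 (.node (.leaf 172336)
 (.leaf 172337))))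
 (.node (.node (.node (.leaf 172353)
 (.leaf 172369))
 (.node (.leaf 172400)
 (.leaf 172417)))
 (.node (.node (.leaf 172448)
 (.leaf 172464))
 (.node (.leaf 172465)
 (.leaf 172480)))))
 (.node (.node (.node (.node (.leaf 172496)
 (.leaf 172512))
 (.node (.leaf 172528)
 (.leaf 172544)))
 (.node (.node (.leaf 172545)
 (.leaf 172560))
 (.node (.leaf 172561)
 (.leaf 172577))))
 (.node (.node (.node (.leaf 172592)
 (.leaf 172593))
 (.node (.leaf 172608)
 (.leaf 172609)))
 (.node (.node (.leaf 172640)
 (.leaf 172641))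
 (.node (.leaf 172656)
 (.leaf 172672))))))

def entTB176 : RT := .node (.node (.node (.node (.node (.node (.leaf 172705)
 (.leaf 172720))
 (.node (.leaf 172737)
 (.leaf 172752)))
 (.node (.node (.leaf 172753)
 (.leaf 172768))
 (.node (.leaf 172801)
 (.leaf 172816))))
 (.node (.node (.node (.leaf 172833)
 (.leaf 172849))
 (.node (.leaf 172864)
 (.leaf 172881)))
 (.node (.node (.leaf 172945)
 (.leaf 172960))
 (.node (.leaf 172977)
 (.leaf 172993)))))
 (.node (.node (.node (.node (.leaf 173009)
 (.leaf 173024))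
 (.node (.leaf 173040)
 (.leaf 173057)))
 (.node (.node (.leaf 173072)
 (.leaf 173088))
 (.node (.leaf 173104)
 (.leaf 173137))))
 (.node (.node (.node (.leaf 173152)
 (.leaf 173169))
 (.node (.leaf 173201)
 (.leaf 173248)))
 (.node (.node (.leaf 173249)
 (.leaf 173264))
 (.node (.leaf 173265)
 (.leaf 173281))))))
 (.node (.node (.node (.node (.node (.leaf 173328)
 (.leaf 173329))
 (.node (.leaf 173344)
 (.leaf 173345)))
 (.node (.node (.leaf 173377)
 (.leaf 173408))
 (.node (.leaf 173424)
 (.leaf 173440))))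
 (.node (.node (.node (.leaf 173456)
 (.leaf 173457))
 (.node (.leaf 173489)
 (.leaf 173505)))
 (.node (.node (.leaf 173536)
 (.leaf 173552))
 (.node (.leaf 173553)
 (.leaf 173568)))))
 (.node (.node (.node (.node (.leaf 173584)
 (.leaf 173585))
 (.node (.leaf 173600)
 (.leaf 173617)))
 (.node (.node (.leaf 173680)
 (.leaf 173761))
 (.node (.leaf 173840)
 (.leaf 173841))))
 (.node (.node (.node (.leaf 173889)
 (.leaf 173904))
 (.node (.leaf 173920)
 (.leaf 173968)))
 (.node (.node (.leaf 173985)
 (.leaf 174000))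
 (.node (.leaf 174064)
 (.leaf 174160))))))

def entTB177 : RT := .node (.node (.node (.node (.node (.node (.leaf 174161)
 (.leaf 174192))
 (.node (.leaf 174193)
 (.leaf 174224)))
 (.node (.node (.leaf 174225)
 (.leaf 174241))
 (.node (.leaf 174256)
 (.leaf 174273))))
 (.node (.node (.node (.leaf 174305)
 (.leaf 174321))
 (.node (.leaf 174337)
 (.leaf 174385)))
 (.node (.node (.leaf 174449)
 (.leaf 174480))
 (.node (.leaf 174481)
 (.leaf 174496)))))
 (.node (.node (.node (.node (.leaf 174512)
 (.leaf 174624))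
 (.node (.leaf 174657)
 (.leaf 174720)))
 (.node (.node (.leaf 174753)
 (.leaf 174769))
 (.node (.leaf 174784)
 (.leaf 174785))))
 (.node (.node (.node (.leaf 174848)
 (.leaf 174849))
 (.node (.leaf 174864)
 (.leaf 174865)))
 (.node (.node (.leaf 174880)
 (.leaf 174913))
 (.node (.leaf 174944)
 (.leaf 174945))))))
 (.node (.node (.node (.node (.node (.leaf 174960)
 (.leaf 174961))
 (.node (.leaf 174992)
 (.leaf 174993)))
 (.node (.node (.leaf 175024)
 (.leaf 175088))
 (.node (.leaf 175104)
 (.leaf 175105))))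
 (.node (.node (.node (.leaf 175168)
 (.leaf 175185))
 (.node (.leaf 175232)
 (.leaf 175265)))
 (.node (.node (.leaf 175280)
 (.leaf 175281))
 (.node (.leaf 175297)
 (.leaf 175361)))))
 (.node (.node (.node (.node (.leaf 175376)
 (.leaf 175425))
 (.node (.leaf 175473)
 (.leaf 175504)))
 (.node (.node (.leaf 175505)
 (.leaf 175536))
 (.node (.leaf 175537)
 (.leaf 175552))))
 (.node (.node (.node (.leaf 175568)
 (.leaf 175601))
 (.node (.leaf 175616)
 (.leaf 175617)))
 (.node (.node (.leaf 175633)
 (.leaf 175648))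
 (.node (.leaf 175664)
 (.leaf 175665))))))

def entTB178 : RT := .node (.node (.node (.node (.node (.node (.leaf 175681)
 (.leaf 175729))
 (.node (.leaf 175744)
 (.leaf 175776)))
 (.node (.node (.leaf 175809)
 (.leaf 175824))
 (.node (.leaf 175825)
 (.leaf 175857))))
 (.node (.node (.node (.leaf 175904)
 (.leaf 175920))
 (.node (.leaf 175952)
 (.leaf 175969)))
 (.node (.node (.leaf 176001)
 (.leaf 176017))
 (.node (.leaf 176065)
 (.leaf 176112)))))
 (.node (.node (.node (.node (.leaf 176128)
 (.leaf 176129))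
 (.node (.leaf 176193)
 (.leaf 176224)))
 (.node (.node (.leaf 176321)
 (.leaf 176353))
 (.node (.leaf 176417)
 (.leaf 176432))))
 (.node (.node (.node (.leaf 176465)
 (.leaf 176481))
 (.node (.leaf 176513)
 (.leaf 176576)))
 (.node (.node (.leaf 176592)
 (.leaf 176609))
 (.node (.leaf 176624)
 (.leaf 176625))))))
 (.node (.node (.node (.node (.node (.leaf 176673)
 (.leaf 176689))
 (.node (.leaf 176721)
 (.leaf 176736)))
 (.node (.node (.leaf 176801)
 (.leaf 176816))
 (.node (.leaf 176817)
 (.leaf 176849))))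
 (.node (.node (.node (.leaf 176864)
 (.leaf 176912))
 (.node (.leaf 176913)
 (.leaf 177040)))
 (.node (.node (.leaf 177041)
 (.leaf 177056))
 (.node (.leaf 177057)
 (.leaf 177121)))))
 (.node (.node (.node (.node (.leaf 177152)
 (.leaf 177168))
 (.node (.leaf 177184)
 (.leaf 177217)))
 (.node (.node (.leaf 177232)
 (.leaf 177233))
 (.node (.leaf 177281)
 (.leaf 177313))))
 (.node (.node (.node (.leaf 177360)
 (.leaf 177377))
 (.node (.leaf 177425)
 (.leaf 177441)))
 (.node (.node (.leaf 177472)
 (.leaf 177521))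
 (.node (.leaf 177553)
 (.leaf 177584))))))

def entTB179 : RT := .node (.node (.node (.node (.node (.node (.leaf 177616)
 (.leaf 177633))
 (.node (.leaf 177649)
 (.leaf 177888)))
 (.node (.node (.leaf 177984)
 (.leaf 177985))
 (.node (.leaf 178033)
 (.leaf 178097))))
 (.node (.node (.node (.leaf 178112)
 (.leaf 178160))
 (.node (.leaf 178208)
 (.leaf 178336)))
 (.node (.node (.leaf 178417)
 (.leaf 178481))
 (.node (.leaf 178497)
 (.leaf 178544)))))
 (.node (.node (.node (.node (.leaf 178720)
 (.leaf 178753))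
 (.node (.leaf 178768)
 (.leaf 178833)))
 (.node (.node (.leaf 178865)
 (.leaf 178881))
 (.node (.leaf 178896)
 (.leaf 178912))))
 (.node (.node (.node (.leaf 178928)
 (.leaf 178944))
 (.node (.leaf 178961)
 (.leaf 178993)))
 (.node (.node (.leaf 179041)
 (.leaf 179057))
 (.node (.leaf 179104)
 (.leaf 179105))))))
 (.node (.node (.node (.node (.node (.leaf 179121)
 (.leaf 179136))
 (.node (.leaf 179168)
 (.leaf 179169)))
 (.node (.node (.leaf 179201)
 (.leaf 179232))
 (.node (.leaf 179233)
 (.leaf 179248))))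
 (.node (.node (.node (.leaf 179265)
 (.leaf 179297))
 (.node (.leaf 179328)
 (.leaf 179393)))
 (.node (.node (.leaf 179472)
 (.leaf 179536))
 (.node (.leaf 179600)
 (.leaf 179617)))))
 (.node (.node (.node (.node (.leaf 179632)
 (.leaf 179776))
 (.node (.leaf 179777)
 (.leaf 179792)))
 (.node (.node (.leaf 179793)
 (.leaf 179825))
 (.node (.leaf 179841)
 (.leaf 179856))))
 (.node (.node (.node (.leaf 179889)
 (.leaf 179953))
 (.node (.leaf 179984)
 (.leaf 179985)))
 (.node (.node (.leaf 180000)
 (.leaf 180096))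
 (.node (.leaf 180129)
 (.leaf 180240))))))

def entTB180 : RT := .node (.node (.node (.node (.node (.node (.leaf 180241)
 (.leaf 180256))
 (.node (.leaf 180289)
 (.leaf 180305)))
 (.node (.node (.leaf 180320)
 (.leaf 180321))
 (.node (.leaf 180384)
 (.leaf 180417))))
 (.node (.node (.node (.leaf 180464)
 (.leaf 180497))
 (.node (.leaf 180512)
 (.leaf 180513)))
 (.node (.node (.leaf 180529)
 (.leaf 180593))
 (.node (.leaf 180608)
 (.leaf 180705)))))
 (.node (.node (.node (.node (.leaf 180752)
 (.leaf 180753))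
 (.node (.leaf 180768)
 (.leaf 180784)))
 (.node (.node (.leaf 180816)
 (.leaf 180833))
 (.node (.leaf 180849)
 (.leaf 180865))))
 (.node (.node (.node (.leaf 180912)
 (.leaf 180928))
 (.node (.leaf 180961)
 (.leaf 181009)))
 (.node (.node (.leaf 181040)
 (.leaf 181057))
 (.node (.leaf 181089)
 (.leaf 181120))))))
 (.node (.node (.node (.node (.node (.leaf 181121)
 (.leaf 181184))
 (.node (.leaf 181217)
 (.leaf 181233)))
 (.node (.node (.leaf 181297)
 (.leaf 181312))
 (.node (.leaf 181361)
 (.leaf 181393))))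
 (.node (.node (.node (.leaf 181424)
 (.leaf 181505))
 (.node (.leaf 181600)
 (.leaf 181601)))
 (.node (.node (.leaf 181664)
 (.leaf 181665))
 (.node (.leaf 181776)
 (.leaf 181809)))))
 (.node (.node (.node (.node (.leaf 181953)
 (.leaf 181985))
 (.node (.leaf 182208)
 (.leaf 182305)))
 (.node (.node (.leaf 182384)
 (.leaf 182464))
 (.node (.leaf 182577)
 (.leaf 182737))))
 (.node (.node (.node (.leaf 182753)
 (.leaf 182864))
 (.node (.leaf 183025)
 (.leaf 183105)))
 (.node (.node (.leaf 183152)
 (.leaf 183168))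
 (.node (.leaf 183441)
 (.leaf 183584))))))

def entTB181 : RT := .node (.node (.node (.node (.node (.node (.leaf 183617)
 (.leaf 183696))
 (.node (.leaf 183792)
 (.leaf 183793)))
 (.node (.node (.leaf 183824)
 (.leaf 183841))
 (.node (.leaf 183905)
 (.leaf 184001))))
 (.node (.node (.node (.leaf 184144)
 (.leaf 184257))
 (.node (.leaf 184401)
 (.leaf 184481)))
 (.node (.node (.leaf 184513)
 (.leaf 184656))
 (.node (.leaf 184705)
 (.leaf 184752)))))
 (.node (.node (.node (.node (.leaf 184849)
 (.leaf 185624))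
 (.node (.leaf 185616)
 (.leaf 185617)))
 (.node (.node (.leaf 185632)
 (.leaf 185633))
 (.node (.leaf 185648)
 (.leaf 185649))))
 (.node (.node (.node (.leaf 185664)
 (.leaf 185665))
 (.node (.leaf 185680)
 (.leaf 185681)))
 (.node (.node (.leaf 185696)
 (.leaf 185697))
 (.node (.leaf 185712)
 (.leaf 185713))))))
 (.node (.node (.node (.node (.node (.leaf 185729)
 (.leaf 185744))
 (.node (.leaf 185745)
 (.leaf 185760)))
 (.node (.node (.leaf 185761)
 (.leaf 185776))
 (.node (.leaf 185777)
 (.leaf 185792))))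
 (.node (.node (.node (.leaf 185793)
 (.leaf 185808))
 (.node (.leaf 185809)
 (.leaf 185825)))
 (.node (.node (.leaf 185840)
 (.leaf 185841))
 (.node (.leaf 185856)
 (.leaf 185857)))))
 (.node (.node (.node (.node (.leaf 185872)
 (.leaf 185873))
 (.node (.leaf 185888)
 (.leaf 185889)))
 (.node (.node (.leaf 185904)
 (.leaf 185905))
 (.node (.leaf 185920)
 (.leaf 185921))))
 (.node (.node (.node (.leaf 185936)
 (.leaf 185937))
 (.node (.leaf 185952)
 (.leaf 185953)))
 (.node (.node (.leaf 185969)
 (.leaf 185984))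
 (.node (.leaf 185985)
 (.leaf 186000))))))

def entTB182 : RT := .node (.node (.node (.node (.node (.node (.leaf 186016)
 (.leaf 186017))
 (.node (.leaf 186032)
 (.leaf 186033)))
 (.node (.node (.leaf 186048)
 (.leaf 186049))
 (.node (.leaf 186064)
 (.leaf 186065))))
 (.node (.node (.node (.leaf 186080)
 (.leaf 186081))
 (.node (.leaf 186096)
 (.leaf 186097)))
 (.node (.node (.leaf 186112)
 (.leaf 186113))
 (.node (.leaf 186128)
 (.leaf 186129)))))
 (.node (.node (.node (.node (.leaf 186144)
 (.leaf 186145))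
 (.node (.leaf 186160)
 (.leaf 186161)))
 (.node (.node (.leaf 186177)
 (.leaf 186192))
 (.node (.leaf 186193)
 (.leaf 186208))))
 (.node (.node (.node (.leaf 186224)
 (.leaf 186225))
 (.node (.leaf 186240)
 (.leaf 186241)))
 (.node (.node (.leaf 186256)
 (.leaf 186257))
 (.node (.leaf 186272)
 (.leaf 186273))))))
 (.node (.node (.node (.node (.node (.leaf 186288)
 (.leaf 186289))
 (.node (.leaf 186304)
 (.leaf 186305)))
 (.node (.node (.leaf 186320)
 (.leaf 186321))
 (.node (.leaf 186336)
 (.leaf 186337))))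
 (.node (.node (.node (.leaf 186352)
 (.leaf 186353))
 (.node (.leaf 186368)
 (.leaf 186369)))
 (.node (.node (.leaf 186384)
 (.leaf 186385))
 (.node (.leaf 186400)
 (.leaf 186416)))))
 (.node (.node (.node (.node (.leaf 186417)
 (.leaf 186432))
 (.node (.leaf 186433)
 (.leaf 186448)))
 (.node (.node (.leaf 186449)
 (.leaf 186464))
 (.node (.leaf 186465)
 (.leaf 186480))))
 (.node (.node (.node (.leaf 186481)
 (.leaf 186496))
 (.node (.leaf 186497)
 (.leaf 186512)))
 (.node (.node (.leaf 186513)
 (.leaf 186528))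
 (.node (.leaf 186529)
 (.leaf 186545))))))

def entTB183 : RT := .node (.node (.node (.node (.node (.node (.leaf 186561)
 (.leaf 186576))
 (.node (.leaf 186577)
 (.leaf 186592)))
 (.node (.node (.leaf 186608)
 (.leaf 186609))
 (.node (.leaf 186624)
 (.leaf 186625))))
 (.node (.node (.node (.leaf 186640)
 (.leaf 186656))
 (.node (.leaf 186657)
 (.leaf 186672)))
 (.node (.node (.leaf 186673)
 (.leaf 186688))
 (.node (.leaf 186689)
 (.leaf 186704)))))
 (.node (.node (.node (.node (.leaf 186705)
 (.leaf 186720))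
 (.node (.leaf 186736)
 (.leaf 186737)))
 (.node (.node (.leaf 186752)
 (.leaf 186753))
 (.node (.leaf 186768)
 (.leaf 186769))))
 (.node (.node (.node (.leaf 186785)
 (.leaf 186800))
 (.node (.leaf 186801)
 (.leaf 186816)))
 (.node (.node (.leaf 186832)
 (.leaf 186833))
 (.node (.leaf 186848)
 (.leaf 186849))))))
 (.node (.node (.node (.node (.node (.leaf 186864)
 (.leaf 186865))
 (.node (.leaf 186880)
 (.leaf 186881)))
 (.node (.node (.leaf 186896)
 (.leaf 186897))
 (.node (.leaf 186912)
 (.leaf 186928))))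
 (.node (.node (.node (.leaf 186929)
 (.leaf 186944))
 (.node (.leaf 186945)
 (.leaf 186960)))
 (.node (.node (.leaf 186961)
 (.leaf 186976))
 (.node (.leaf 186977)
 (.leaf 186992)))))
 (.node (.node (.node (.node (.leaf 186993)
 (.leaf 187009))
 (.node (.leaf 187025)
 (.leaf 187040)))
 (.node (.node (.leaf 187041)
 (.leaf 187056))
 (.node (.leaf 187057)
 (.leaf 187072))))
 (.node (.node (.node (.leaf 187073)
 (.leaf 187088))
 (.node (.leaf 187089)
 (.leaf 187104)))
 (.node (.node (.leaf 187120)
 (.leaf 187121))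
 (.node (.leaf 187136)
 (.leaf 187137))))))

def entTB184 : RT := .node (.node (.node (.node (.node (.node (.leaf 187153)
 (.leaf 187168))
 (.node (.leaf 187169)
 (.leaf 187184)))
 (.node (.node (.leaf 187201)
 (.leaf 187216))
 (.node (.leaf 187217)
 (.leaf 187232))))
 (.node (.node (.node (.leaf 187233)
 (.leaf 187248))
 (.node (.leaf 187249)
 (.leaf 187264)))
 (.node (.node (.leaf 187281)
 (.leaf 187296))
 (.node (.leaf 187297)
 (.leaf 187312)))))
 (.node (.node (.node (.node (.leaf 187328)
 (.leaf 187329))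
 (.node (.leaf 187344)
 (.leaf 187345)))
 (.node (.node (.leaf 187360)
 (.leaf 187376))
 (.node (.leaf 187377)
 (.leaf 187393))))
 (.node (.node (.node (.leaf 187408)
 (.leaf 187409))
 (.node (.leaf 187424)
 (.leaf 187425)))
 (.node (.node (.leaf 187440)
 (.leaf 187456))
 (.node (.leaf 187457)
 (.leaf 187472))))))
 (.node (.node (.node (.node (.node (.leaf 187473)
 (.leaf 187520))
 (.node (.leaf 187537)
 (.leaf 187552)))
 (.node (.node (.leaf 187569)
 (.leaf 187584))
 (.node (.leaf 187585)
 (.leaf 187600))))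
 (.node (.node (.node (.leaf 187601)
 (.leaf 187617))
 (.node (.leaf 187632)
 (.leaf 187633)))
 (.node (.node (.leaf 187648)
 (.leaf 187649))
 (.node (.leaf 187665)
 (.leaf 187681)))))
 (.node (.node (.node (.node (.leaf 187713)
 (.leaf 187728))
 (.node (.leaf 187729)
 (.leaf 187744)))
 (.node (.node (.leaf 187761)
 (.leaf 187776))
 (.node (.leaf 187792)
 (.leaf 187793))))
 (.node (.node (.node (.leaf 187808)
 (.leaf 187809))
 (.node (.leaf 187840)
 (.leaf 187841)))
 (.node (.node (.leaf 187856)
 (.leaf 187857))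
 (.node (.leaf 187873)
 (.leaf 187888))))))

def entTB185 : RT := .node (.node (.node (.node (.node (.node (.leaf 187889)
 (.leaf 187904))
 (.node (.leaf 187920)
 (.leaf 187921)))
 (.node (.node (.leaf 187936)
 (.leaf 187937))
 (.node (.leaf 187952)
 (.leaf 187953))))
 (.node (.node (.node (.leaf 187984)
 (.leaf 188000))
 (.node (.leaf 188001)
 (.leaf 188016)))
 (.node (.node (.leaf 188032)
 (.leaf 188033))
 (.node (.leaf 188064)
 (.leaf 188065)))))
 (.node (.node (.node (.node (.leaf 188096)
 (.leaf 188097))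
 (.node (.leaf 188112)
 (.leaf 188128)))
 (.node (.node (.leaf 188129)
 (.leaf 188144))
 (.node (.leaf 188145)
 (.leaf 188160))))
 (.node (.node (.node (.leaf 188176)
 (.leaf 188192))
 (.node (.leaf 188193)
 (.leaf 188209)))
 (.node (.node (.leaf 188224)
 (.leaf 188225))
 (.node (.leaf 188240)
 (.leaf 188256))))))
 (.node (.node (.node (.node (.node (.leaf 188257)
 (.leaf 188272))
 (.node (.leaf 188273)
 (.leaf 188288)))
 (.node (.node (.leaf 188289)
 (.leaf 188304))
 (.node (.leaf 188305)
 (.leaf 188321))))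
 (.node (.node (.node (.leaf 188337)
 (.leaf 188352))
 (.node (.leaf 188353)
 (.leaf 188368)))
 (.node (.node (.leaf 188369)
 (.leaf 188384))
 (.node (.leaf 188385)
 (.leaf 188400)))))
 (.node (.node (.node (.node (.leaf 188401)
 (.leaf 188416))
 (.node (.leaf 188417)
 (.leaf 188432)))
 (.node (.node (.leaf 188448)
 (.leaf 188449))
 (.node (.leaf 188464)
 (.leaf 188497))))
 (.node (.node (.node (.leaf 188544)
 (.leaf 188545))
 (.node (.leaf 188560)
 (.leaf 188576)))
 (.node (.node (.leaf 188577)
 (.leaf 188592))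
 (.node (.leaf 188593)
 (.leaf 188608))))))

def entTB186 : RT := .node (.node (.node (.node (.node (.node (.leaf 188625)
 (.leaf 188641))
 (.node (.leaf 188656)
 (.leaf 188657)))
 (.node (.node (.leaf 188672)
 (.leaf 188673))
 (.node (.leaf 188688)
 (.leaf 188720))))
 (.node (.node (.node (.leaf 188752)
 (.leaf 188753))
 (.node (.leaf 188768)
 (.leaf 188785)))
 (.node (.node (.leaf 188800)
 (.leaf 188801))
 (.node (.leaf 188817)
 (.leaf 188832)))))
 (.node (.node (.node (.node (.leaf 188849)
 (.leaf 188881))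
 (.node (.leaf 188897)
 (.leaf 188912)))
 (.node (.node (.leaf 188928)
 (.leaf 188929))
 (.node (.leaf 188960)
 (.leaf 188961))))
 (.node (.node (.node (.leaf 188976)
 (.leaf 188993))
 (.node (.leaf 189041)
 (.leaf 189056)))
 (.node (.node (.leaf 189073)
 (.leaf 189089))
 (.node (.leaf 189104)
 (.leaf 189105))))))
 (.node (.node (.node (.node (.node (.leaf 189137)
 (.leaf 189152))
 (.node (.leaf 189168)
 (.leaf 189169)))
 (.node (.node (.leaf 189200)
 (.leaf 189216))
 (.node (.leaf 189217)
 (.leaf 189232))))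
 (.node (.node (.node (.leaf 189233)
 (.leaf 189248))
 (.node (.leaf 189249)
 (.leaf 189264)))
 (.node (.node (.leaf 189265)
 (.leaf 189280))
 (.node (.leaf 189281)
 (.leaf 189296)))))
 (.node (.node (.node (.node (.leaf 189297)
 (.leaf 189313))
 (.node (.leaf 189329)
 (.leaf 189345)))
 (.node (.node (.leaf 189361)
 (.leaf 189376))
 (.node (.leaf 189392)
 (.leaf 189393))))
 (.node (.node (.node (.leaf 189409)
 (.leaf 189424))
 (.node (.leaf 189425)
 (.leaf 189440)))
 (.node (.node (.leaf 189441)
 (.leaf 189456))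
 (.node (.leaf 189473)
 (.leaf 189488))))))

def entTB187 : RT := .node (.node (.node (.node (.node (.node (.leaf 189489)
 (.leaf 189505))
 (.node (.leaf 189521)
 (.leaf 189553)))
 (.node (.node (.leaf 189569)
 (.leaf 189600))
 (.node (.leaf 189601)
 (.leaf 189616))))
 (.node (.node (.node (.leaf 189617)
 (.leaf 189632))
 (.node (.leaf 189633)
 (.leaf 189664)))
 (.node (.node (.leaf 189680)
 (.leaf 189681))
 (.node (.leaf 189696)
 (.leaf 189712)))))
 (.node (.node (.node (.node (.leaf 189729)
 (.leaf 189744))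
 (.node (.leaf 189776)
 (.leaf 189777)))
 (.node (.node (.leaf 189792)
 (.leaf 189793))
 (.node (.leaf 189809)
 (.leaf 189824))))
 (.node (.node (.node (.leaf 189825)
 (.leaf 189840))
 (.node (.leaf 189856)
 (.leaf 189873)))
 (.node (.node (.leaf 189888)
 (.leaf 189889))
 (.node (.leaf 189905)
 (.leaf 189920))))))
 (.node (.node (.node (.node (.node (.leaf 189953)
 (.leaf 189969))
 (.node (.leaf 189984)
 (.leaf 189985)))
 (.node (.node (.leaf 190000)
 (.leaf 190016))
 (.node (.leaf 190017)
 (.leaf 190033))))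
 (.node (.node (.node (.leaf 190048)
 (.leaf 190113))
 (.node (.leaf 190145)
 (.leaf 190161)))
 (.node (.node (.leaf 190176)
 (.leaf 190177))
 (.node (.leaf 190209)
 (.leaf 190241)))))
 (.node (.node (.node (.node (.leaf 190289)
 (.leaf 190320))
 (.node (.leaf 190321)
 (.leaf 190336)))
 (.node (.node (.leaf 190337)
 (.leaf 190353))
 (.node (.leaf 190369)
 (.leaf 190384))))
 (.node (.node (.node (.leaf 190400)
 (.leaf 190433))
 (.node (.leaf 190513)
 (.leaf 190528)))
 (.node (.node (.leaf 190529)
 (.leaf 190545))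
 (.node (.leaf 190561)
 (.leaf 190576))))))

def entTB188 : RT := .node (.node (.node (.node (.node (.node (.leaf 190577)
 (.leaf 190592))
 (.node (.leaf 190593)
 (.leaf 190608)))
 (.node (.node (.leaf 190609)
 (.leaf 190657))
 (.node (.leaf 190672)
 (.leaf 190704))))
 (.node (.node (.node (.leaf 190720)
 (.leaf 190752))
 (.node (.leaf 190753)
 (.leaf 190768)))
 (.node (.node (.leaf 190769)
 (.leaf 190785))
 (.node (.leaf 190800)
 (.leaf 190816)))))
 (.node (.node (.node (.node (.leaf 190817)
 (.leaf 190832))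
 (.node (.leaf 190865)
 (.leaf 190880)))
 (.node (.node (.leaf 190881)
 (.leaf 190896))
 (.node (.leaf 190960)
 (.leaf 190961))))
 (.node (.node (.node (.leaf 190976)
 (.leaf 191009))
 (.node (.leaf 191024)
 (.leaf 191025)))
 (.node (.node (.leaf 191040)
 (.leaf 191056))
 (.node (.leaf 191057)
 (.leaf 191104))))))
 (.node (.node (.node (.node (.node (.leaf 191120)
 (.leaf 191153))
 (.node (.leaf 191168)
 (.leaf 191185)))
 (.node (.node (.leaf 191201)
 (.leaf 191233))
 (.node (.leaf 191248)
 (.leaf 191265))))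
 (.node (.node (.node (.leaf 191297)
 (.leaf 191312))
 (.node (.leaf 191313)
 (.leaf 191329)))
 (.node (.node (.leaf 191345)
 (.leaf 191361))
 (.node (.leaf 191376)
 (.leaf 191377)))))
 (.node (.node (.node (.node (.leaf 191392)
 (.leaf 191393))
 (.node (.leaf 191456)
 (.leaf 191472)))
 (.node (.node (.leaf 191488)
 (.leaf 191489))
 (.node (.leaf 191504)
 (.leaf 191505))))
 (.node (.node (.node (.leaf 191520)
 (.leaf 191521))
 (.node (.leaf 191537)
 (.leaf 191553)))
 (.node (.node (.leaf 191568)
 (.leaf 191616))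
 (.node (.leaf 191617)
 (.leaf 191632))))))

def entTB189 : RT := .node (.node (.node (.node (.node (.node (.leaf 191648)
 (.leaf 191649))
 (.node (.leaf 191665)
 (.leaf 191680)))
 (.node (.node (.leaf 191697)
 (.leaf 191744))
 (.node (.leaf 191777)
 (.leaf 191793))))
 (.node (.node (.node (.leaf 191824)
 (.leaf 191873))
 (.node (.leaf 191888)
 (.leaf 191905)))
 (.node (.node (.leaf 191936)
 (.leaf 191953))
 (.node (.leaf 192000)
 (.leaf 192032)))))
 (.node (.node (.node (.node (.leaf 192033)
 (.leaf 192049))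
 (.node (.leaf 192064)
 (.leaf 192080)))
 (.node (.node (.leaf 192081)
 (.leaf 192097))
 (.node (.leaf 192112)
 (.leaf 192113))))
 (.node (.node (.node (.leaf 192145)
 (.leaf 192160))
 (.node (.leaf 192161)
 (.leaf 192176)))
 (.node (.node (.leaf 192177)
 (.leaf 192273))
 (.node (.leaf 192321)
 (.leaf 192353))))))
 (.node (.node (.node (.node (.node (.leaf 192400)
 (.leaf 192401))
 (.node (.leaf 192416)
 (.leaf 192480)))
 (.node (.node (.leaf 192496)
 (.leaf 192497))
 (.node (.leaf 192512)
 (.leaf 192545))))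
 (.node (.node (.node (.leaf 192560)
 (.leaf 192593))
 (.node (.leaf 192625)
 (.leaf 192641)))
 (.node (.node (.leaf 192672)
 (.leaf 192673))
 (.node (.leaf 192721)
 (.leaf 192736)))))
 (.node (.node (.node (.node (.leaf 192785)
 (.leaf 192800))
 (.node (.leaf 192801)
 (.leaf 192817)))
 (.node (.node (.leaf 192833)
 (.leaf 192880))
 (.node (.leaf 192913)
 (.leaf 192928))))
 (.node (.node (.node (.leaf 192976)
 (.leaf 192992))
 (.node (.leaf 192993)
 (.leaf 193009)))
 (.node (.node (.leaf 193024)
 (.leaf 193056))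
 (.node (.leaf 193104)
 (.leaf 193137))))))

def entTB190 : RT := .node (.node (.node (.node (.node (.node (.leaf 193153)
 (.leaf 193169))
 (.node (.leaf 193201)
 (.leaf 193233)))
 (.node (.node (.leaf 193265)
 (.leaf 193328))
 (.node (.leaf 193329)
 (.leaf 193345))))
 (.node (.node (.node (.leaf 193425)
 (.leaf 193441))
 (.node (.leaf 193472)
 (.leaf 193504)))
 (.node (.node (.leaf 193505)
 (.leaf 193521))
 (.node (.leaf 193553)
 (.leaf 193569)))))
 (.node (.node (.node (.node (.leaf 193617)
 (.leaf 193633))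
 (.node (.leaf 193713)
 (.leaf 193729)))
 (.node (.node (.leaf 193744)
 (.leaf 193776))
 (.node (.leaf 193825)
 (.leaf 193841))))
 (.node (.node (.node (.leaf 193889)
 (.leaf 193904))
 (.node (.leaf 193905)
 (.leaf 193921)))
 (.node (.node (.leaf 194017)
 (.leaf 194128))
 (.node (.leaf 194224)
 (.leaf 194273))))))
 (.node (.node (.node (.node (.node (.leaf 194352)
 (.leaf 194497))
 (.node (.leaf 194593)
 (.leaf 194705)))
 (.node (.node (.leaf 194737)
 (.leaf 194785))
 (.node (.leaf 194801)
 (.leaf 195009))))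
 (.node (.node (.node (.leaf 195105)
 (.leaf 195225))
 (.node (.leaf 195216)
 (.leaf 195217)))
 (.node (.node (.leaf 195232)
 (.leaf 195233))
 (.node (.leaf 195248)
 (.leaf 195249)))))
 (.node (.node (.node (.node (.leaf 195264)
 (.leaf 195265))
 (.node (.leaf 195280)
 (.leaf 195281)))
 (.node (.node (.leaf 195296)
 (.leaf 195297))
 (.node (.leaf 195312)
 (.leaf 195313))))
 (.node (.node (.node (.leaf 195329)
 (.leaf 195344))
 (.node (.leaf 195345)
 (.leaf 195360)))
 (.node (.node (.leaf 195361)
 (.leaf 195376))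
 (.node (.leaf 195377)
 (.leaf 195392))))))

def entTB191 : RT := .node (.node (.node (.node (.node (.node (.leaf 195393)
 (.leaf 195408))
 (.node (.leaf 195409)
 (.leaf 195424)))
 (.node (.node (.leaf 195425)
 (.leaf 195440))
 (.node (.leaf 195441)
 (.leaf 195456))))
 (.node (.node (.node (.leaf 195457)
 (.leaf 195472))
 (.node (.leaf 195473)
 (.leaf 195488)))
 (.node (.node (.leaf 195489)
 (.leaf 195504))
 (.node (.leaf 195505)
 (.leaf 195520)))))
 (.node (.node (.node (.node (.leaf 195521)
 (.leaf 195536))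
 (.node (.leaf 195537)
 (.leaf 195552)))
 (.node (.node (.leaf 195553)
 (.leaf 195569))
 (.node (.leaf 195584)
 (.leaf 195585))))
 (.node (.node (.node (.leaf 195600)
 (.leaf 195616))
 (.node (.leaf 195617)
 (.leaf 195632)))
 (.node (.node (.leaf 195633)
 (.leaf 195648))
 (.node (.leaf 195649)
 (.leaf 195664))))))
 (.node (.node (.node (.node (.node (.leaf 195665)
 (.leaf 195681))
 (.node (.leaf 195696)
 (.leaf 195697)))
 (.node (.node (.leaf 195712)
 (.leaf 195713))
 (.node (.leaf 195728)
 (.leaf 195729))))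
 (.node (.node (.node (.leaf 195744)
 (.leaf 195745))
 (.node (.leaf 195760)
 (.leaf 195761)))
 (.node (.node (.leaf 195776)
 (.leaf 195777))
 (.node (.leaf 195793)
 (.leaf 195808)))))
 (.node (.node (.node (.node (.leaf 195824)
 (.leaf 195840))
 (.node (.leaf 195841)
 (.leaf 195857)))
 (.node (.node (.leaf 195872)
 (.leaf 195873))
 (.node (.leaf 195888)
 (.leaf 195889))))
 (.node (.node (.node (.leaf 195904)
 (.leaf 195905))
 (.node (.leaf 195920)
 (.leaf 195921)))
 (.node (.node (.leaf 195936)
 (.leaf 195937))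
 (.node (.leaf 195952)
 (.leaf 195953))))))

def entTB192 : RT := .node (.node (.node (.node (.node (.node (.leaf 195968)
 (.leaf 195969))
 (.node (.leaf 195984)
 (.leaf 195985)))
 (.node (.node (.leaf 196000)
 (.leaf 196001))
 (.node (.leaf 196017)
 (.leaf 196032))))
 (.node (.node (.node (.leaf 196048)
 (.leaf 196064))
 (.node (.leaf 196081)
 (.leaf 196096)))
 (.node (.node (.leaf 196097)
 (.leaf 196112))
 (.node (.leaf 196113)
 (.leaf 196128)))))
 (.node (.node (.node (.node (.leaf 196129)
 (.leaf 196144))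
 (.node (.leaf 196145)
 (.leaf 196160)))
 (.node (.node (.leaf 196161)
 (.leaf 196176))
 (.node (.leaf 196177)
 (.leaf 196193))))
 (.node (.node (.node (.leaf 196208)
 (.leaf 196209))
 (.node (.leaf 196224)
 (.leaf 196240)))
 (.node (.node (.leaf 196241)
 (.leaf 196256))
 (.node (.leaf 196257)
 (.leaf 196272))))))
 (.node (.node (.node (.node (.node (.leaf 196273)
 (.leaf 196288))
 (.node (.leaf 196289)
 (.leaf 196304)))
 (.node (.node (.leaf 196305)
 (.leaf 196320))
 (.node (.leaf 196321)
 (.leaf 196336))))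
 (.node (.node (.node (.leaf 196337)
 (.leaf 196352))
 (.node (.leaf 196353)
 (.leaf 196368)))
 (.node (.node (.leaf 196369)
 (.leaf 196385))
 (.node (.leaf 196400)
 (.leaf 196401)))))
 (.node (.node (.node (.node (.leaf 196416)
 (.leaf 196432))
 (.node (.leaf 196433)
 (.leaf 196448)))
 (.node (.node (.leaf 196449)
 (.leaf 196465))
 (.node (.leaf 196480)
 (.leaf 196481))))
 (.node (.node (.node (.leaf 196497)
 (.leaf 196512))
 (.node (.leaf 196513)
 (.leaf 196528)))
 (.node (.node (.leaf 196529)
 (.leaf 196544))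
 (.node (.leaf 196545)
 (.leaf 196560))))))

def entTB193 : RT := .node (.node (.node (.node (.node (.node (.leaf 196561)
 (.leaf 196576))
 (.node (.leaf 196577)
 (.leaf 196592)))
 (.node (.node (.leaf 196593)
 (.leaf 196609))
 (.node (.leaf 196624)
 (.leaf 196625))))
 (.node (.node (.node (.leaf 196640)
 (.leaf 196641))
 (.node (.leaf 196656)
 (.leaf 196657)))
 (.node (.node (.leaf 196672)
 (.leaf 196673))
 (.node (.leaf 196688)
 (.leaf 196689)))))
 (.node (.node (.node (.node (.leaf 196704)
 (.leaf 196705))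
 (.node (.leaf 196720)
 (.leaf 196721)))
 (.node (.node (.leaf 196736)
 (.leaf 196752))
 (.node (.leaf 196753)
 (.leaf 196768))))
 (.node (.node (.node (.leaf 196769)
 (.leaf 196784))
 (.node (.leaf 196800)
 (.leaf 196816)))
 (.node (.node (.leaf 196817)
 (.leaf 196832))
 (.node (.leaf 196849)
 (.leaf 196864))))))
 (.node (.node (.node (.node (.node (.leaf 196865)
 (.leaf 196880))
 (.node (.leaf 196896)
 (.leaf 196897)))
 (.node (.node (.leaf 196912)
 (.leaf 196913))
 (.node (.leaf 196928)
 (.leaf 196929))))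
 (.node (.node (.node (.leaf 196944)
 (.leaf 196945))
 (.node (.leaf 196960)
 (.leaf 196961)))
 (.node (.node (.leaf 196976)
 (.leaf 196977))
 (.node (.leaf 196992)
 (.leaf 196993)))))
 (.node (.node (.node (.node (.leaf 197008)
 (.leaf 197009))
 (.node (.leaf 197024)
 (.leaf 197025)))
 (.node (.node (.leaf 197040)
 (.leaf 197041))
 (.node (.leaf 197056)
 (.leaf 197057))))
 (.node (.node (.node (.leaf 197073)
 (.leaf 197088))
 (.node (.leaf 197104)
 (.leaf 197120)))
 (.node (.node (.leaf 197121)
 (.leaf 197136))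
 (.node (.leaf 197137)
 (.leaf 197152))))))

def entTB194 : RT := .node (.node (.node (.node (.node (.node (.leaf 197153)
 (.leaf 197168))
 (.node (.leaf 197169)
 (.leaf 197184)))
 (.node (.node (.leaf 197185)
 (.leaf 197200))
 (.node (.leaf 197201)
 (.leaf 197216))))
 (.node (.node (.node (.leaf 197217)
 (.leaf 197232))
 (.node (.leaf 197233)
 (.leaf 197248)))
 (.node (.node (.leaf 197249)
 (.leaf 197265))
 (.node (.leaf 197280)
 (.leaf 197281)))))
 (.node (.node (.node (.node (.leaf 197297)
 (.leaf 197312))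
 (.node (.leaf 197329)
 (.leaf 197344)))
 (.node (.node (.leaf 197360)
 (.leaf 197361))
 (.node (.leaf 197376)
 (.leaf 197392))))
 (.node (.node (.node (.leaf 197393)
 (.leaf 197408))
 (.node (.leaf 197409)
 (.leaf 197425)))
 (.node (.node (.leaf 197440)
 (.leaf 197441))
 (.node (.leaf 197456)
 (.leaf 197457))))))
 (.node (.node (.node (.node (.node (.leaf 197472)
 (.leaf 197473))
 (.node (.leaf 197488)
 (.leaf 197489)))
 (.node (.node (.leaf 197504)
 (.leaf 197520))
 (.node (.leaf 197521)
 (.leaf 197537))))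
 (.node (.node (.node (.leaf 197552)
 (.leaf 197568))
 (.node (.leaf 197569)
 (.leaf 197585)))
 (.node (.node (.leaf 197600)
 (.leaf 197601))
 (.node (.leaf 197632)
 (.leaf 197648)))))
 (.node (.node (.node (.node (.leaf 197665)
 (.leaf 197680))
 (.node (.leaf 197681)
 (.leaf 197696)))
 (.node (.node (.leaf 197712)
 (.leaf 197713))
 (.node (.leaf 197728)
 (.leaf 197729))))
 (.node (.node (.node (.leaf 197761)
 (.leaf 197776))
 (.node (.leaf 197777)
 (.leaf 197792)))
 (.node (.node (.leaf 197808)
 (.leaf 197809))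
 (.node (.leaf 197824)
 (.leaf 197825))))))

def entTB195 : RT := .node (.node (.node (.node (.node (.node (.leaf 197840)
 (.leaf 197841))
 (.node (.leaf 197856)
 (.leaf 197857)))
 (.node (.node (.leaf 197872)
 (.leaf 197873))
 (.node (.leaf 197888)
 (.leaf 197889))))
 (.node (.node (.node (.leaf 197904)
 (.leaf 197905))
 (.node (.leaf 197920)
 (.leaf 197921)))
 (.node (.node (.leaf 197936)
 (.leaf 197937))
 (.node (.leaf 197953)
 (.leaf 197968)))))
 (.node (.node (.node (.node (.leaf 197969)
 (.leaf 197984))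
 (.node (.leaf 197985)
 (.leaf 198000)))
 (.node (.node (.leaf 198001)
 (.leaf 198016))
 (.node (.leaf 198017)
 (.leaf 198048))))
 (.node (.node (.node (.leaf 198064)
 (.leaf 198081))
 (.node (.leaf 198096)
 (.leaf 198097)))
 (.node (.node (.leaf 198112)
 (.leaf 198113))
 (.node (.leaf 198128)
 (.leaf 198129))))))
 (.node (.node (.node (.node (.node (.leaf 198160)
 (.leaf 198161))
 (.node (.leaf 198176)
 (.leaf 198177)))
 (.node (.node (.leaf 198192)
 (.leaf 198193))
 (.node (.leaf 198209)
 (.leaf 198224))))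
 (.node (.node (.node (.leaf 198225)
 (.leaf 198240))
 (.node (.leaf 198256)
 (.leaf 198257)))
 (.node (.node (.leaf 198272)
 (.leaf 198273))
 (.node (.leaf 198288)
 (.leaf 198289)))))
 (.node (.node (.node (.node (.leaf 198304)
 (.leaf 198305))
 (.node (.leaf 198320)
 (.leaf 198321)))
 (.node (.node (.leaf 198336)
 (.leaf 198337))
 (.node (.leaf 198352)
 (.leaf 198353))))
 (.node (.node (.node (.leaf 198368)
 (.leaf 198369))
 (.node (.leaf 198384)
 (.leaf 198385)))
 (.node (.node (.leaf 198400)
 (.leaf 198401))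
 (.node (.leaf 198416)
 (.leaf 198417))))))

def entTB196 : RT := .node (.node (.node (.node (.node (.node (.leaf 198433)
 (.leaf 198448))
 (.node (.leaf 198449)
 (.leaf 198464)))
 (.node (.node (.leaf 198480)
 (.leaf 198481))
 (.node (.leaf 198496)
 (.leaf 198497))))
 (.node (.node (.node (.leaf 198512)
 (.leaf 198513))
 (.node (.leaf 198528)
 (.leaf 198529)))
 (.node (.node (.leaf 198544)
 (.leaf 198560))
 (.node (.leaf 198576)
 (.leaf 198577)))))
 (.node (.node (.node (.node (.leaf 198592)
 (.leaf 198593))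
 (.node (.leaf 198609)
 (.leaf 198625)))
 (.node (.node (.leaf 198640)
 (.leaf 198656))
 (.node (.leaf 198673)
 (.leaf 198689))))
 (.node (.node (.node (.leaf 198704)
 (.leaf 198720))
 (.node (.leaf 198736)
 (.leaf 198737)))
 (.node (.node (.leaf 198752)
 (.leaf 198753))
 (.node (.leaf 198768)
 (.leaf 198784))))))
 (.node (.node (.node (.node (.node (.leaf 198785)
 (.leaf 198801))
 (.node (.leaf 198849)
 (.leaf 198865)))
 (.node (.node (.leaf 198880)
 (.leaf 198881))
 (.node (.leaf 198896)
 (.leaf 198897))))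
 (.node (.node (.node (.leaf 198912)
 (.leaf 198944))
 (.node (.leaf 198945)
 (.leaf 198960)))
 (.node (.node (.leaf 198976)
 (.leaf 198993))
 (.node (.leaf 199009)
 (.leaf 199024)))))
 (.node (.node (.node (.node (.leaf 199025)
 (.leaf 199040))
 (.node (.leaf 199041)
 (.leaf 199056)))
 (.node (.node (.leaf 199072)
 (.leaf 199105))
 (.node (.leaf 199120)
 (.leaf 199136))))
 (.node (.node (.node (.leaf 199137)
 (.leaf 199152))
 (.node (.leaf 199153)
 (.leaf 199169)))
 (.node (.node (.leaf 199184)
 (.leaf 199185))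
 (.node (.leaf 199217)
 (.leaf 199232))))))

def entTB197 : RT := .node (.node (.node (.node (.node (.node (.leaf 199233)
 (.leaf 199249))
 (.node (.leaf 199264)
 (.leaf 199265)))
 (.node (.node (.leaf 199280)
 (.leaf 199281))
 (.node (.leaf 199296)
 (.leaf 199297))))
 (.node (.node (.node (.leaf 199313)
 (.leaf 199344))
 (.node (.leaf 199345)
 (.leaf 199360)))
 (.node (.node (.leaf 199376)
 (.leaf 199392))
 (.node (.leaf 199393)
 (.leaf 199409)))))
 (.node (.node (.node (.node (.leaf 199424)
 (.leaf 199425))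
 (.node (.leaf 199440)
 (.leaf 199456)))
 (.node (.node (.leaf 199457)
 (.leaf 199473))
 (.node (.leaf 199488)
 (.leaf 199489))))
 (.node (.node (.node (.leaf 199504)
 (.leaf 199505))
 (.node (.leaf 199520)
 (.leaf 199521)))
 (.node (.node (.leaf 199537)
 (.leaf 199552))
 (.node (.leaf 199553)
 (.leaf 199569))))))
 (.node (.node (.node (.node (.node (.leaf 199585)
 (.leaf 199600))
 (.node (.leaf 199616)
 (.leaf 199617)))
 (.node (.node (.leaf 199632)
 (.leaf 199633))
 (.node (.leaf 199665)
 (.leaf 199680))))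
 (.node (.node (.node (.leaf 199696)
 (.leaf 199697))
 (.node (.leaf 199713)
 (.leaf 199729)))
 (.node (.node (.leaf 199776)
 (.leaf 199777))
 (.node (.leaf 199792)
 (.leaf 199793)))))
 (.node (.node (.node (.node (.leaf 199824)
 (.leaf 199825))
 (.node (.leaf 199857)
 (.leaf 199888)))
 (.node (.node (.leaf 199889)
 (.leaf 199904))
 (.node (.leaf 199937)
 (.leaf 199969))))
 (.node (.node (.node (.leaf 199984)
 (.leaf 200000))
 (.node (.leaf 200001)
 (.leaf 200017)))
 (.node (.node (.leaf 200033)
 (.leaf 200049))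
 (.node (.leaf 200065)
 (.leaf 200080))))))

def entTB198 : RT := .node (.node (.node (.node (.node (.node (.leaf 200081)
 (.leaf 200113))
 (.node (.leaf 200128)
 (.leaf 200129)))
 (.node (.node (.leaf 200144)
 (.leaf 200145))
 (.node (.leaf 200160)
 (.leaf 200176))))
 (.node (.node (.node (.leaf 200177)
 (.leaf 200208))
 (.node (.leaf 200209)
 (.leaf 200224)))
 (.node (.node (.leaf 200225)
 (.leaf 200240))
 (.node (.leaf 200241)
 (.leaf 200256)))))
 (.node (.node (.node (.node (.leaf 200257)
 (.leaf 200273))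
 (.node (.leaf 200288)
 (.leaf 200289)))
 (.node (.node (.leaf 200304)
 (.leaf 200305))
 (.node (.leaf 200320)
 (.leaf 200321))))
 (.node (.node (.node (.leaf 200336)
 (.leaf 200353))
 (.node (.leaf 200369)
 (.leaf 200385)))
 (.node (.node (.leaf 200400)
 (.leaf 200401))
 (.node (.leaf 200416)
 (.leaf 200432))))))
 (.node (.node (.node (.node (.node (.leaf 200433)
 (.leaf 200448))
 (.node (.leaf 200449)
 (.leaf 200464)))
 (.node (.node (.leaf 200480)
 (.leaf 200496))
 (.node (.leaf 200513)
 (.leaf 200529))))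
 (.node (.node (.node (.leaf 200544)
 (.leaf 200560))
 (.node (.leaf 200577)
 (.leaf 200592)))
 (.node (.node (.leaf 200593)
 (.leaf 200640))
 (.node (.leaf 200656)
 (.leaf 200657)))))
 (.node (.node (.node (.node (.leaf 200672)
 (.leaf 200673))
 (.node (.leaf 200704)
 (.leaf 200705)))
 (.node (.node (.leaf 200720)
 (.leaf 200721))
 (.node (.leaf 200737)
 (.leaf 200753))))
 (.node (.node (.node (.leaf 200768)
 (.leaf 200784))
 (.node (.leaf 200785)
 (.leaf 200800)))
 (.node (.node (.leaf 200801)
 (.leaf 200816))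
 (.node (.leaf 200817)
 (.leaf 200832))))))

def entTB199 : RT := .node (.node (.node (.node (.node (.node (.leaf 200833)
 (.leaf 200848))
 (.node (.leaf 200849)
 (.leaf 200865)))
 (.node (.node (.leaf 200880)
 (.leaf 200897))
 (.node (.leaf 200913)
 (.leaf 200928))))
 (.node (.node (.node (.leaf 200944)
 (.leaf 200945))
 (.node (.leaf 200961)
 (.leaf 200993)))
 (.node (.node (.leaf 201008)
 (.leaf 201009))
 (.node (.leaf 201024)
 (.leaf 201040)))))
 (.node (.node (.node (.node (.leaf 201041)
 (.leaf 201073))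
 (.node (.leaf 201088)
 (.leaf 201104)))
 (.node (.node (.leaf 201105)
 (.leaf 201121))
 (.node (.leaf 201152)
 (.leaf 201168))))
 (.node (.node (.node (.leaf 201184)
 (.leaf 201201))
 (.node (.leaf 201232)
 (.leaf 201233)))
 (.node (.node (.leaf 201248)
 (.leaf 201264))
 (.node (.leaf 201280)
 (.leaf 201281))))))
 (.node (.node (.node (.node (.node (.leaf 201312)
 (.leaf 201328))
 (.node (.leaf 201393)
 (.leaf 201408)))
 (.node (.node (.leaf 201424)
 (.leaf 201425))
 (.node (.leaf 201473)
 (.leaf 201520))))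
 (.node (.node (.node (.leaf 201521)
 (.leaf 201537))
 (.node (.leaf 201552)
 (.leaf 201553)))
 (.node (.node (.leaf 201585)
 (.leaf 201600))
 (.node (.leaf 201616)
 (.leaf 201617)))))
 (.node (.node (.node (.node (.leaf 201633)
 (.leaf 201648))
 (.node (.leaf 201664)
 (.leaf 201665)))
 (.node (.node (.leaf 201680)
 (.leaf 201681))
 (.node (.leaf 201696)
 (.leaf 201697))))
 (.node (.node (.node (.leaf 201728)
 (.leaf 201729))
 (.node (.leaf 201792)
 (.leaf 201809)))
 (.node (.node (.leaf 201825)
 (.leaf 201841))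
 (.node (.leaf 201856)
 (.leaf 201857))))))

def entTB200 : RT := .node (.node (.node (.node (.node (.node (.leaf 201872)
 (.leaf 201873))
 (.node (.leaf 201889)
 (.leaf 201905)))
 (.node (.node (.leaf 201937)
 (.leaf 201952))
 (.node (.leaf 201984)
 (.leaf 202017))))
 (.node (.node (.node (.leaf 202032)
 (.leaf 202049))
 (.node (.leaf 202065)
 (.leaf 202081)))
 (.node (.node (.leaf 202128)
 (.leaf 202129))
 (.node (.leaf 202145)
 (.leaf 202160)))))
 (.node (.node (.node (.node (.leaf 202161)
 (.leaf 202224))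
 (.node (.leaf 202225)
 (.leaf 202289)))
 (.node (.node (.leaf 202320)
 (.leaf 202321))
 (.node (.leaf 202368)
 (.leaf 202369))))
 (.node (.node (.node (.leaf 202384)
 (.leaf 202385))
 (.node (.leaf 202400)
 (.leaf 202401)))
 (.node (.node (.leaf 202416)
 (.leaf 202433))
 (.node (.leaf 202480)
 (.leaf 202481))))))
 (.node (.node (.node (.node (.node (.leaf 202497)
 (.leaf 202528))
 (.node (.leaf 202545)
 (.leaf 202560)))
 (.node (.node (.leaf 202577)
 (.leaf 202593))
 (.node (.leaf 202608)
 (.leaf 202657))))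
 (.node (.node (.node (.leaf 202673)
 (.leaf 202688))
 (.node (.leaf 202705)
 (.leaf 202721)))
 (.node (.node (.leaf 202752)
 (.leaf 202753))
 (.node (.leaf 202785)
 (.leaf 202800)))))
 (.node (.node (.node (.node (.leaf 202801)
 (.leaf 202816))
 (.node (.leaf 202849)
 (.leaf 202896)))
 (.node (.node (.leaf 202897)
 (.leaf 202912))
 (.node (.leaf 202976)
 (.leaf 203008))))
 (.node (.node (.node (.leaf 203024)
 (.leaf 203025))
 (.node (.leaf 203040)
 (.leaf 203041)))
 (.node (.node (.leaf 203056)
 (.leaf 203072))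
 (.node (.leaf 203088)
 (.leaf 203104))))))

def entTB201 : RT := .node (.node (.node (.node (.node (.node (.leaf 203105)
 (.leaf 203121))
 (.node (.leaf 203152)
 (.leaf 203153)))
 (.node (.node (.leaf 203169)
 (.leaf 203185))
 (.node (.leaf 203201)
 (.leaf 203216))))
 (.node (.node (.node (.leaf 203232)
 (.leaf 203248))
 (.node (.leaf 203249)
 (.leaf 203264)))
 (.node (.node (.leaf 203265)
 (.leaf 203281))
 (.node (.leaf 203296)
 (.leaf 203297)))))
 (.node (.node (.node (.node (.leaf 203328)
 (.leaf 203345))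
 (.node (.leaf 203360)
 (.leaf 203361)))
 (.node (.node (.leaf 203376)
 (.leaf 203377))
 (.node (.leaf 203392)
 (.leaf 203393))))
 (.node (.node (.node (.leaf 203408)
 (.leaf 203424))
 (.node (.leaf 203425)
 (.leaf 203457)))
 (.node (.node (.leaf 203473)
 (.leaf 203504))
 (.node (.leaf 203505)
 (.leaf 203520))))))
 (.node (.node (.node (.node (.node (.leaf 203536)
 (.leaf 203537))
 (.node (.leaf 203568)
 (.leaf 203585)))
 (.node (.node (.leaf 203601)
 (.leaf 203616))
 (.node (.leaf 203664)
 (.leaf 203680))))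
 (.node (.node (.node (.leaf 203681)
 (.leaf 203697))
 (.node (.leaf 203713)
 (.leaf 203744)))
 (.node (.node (.leaf 203761)
 (.leaf 203777))
 (.node (.leaf 203792)
 (.leaf 203824)))))
 (.node (.node (.node (.node (.leaf 203921)
 (.leaf 203936))
 (.node (.leaf 203937)
 (.leaf 203953)))
 (.node (.node (.leaf 204032)
 (.leaf 204065))
 (.node (.leaf 204097)
 (.leaf 204128))))
 (.node (.node (.node (.leaf 204161)
 (.leaf 204192))
 (.node (.leaf 204193)
 (.leaf 204240)))
 (.node (.node (.leaf 204288)
 (.leaf 204305))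
 (.node (.leaf 204320)
 (.leaf 204353))))))

def entTB202 : RT := .node (.node (.node (.node (.node (.node (.leaf 204369)
 (.leaf 204385))
 (.node (.leaf 204433)
 (.leaf 204465)))
 (.node (.node (.leaf 204481)
 (.leaf 204512))
 (.node (.leaf 204544)
 (.leaf 204545))))
 (.node (.node (.node (.leaf 204576)
 (.leaf 204577))
 (.node (.leaf 204592)
 (.leaf 204593)))
 (.node (.node (.leaf 204609)
 (.leaf 204640))
 (.node (.leaf 204753)
 (.leaf 204768)))))
 (.node (.node (.node (.node (.leaf 204848)
 (.leaf 204992))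
 (.node (.leaf 205025)
 (.leaf 205040)))
 (.node (.node (.leaf 205057)
 (.leaf 205089))
 (.node (.leaf 205137)
 (.leaf 205184))))
 (.node (.node (.node (.leaf 205217)
 (.leaf 205233))
 (.node (.leaf 205249)
 (.leaf 205296)))
 (.node (.node (.leaf 205312)
 (.leaf 205313))
 (.node (.leaf 205520)
 (.leaf 205537))))))
 (.node (.node (.node (.node (.node (.leaf 205552)
 (.leaf 205600))
 (.node (.leaf 205601)
 (.leaf 205665)))
 (.node (.node (.leaf 205728)
 (.leaf 205824))
 (.node (.leaf 205840)
 (.leaf 205936))))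
 (.node (.node (.node (.leaf 205937)
 (.leaf 206017))
 (.node (.leaf 206032)
 (.leaf 206048)))
 (.node (.node (.leaf 206064)
 (.leaf 206081))
 (.node (.leaf 206096)
 (.leaf 206097)))))
 (.node (.node (.node (.node (.leaf 206112)
 (.leaf 206113))
 (.node (.leaf 206193)
 (.leaf 206209)))
 (.node (.node (.leaf 206256)
 (.leaf 206272))
 (.node (.leaf 206321)
 (.leaf 206385))))
 (.node (.node (.node (.leaf 206417)
 (.leaf 206449))
 (.node (.leaf 206465)
 (.leaf 206481)))
 (.node (.node (.leaf 206560)
 (.leaf 206608))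
 (.node (.leaf 206737)
 (.leaf 206881))))))

def entTB203 : RT := .node (.node (.node (.node (.node (.node (.leaf 206896)
 (.leaf 207153))
 (.node (.leaf 207169)
 (.leaf 207233)))
 (.node (.node (.leaf 207345)
 (.leaf 207488))
 (.node (.leaf 207504)
 (.leaf 207521))))
 (.node (.node (.node (.leaf 207601)
 (.leaf 208026))
 (.node (.leaf 208016)
 (.leaf 208017)))
 (.node (.node (.leaf 208033)
 (.leaf 208048))
 (.node (.leaf 208049)
 (.leaf 208064)))))
 (.node (.node (.node (.node (.leaf 208065)
 (.leaf 208080))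
 (.node (.leaf 208081)
 (.leaf 208096)))
 (.node (.node (.leaf 208097)
 (.leaf 208112))
 (.node (.leaf 208113)
 (.leaf 208128))))
 (.node (.node (.node (.leaf 208129)
 (.leaf 208144))
 (.node (.leaf 208145)
 (.leaf 208160)))
 (.node (.node (.leaf 208161)
 (.leaf 208176))
 (.node (.leaf 208177)
 (.leaf 208192))))))
 (.node (.node (.node (.node (.node (.leaf 208193)
 (.leaf 208208))
 (.node (.leaf 208209)
 (.leaf 208224)))
 (.node (.node (.leaf 208225)
 (.leaf 208240))
 (.node (.leaf 208241)
 (.leaf 208256))))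
 (.node (.node (.node (.leaf 208257)
 (.leaf 208273))
 (.node (.leaf 208288)
 (.leaf 208289)))
 (.node (.node (.leaf 208304)
 (.leaf 208320))
 (.node (.leaf 208321)
 (.leaf 208336)))))
 (.node (.node (.node (.node (.leaf 208337)
 (.leaf 208352))
 (.node (.leaf 208353)
 (.leaf 208368)))
 (.node (.node (.leaf 208369)
 (.leaf 208384))
 (.node (.leaf 208385)
 (.leaf 208401))))
 (.node (.node (.node (.leaf 208416)
 (.leaf 208417))
 (.node (.leaf 208432)
 (.leaf 208448)))
 (.node (.node (.leaf 208449)
 (.leaf 208464))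
 (.node (.leaf 208465)
 (.leaf 208480))))))

def entTB204 : RT := .node (.node (.node (.node (.node (.node (.leaf 208481)
 (.leaf 208496))
 (.node (.leaf 208497)
 (.leaf 208512)))
 (.node (.node (.leaf 208513)
 (.leaf 208528))
 (.node (.leaf 208529)
 (.leaf 208544))))
 (.node (.node (.node (.leaf 208545)
 (.leaf 208560))
 (.node (.leaf 208561)
 (.leaf 208576)))
 (.node (.node (.leaf 208577)
 (.leaf 208592))
 (.node (.leaf 208593)
 (.leaf 208608)))))
 (.node (.node (.node (.node (.leaf 208609)
 (.leaf 208625))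
 (.node (.leaf 208640)
 (.leaf 208641)))
 (.node (.node (.leaf 208656)
 (.leaf 208672))
 (.node (.leaf 208673)
 (.leaf 208688))))
 (.node (.node (.node (.leaf 208689)
 (.leaf 208704))
 (.node (.leaf 208705)
 (.leaf 208721)))
 (.node (.node (.leaf 208752)
 (.leaf 208753))
 (.node (.leaf 208769)
 (.leaf 208785))))))
 (.node (.node (.node (.node (.node (.leaf 208800)
 (.leaf 208801))
 (.node (.leaf 208816)
 (.leaf 208817)))
 (.node (.node (.leaf 208832)
 (.leaf 208833))
 (.node (.leaf 208864)
 (.leaf 208880))))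
 (.node (.node (.node (.leaf 208896)
 (.leaf 208897))
 (.node (.leaf 208912)
 (.leaf 208913)))
 (.node (.node (.leaf 208929)
 (.leaf 208944))
 (.node (.leaf 208945)
 (.leaf 208960)))))
 (.node (.node (.node (.node (.leaf 208961)
 (.leaf 208977))
 (.node (.leaf 208992)
 (.leaf 209008)))
 (.node (.node (.leaf 209009)
 (.leaf 209024))
 (.node (.leaf 209025)
 (.leaf 209040))))
 (.node (.node (.node (.leaf 209041)
 (.leaf 209056))
 (.node (.leaf 209073)
 (.leaf 209089)))
 (.node (.node (.leaf 209105)
 (.leaf 209120))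
 (.node (.leaf 209121)
 (.leaf 209136))))))

def entTB205 : RT := .node (.node (.node (.node (.node (.node (.leaf 209152)
 (.leaf 209153))
 (.node (.leaf 209169)
 (.leaf 209184)))
 (.node (.node (.leaf 209185)
 (.leaf 209200))
 (.node (.leaf 209216)
 (.leaf 209233))))
 (.node (.node (.node (.leaf 209248)
 (.leaf 209249))
 (.node (.leaf 209265)
 (.leaf 209280)))
 (.node (.node (.leaf 209281)
 (.leaf 209312))
 (.node (.leaf 209313)
 (.leaf 209328)))))
 (.node (.node (.node (.node (.leaf 209329)
 (.leaf 209345))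
 (.node (.leaf 209360)
 (.leaf 209376)))
 (.node (.node (.leaf 209393)
 (.leaf 209409))
 (.node (.leaf 209424)
 (.leaf 209425))))
 (.node (.node (.node (.leaf 209440)
 (.leaf 209456))
 (.node (.leaf 209457)
 (.leaf 209473)))
 (.node (.node (.leaf 209488)
 (.leaf 209489))
 (.node (.leaf 209504)
 (.leaf 209505))))))
 (.node (.node (.node (.node (.node (.leaf 209520)
 (.leaf 209536))
 (.node (.leaf 209537)
 (.leaf 209552)))
 (.node (.node (.leaf 209553)
 (.leaf 209569))
 (.node (.leaf 209584)
 (.leaf 209585))))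
 (.node (.node (.node (.leaf 209600)
 (.leaf 209616))
 (.node (.leaf 209617)
 (.leaf 209633)))
 (.node (.node (.leaf 209648)
 (.leaf 209664))
 (.node (.leaf 209729)
 (.leaf 209761)))))
 (.node (.node (.node (.node (.leaf 209776)
 (.leaf 209792))
 (.node (.leaf 209793)
 (.leaf 209809)))
 (.node (.node (.leaf 209824)
 (.leaf 209857))
 (.node (.leaf 209889)
 (.leaf 209905))))
 (.node (.node (.node (.leaf 209921)
 (.leaf 209936))
 (.node (.leaf 209937)
 (.leaf 209952)))
 (.node (.node (.leaf 209953)
 (.leaf 209968))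
 (.node (.leaf 209969)
 (.leaf 209984))))))

def entTB206 : RT := .node (.node (.node (.node (.node (.node (.leaf 209985)
 (.leaf 210000))
 (.node (.leaf 210001)
 (.leaf 210017)))
 (.node (.node (.leaf 210032)
 (.leaf 210033))
 (.node (.leaf 210048)
 (.leaf 210049))))
 (.node (.node (.node (.leaf 210064)
 (.leaf 210065))
 (.node (.leaf 210081)
 (.leaf 210096)))
 (.node (.node (.leaf 210097)
 (.leaf 210112))
 (.node (.leaf 210113)
 (.leaf 210129)))))
 (.node (.node (.node (.node (.leaf 210144)
 (.leaf 210145))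
 (.node (.leaf 210160)
 (.leaf 210177)))
 (.node (.node (.leaf 210192)
 (.leaf 210240))
 (.node (.leaf 210241)
 (.leaf 210272))))
 (.node (.node (.node (.leaf 210288)
 (.leaf 210289))
 (.node (.leaf 210305)
 (.leaf 210320)))
 (.node (.node (.leaf 210337)
 (.leaf 210352))
 (.node (.leaf 210353)
 (.leaf 210368))))))
 (.node (.node (.node (.node (.node (.leaf 210384)
 (.leaf 210385))
 (.node (.leaf 210400)
 (.leaf 210401)))
 (.node (.node (.leaf 210416)
 (.leaf 210417))
 (.node (.leaf 210448)
 (.leaf 210465))))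
 (.node (.node (.node (.leaf 210481)
 (.leaf 210497))
 (.node (.leaf 210513)
 (.leaf 210528)))
 (.node (.node (.leaf 210529)
 (.leaf 210544))
 (.node (.leaf 210545)
 (.leaf 210561)))))
 (.node (.node (.node (.node (.leaf 210577)
 (.leaf 210592))
 (.node (.leaf 210593)
 (.leaf 210608)))
 (.node (.node (.leaf 210609)
 (.leaf 210624))
 (.node (.leaf 210640)
 (.leaf 210657))))
 (.node (.node (.node (.leaf 210672)
 (.leaf 210689))
 (.node (.leaf 210720)
 (.leaf 210721)))
 (.node (.node (.leaf 210736)
 (.leaf 210737))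
 (.node (.leaf 210784)
 (.leaf 210785))))))

def entTB207 : RT := .node (.node (.node (.node (.node (.node (.leaf 210800)
 (.leaf 210801))
 (.node (.leaf 210832)
 (.leaf 210881)))
 (.node (.node (.leaf 210897)
 (.leaf 210912))
 (.node (.leaf 210913)
 (.leaf 210960))))
 (.node (.node (.node (.leaf 210976)
 (.leaf 210977))
 (.node (.leaf 210992)
 (.leaf 211041)))
 (.node (.node (.leaf 211057)
 (.leaf 211089))
 (.node (.leaf 211121)
 (.leaf 211137)))))
 (.node (.node (.node (.node (.leaf 211152)
 (.leaf 211216))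
 (.node (.leaf 211264)
 (.leaf 211296)))
 (.node (.node (.leaf 211297)
 (.leaf 211344))
 (.node (.leaf 211361)
 (.leaf 211393))))
 (.node (.node (.node (.leaf 211425)
 (.leaf 211441))
 (.node (.leaf 211456)
 (.leaf 211489)))
 (.node (.node (.leaf 211617)
 (.leaf 211648))
 (.node (.leaf 211696)
 (.leaf 211760))))))
 (.node (.node (.node (.node (.node (.leaf 211761)
 (.leaf 211824))
 (.node (.leaf 211825)
 (.leaf 211889)))
 (.node (.node (.leaf 211904)
 (.leaf 211921))
 (.node (.leaf 211937)
 (.leaf 211953))))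
 (.node (.node (.node (.leaf 211969)
 (.leaf 212032))
 (.node (.leaf 212064)
 (.leaf 212065)))
 (.node (.node (.leaf 212081)
 (.leaf 212241))
 (.node (.leaf 212257)
 (.leaf 212288)))))
 (.node (.node (.node (.node (.leaf 212305)
 (.leaf 212368))
 (.node (.leaf 212401)
 (.leaf 212497)))
 (.node (.node (.leaf 212609)
 (.leaf 212827))
 (.node (.leaf 212816)
 (.leaf 212817))))
 (.node (.node (.node (.leaf 212832)
 (.leaf 212833))
 (.node (.leaf 212848)
 (.leaf 212849)))
 (.node (.node (.leaf 212864)
 (.leaf 212865))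
 (.node (.leaf 212880)
 (.leaf 212881))))))

def entTB208 : RT := .node (.node (.node (.node (.node (.node (.leaf 212896)
 (.leaf 212897))
 (.node (.leaf 212912)
 (.leaf 212913)))
 (.node (.node (.leaf 212929)
 (.leaf 212944))
 (.node (.leaf 212945)
 (.leaf 212960))))
 (.node (.node (.node (.leaf 212961)
 (.leaf 212976))
 (.node (.leaf 212977)
 (.leaf 212992)))
 (.node (.node (.leaf 212993)
 (.leaf 213008))
 (.node (.leaf 213009)
 (.leaf 213024)))))
 (.node (.node (.node (.node (.leaf 213025)
 (.leaf 213040))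
 (.node (.leaf 213056)
 (.leaf 213057)))
 (.node (.node (.leaf 213072)
 (.leaf 213073))
 (.node (.leaf 213088)
 (.leaf 213089))))
 (.node (.node (.node (.leaf 213104)
 (.leaf 213105))
 (.node (.leaf 213121)
 (.leaf 213152)))
 (.node (.node (.leaf 213153)
 (.leaf 213184))
 (.node (.leaf 213185)
 (.leaf 213200))))))
 (.node (.node (.node (.node (.node (.leaf 213216)
 (.leaf 213217))
 (.node (.leaf 213232)
 (.leaf 213233)))
 (.node (.node (.leaf 213248)
 (.leaf 213249))
 (.node (.leaf 213264)
 (.leaf 213280))))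
 (.node (.node (.node (.leaf 213281)
 (.leaf 213296))
 (.node (.leaf 213297)
 (.leaf 213312)))
 (.node (.node (.leaf 213313)
 (.leaf 213328))
 (.node (.leaf 213344)
 (.leaf 213345)))))
 (.node (.node (.node (.node (.leaf 213360)
 (.leaf 213361))
 (.node (.leaf 213377)
 (.leaf 213392)))
 (.node (.node (.leaf 213393)
 (.leaf 213409))
 (.node (.leaf 213424)
 (.leaf 213425))))
 (.node (.node (.node (.leaf 213440)
 (.leaf 213441))
 (.node (.leaf 213456)
 (.leaf 213457)))
 (.node (.node (.leaf 213472)
 (.leaf 213473))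
 (.node (.leaf 213488)
 (.leaf 213489))))))

def entTB209 : RT := .node (.node (.node (.node (.node (.node (.leaf 213520)
 (.leaf 213521))
 (.node (.leaf 213552)
 (.leaf 213553)))
 (.node (.node (.leaf 213568)
 (.leaf 213584))
 (.node (.leaf 213585)
 (.leaf 213601))))
 (.node (.node (.node (.leaf 213616)
 (.leaf 213632))
 (.node (.leaf 213633)
 (.leaf 213648)))
 (.node (.node (.leaf 213649)
 (.leaf 213664))
 (.node (.leaf 213665)
 (.leaf 213681)))))
 (.node (.node (.node (.node (.leaf 213696)
 (.leaf 213697))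
 (.node (.leaf 213728)
 (.leaf 213729)))
 (.node (.node (.leaf 213744)
 (.leaf 213745))
 (.node (.leaf 213760)
 (.leaf 213761))))
 (.node (.node (.node (.leaf 213776)
 (.leaf 213777))
 (.node (.leaf 213792)
 (.leaf 213793)))
 (.node (.node (.leaf 213808)
 (.leaf 213809))
 (.node (.leaf 213824)
 (.leaf 213825))))))
 (.node (.node (.node (.node (.node (.leaf 213840)
 (.leaf 213841))
 (.node (.leaf 213856)
 (.leaf 213857)))
 (.node (.node (.leaf 213872)
 (.leaf 213873))
 (.node (.leaf 213888)
 (.leaf 213904))))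
 (.node (.node (.node (.leaf 213905)
 (.leaf 213921))
 (.node (.leaf 213936)
 (.leaf 213952)))
 (.node (.node (.leaf 213953)
 (.leaf 213968))
 (.node (.leaf 213985)
 (.leaf 214000)))))
 (.node (.node (.node (.node (.leaf 214001)
 (.leaf 214016))
 (.node (.leaf 214017)
 (.leaf 214032)))
 (.node (.node (.leaf 214048)
 (.leaf 214064))
 (.node (.leaf 214065)
 (.leaf 214113))))
 (.node (.node (.node (.leaf 214129)
 (.leaf 214145))
 (.node (.leaf 214176)
 (.leaf 214177)))
 (.node (.node (.leaf 214192)
 (.leaf 214193))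
 (.node (.leaf 214208)
 (.leaf 214209))))))

def entTB210 : RT := .node (.node (.node (.node (.node (.node (.leaf 214225)
 (.leaf 214240))
 (.node (.leaf 214241)
 (.leaf 214256)))
 (.node (.node (.leaf 214257)
 (.leaf 214272))
 (.node (.leaf 214273)
 (.leaf 214288))))
 (.node (.node (.node (.leaf 214289)
 (.leaf 214305))
 (.node (.leaf 214321)
 (.leaf 214336)))
 (.node (.node (.leaf 214352)
 (.leaf 214353))
 (.node (.leaf 214368)
 (.leaf 214369)))))
 (.node (.node (.node (.node (.leaf 214384)
 (.leaf 214385))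
 (.node (.leaf 214401)
 (.leaf 214417)))
 (.node (.node (.leaf 214432)
 (.leaf 214448))
 (.node (.leaf 214449)
 (.leaf 214464))))
 (.node (.node (.node (.leaf 214465)
 (.leaf 214480))
 (.node (.leaf 214481)
 (.leaf 214496)))
 (.node (.node (.leaf 214528)
 (.leaf 214529))
 (.node (.leaf 214544)
 (.leaf 214545))))))
 (.node (.node (.node (.node (.node (.leaf 214561)
 (.leaf 214576))
 (.node (.leaf 214577)
 (.leaf 214609)))
 (.node (.node (.leaf 214624)
 (.leaf 214640))
 (.node (.leaf 214656)
 (.leaf 214673))))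
 (.node (.node (.node (.leaf 214704)
 (.leaf 214721))
 (.node (.leaf 214736)
 (.leaf 214737)))
 (.node (.node (.leaf 214752)
 (.leaf 214753))
 (.node (.leaf 214768)
 (.leaf 214769)))))
 (.node (.node (.node (.node (.leaf 214785)
 (.leaf 214800))
 (.node (.leaf 214801)
 (.leaf 214817)))
 (.node (.node (.leaf 214832)
 (.leaf 214896))
 (.node (.leaf 214912)
 (.leaf 214913))))
 (.node (.node (.node (.leaf 214928)
 (.leaf 214944))
 (.node (.leaf 214945)
 (.leaf 214960)))
 (.node (.node (.leaf 214961)
 (.leaf 214977))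
 (.node (.leaf 214993)
 (.leaf 215008))))))

def entTB211 : RT := .node (.node (.node (.node (.node (.node (.leaf 215024)
 (.leaf 215025))
 (.node (.leaf 215040)
 (.leaf 215072)))
 (.node (.node (.leaf 215073)
 (.leaf 215088))
 (.node (.leaf 215089)
 (.leaf 215104))))
 (.node (.node (.node (.leaf 215105)
 (.leaf 215137))
 (.node (.leaf 215152)
 (.leaf 215168)))
 (.node (.node (.leaf 215184)
 (.leaf 215185))
 (.node (.leaf 215216)
 (.leaf 215232)))))
 (.node (.node (.node (.node (.leaf 215233)
 (.leaf 215248))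
 (.node (.leaf 215249)
 (.leaf 215265)))
 (.node (.node (.leaf 215280)
 (.leaf 215281))
 (.node (.leaf 215296)
 (.leaf 215312))))
 (.node (.node (.node (.leaf 215313)
 (.leaf 215328))
 (.node (.leaf 215360)
 (.leaf 215392)))
 (.node (.node (.leaf 215409)
 (.leaf 215425))
 (.node (.leaf 215457)
 (.leaf 215488))))))
 (.node (.node (.node (.node (.node (.leaf 215504)
 (.leaf 215505))
 (.node (.leaf 215521)
 (.leaf 215537)))
 (.node (.node (.leaf 215553)
 (.leaf 215584))
 (.node (.leaf 215585)
 (.leaf 215600))))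
 (.node (.node (.node (.leaf 215649)
 (.leaf 215664))
 (.node (.leaf 215696)
 (.leaf 215697)))
 (.node (.node (.leaf 215728)
 (.leaf 215729))
 (.node (.leaf 215760)
 (.leaf 215761)))))
 (.node (.node (.node (.node (.leaf 215777)
 (.leaf 215856))
 (.node (.leaf 215904)
 (.leaf 215905)))
 (.node (.node (.leaf 215937)
 (.leaf 215953))
 (.node (.leaf 215969)
 (.leaf 215984))))
 (.node (.node (.node (.leaf 216000)
 (.leaf 216033))
 (.node (.leaf 216048)
 (.leaf 216080)))
 (.node (.node (.leaf 216096)
 (.leaf 216112))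
 (.node (.leaf 216128)
 (.leaf 216160))))))

def entTB212 : RT := .node (.node (.node (.node (.node (.node (.leaf 216161)
 (.leaf 216192))
 (.node (.leaf 216224)
 (.leaf 216257)))
 (.node (.node (.leaf 216304)
 (.leaf 216320))
 (.node (.leaf 216321)
 (.leaf 216337))))
 (.node (.node (.node (.leaf 216352)
 (.leaf 216385))
 (.node (.leaf 216416)
 (.leaf 216433)))
 (.node (.node (.leaf 216448)
 (.leaf 216512))
 (.node (.leaf 216528)
 (.leaf 216673)))))
 (.node (.node (.node (.node (.leaf 216705)
 (.leaf 216752))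
 (.node (.leaf 216768)
 (.leaf 216784)))
 (.node (.node (.leaf 216816)
 (.leaf 216833))
 (.node (.leaf 216864)
 (.leaf 216896))))
 (.node (.node (.node (.leaf 216977)
 (.leaf 217008))
 (.node (.leaf 217040)
 (.leaf 217088)))
 (.node (.node (.leaf 217089)
 (.leaf 217201))
 (.node (.leaf 217233)
 (.leaf 217264))))))
 (.node (.node (.node (.node (.node (.leaf 217296)
 (.leaf 217628))
 (.node (.leaf 217616)
 (.leaf 217617)))
 (.node (.node (.leaf 217633)
 (.leaf 217648))
 (.node (.leaf 217649)
 (.leaf 217664))))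
 (.node (.node (.node (.leaf 217665)
 (.leaf 217680))
 (.node (.leaf 217681)
 (.leaf 217696)))
 (.node (.node (.leaf 217697)
 (.leaf 217712))
 (.node (.leaf 217713)
 (.leaf 217728)))))
 (.node (.node (.node (.node (.leaf 217729)
 (.leaf 217744))
 (.node (.leaf 217745)
 (.leaf 217760)))
 (.node (.node (.leaf 217761)
 (.leaf 217776))
 (.node (.leaf 217777)
 (.leaf 217792))))
 (.node (.node (.node (.leaf 217793)
 (.leaf 217808))
 (.node (.leaf 217809)
 (.leaf 217824)))
 (.node (.node (.leaf 217825)
 (.leaf 217840))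
 (.node (.leaf 217841)
 (.leaf 217856))))))

def entTB213 : RT := .node (.node (.node (.node (.node (.node (.leaf 217857)
 (.leaf 217873))
 (.node (.leaf 217888)
 (.leaf 217889)))
 (.node (.node (.leaf 217904)
 (.leaf 217920))
 (.node (.leaf 217921)
 (.leaf 217936))))
 (.node (.node (.node (.leaf 217937)
 (.leaf 217952))
 (.node (.leaf 217953)
 (.leaf 217968)))
 (.node (.node (.leaf 217969)
 (.leaf 217984))
 (.node (.leaf 217985)
 (.leaf 218001)))))
 (.node (.node (.node (.node (.leaf 218016)
 (.leaf 218017))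
 (.node (.leaf 218032)
 (.leaf 218048)))
 (.node (.node (.leaf 218049)
 (.leaf 218064))
 (.node (.leaf 218065)
 (.leaf 218080))))
 (.node (.node (.node (.leaf 218081)
 (.leaf 218096))
 (.node (.leaf 218097)
 (.leaf 218112)))
 (.node (.node (.leaf 218113)
 (.leaf 218128))
 (.node (.leaf 218129)
 (.leaf 218144))))))
 (.node (.node (.node (.node (.node (.leaf 218145)
 (.leaf 218160))
 (.node (.leaf 218161)
 (.leaf 218176)))
 (.node (.node (.leaf 218177)
 (.leaf 218192))
 (.node (.leaf 218193)
 (.leaf 218208))))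
 (.node (.node (.node (.leaf 218209)
 (.leaf 218225))
 (.node (.leaf 218240)
 (.leaf 218241)))
 (.node (.node (.leaf 218256)
 (.leaf 218272))
 (.node (.leaf 218273)
 (.leaf 218288)))))
 (.node (.node (.node (.node (.leaf 218289)
 (.leaf 218304))
 (.node (.leaf 218305)
 (.leaf 218320)))
 (.node (.node (.leaf 218321)
 (.leaf 218336))
 (.node (.leaf 218337)
 (.leaf 218352))))
 (.node (.node (.node (.leaf 218353)
 (.leaf 218368))
 (.node (.leaf 218369)
 (.leaf 218384)))
 (.node (.node (.leaf 218385)
 (.leaf 218400))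
 (.node (.leaf 218401)
 (.leaf 218416))))))

def entTB214 : RT := .node (.node (.node (.node (.node (.node (.leaf 218417)
 (.leaf 218432))
 (.node (.leaf 218433)
 (.leaf 218449)))
 (.node (.node (.leaf 218464)
 (.leaf 218465))
 (.node (.leaf 218480)
 (.leaf 218496))))
 (.node (.node (.node (.leaf 218497)
 (.leaf 218512))
 (.node (.leaf 218513)
 (.leaf 218528)))
 (.node (.node (.leaf 218529)
 (.leaf 218544))
 (.node (.leaf 218545)
 (.leaf 218560)))))
 (.node (.node (.node (.node (.leaf 218561)
 (.leaf 218576))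
 (.node (.leaf 218577)
 (.leaf 218592)))
 (.node (.node (.leaf 218593)
 (.leaf 218608))
 (.node (.leaf 218609)
 (.leaf 218624))))
 (.node (.node (.node (.leaf 218625)
 (.leaf 218640))
 (.node (.leaf 218641)
 (.leaf 218656)))
 (.node (.node (.leaf 218657)
 (.leaf 218673))
 (.node (.leaf 218688)
 (.leaf 218689))))))
 (.node (.node (.node (.node (.node (.leaf 218704)
 (.leaf 218705))
 (.node (.leaf 218720)
 (.leaf 218721)))
 (.node (.node (.leaf 218736)
 (.leaf 218737))
 (.node (.leaf 218753)
 (.leaf 218768))))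
 (.node (.node (.node (.leaf 218769)
 (.leaf 218784))
 (.node (.leaf 218785)
 (.leaf 218801)))
 (.node (.node (.leaf 218816)
 (.leaf 218832))
 (.node (.leaf 218833)
 (.leaf 218848)))))
 (.node (.node (.node (.node (.leaf 218849)
 (.leaf 218865))
 (.node (.leaf 218880)
 (.leaf 218881)))
 (.node (.node (.leaf 218896)
 (.leaf 218912))
 (.node (.leaf 218913)
 (.leaf 218928))))
 (.node (.node (.node (.leaf 218929)
 (.leaf 218944))
 (.node (.leaf 218945)
 (.leaf 218960)))
 (.node (.node (.leaf 218976)
 (.leaf 218992))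
 (.node (.leaf 218993)
 (.leaf 219008))))))

def entTB215 : RT := .node (.node (.node (.node (.node (.node (.leaf 219009)
 (.leaf 219024))
 (.node (.leaf 219025)
 (.leaf 219040)))
 (.node (.node (.leaf 219041)
 (.leaf 219056))
 (.node (.leaf 219057)
 (.leaf 219072))))
 (.node (.node (.node (.leaf 219073)
 (.leaf 219089))
 (.node (.leaf 219105)
 (.leaf 219120)))
 (.node (.node (.leaf 219121)
 (.leaf 219136))
 (.node (.leaf 219137)
 (.leaf 219152)))))
 (.node (.node (.node (.node (.leaf 219153)
 (.leaf 219168))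
 (.node (.leaf 219169)
 (.leaf 219184)))
 (.node (.node (.leaf 219185)
 (.leaf 219200))
 (.node (.leaf 219201)
 (.leaf 219216))))
 (.node (.node (.node (.leaf 219217)
 (.leaf 219248))
 (.node (.leaf 219249)
 (.leaf 219264)))
 (.node (.node (.leaf 219265)
 (.leaf 219281))
 (.node (.leaf 219296)
 (.leaf 219297))))))
 (.node (.node (.node (.node (.node (.leaf 219312)
 (.leaf 219329))
 (.node (.leaf 219344)
 (.leaf 219345)))
 (.node (.node (.leaf 219360)
 (.leaf 219361))
 (.node (.leaf 219376)
 (.leaf 219392))))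
 (.node (.node (.node (.leaf 219408)
 (.leaf 219409))
 (.node (.leaf 219424)
 (.leaf 219425)))
 (.node (.node (.leaf 219440)
 (.leaf 219456))
 (.node (.leaf 219457)
 (.leaf 219473)))))
 (.node (.node (.node (.node (.leaf 219488)
 (.leaf 219489))
 (.node (.leaf 219521)
 (.leaf 219536)))
 (.node (.node (.leaf 219552)
 (.leaf 219553))
 (.node (.leaf 219568)
 (.leaf 219569))))
 (.node (.node (.node (.leaf 219584)
 (.leaf 219585))
 (.node (.leaf 219600)
 (.leaf 219601)))
 (.node (.node (.leaf 219616)
 (.leaf 219617))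
 (.node (.leaf 219632)
 (.leaf 219633))))))

def entTB216 : RT := .node (.node (.node (.node (.node (.node (.leaf 219649)
 (.leaf 219665))
 (.node (.leaf 219680)
 (.leaf 219696)))
 (.node (.node (.leaf 219697)
 (.leaf 219712))
 (.node (.leaf 219713)
 (.leaf 219728))))
 (.node (.node (.node (.leaf 219729)
 (.leaf 219745))
 (.node (.leaf 219760)
 (.leaf 219761)))
 (.node (.node (.leaf 219777)
 (.leaf 219792))
 (.node (.leaf 219793)
 (.leaf 219808)))))
 (.node (.node (.node (.node (.leaf 219809)
 (.leaf 219825))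
 (.node (.leaf 219841)
 (.leaf 219856)))
 (.node (.node (.leaf 219872)
 (.leaf 219873))
 (.node (.leaf 219888)
 (.leaf 219889))))
 (.node (.node (.node (.leaf 219904)
 (.leaf 219905))
 (.node (.leaf 219921)
 (.leaf 219936)))
 (.node (.node (.leaf 219937)
 (.leaf 219952))
 (.node (.leaf 219953)
 (.leaf 219968))))))
 (.node (.node (.node (.node (.node (.leaf 219985)
 (.leaf 220000))
 (.node (.leaf 220001)
 (.leaf 220017)))
 (.node (.node (.leaf 220032)
 (.leaf 220033))
 (.node (.leaf 220048)
 (.leaf 220064))))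
 (.node (.node (.node (.leaf 220065)
 (.leaf 220080))
 (.node (.leaf 220096)
 (.leaf 220097)))
 (.node (.node (.leaf 220112)
 (.leaf 220113))
 (.node (.leaf 220129)
 (.leaf 220144)))))
 (.node (.node (.node (.node (.leaf 220160)
 (.leaf 220161))
 (.node (.leaf 220177)
 (.leaf 220192)))
 (.node (.node (.leaf 220193)
 (.leaf 220225))
 (.node (.leaf 220240)
 (.leaf 220256))))
 (.node (.node (.node (.leaf 220257)
 (.leaf 220272))
 (.node (.leaf 220273)
 (.leaf 220304)))
 (.node (.node (.leaf 220321)
 (.leaf 220337))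
 (.node (.leaf 220353)
 (.leaf 220368))))))

def entTB217 : RT := .node (.node (.node (.node (.node (.node (.leaf 220385)
 (.leaf 220400))
 (.node (.leaf 220401)
 (.leaf 220416)))
 (.node (.node (.leaf 220417)
 (.leaf 220432))
 (.node (.leaf 220433)
 (.leaf 220448))))
 (.node (.node (.node (.leaf 220449)
 (.leaf 220464))
 (.node (.leaf 220465)
 (.leaf 220481)))
 (.node (.node (.leaf 220496)
 (.leaf 220497))
 (.node (.leaf 220512)
 (.leaf 220513)))))
 (.node (.node (.node (.node (.leaf 220528)
 (.leaf 220529))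
 (.node (.leaf 220545)
 (.leaf 220592)))
 (.node (.node (.leaf 220608)
 (.leaf 220609))
 (.node (.leaf 220625)
 (.leaf 220640))))
 (.node (.node (.node (.leaf 220641)
 (.leaf 220672))
 (.node (.leaf 220688)
 (.leaf 220689)))
 (.node (.node (.leaf 220705)
 (.leaf 220720))
 (.node (.leaf 220752)
 (.leaf 220753))))))
 (.node (.node (.node (.node (.node (.leaf 220768)
 (.leaf 220784))
 (.node (.leaf 220785)
 (.leaf 220801)))
 (.node (.node (.leaf 220816)
 (.leaf 220817))
 (.node (.leaf 220832)
 (.leaf 220864))))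
 (.node (.node (.node (.leaf 220865)
 (.leaf 220880))
 (.node (.leaf 220881)
 (.leaf 220896)))
 (.node (.node (.leaf 220912)
 (.leaf 220928))
 (.node (.leaf 220944)
 (.leaf 220960)))))
 (.node (.node (.node (.node (.leaf 220977)
 (.leaf 221009))
 (.node (.leaf 221024)
 (.leaf 221025)))
 (.node (.node (.leaf 221040)
 (.leaf 221041))
 (.node (.leaf 221057)
 (.leaf 221072))))
 (.node (.node (.node (.leaf 221073)
 (.leaf 221088))
 (.node (.leaf 221089)
 (.leaf 221105)))
 (.node (.node (.leaf 221120)
 (.leaf 221121))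
 (.node (.leaf 221137)
 (.leaf 221152))))))

def entTB218 : RT := .node (.node (.node (.node (.node (.node (.leaf 221168)
 (.leaf 221185))
 (.node (.leaf 221201)
 (.leaf 221216)))
 (.node (.node (.leaf 221233)
 (.leaf 221248))
 (.node (.leaf 221265)
 (.leaf 221280))))
 (.node (.node (.node (.leaf 221296)
 (.leaf 221312))
 (.node (.leaf 221344)
 (.leaf 221360)))
 (.node (.node (.leaf 221376)
 (.leaf 221393))
 (.node (.leaf 221408)
 (.leaf 221440)))))
 (.node (.node (.node (.node (.leaf 221441)
 (.leaf 221457))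
 (.node (.leaf 221472)
 (.leaf 221521)))
 (.node (.node (.leaf 221536)
 (.leaf 221537))
 (.node (.leaf 221553)
 (.leaf 221569))))
 (.node (.node (.node (.leaf 221584)
 (.leaf 221585))
 (.node (.leaf 221601)
 (.leaf 221616)))
 (.node (.node (.leaf 221617)
 (.leaf 221632))
 (.node (.leaf 221633)
 (.leaf 221649))))))
 (.node (.node (.node (.node (.node (.leaf 221696)
 (.leaf 221712))
 (.node (.leaf 221728)
 (.leaf 221729)))
 (.node (.node (.leaf 221744)
 (.leaf 221745))
 (.node (.leaf 221760)
 (.leaf 221761))))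
 (.node (.node (.node (.leaf 221777)
 (.leaf 221808))
 (.node (.leaf 221809)
 (.leaf 221824)))
 (.node (.node (.leaf 221825)
 (.leaf 221841))
 (.node (.leaf 221872)
 (.leaf 221873)))))
 (.node (.node (.node (.node (.leaf 221904)
 (.leaf 221920))
 (.node (.leaf 221921)
 (.leaf 221936)))
 (.node (.node (.leaf 221937)
 (.leaf 221952))
 (.node (.leaf 221953)
 (.leaf 221968))))
 (.node (.node (.node (.leaf 222016)
 (.leaf 222017))
 (.node (.leaf 222032)
 (.leaf 222049)))
 (.node (.node (.leaf 222081)
 (.leaf 222096))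
 (.node (.leaf 222097)
 (.leaf 222128))))))

def entTB219 : RT := .node (.node (.node (.node (.node (.node (.leaf 222144)
 (.leaf 222160))
 (.node (.leaf 222177)
 (.leaf 222192)))
 (.node (.node (.leaf 222208)
 (.leaf 222225))
 (.node (.leaf 222240)
 (.leaf 222256))))
 (.node (.node (.node (.leaf 222272)
 (.leaf 222288))
 (.node (.leaf 222289)
 (.leaf 222304)))
 (.node (.node (.leaf 222305)
 (.leaf 222320))
 (.node (.leaf 222368)
 (.leaf 222384)))))
 (.node (.node (.node (.node (.leaf 222401)
 (.leaf 222417))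
 (.node (.leaf 222448)
 (.leaf 222449)))
 (.node (.node (.leaf 222464)
 (.leaf 222480))
 (.node (.leaf 222497)
 (.leaf 222545))))
 (.node (.node (.node (.leaf 222561)
 (.leaf 222576))
 (.node (.leaf 222577)
 (.leaf 222592)))
 (.node (.node (.leaf 222624)
 (.leaf 222656))
 (.node (.leaf 222657)
 (.leaf 222673))))))
 (.node (.node (.node (.node (.node (.leaf 222688)
 (.leaf 222689))
 (.node (.leaf 222704)
 (.leaf 222705)))
 (.node (.node (.leaf 222753)
 (.leaf 222768))
 (.node (.leaf 222769)
 (.leaf 222785))))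
 (.node (.node (.node (.leaf 222801)
 (.leaf 222816))
 (.node (.leaf 222817)
 (.leaf 222848)))
 (.node (.node (.leaf 222865)
 (.leaf 222880))
 (.node (.leaf 222881)
 (.leaf 222912)))))
 (.node (.node (.node (.node (.leaf 222929)
 (.leaf 222944))
 (.node (.leaf 222976)
 (.leaf 222992)))
 (.node (.node (.leaf 222993)
 (.leaf 223009))
 (.node (.leaf 223024)
 (.leaf 223025))))
 (.node (.node (.node (.leaf 223056)
 (.leaf 223057))
 (.node (.leaf 223072)
 (.leaf 223073)))
 (.node (.node (.leaf 223088)
 (.leaf 223104))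
 (.node (.leaf 223137)
 (.leaf 223152))))))

def entTB220 : RT := .node (.node (.node (.node (.node (.node (.leaf 223153)
 (.leaf 223169))
 (.node (.leaf 223184)
 (.leaf 223201)))
 (.node (.node (.leaf 223216)
 (.leaf 223233))
 (.node (.leaf 223297)
 (.leaf 223312))))
 (.node (.node (.node (.leaf 223329)
 (.leaf 223345))
 (.node (.leaf 223360)
 (.leaf 223376)))
 (.node (.node (.leaf 223393)
 (.leaf 223441))
 (.node (.leaf 223456)
 (.leaf 223505)))))
 (.node (.node (.node (.node (.leaf 223520)
 (.leaf 223537))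
 (.node (.leaf 223553)
 (.leaf 223569)))
 (.node (.node (.leaf 223601)
 (.leaf 223616))
 (.node (.leaf 223649)
 (.leaf 223681))))
 (.node (.node (.node (.leaf 223713)
 (.leaf 223728))
 (.node (.leaf 223729)
 (.leaf 223760)))
 (.node (.node (.leaf 223761)
 (.leaf 223793))
 (.node (.leaf 223808)
 (.leaf 223809))))))
 (.node (.node (.node (.node (.node (.leaf 223825)
 (.leaf 223841))
 (.node (.leaf 223873)
 (.leaf 223905)))
 (.node (.node (.leaf 223920)
 (.leaf 223921))
 (.node (.leaf 223936)
 (.leaf 223968))))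
 (.node (.node (.node (.leaf 223984)
 (.leaf 223985))
 (.node (.leaf 224000)
 (.leaf 224016)))
 (.node (.node (.leaf 224032)
 (.leaf 224033))
 (.node (.leaf 224064)
 (.leaf 224097)))))
 (.node (.node (.node (.node (.leaf 224112)
 (.leaf 224128))
 (.node (.leaf 224144)
 (.leaf 224176)))
 (.node (.node (.leaf 224224)
 (.leaf 224257))
 (.node (.leaf 224337)
 (.leaf 224353))))
 (.node (.node (.node (.leaf 224368)
 (.leaf 224384))
 (.node (.leaf 224432)
 (.leaf 224448)))
 (.node (.node (.leaf 224529)
 (.leaf 224545))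
 (.node (.leaf 224560)
 (.leaf 224577))))))

def entTB221 : RT := .node (.node (.node (.node (.node (.node (.leaf 224705)
 (.leaf 224720))
 (.node (.leaf 224721)
 (.leaf 224737)))
 (.node (.node (.leaf 224752)
 (.leaf 224753))
 (.node (.leaf 224785)
 (.leaf 224801))))
 (.node (.node (.node (.leaf 224817)
 (.leaf 224865))
 (.node (.leaf 224880)
 (.leaf 224896)))
 (.node (.node (.leaf 224897)
 (.leaf 224929))
 (.node (.leaf 224945)
 (.leaf 224960)))))
 (.node (.node (.node (.node (.leaf 224961)
 (.leaf 224976))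
 (.node (.leaf 225025)
 (.leaf 225057)))
 (.node (.node (.leaf 225089)
 (.leaf 225105))
 (.node (.leaf 225120)
 (.leaf 225136))))
 (.node (.node (.node (.leaf 225216)
 (.leaf 225233))
 (.node (.leaf 225297)
 (.leaf 225312)))
 (.node (.node (.leaf 225328)
 (.leaf 225392))
 (.node (.leaf 225425)
 (.leaf 225441))))))
 (.node (.node (.node (.node (.node (.leaf 225648)
 (.leaf 225664))
 (.node (.leaf 225728)
 (.leaf 225808)))
 (.node (.node (.leaf 225824)
 (.leaf 225841))
 (.node (.leaf 225873)
 (.leaf 225889))))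
 (.node (.node (.node (.leaf 226017)
 (.leaf 226048))
 (.node (.leaf 226081)
 (.leaf 226097)))
 (.node (.node (.leaf 226112)
 (.leaf 226177))
 (.node (.leaf 226225)
 (.leaf 226352)))))
 (.node (.node (.node (.node (.leaf 226417)
 (.leaf 226433))
 (.node (.leaf 226480)
 (.leaf 226593)))
 (.node (.node (.leaf 226672)
 (.leaf 226785))
 (.node (.leaf 226897)
 (.leaf 226929))))
 (.node (.node (.node (.leaf 226993)
 (.leaf 227229))
 (.node (.leaf 227216)
 (.leaf 227217)))
 (.node (.node (.leaf 227232)
 (.leaf 227233))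
 (.node (.leaf 227248)
 (.leaf 227249))))))

def entTB222 : RT := .node (.node (.node (.node (.node (.node (.leaf 227264)
 (.leaf 227265))
 (.node (.leaf 227280)
 (.leaf 227281)))
 (.node (.node (.leaf 227296)
 (.leaf 227297))
 (.node (.leaf 227312)
 (.leaf 227313))))
 (.node (.node (.node (.leaf 227329)
 (.leaf 227344))
 (.node (.leaf 227345)
 (.leaf 227360)))
 (.node (.node (.leaf 227361)
 (.leaf 227376))
 (.node (.leaf 227377)
 (.leaf 227392)))))
 (.node (.node (.node (.node (.leaf 227393)
 (.leaf 227408))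
 (.node (.leaf 227409)
 (.leaf 227424)))
 (.node (.node (.leaf 227441)
 (.leaf 227457))
 (.node (.leaf 227473)
 (.leaf 227488))))
 (.node (.node (.node (.leaf 227489)
 (.leaf 227504))
 (.node (.leaf 227520)
 (.leaf 227521)))
 (.node (.node (.leaf 227536)
 (.leaf 227537))
 (.node (.leaf 227552)
 (.leaf 227553))))))
 (.node (.node (.node (.node (.node (.leaf 227569)
 (.leaf 227584))
 (.node (.leaf 227585)
 (.leaf 227600)))
 (.node (.node (.leaf 227616)
 (.leaf 227617))
 (.node (.leaf 227632)
 (.leaf 227648))))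
 (.node (.node (.node (.leaf 227649)
 (.leaf 227680))
 (.node (.leaf 227681)
 (.leaf 227696)))
 (.node (.node (.leaf 227697)
 (.leaf 227729))
 (.node (.leaf 227744)
 (.leaf 227760)))))
 (.node (.node (.node (.node (.leaf 227761)
 (.leaf 227776))
 (.node (.leaf 227792)
 (.leaf 227808)))
 (.node (.node (.leaf 227824)
 (.leaf 227825))
 (.node (.leaf 227840)
 (.leaf 227841))))
 (.node (.node (.node (.leaf 227857)
 (.leaf 227888))
 (.node (.leaf 227889)
 (.leaf 227905)))
 (.node (.node (.leaf 227920)
 (.leaf 227921))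
 (.node (.leaf 227952)
 (.leaf 227968))))))

def entTB223 : RT := .node (.node (.node (.node (.node (.node (.leaf 227969)
 (.leaf 227984))
 (.node (.leaf 228000)
 (.leaf 228001)))
 (.node (.node (.leaf 228016)
 (.leaf 228017))
 (.node (.leaf 228032)
 (.leaf 228033))))
 (.node (.node (.node (.leaf 228048)
 (.leaf 228064))
 (.node (.leaf 228065)
 (.leaf 228080)))
 (.node (.node (.leaf 228081)
 (.leaf 228128))
 (.node (.leaf 228145)
 (.leaf 228209)))))
 (.node (.node (.node (.node (.leaf 228224)
 (.leaf 228256))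
 (.node (.leaf 228272)
 (.leaf 228320)))
 (.node (.node (.leaf 228400)
 (.leaf 228401))
 (.node (.leaf 228432)
 (.leaf 228433))))
 (.node (.node (.node (.leaf 228497)
 (.leaf 228560))
 (.node (.leaf 228576)
 (.leaf 228657)))
 (.node (.node (.leaf 228673)
 (.leaf 228830))
 (.node (.leaf 228816)
 (.leaf 228817))))))
 (.node (.node (.node (.node (.node (.leaf 228832)
 (.leaf 228833))
 (.node (.leaf 228848)
 (.leaf 228849)))
 (.node (.node (.leaf 228864)
 (.leaf 228865))
 (.node (.leaf 228880)
 (.leaf 228881))))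
 (.node (.node (.node (.leaf 228896)
 (.leaf 228897))
 (.node (.leaf 228912)
 (.leaf 228913)))
 (.node (.node (.leaf 228929)
 (.leaf 228944))
 (.node (.leaf 228945)
 (.leaf 228960)))))
 (.node (.node (.node (.node (.leaf 228961)
 (.leaf 228976))
 (.node (.leaf 228977)
 (.leaf 228992)))
 (.node (.node (.leaf 228993)
 (.leaf 229008))
 (.node (.leaf 229009)
 (.leaf 229024))))
 (.node (.node (.node (.leaf 229025)
 (.leaf 229040))
 (.node (.leaf 229041)
 (.leaf 229056)))
 (.node (.node (.leaf 229057)
 (.leaf 229072))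
 (.node (.leaf 229073)
 (.leaf 229088))))))

def entTB224 : RT := .node (.node (.node (.node (.node (.node (.leaf 229089)
 (.leaf 229104))
 (.node (.leaf 229105)
 (.leaf 229120)))
 (.node (.node (.leaf 229121)
 (.leaf 229136))
 (.node (.leaf 229137)
 (.leaf 229152))))
 (.node (.node (.node (.leaf 229153)
 (.leaf 229169))
 (.node (.leaf 229184)
 (.leaf 229185)))
 (.node (.node (.leaf 229200)
 (.leaf 229216))
 (.node (.leaf 229217)
 (.leaf 229232)))))
 (.node (.node (.node (.node (.leaf 229233)
 (.leaf 229248))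
 (.node (.leaf 229249)
 (.leaf 229264)))
 (.node (.node (.leaf 229265)
 (.leaf 229280))
 (.node (.leaf 229281)
 (.leaf 229296))))
 (.node (.node (.node (.leaf 229297)
 (.leaf 229312))
 (.node (.leaf 229313)
 (.leaf 229328)))
 (.node (.node (.leaf 229329)
 (.leaf 229344))
 (.node (.leaf 229345)
 (.leaf 229360))))))
 (.node (.node (.node (.node (.node (.leaf 229361)
 (.leaf 229376))
 (.node (.leaf 229377)
 (.leaf 229393)))
 (.node (.node (.leaf 229408)
 (.leaf 229409))
 (.node (.leaf 229424)
 (.leaf 229440))))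
 (.node (.node (.node (.leaf 229441)
 (.leaf 229456))
 (.node (.leaf 229457)
 (.leaf 229472)))
 (.node (.node (.leaf 229473)
 (.leaf 229488))
 (.node (.leaf 229489)
 (.leaf 229504)))))
 (.node (.node (.node (.node (.leaf 229505)
 (.leaf 229520))
 (.node (.leaf 229521)
 (.leaf 229537)))
 (.node (.node (.leaf 229552)
 (.leaf 229553))
 (.node (.leaf 229568)
 (.leaf 229569))))
 (.node (.node (.node (.leaf 229584)
 (.leaf 229585))
 (.node (.leaf 229600)
 (.leaf 229632)))
 (.node (.node (.leaf 229648)
 (.leaf 229664))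
 (.node (.leaf 229665)
 (.leaf 229680))))))

def entTB225 : RT := .node (.node (.node (.node (.node (.node (.leaf 229681)
 (.leaf 229697))
 (.node (.leaf 229712)
 (.leaf 229713)))
 (.node (.node (.leaf 229728)
 (.leaf 229729))
 (.node (.leaf 229744)
 (.leaf 229745))))
 (.node (.node (.node (.leaf 229760)
 (.leaf 229761))
 (.node (.leaf 229776)
 (.leaf 229777)))
 (.node (.node (.leaf 229792)
 (.leaf 229793))
 (.node (.leaf 229809)
 (.leaf 229824)))))
 (.node (.node (.node (.node (.leaf 229825)
 (.leaf 229840))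
 (.node (.leaf 229856)
 (.leaf 229857)))
 (.node (.node (.leaf 229872)
 (.leaf 229873))
 (.node (.leaf 229888)
 (.leaf 229889))))
 (.node (.node (.node (.leaf 229904)
 (.leaf 229905))
 (.node (.leaf 229920)
 (.leaf 229921)))
 (.node (.node (.leaf 229936)
 (.leaf 229937))
 (.node (.leaf 229953)
 (.leaf 229968))))))
 (.node (.node (.node (.node (.node (.leaf 229969)
 (.leaf 229984))
 (.node (.leaf 229985)
 (.leaf 230000)))
 (.node (.node (.leaf 230001)
 (.leaf 230016))
 (.node (.leaf 230017)
 (.leaf 230033))))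
 (.node (.node (.node (.leaf 230048)
 (.leaf 230049))
 (.node (.leaf 230064)
 (.leaf 230080)))
 (.node (.node (.leaf 230081)
 (.leaf 230096))
 (.node (.leaf 230097)
 (.leaf 230112)))))
 (.node (.node (.node (.node (.leaf 230113)
 (.leaf 230128))
 (.node (.leaf 230129)
 (.leaf 230144)))
 (.node (.node (.leaf 230160)
 (.leaf 230161))
 (.node (.leaf 230176)
 (.leaf 230177))))
 (.node (.node (.node (.leaf 230192)
 (.leaf 230193))
 (.node (.leaf 230208)
 (.leaf 230224)))
 (.node (.node (.leaf 230225)
 (.leaf 230241))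
 (.node (.leaf 230256)
 (.leaf 230272))))))

def entTB226 : RT := .node (.node (.node (.node (.node (.node (.leaf 230273)
 (.leaf 230288))
 (.node (.leaf 230289)
 (.leaf 230305)))
 (.node (.node (.leaf 230320)
 (.leaf 230321))
 (.node (.leaf 230336)
 (.leaf 230352))))
 (.node (.node (.node (.leaf 230353)
 (.leaf 230369))
 (.node (.leaf 230385)
 (.leaf 230400)))
 (.node (.node (.leaf 230401)
 (.leaf 230416))
 (.node (.leaf 230417)
 (.leaf 230432)))))
 (.node (.node (.node (.node (.leaf 230433)
 (.leaf 230448))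
 (.node (.leaf 230449)
 (.leaf 230464)))
 (.node (.node (.leaf 230465)
 (.leaf 230480))
 (.node (.leaf 230497)
 (.leaf 230512))))
 (.node (.node (.node (.leaf 230513)
 (.leaf 230528))
 (.node (.leaf 230544)
 (.leaf 230545)))
 (.node (.node (.leaf 230560)
 (.leaf 230561))
 (.node (.leaf 230576)
 (.leaf 230577))))))
 (.node (.node (.node (.node (.node (.leaf 230592)
 (.leaf 230593))
 (.node (.leaf 230608)
 (.leaf 230609)))
 (.node (.node (.leaf 230624)
 (.leaf 230625))
 (.node (.leaf 230641)
 (.leaf 230656))))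
 (.node (.node (.node (.leaf 230657)
 (.leaf 230672))
 (.node (.leaf 230673)
 (.leaf 230688)))
 (.node (.node (.leaf 230689)
 (.leaf 230704))
 (.node (.leaf 230736)
 (.leaf 230752)))))
 (.node (.node (.node (.node (.leaf 230768)
 (.leaf 230784))
 (.node (.leaf 230785)
 (.leaf 230816)))
 (.node (.node (.leaf 230817)
 (.leaf 230848))
 (.node (.leaf 230849)
 (.leaf 230864))))
 (.node (.node (.node (.leaf 230865)
 (.leaf 230880))
 (.node (.leaf 230881)
 (.leaf 230896)))
 (.node (.node (.leaf 230897)
 (.leaf 230912))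
 (.node (.leaf 230929)
 (.leaf 230944))))))

def entTB227 : RT := .node (.node (.node (.node (.node (.node (.leaf 230945)
 (.leaf 230960))
 (.node (.leaf 230961)
 (.leaf 230976)))
 (.node (.node (.leaf 230977)
 (.leaf 230992))
 (.node (.leaf 231008)
 (.leaf 231009))))
 (.node (.node (.node (.leaf 231024)
 (.leaf 231025))
 (.node (.leaf 231040)
 (.leaf 231041)))
 (.node (.node (.leaf 231056)
 (.leaf 231072))
 (.node (.leaf 231088)
 (.leaf 231089)))))
 (.node (.node (.node (.node (.leaf 231105)
 (.leaf 231121))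
 (.node (.leaf 231136)
 (.leaf 231137)))
 (.node (.node (.leaf 231152)
 (.leaf 231168))
 (.node (.leaf 231184)
 (.leaf 231200))))
 (.node (.node (.node (.leaf 231201)
 (.leaf 231216))
 (.node (.leaf 231232)
 (.leaf 231233)))
 (.node (.node (.leaf 231248)
 (.leaf 231249))
 (.node (.leaf 231264)
 (.leaf 231280))))))
 (.node (.node (.node (.node (.node (.leaf 231312)
 (.leaf 231313))
 (.node (.leaf 231360)
 (.leaf 231361)))
 (.node (.node (.leaf 231377)
 (.leaf 231392))
 (.node (.leaf 231409)
 (.leaf 231424))))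
 (.node (.node (.node (.leaf 231425)
 (.leaf 231440))
 (.node (.leaf 231457)
 (.leaf 231488)))
 (.node (.node (.leaf 231489)
 (.leaf 231504))
 (.node (.leaf 231505)
 (.leaf 231536)))))
 (.node (.node (.node (.node (.leaf 231537)
 (.leaf 231568))
 (.node (.leaf 231569)
 (.leaf 231584)))
 (.node (.node (.leaf 231585)
 (.leaf 231601))
 (.node (.leaf 231616)
 (.leaf 231617))))
 (.node (.node (.node (.leaf 231632)
 (.leaf 231633))
 (.node (.leaf 231648)
 (.leaf 231649)))
 (.node (.node (.leaf 231665)
 (.leaf 231681))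
 (.node (.leaf 231696)
 (.leaf 231712))))))

def entTB228 : RT := .node (.node (.node (.node (.node (.node (.leaf 231713)
 (.leaf 231728))
 (.node (.leaf 231744)
 (.leaf 231761)))
 (.node (.node (.leaf 231776)
 (.leaf 231777))
 (.node (.leaf 231793)
 (.leaf 231809))))
 (.node (.node (.node (.leaf 231824)
 (.leaf 231825))
 (.node (.leaf 231840)
 (.leaf 231841)))
 (.node (.node (.leaf 231856)
 (.leaf 231857))
 (.node (.leaf 231873)
 (.leaf 231889)))))
 (.node (.node (.node (.node (.leaf 231904)
 (.leaf 231920))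
 (.node (.leaf 231921)
 (.leaf 231936)))
 (.node (.node (.leaf 231937)
 (.leaf 231952))
 (.node (.leaf 231953)
 (.leaf 231969))))
 (.node (.node (.node (.leaf 232000)
 (.leaf 232001))
 (.node (.leaf 232016)
 (.leaf 232032)))
 (.node (.node (.leaf 232033)
 (.leaf 232048))
 (.node (.leaf 232064)
 (.leaf 232081))))))
 (.node (.node (.node (.node (.node (.leaf 232096)
 (.leaf 232113))
 (.node (.leaf 232128)
 (.leaf 232129)))
 (.node (.node (.leaf 232160)
 (.leaf 232161))
 (.node (.leaf 232176)
 (.leaf 232192))))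
 (.node (.node (.node (.leaf 232193)
 (.leaf 232209))
 (.node (.leaf 232224)
 (.leaf 232225)))
 (.node (.node (.leaf 232240)
 (.leaf 232256))
 (.node (.leaf 232257)
 (.leaf 232272)))))
 (.node (.node (.node (.node (.leaf 232289)
 (.leaf 232304))
 (.node (.leaf 232320)
 (.leaf 232321)))
 (.node (.node (.leaf 232353)
 (.leaf 232368))
 (.node (.leaf 232384)
 (.leaf 232400))))
 (.node (.node (.node (.leaf 232401)
 (.leaf 232432))
 (.node (.leaf 232465)
 (.leaf 232480)))
 (.node (.node (.leaf 232481)
 (.leaf 232496))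
 (.node (.leaf 232512)
 (.leaf 232513))))))

def entTB229 : RT := .node (.node (.node (.node (.node (.node (.leaf 232529)
 (.leaf 232545))
 (.node (.leaf 232560)
 (.leaf 232576)))
 (.node (.node (.leaf 232592)
 (.leaf 232593))
 (.node (.leaf 232608)
 (.leaf 232609))))
 (.node (.node (.node (.leaf 232624)
 (.leaf 232640))
 (.node (.leaf 232641)
 (.leaf 232657)))
 (.node (.node (.leaf 232672)
 (.leaf 232673))
 (.node (.leaf 232688)
 (.leaf 232689)))))
 (.node (.node (.node (.node (.leaf 232704)
 (.leaf 232705))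
 (.node (.leaf 232721)
 (.leaf 232736)))
 (.node (.node (.leaf 232752)
 (.leaf 232753))
 (.node (.leaf 232768)
 (.leaf 232785))))
 (.node (.node (.node (.leaf 232801)
 (.leaf 232816))
 (.node (.leaf 232880)
 (.leaf 232881)))
 (.node (.node (.leaf 232896)
 (.leaf 232913))
 (.node (.leaf 232928)
 (.leaf 232929))))))
 (.node (.node (.node (.node (.node (.leaf 232944)
 (.leaf 232945))
 (.node (.leaf 232976)
 (.leaf 233008)))
 (.node (.node (.leaf 233009)
 (.leaf 233025))
 (.node (.leaf 233040)
 (.leaf 233056))))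
 (.node (.node (.node (.leaf 233057)
 (.leaf 233072))
 (.node (.leaf 233073)
 (.leaf 233089)))
 (.node (.node (.leaf 233104)
 (.leaf 233137))
 (.node (.leaf 233152)
 (.leaf 233184)))))
 (.node (.node (.node (.node (.leaf 233233)
 (.leaf 233249))
 (.node (.leaf 233264)
 (.leaf 233265)))
 (.node (.node (.leaf 233281)
 (.leaf 233297))
 (.node (.leaf 233312)
 (.leaf 233360))))
 (.node (.node (.node (.leaf 233361)
 (.leaf 233376))
 (.node (.leaf 233392)
 (.leaf 233393)))
 (.node (.node (.leaf 233408)
 (.leaf 233424))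
 (.node (.leaf 233456)
 (.leaf 233457))))))

def entTB230 : RT := .node (.node (.node (.node (.node (.node (.leaf 233472)
 (.leaf 233473))
 (.node (.leaf 233504)
 (.leaf 233520)))
 (.node (.node (.leaf 233521)
 (.leaf 233536))
 (.node (.leaf 233537)
 (.leaf 233552))))
 (.node (.node (.node (.leaf 233553)
 (.leaf 233568))
 (.node (.leaf 233569)
 (.leaf 233616)))
 (.node (.node (.leaf 233617)
 (.leaf 233633))
 (.node (.leaf 233648)
 (.leaf 233649)))))
 (.node (.node (.node (.node (.leaf 233664)
 (.leaf 233680))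
 (.node (.leaf 233681)
 (.leaf 233696)))
 (.node (.node (.leaf 233697)
 (.leaf 233712))
 (.node (.leaf 233728)
 (.leaf 233744))))
 (.node (.node (.node (.leaf 233745)
 (.leaf 233761))
 (.node (.leaf 233777)
 (.leaf 233792)))
 (.node (.node (.leaf 233793)
 (.leaf 233808))
 (.node (.leaf 233824)
 (.leaf 233872))))))
 (.node (.node (.node (.node (.node (.leaf 233873)
 (.leaf 233969))
 (.node (.leaf 233984)
 (.leaf 234001)))
 (.node (.node (.leaf 234016)
 (.leaf 234033))
 (.node (.leaf 234048)
 (.leaf 234049))))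
 (.node (.node (.node (.leaf 234064)
 (.leaf 234065))
 (.node (.leaf 234129)
 (.leaf 234160)))
 (.node (.node (.leaf 234161)
 (.leaf 234177))
 (.node (.leaf 234192)
 (.leaf 234208)))))
 (.node (.node (.node (.node (.leaf 234209)
 (.leaf 234225))
 (.node (.leaf 234240)
 (.leaf 234256)))
 (.node (.node (.leaf 234272)
 (.leaf 234273))
 (.node (.leaf 234288)
 (.leaf 234368))))
 (.node (.node (.node (.leaf 234369)
 (.leaf 234385))
 (.node (.leaf 234400)
 (.leaf 234433)))
 (.node (.node (.leaf 234448)
 (.leaf 234464))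
 (.node (.leaf 234465)
 (.leaf 234481))))))

def entTB231 : RT := .node (.node (.node (.node (.node (.node (.leaf 234496)
 (.leaf 234497))
 (.node (.leaf 234528)
 (.leaf 234544)))
 (.node (.node (.leaf 234577)
 (.leaf 234593))
 (.node (.leaf 234608)
 (.leaf 234640))))
 (.node (.node (.node (.leaf 234656)
 (.leaf 234672))
 (.node (.leaf 234705)
 (.leaf 234737)))
 (.node (.node (.leaf 234768)
 (.leaf 234769))
 (.node (.leaf 234801)
 (.leaf 234816)))))
 (.node (.node (.node (.node (.leaf 234817)
 (.leaf 234849))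
 (.node (.leaf 234881)
 (.leaf 234912)))
 (.node (.node (.leaf 234913)
 (.leaf 234929))
 (.node (.leaf 234944)
 (.leaf 234945))))
 (.node (.node (.node (.leaf 234977)
 (.leaf 234992))
 (.node (.leaf 235009)
 (.leaf 235024)))
 (.node (.node (.leaf 235025)
 (.leaf 235056))
 (.node (.leaf 235072)
 (.leaf 235105))))))
 (.node (.node (.node (.node (.node (.leaf 235121)
 (.leaf 235185))
 (.node (.leaf 235216)
 (.leaf 235217)))
 (.node (.node (.leaf 235248)
 (.leaf 235249))
 (.node (.leaf 235296)
 (.leaf 235313))))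
 (.node (.node (.node (.leaf 235345)
 (.leaf 235393))
 (.node (.leaf 235520)
 (.leaf 235521)))
 (.node (.node (.leaf 235536)
 (.leaf 235537))
 (.node (.leaf 235568)
 (.leaf 235617)))))
 (.node (.node (.node (.node (.leaf 235632)
 (.leaf 235649))
 (.node (.leaf 235729)
 (.leaf 235760)))
 (.node (.node (.leaf 235761)
 (.leaf 235777))
 (.node (.leaf 235808)
 (.leaf 235840))))
 (.node (.node (.node (.leaf 235857)
 (.leaf 235920))
 (.node (.leaf 235952)
 (.leaf 235968)))
 (.node (.node (.leaf 235969)
 (.leaf 235984))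
 (.node (.leaf 236001)
 (.leaf 236016))))))

def entTB232 : RT := .node (.node (.node (.node (.node (.node (.leaf 236049)
 (.leaf 236081))
 (.node (.leaf 236129)
 (.leaf 236144)))
 (.node (.node (.leaf 236176)
 (.leaf 236193))
 (.node (.leaf 236208)
 (.leaf 236240))))
 (.node (.node (.node (.leaf 236272)
 (.leaf 236289))
 (.node (.leaf 236305)
 (.leaf 236352)))
 (.node (.node (.leaf 236368)
 (.leaf 236369))
 (.node (.leaf 236385)
 (.leaf 236400)))))
 (.node (.node (.node (.node (.leaf 236417)
 (.leaf 236496))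
 (.node (.leaf 236497)
 (.leaf 236529)))
 (.node (.node (.leaf 236545)
 (.leaf 236576))
 (.node (.leaf 236593)
 (.leaf 236608))))
 (.node (.node (.node (.leaf 236640)
 (.leaf 236657))
 (.node (.leaf 236672)
 (.leaf 236720)))
 (.node (.node (.leaf 236736)
 (.leaf 236801))
 (.node (.leaf 236880)
 (.leaf 236992))))))
 (.node (.node (.node (.node (.node (.leaf 236993)
 (.leaf 237008))
 (.node (.leaf 237056)
 (.leaf 237072)))
 (.node (.node (.leaf 237121)
 (.leaf 237153))
 (.node (.leaf 237168)
 (.leaf 237200))))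
 (.node (.node (.node (.leaf 237264)
 (.leaf 237265))
 (.node (.leaf 237312)
 (.leaf 237377)))
 (.node (.node (.leaf 237392)
 (.leaf 237489))
 (.node (.leaf 237601)
 (.leaf 237632)))))
 (.node (.node (.node (.node (.leaf 237712)
 (.leaf 237792))
 (.node (.leaf 237968)
 (.leaf 238064)))
 (.node (.node (.leaf 238160)
 (.leaf 238431))
 (.node (.leaf 238417)
 (.leaf 238432))))
 (.node (.node (.node (.leaf 238433)
 (.leaf 238448))
 (.node (.leaf 238449)
 (.leaf 238464)))
 (.node (.node (.leaf 238465)
 (.leaf 238480))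
 (.node (.leaf 238481)
 (.leaf 238496))))))

def entTB233 : RT := .node (.node (.node (.node (.node (.node (.leaf 238497)
 (.leaf 238512))
 (.node (.leaf 238528)
 (.leaf 238529)))
 (.node (.node (.leaf 238561)
 (.leaf 238576))
 (.node (.leaf 238592)
 (.leaf 238593))))
 (.node (.node (.node (.leaf 238609)
 (.leaf 238640))
 (.node (.leaf 238641)
 (.leaf 238656)))
 (.node (.node (.leaf 238657)
 (.leaf 238672))
 (.node (.leaf 238673)
 (.leaf 238688)))))
 (.node (.node (.node (.node (.leaf 238689)
 (.leaf 238704))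
 (.node (.leaf 238720)
 (.leaf 238721)))
 (.node (.node (.leaf 238736)
 (.leaf 238737))
 (.node (.leaf 238752)
 (.leaf 238753))))
 (.node (.node (.node (.leaf 238768)
 (.leaf 238769))
 (.node (.leaf 238784)
 (.leaf 238785)))
 (.node (.node (.leaf 238817)
 (.leaf 238832))
 (.node (.leaf 238833)
 (.leaf 238849))))))
 (.node (.node (.node (.node (.node (.leaf 238864)
 (.leaf 238865))
 (.node (.leaf 238880)
 (.leaf 238881)))
 (.node (.node (.leaf 238912)
 (.leaf 238913))
 (.node (.leaf 238928)
 (.leaf 238929))))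
 (.node (.node (.node (.leaf 238944)
 (.leaf 238960))
 (.node (.leaf 238976)
 (.leaf 238992)))
 (.node (.node (.leaf 238993)
 (.leaf 239009))
 (.node (.leaf 239024)
 (.leaf 239025)))))
 (.node (.node (.node (.node (.leaf 239040)
 (.leaf 239041))
 (.node (.leaf 239057)
 (.leaf 239089)))
 (.node (.node (.leaf 239104)
 (.leaf 239105))
 (.node (.leaf 239120)
 (.leaf 239137))))
 (.node (.node (.node (.leaf 239152)
 (.leaf 239184))
 (.node (.leaf 239185)
 (.leaf 239297)))
 (.node (.node (.leaf 239344)
 (.leaf 239408))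
 (.node (.leaf 239440)
 (.leaf 239473))))))

def entT : RT := .node (.node (.node (.node (.node (.node (.node (.node (entTB0)
 (entTB1))
 (.node (entTB2)
 (entTB3)))
 (.node (.node (entTB4)
 (entTB5))
 (.node (entTB6)
 (entTB7))))
 (.node (.node (.node (entTB8)
 (entTB9))
 (.node (entTB10)
 (entTB11)))
 (.node (.node (entTB12)
 (entTB13))
 (.node (entTB14)
 (entTB15)))))
 (.node (.node (.node (.node (entTB16)
 (entTB17))
 (.node (entTB18)
 (entTB19)))
 (.node (.node (entTB20)
 (entTB21))
 (.node (entTB22)
 (entTB23))))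
 (.node (.node (.node (entTB24)
 (entTB25))
 (.node (entTB26)
 (entTB27)))
 (.node (.node (entTB28)
 (entTB29))
 (.node (entTB30)
 (entTB31))))))
 (.node (.node (.node (.node (.node (entTB32)
 (entTB33))
 (.node (entTB34)
 (entTB35)))
 (.node (.node (entTB36)
 (entTB37))
 (.node (entTB38)
 (entTB39))))
 (.node (.node (.node (entTB40)
 (entTB41))
 (.node (entTB42)
 (entTB43)))
 (.node (.node (entTB44)
 (entTB45))
 (.node (entTB46)
 (entTB47)))))
 (.node (.node (.node (.node (entTB48)
 (entTB49))
 (.node (entTB50)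
 (entTB51)))
 (.node (.node (entTB52)
 (entTB53))
 (.node (entTB54)
 (entTB55))))
 (.node (.node (.node (entTB56)
 (entTB57))
 (.node (entTB58)
 (entTB59)))
 (.node (.node (entTB60)
 (entTB61))
 (.node (entTB62)
 (entTB63)))))))
 (.node (.node (.node (.node (.node (.node (entTB64)
 (entTB65))
 (.node (entTB66)
 (entTB67)))
 (.node (.node (entTB68)
 (entTB69))
 (.node (entTB70)
 (entTB71))))
 (.node (.node (.node (entTB72)
 (entTB73))
 (.node (entTB74)
 (entTB75)))
 (.node (.node (entTB76)
 (entTB77))
 (.node (entTB78)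
 (entTB79)))))
 (.node (.node (.node (.node (entTB80)
 (entTB81))
 (.node (entTB82)
 (entTB83)))
 (.node (.node (entTB84)
 (entTB85))
 (.node (entTB86)
 (entTB87))))
 (.node (.node (.node (entTB88)
 (entTB89))
 (.node (entTB90)
 (entTB91)))
 (.node (.node (entTB92)
 (entTB93))
 (.node (entTB94)
 (entTB95))))))
 (.node (.node (.node (.node (.node (entTB96)
 (entTB97))
 (.node (entTB98)
 (entTB99)))
 (.node (.node (entTB100)
 (entTB101))
 (.node (entTB102)
 (entTB103))))
 (.node (.node (.node (entTB104)
 (entTB105))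
 (.node (entTB106)
 (entTB107)))
 (.node (.node (entTB108)
 (entTB109))
 (.node (entTB110)
 (entTB111)))))
 (.node (.node (.node (.node (entTB112)
 (entTB113))
 (.node (entTB114)
 (entTB115)))
 (.node (.node (entTB116)
 (entTB117))
 (.node (entTB118)
 (entTB119))))
 (.node (.node (.node (entTB120)
 (entTB121))
 (.node (entTB122)
 (entTB123)))
 (.node (.node (entTB124)
 (entTB125))
 (.node (entTB126)
 (entTB127))))))))
 (.node (.node (.node (.node (.node (.node (.node (entTB128)
 (entTB129))
 (.node (entTB130)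
 (entTB131)))
 (.node (.node (entTB132)
 (entTB133))
 (.node (entTB134)
 (entTB135))))
 (.node (.node (.node (entTB136)
 (entTB137))
 (.node (entTB138)
 (entTB139)))
 (.node (.node (entTB140)
 (entTB141))
 (.node (entTB142)
 (entTB143)))))
 (.node (.node (.node (.node (entTB144)
 (entTB145))
 (.node (entTB146)
 (entTB147)))
 (.node (.node (entTB148)
 (entTB149))
 (.node (entTB150)
 (entTB151))))
 (.node (.node (.node (entTB152)
 (entTB153))
 (.node (entTB154)
 (entTB155)))
 (.node (.node (entTB156)
 (entTB157))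
 (.node (entTB158)
 (entTB159))))))
 (.node (.node (.node (.node (.node (entTB160)
 (entTB161))
 (.node (entTB162)
 (entTB163)))
 (.node (.node (entTB164)
 (entTB165))
 (.node (entTB166)
 (entTB167))))
 (.node (.node (.node (entTB168)
 (entTB169))
 (.node (entTB170)
 (entTB171)))
 (.node (.node (entTB172)
 (entTB173))
 (.node (entTB174)
 (entTB175)))))
 (.node (.node (.node (.node (entTB176)
 (entTB177))
 (.node (entTB178)
 (entTB179)))
 (.node (.node (entTB180)
 (entTB181))
 (.node (entTB182)
 (entTB183))))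
 (.node (.node (.node (entTB184)
 (entTB185))
 (.node (entTB186)
 (entTB187)))
 (.node (.node (entTB188)
 (entTB189))
 (.node (entTB190)
 (entTB191)))))))
 (.node (.node (.node (.node (.node (.node (entTB192)
 (entTB193))
 (.node (entTB194)
 (entTB195)))
 (.node (.node (entTB196)
 (entTB197))
 (.node (entTB198)
 (entTB199))))
 (.node (.node (.node (entTB200)
 (entTB201))
 (.node (entTB202)
 (entTB203)))
 (.node (.node (entTB204)
 (entTB205))
 (.node (entTB206)
 (entTB207)))))
 (.node (.node (.node (.node (entTB208)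
 (entTB209))
 (.node (entTB210)
 (entTB211)))
 (.node (.node (entTB212)
 (entTB213))
 (.node (entTB214)
 (entTB215))))
 (.node (.node (.node (entTB216)
 (entTB217))
 (.node (entTB218)
 (entTB219)))
 (.node (.node (entTB220)
 (entTB221))
 (.node (entTB222)
 (entTB223))))))
 (.node (.node (.node (.node (.node (entTB224)
 (entTB225))
 (.node (entTB226)
 (entTB227)))
 (.node (.node (entTB228)
 (entTB229))
 (.node (entTB230)
 (entTB231))))
 (.node (.node (.node (entTB232)
 (entTB233))
 (.node (.leaf 0)
 (.leaf 0)))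
 (.node (.node (.leaf 0)
 (.leaf 0))
 (.node (.leaf 0)
 (.leaf 0)))))
 (.node (.node (.node (.node (.leaf 0)
 (.leaf 0))
 (.node (.leaf 0)
 (.leaf 0)))
 (.node (.node (.leaf 0)
 (.leaf 0))
 (.node (.leaf 0)
 (.leaf 0))))
 (.node (.node (.node (.leaf 0)
 (.leaf 0))
 (.node (.leaf 0)
 (.leaf 0)))
 (.node (.node (.leaf 0)
 (.leaf 0))
 (.node (.leaf 0)
 (.leaf 0))))))))

def keyTB0 : RT := .node (.node (.node (.node (.node (.node (.leaf 177192922809931)
 (.leaf 37279883800169))
 (.node (.leaf 34234268059243)
 (.leaf 9900017807480)))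
 (.node (.node (.leaf 122001417382999)
 (.leaf 193286240861078))
 (.node (.leaf 177066268336278)
 (.leaf 212060398648979))))
 (.node (.node (.node (.leaf 126792903386236)
 (.leaf 219422649962309))
 (.node (.leaf 222887061460269)
 (.leaf 115809281253394)))
 (.node (.node (.leaf 50353645459708)
 (.leaf 66523163823466))
 (.node (.leaf 66882710164276)
 (.leaf 6066191712501)))))
 (.node (.node (.node (.node (.leaf 159238840067480)
 (.leaf 230897646299345))
 (.node (.leaf 97605421848563)
 (.leaf 85597954618815)))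
 (.node (.node (.leaf 101328213666295)
 (.leaf 272937765382081))
 (.node (.leaf 149525236452153)
 (.leaf 210490046935856))))
 (.node (.node (.node (.leaf 110442309340951)
 (.leaf 233393655342800))
 (.node (.leaf 43190048756190)
 (.leaf 214186479124969)))
 (.node (.node (.leaf 199673458560175)
 (.leaf 58024306717942))
 (.node (.leaf 198601593967544)
 (.leaf 242920443579144))))))
 (.node (.node (.node (.node (.node (.leaf 121453314417437)
 (.leaf 259246534581465))
 (.node (.leaf 243292483090353)
 (.leaf 134875443915415)))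
 (.node (.node (.leaf 85110464458702)
 (.leaf 214803502204835))
 (.node (.leaf 36824443650534)
 (.leaf 64707729779281))))
 (.node (.node (.node (.leaf 175059063849911)
 (.leaf 219819340790618))
 (.node (.leaf 49264331157904)
 (.leaf 206757804107707)))
 (.node (.node (.leaf 44979785296194)
 (.leaf 220488870668355))
 (.node (.leaf 245307330384724)
 (.leaf 25018485988207)))))
 (.node (.node (.node (.node (.leaf 119004860312560)
 (.leaf 192996159425625))
 (.node (.leaf 47572113741910)
 (.leaf 177330591411328)))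
 (.node (.node (.leaf 209994692161859)
 (.leaf 181481338238879))
 (.node (.leaf 207863088207808)
 (.leaf 177540938668743))))
 (.node (.node (.node (.leaf 79406574384756)
 (.leaf 25311438651718))
 (.node (.leaf 75949255955827)
 (.leaf 5917816812397)))
 (.node (.node (.leaf 61677733571037)
 (.leaf 70141514589937))
 (.node (.leaf 63583818964589)
 (.leaf 108724980906212))))))

def keyTB1 : RT := .node (.node (.node (.node (.node (.node (.leaf 121999019788982)
 (.leaf 145189385586675))
 (.node (.leaf 45519460057327)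
 (.leaf 154595028806610)))
 (.node (.node (.leaf 19801200576279)
 (.leaf 202242267513882))
 (.node (.leaf 232114916950155)
 (.leaf 179346584759275))))
 (.node (.node (.node (.leaf 179011533433114)
 (.leaf 246780633615544))
 (.node (.leaf 4301667589054)
 (.leaf 277613798554437)))
 (.node (.node (.leaf 136993776805281)
 (.leaf 121866709299269))
 (.node (.leaf 64582583997992)
 (.leaf 144457171270761)))))
 (.node (.node (.node (.node (.leaf 267690377422252)
 (.leaf 9063321525646))
 (.node (.leaf 273969690288777)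
 (.leaf 34485554665272)))
 (.node (.node (.leaf 4720848729149)
 (.leaf 182735303894488))
 (.node (.leaf 131801169148003)
 (.leaf 96753163556225))))
 (.node (.node (.node (.leaf 116542559827157)
 (.leaf 83205325804392))
 (.node (.leaf 251419171656046)
 (.leaf 81383814346104)))
 (.node (.node (.leaf 35898756886124)
 (.leaf 169808217338278))
 (.node (.leaf 11974936701207)
 (.leaf 38519455326663))))))
 (.node (.node (.node (.node (.node (.leaf 78710758481575)
 (.leaf 201053638884247))
 (.node (.leaf 135070207757028)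
 (.leaf 117249095079806)))
 (.node (.node (.leaf 47341444608510)
 (.leaf 259253143264406))
 (.node (.leaf 64932368152082)
 (.leaf 15032657778793))))
 (.node (.node (.node (.leaf 233480028431922)
 (.leaf 269719900540388))
 (.node (.leaf 133779999719903)
 (.leaf 208493675772601)))
 (.node (.node (.leaf 243233166515868)
 (.leaf 6807721364462))
 (.node (.leaf 91933078397551)
 (.leaf 133190090578127)))))
 (.node (.node (.node (.node (.leaf 165957971223271)
 (.leaf 124361754689660))
 (.node (.leaf 265077708116542)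
 (.leaf 36363688594567)))
 (.node (.node (.leaf 125863314698491)
 (.leaf 38844295340143))
 (.node (.leaf 130736832813007)
 (.leaf 126804974859131))))
 (.node (.node (.node (.leaf 219471954284365)
 (.leaf 207507300722609))
 (.node (.leaf 142049533766295)
 (.leaf 183215253735987)))
 (.node (.node (.leaf 278615539436541)
 (.leaf 242919329044072))
 (.node (.leaf 149393510212408)
 (.leaf 1455978947987))))))

def keyTB2 : RT := .node (.node (.node (.node (.node (.node (.leaf 59521196579173)
 (.leaf 140253539520619))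
 (.node (.leaf 197866078919394)
 (.leaf 146311237135385)))
 (.node (.node (.leaf 193428716060016)
 (.leaf 16198469712633))
 (.node (.leaf 270637922999051)
 (.leaf 102430090518151))))
 (.node (.node (.node (.leaf 175172487783899)
 (.leaf 217560323996392))
 (.node (.leaf 153388970494152)
 (.leaf 106731822862989)))
 (.node (.node (.leaf 8621894300882)
 (.leaf 227993875988111))
 (.node (.leaf 146513452785026)
 (.leaf 168958873672174)))))
 (.node (.node (.node (.node (.leaf 47234088728119)
 (.leaf 247959204191749))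
 (.node (.leaf 190924083746948)
 (.leaf 179835037695303)))
 (.node (.node (.leaf 118652918709657)
 (.leaf 100151619057939))
 (.node (.leaf 115468917209873)
 (.leaf 213297040155781))))
 (.node (.node (.node (.leaf 127459675629680)
 (.leaf 198973706532064))
 (.node (.leaf 87819522916487)
 (.leaf 261503123985442)))
 (.node (.node (.leaf 153064900266992)
 (.leaf 125599795912948))
 (.node (.leaf 131626691508635)
 (.leaf 83101839477180))))))
 (.node (.node (.node (.node (.node (.leaf 209026167760898)
 (.leaf 73209249432487))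
 (.node (.leaf 258506250331637)
 (.leaf 170503031722533)))
 (.node (.node (.leaf 97904645263626)
 (.leaf 168431516812929))
 (.node (.leaf 38152141514780)
 (.leaf 24982798521617))))
 (.node (.node (.node (.leaf 176375709730969)
 (.leaf 107169396539868))
 (.node (.leaf 382835025619)
 (.leaf 17980278568974)))
 (.node (.node (.leaf 79172421510526)
 (.leaf 31834268197332))
 (.node (.leaf 103941602699619)
 (.leaf 31104690264177)))))
 (.node (.node (.node (.node (.leaf 193758956775800)
 (.leaf 48194887062766))
 (.node (.leaf 153549796417568)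
 (.leaf 121067527121228)))
 (.node (.node (.leaf 128477489037594)
 (.leaf 191809628967877))
 (.node (.leaf 241062026799151)
 (.leaf 108730976572986))))
 (.node (.node (.node (.leaf 130781993155929)
 (.leaf 96303993435726))
 (.node (.leaf 234370407360839)
 (.leaf 159434038484210)))
 (.node (.node (.leaf 252619002884562)
 (.leaf 259885850491803))
 (.node (.leaf 3875131426955)
 (.leaf 42287151041820))))))

def keyTB3 : RT := .node (.node (.node (.node (.node (.node (.leaf 189518846389201)
 (.leaf 73891008697793))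
 (.node (.leaf 87058909916765)
 (.leaf 3175208689672)))
 (.node (.node (.leaf 273601413261405)
 (.leaf 221177403108596))
 (.node (.leaf 204425670580323)
 (.leaf 154550943831778))))
 (.node (.node (.node (.leaf 21833316903679)
 (.leaf 17393933665506))
 (.node (.leaf 62410261194745)
 (.leaf 33218464786543)))
 (.node (.node (.leaf 261259185913326)
 (.leaf 17077764008006))
 (.node (.leaf 195293970243533)
 (.leaf 31401382942593)))))
 (.node (.node (.node (.node (.leaf 167268898130878)
 (.leaf 207870224456711))
 (.node (.leaf 224261405577534)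
 (.leaf 230788753781835)))
 (.node (.node (.leaf 107257351150537)
 (.leaf 37283460181533))
 (.node (.leaf 6104413349980)
 (.leaf 159269149663903))))
 (.node (.node (.node (.leaf 230953171381853)
 (.leaf 188968704826262))
 (.node (.leaf 228251218565107)
 (.leaf 93174442148079)))
 (.node (.node (.leaf 194563901434834)
 (.leaf 62436863933534))
 (.node (.leaf 130796540463057)
 (.leaf 78810696249608))))))
 (.node (.node (.node (.node (.node (.leaf 201893540425117)
 (.leaf 5943740760669))
 (.node (.leaf 61653698112283)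
 (.leaf 90333441274681)))
 (.node (.node (.leaf 34183083123137)
 (.leaf 263953129596448))
 (.node (.leaf 20535133309191)
 (.leaf 201012523728034))))
 (.node (.node (.node (.leaf 210426976033581)
 (.leaf 219045340313317))
 (.node (.leaf 97129976998684)
 (.leaf 42951228009944)))
 (.node (.node (.leaf 165894138829570)
 (.leaf 157850021568950))
 (.node (.leaf 262387657652233)
 (.leaf 162443007277104)))))
 (.node (.node (.node (.node (.leaf 77983858322091)
 (.leaf 153962035488991))
 (.node (.leaf 177449453560784)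
 (.leaf 252472501099292)))
 (.node (.node (.leaf 27705634199650)
 (.leaf 277119957065553))
 (.node (.leaf 177779005170122)
 (.leaf 114359873224301))))
 (.node (.node (.node (.leaf 105643257790134)
 (.leaf 127823411513757))
 (.node (.leaf 95146672588328)
 (.leaf 69025761231147)))
 (.node (.node (.leaf 114933556351499)
 (.leaf 9655096566303))
 (.node (.leaf 38917908358621)
 (.leaf 91193760467440))))))

def keyTB4 : RT := .node (.node (.node (.node (.node (.node (.leaf 254515228454342)
 (.leaf 101302615732585))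
 (.node (.leaf 270383277596848)
 (.leaf 75607517578390)))
 (.node (.node (.leaf 67754050906205)
 (.leaf 87021606039305))
 (.node (.leaf 52146921432454)
 (.leaf 150274683565534))))
 (.node (.node (.node (.leaf 189028029660373)
 (.leaf 17392394353231))
 (.node (.leaf 42036396558007)
 (.leaf 264473007652600)))
 (.node (.node (.leaf 151419145897207)
 (.leaf 158342644796186))
 (.node (.leaf 28486500202171)
 (.leaf 157825729854078)))))
 (.node (.node (.node (.node (.leaf 229318183867078)
 (.leaf 185467672487666))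
 (.node (.leaf 74834062751168)
 (.leaf 69422218763217)))
 (.node (.node (.leaf 120783746777960)
 (.leaf 76384630333806))
 (.node (.leaf 165607686386066)
 (.leaf 125065564695722))))
 (.node (.node (.node (.leaf 24044478207223)
 (.leaf 225298342264659))
 (.node (.leaf 179361840834164)
 (.leaf 80352198530029)))
 (.node (.node (.leaf 36556632239610)
 (.leaf 232677980214988))
 (.node (.leaf 254901009140338)
 (.leaf 70911350633533))))))
 (.node (.node (.node (.node (.node (.leaf 47955276777363)
 (.leaf 240406035238549))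
 (.node (.leaf 143178372665568)
 (.leaf 41825135058353)))
 (.node (.node (.leaf 164364990384360)
 (.leaf 253471297076326))
 (.node (.leaf 9732301011910)
 (.leaf 203987536502853))))
 (.node (.node (.node (.leaf 33025858576775)
 (.leaf 24159087617360))
 (.node (.leaf 96460633753053)
 (.leaf 148906125892173)))
 (.node (.node (.leaf 67157557515486)
 (.leaf 167380787945508))
 (.node (.leaf 43175698150590)
 (.leaf 210267109480021)))))
 (.node (.node (.node (.node (.leaf 20733618856062)
 (.leaf 110499989156484))
 (.node (.leaf 200139359071178)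
 (.leaf 179603269399098)))
 (.node (.node (.leaf 210473545777075)
 (.leaf 139349081414934))
 (.node (.leaf 7707070194980)
 (.leaf 195273683708958))))
 (.node (.node (.node (.leaf 9971010263243)
 (.leaf 51575344052998))
 (.node (.leaf 216676232171919)
 (.leaf 133454281021308)))
 (.node (.node (.leaf 94376768990465)
 (.leaf 168082086065026))
 (.node (.leaf 38879253568378)
 (.leaf 130720676160440))))))

def keyTB5 : RT := .node (.node (.node (.node (.node (.node (.leaf 147385560127838)
 (.leaf 91186911211686))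
 (.node (.leaf 145797119015229)
 (.leaf 41740057608537)))
 (.node (.node (.leaf 180318575218316)
 (.leaf 167035136014168))
 (.node (.leaf 29901939435534)
 (.leaf 111038377805623))))
 (.node (.node (.node (.leaf 98496682613757)
 (.leaf 51730922547944))
 (.node (.leaf 222001301735868)
 (.leaf 271451311725484)))
 (.node (.node (.leaf 130960042502275)
 (.leaf 264409415536984))
 (.node (.leaf 165245201889446)
 (.leaf 100843145543746)))))
 (.node (.node (.node (.node (.leaf 135177675123437)
 (.leaf 211096193193947))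
 (.node (.leaf 232576304895502)
 (.leaf 111135448378518)))
 (.node (.node (.leaf 168035530152699)
 (.leaf 69328816095779))
 (.node (.leaf 66589900706186)
 (.leaf 123621418465854))))
 (.node (.node (.node (.leaf 142514790276877)
 (.leaf 202846391992628))
 (.node (.leaf 155954685405186)
 (.leaf 254864247368668)))
 (.node (.node (.leaf 149350123621861)
 (.leaf 188779876487412))
 (.node (.leaf 209646501131108)
 (.leaf 25593516880226))))))
 (.node (.node (.node (.node (.node (.leaf 270646204401056)
 (.leaf 134858345143418))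
 (.node (.leaf 15834450377370)
 (.leaf 51376935681883)))
 (.node (.node (.leaf 121053744847019)
 (.leaf 135966545451076))
 (.node (.leaf 16651554109233)
 (.leaf 80531006781683))))
 (.node (.node (.node (.leaf 70585463180772)
 (.leaf 103544977088549))
 (.node (.leaf 28119733668158)
 (.leaf 79818521458360)))
 (.node (.node (.leaf 165367239042426)
 (.leaf 212546873387752))
 (.node (.leaf 64935354336715)
 (.leaf 197059992332257)))))
 (.node (.node (.node (.node (.leaf 286417804551)
 (.leaf 249128943672217))
 (.node (.leaf 160725408840151)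
 (.leaf 34280198200048)))
 (.node (.node (.leaf 9936590087035)
 (.leaf 199694835232583))
 (.node (.leaf 58024743634198)
 (.leaf 198633236581327))))
 (.node (.node (.node (.leaf 121478353024526)
 (.leaf 139071613187373))
 (.node (.leaf 265025741615122)
 (.leaf 209077141817265)))
 (.node (.node (.leaf 177251644951191)
 (.leaf 86992299469363))
 (.node (.leaf 215420265236072)
 (.leaf 222066033521464))))))

def keyTB6 : RT := .node (.node (.node (.node (.node (.node (.leaf 15858749681495)
 (.leaf 147368729799678))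
 (.node (.leaf 91183491814037)
 (.leaf 111031571508035)))
 (.node (.node (.leaf 91897961436380)
 (.leaf 133229421138460))
 (.node (.leaf 165997812292107)
 (.leaf 55094313756464))))
 (.node (.node (.node (.leaf 209464924964461)
 (.leaf 14651230777748))
 (.node (.leaf 98159581331001)
 (.leaf 265730220619092)))
 (.node (.node (.leaf 66138435875216)
 (.leaf 51926647216129))
 (.node (.leaf 162679253253409)
 (.leaf 48236992573627)))))
 (.node (.node (.node (.node (.leaf 153585372618475)
 (.leaf 39113349514639))
 (.node (.leaf 41930635975176)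
 (.leaf 5497994166015)))
 (.node (.node (.leaf 268455446412002)
 (.leaf 70245860657359))
 (.node (.leaf 200088498587735)
 (.leaf 47673770957092))))
 (.node (.node (.node (.leaf 193741586833821)
 (.leaf 76027822556263))
 (.node (.leaf 262091224020198)
 (.leaf 113892076284684)))
 (.node (.node (.leaf 118300696718917)
 (.leaf 121267960125187))
 (.node (.leaf 239768068957653)
 (.leaf 201667432254396))))))
 (.node (.node (.node (.node (.node (.leaf 121730287015136)
 (.leaf 52562218941692))
 (.node (.leaf 154115680728330)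
 (.leaf 231353130010003)))
 (.node (.node (.leaf 61072039705506)
 (.leaf 134684079401454))
 (.node (.leaf 31189446435191)
 (.leaf 211123650903175))))
 (.node (.node (.node (.leaf 49831048093573)
 (.leaf 22675097443842))
 (.node (.leaf 117371110436357)
 (.leaf 105464114878596)))
 (.node (.node (.leaf 109615767472408)
 (.leaf 167867639370983))
 (.node (.leaf 212674574334397)
 (.leaf 71865201829339)))))
 (.node (.node (.node (.node (.leaf 180338956253270)
 (.leaf 132877253884102))
 (.node (.leaf 163097299862914)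
 (.leaf 145057172910505)))
 (.node (.node (.leaf 198939821032501)
 (.leaf 36801702128902))
 (.node (.leaf 64712553767703)
 (.leaf 84480435614930))))
 (.node (.node (.node (.leaf 80915124004684)
 (.leaf 209198995174327))
 (.node (.leaf 22880480600458)
 (.leaf 215419598355006)))
 (.node (.node (.leaf 232567947707954)
 (.leaf 111143438569873))
 (.node (.leaf 110164686541937)
 (.leaf 62040724757827))))))

def keyTB7 : RT := .node (.node (.node (.node (.node (.node (.leaf 52883481713740)
 (.leaf 25623006246728))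
 (.node (.leaf 64011863402846)
 (.leaf 235477899057932)))
 (.node (.node (.leaf 38617231862338)
 (.leaf 40151168185341))
 (.node (.leaf 212240045186065)
 (.leaf 163746229131596))))
 (.node (.node (.node (.leaf 144213064071832)
 (.leaf 241860511766593))
 (.node (.leaf 3019102242030)
 (.leaf 186921161071883)))
 (.node (.node (.leaf 244266162870438)
 (.leaf 42089347842114))
 (.node (.leaf 115768659292426)
 (.leaf 224883281577601)))))
 (.node (.node (.node (.node (.leaf 253893179987996)
 (.leaf 214555509335313))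
 (.node (.leaf 99446397997122)
 (.leaf 55050393625597)))
 (.node (.node (.leaf 103927670132428)
 (.leaf 184169378122973))
 (.node (.leaf 45241848615459)
 (.leaf 21998106711308))))
 (.node (.node (.node (.leaf 21143541962515)
 (.leaf 171211753594400))
 (.node (.leaf 50079863158126)
 (.leaf 261545340928719)))
 (.node (.node (.leaf 170736789285107)
 (.leaf 148113203364055))
 (.node (.leaf 180706210617456)
 (.leaf 81869907532998))))))
 (.node (.node (.node (.node (.node (.leaf 41457861682465)
 (.leaf 238995529603625))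
 (.node (.leaf 145900880944697)
 (.leaf 111216106571844)))
 (.node (.node (.leaf 264756274446022)
 (.leaf 270560221753922))
 (.node (.leaf 42693364218425)
 (.leaf 178476696160454))))
 (.node (.node (.node (.leaf 35804804996482)
 (.leaf 61105699141633))
 (.node (.leaf 99094830322738)
 (.leaf 123631493734249)))
 (.node (.node (.leaf 192980620242811)
 (.leaf 47596938605263))
 (.node (.leaf 40226883454237)
 (.leaf 93207179758902)))))
 (.node (.node (.node (.node (.leaf 220479236145174)
 (.leaf 245319133937003))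
 (.node (.leaf 122571584081504)
 (.leaf 172309601159310)))
 (.node (.node (.leaf 214788463445219)
 (.leaf 39162529551630))
 (.node (.leaf 164006462254678)
 (.leaf 202856722468099))))
 (.node (.node (.node (.leaf 103540056968413)
 (.leaf 28108492701362))
 (.node (.leaf 123720182236687)
 (.leaf 110072568507291)))
 (.node (.node (.leaf 35380822665479)
 (.leaf 119700174876221))
 (.node (.leaf 10923529124771)
 (.leaf 146962371197701))))))

def keyTB8 : RT := .node (.node (.node (.node (.node (.node (.leaf 75935913895195)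
 (.leaf 20753926793450))
 (.node (.leaf 230780731781446)
 (.leaf 107209818371443)))
 (.node (.node (.leaf 128634508145636)
 (.leaf 252615093244037))
 (.node (.leaf 87751432115423)
 (.leaf 141894550335908))))
 (.node (.node (.node (.leaf 227721543981969)
 (.leaf 223250325673665))
 (.node (.leaf 40482142182534)
 (.leaf 132006923938122)))
 (.node (.node (.leaf 145868518856379)
 (.leaf 264353290554661))
 (.node (.leaf 31685409888845)
 (.leaf 181691076584670)))))
 (.node (.node (.node (.node (.leaf 226513208499977)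
 (.leaf 198851823894792))
 (.node (.leaf 192277617212829)
 (.leaf 153515126234733)))
 (.node (.node (.leaf 38341207891475)
 (.leaf 85301075207149))
 (.node (.leaf 108444616673931)
 (.leaf 31466063496342))))
 (.node (.node (.node (.leaf 170989572551105)
 (.leaf 236374546332513))
 (.node (.leaf 195004432768923)
 (.leaf 84645151944082)))
 (.node (.node (.leaf 4948741943304)
 (.leaf 11671985239512))
 (.node (.leaf 233212845607744)
 (.leaf 4518399186398))))))
 (.node (.node (.node (.node (.node (.leaf 150033851933446)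
 (.leaf 140680509466170))
 (.node (.leaf 64350806637655)
 (.leaf 20767438301670)))
 (.node (.node (.leaf 242705275411256)
 (.leaf 193625982977943))
 (.node (.leaf 241051422221042)
 (.leaf 192488304336208))))
 (.node (.node (.node (.leaf 47836406333592)
 (.leaf 176222291529210))
 (.node (.leaf 78885025235988)
 (.leaf 160874741449972)))
 (.node (.node (.leaf 90326741309074)
 (.leaf 34155127588465))
 (.node (.leaf 167195867913386)
 (.leaf 99316344341246)))))
 (.node (.node (.node (.node (.leaf 8373942153450)
 (.leaf 252442536929874))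
 (.node (.leaf 45546151635133)
 (.leaf 24545577464058)))
 (.node (.node (.leaf 143935274446613)
 (.leaf 75482228552830))
 (.node (.leaf 263284272583226)
 (.leaf 219408313743779))))
 (.node (.node (.node (.leaf 198587742481313)
 (.leaf 6927935782644))
 (.node (.leaf 94809430922090)
 (.leaf 37492577395562)))
 (.node (.node (.leaf 120770252619799)
 (.leaf 89068590516363))
 (.node (.leaf 47153234992412)
 (.leaf 8362454748588))))))

def keyTB9 : RT := .node (.node (.node (.node (.node (.node (.leaf 119683428534424)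
 (.leaf 104026800624208))
 (.node (.leaf 230844171391972)
 (.leaf 220942036517920)))
 (.node (.node (.leaf 201778697519451)
 (.leaf 178383052357139))
 (.node (.leaf 96328181537105)
 (.leaf 252158944567219))))
 (.node (.node (.node (.leaf 236760871907830)
 (.leaf 103691111466319))
 (.node (.leaf 255450800605983)
 (.leaf 67692331430559)))
 (.node (.node (.leaf 193365240461612)
 (.leaf 131778452864114))
 (.node (.leaf 193280011857620)
 (.leaf 177054822379037)))))
 (.node (.node (.node (.node (.leaf 212041494722652)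
 (.leaf 181420701778564))
 (.node (.leaf 177569669604542)
 (.leaf 79386537047295)))
 (.node (.node (.leaf 25324215276523)
 (.leaf 70095003461523))
 (.node (.leaf 63589346767622)
 (.leaf 3704132507071))))
 (.node (.node (.node (.leaf 50447290505153)
 (.leaf 4629330197398))
 (.node (.leaf 68698261782767)
 (.leaf 99759848188882)))
 (.node (.node (.leaf 187038572592222)
 (.leaf 28461347825617))
 (.node (.leaf 115133513015901)
 (.leaf 15051423087387))))))
 (.node (.node (.node (.node (.node (.leaf 8465984955193)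
 (.leaf 24553877370383))
 (.node (.leaf 143941042576818)
 (.leaf 243917486072658)))
 (.node (.node (.leaf 226560472332914)
 (.leaf 33191850572414))
 (.node (.leaf 146931041354237)
 (.leaf 159114046678780))))
 (.node (.node (.node (.leaf 224397906641541)
 (.leaf 137877697334063))
 (.node (.leaf 240385496280487)
 (.leaf 124536058738154)))
 (.node (.node (.leaf 60938325736632)
 (.leaf 121213990098904))
 (.node (.leaf 231760698631430)
 (.leaf 130084837719145)))))
 (.node (.node (.node (.node (.leaf 136108927235500)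
 (.leaf 159147476449061))
 (.node (.leaf 119235478258312)
 (.leaf 139355818304775)))
 (.node (.node (.leaf 7758960806813)
 (.leaf 77425194507174))
 (.node (.leaf 119236197597441)
 (.leaf 60254708163226))))
 (.node (.node (.node (.leaf 257290955963164)
 (.leaf 231828377449698))
 (.node (.leaf 97141449889103)
 (.leaf 77127496683875)))
 (.node (.node (.leaf 179580088825904)
 (.leaf 203190779061283))
 (.node (.leaf 26693483106340)
 (.leaf 27051152777162))))))

def keyTB10 : RT := .node (.node (.node (.node (.node (.node (.leaf 118764569529477)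
 (.leaf 186997391829322))
 (.node (.leaf 29384868065718)
 (.leaf 263295444684525)))
 (.node (.node (.leaf 130139160472794)
 (.leaf 77962096844126))
 (.node (.leaf 232290292202469)
 (.leaf 22808065537471))))
 (.node (.node (.node (.leaf 115160518092320)
 (.leaf 132953375266534))
 (.node (.leaf 181751759877717)
 (.leaf 256307611291798)))
 (.node (.node (.leaf 58804201255088)
 (.leaf 141067953017008))
 (.node (.leaf 84558064035897)
 (.leaf 256214140126061)))))
 (.node (.node (.node (.node (.leaf 37456722073741)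
 (.leaf 171615842744739))
 (.node (.leaf 54626917460392)
 (.leaf 153594549383626)))
 (.node (.node (.leaf 38784206780695)
 (.leaf 257282984722256))
 (.node (.leaf 44050782623210)
 (.leaf 76964571722733))))
 (.node (.node (.node (.leaf 161290538077424)
 (.leaf 179349930985645))
 (.node (.leaf 246837567805887)
 (.leaf 4325458716182)))
 (.node (.node (.leaf 162155624965537)
 (.leaf 255869486622104))
 (.node (.leaf 15069874036472)
 (.leaf 140717316958349))))))
 (.node (.node (.node (.node (.node (.leaf 64368384537448)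
 (.leaf 104573977785990))
 (.node (.leaf 23190274181611)
 (.leaf 55228764243157)))
 (.node (.node (.leaf 248776223402319)
 (.leaf 48040649203519))
 (.node (.leaf 74775018135685)
 (.leaf 250930152111237))))
 (.node (.node (.node (.leaf 264084656038358)
 (.leaf 61892128937765))
 (.node (.leaf 151461374874266)
 (.leaf 19919977090797)))
 (.node (.node (.leaf 25371305986251)
 (.leaf 235528811231479))
 (.node (.leaf 75025159988966)
 (.leaf 46819921594215)))))
 (.node (.node (.node (.node (.leaf 2153684548886)
 (.leaf 64785953198905))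
 (.node (.leaf 254923537734118)
 (.leaf 144380835474834)))
 (.node (.node (.leaf 255462396596232)
 (.leaf 198712082044376))
 (.node (.leaf 273158757264192)
 (.leaf 33528949415573))))
 (.node (.node (.node (.leaf 268110051758304)
 (.leaf 104553480367537))
 (.node (.leaf 162439064873192)
 (.leaf 127587151768678)))
 (.node (.node (.leaf 56818260417344)
 (.leaf 268377949167165))
 (.node (.leaf 197013386492728)
 (.leaf 2369687010703))))))

def keyTB11 : RT := .node (.node (.node (.node (.node (.node (.leaf 267499029000091)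
 (.leaf 27359158656454))
 (.node (.leaf 109911187944867)
 (.leaf 69414842062145)))
 (.node (.node (.leaf 38509971984407)
 (.leaf 227326507704348))
 (.node (.leaf 5369128237850)
 (.leaf 65874314620009))))
 (.node (.node (.node (.leaf 16362008227494)
 (.leaf 78407851010008))
 (.node (.leaf 232385475950539)
 (.leaf 173771082623905)))
 (.node (.node (.leaf 251707384464372)
 (.leaf 255517847331383))
 (.node (.leaf 253691000331105)
 (.leaf 246408930250422)))))
 (.node (.node (.node (.node (.leaf 210854963261264)
 (.leaf 43684845556360))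
 (.node (.leaf 225212936681745)
 (.leaf 10872379273529)))
 (.node (.node (.leaf 104662155656220)
 (.leaf 35923849901881))
 (.node (.leaf 169808202711173)
 (.leaf 12006993610049))))
 (.node (.node (.node (.leaf 14380672121007)
 (.leaf 225288843727571))
 (.node (.leaf 182767510247457)
 (.leaf 202271574217022)))
 (.node (.node (.leaf 196179345523569)
 (.leaf 77444956063594))
 (.node (.leaf 203622986457646)
 (.leaf 103987448314918))))))
 (.node (.node (.node (.node (.node (.leaf 230892609625534)
 (.leaf 210315394863721))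
 (.node (.leaf 168803914274979)
 (.leaf 66505945848829)))
 (.node (.node (.leaf 34364568677665)
 (.leaf 675338442571))
 (.node (.leaf 243247797774287)
 (.leaf 6852262331624))))
 (.node (.node (.node (.leaf 136487576539561)
 (.leaf 79708642274159))
 (.node (.leaf 202019454926661)
 (.leaf 124328722909881)))
 (.node (.node (.leaf 249170361675420)
 (.leaf 33540563961267))
 (.node (.leaf 117272685928470)
 (.leaf 55807583986232)))))
 (.node (.node (.node (.node (.leaf 106433501186766)
 (.leaf 130900565793086))
 (.node (.leaf 205788888792008)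
 (.leaf 164277758736333)))
 (.node (.node (.leaf 250474503617796)
 (.leaf 230407046484047))
 (.node (.leaf 258697296448710)
 (.leaf 142580708863286))))
 (.node (.node (.node (.leaf 59603749491740)
 (.leaf 4018920627758))
 (.node (.leaf 91789077560255)
 (.leaf 95068847456289)))
 (.node (.node (.leaf 92655216874874)
 (.leaf 145758957347745))
 (.node (.leaf 80479033287057)
 (.leaf 205502933668239))))))

def keyTB12 : RT := .node (.node (.node (.node (.node (.node (.leaf 57887498878279)
 (.leaf 186970035968835))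
 (.node (.leaf 224460214365319)
 (.leaf 277375018737915)))
 (.node (.node (.leaf 180370388842445)
 (.leaf 241971094613444))
 (.node (.leaf 56546460845512)
 (.leaf 174118508345164))))
 (.node (.node (.node (.leaf 189297923352429)
 (.leaf 43584258122437))
 (.node (.leaf 130955903279350)
 (.leaf 40186366708475)))
 (.node (.node (.leaf 45627298595363)
 (.leaf 179746455144859))
 (.node (.leaf 38462414140860)
 (.leaf 218898210588525)))))
 (.node (.node (.node (.node (.leaf 225467488753627)
 (.leaf 278619591137548))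
 (.node (.leaf 212535043832861)
 (.leaf 28370372934522)))
 (.node (.node (.leaf 21351115297916)
 (.leaf 17114823376709))
 (.node (.leaf 136531339965474)
 (.leaf 79673847116606))))
 (.node (.node (.node (.leaf 129701907319948)
 (.leaf 66035078892802))
 (.node (.leaf 268922066795436)
 (.leaf 42887413428261)))
 (.node (.node (.leaf 201298838864724)
 (.leaf 256501459620365))
 (.node (.leaf 186770087864083)
 (.leaf 125623270739306))))))
 (.node (.node (.node (.node (.node (.leaf 183314559025588)
 (.leaf 209469836422110))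
 (.node (.leaf 14674412029836)
 (.leaf 81456670343045)))
 (.node (.node (.leaf 22672567626394)
 (.leaf 265085505458391))
 (.node (.leaf 231310941673079)
 (.leaf 183259888667592))))
 (.node (.node (.node (.leaf 61943148831588)
 (.leaf 35130798746133))
 (.node (.leaf 134947863849948)
 (.leaf 104253977670299)))
 (.node (.node (.leaf 133499891085156)
 (.leaf 16167743217248))
 (.node (.leaf 223104960170126)
 (.leaf 214721446611735)))))
 (.node (.node (.node (.node (.leaf 248063836142681)
 (.leaf 65220163737995))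
 (.node (.leaf 143334539022443)
 (.leaf 132845726166276)))
 (.node (.node (.leaf 224869126151884)
 (.leaf 164032732199043))
 (.node (.leaf 35667807703384)
 (.leaf 166996703566692))))
 (.node (.node (.node (.leaf 47318600592747)
 (.leaf 655558917026))
 (.node (.leaf 78552335279539)
 (.leaf 41746956161666)))
 (.node (.node (.leaf 210747575108835)
 (.leaf 276498273358509))
 (.node (.leaf 93081583731345)
 (.leaf 102096987628810))))))

def keyTB13 : RT := .node (.node (.node (.node (.node (.node (.leaf 40982872391096)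
 (.leaf 45229223410955))
 (.node (.leaf 22836433071055)
 (.leaf 74678589649687)))
 (.node (.node (.leaf 208980410384228)
 (.leaf 45419231755961))
 (.node (.leaf 115795032684917)
 (.leaf 18128872422128))))
 (.node (.node (.node (.leaf 50338433717115)
 (.leaf 66523081514823))
 (.node (.leaf 233460256707279)
 (.leaf 269692370012410)))
 (.node (.node (.leaf 133761131801565)
 (.leaf 208460864841527))
 (.node (.leaf 36412000954636)
 (.leaf 203012170477518)))))
 (.node (.node (.node (.node (.leaf 200828555151267)
 (.leaf 164976414735194))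
 (.node (.leaf 62224925275437)
 (.leaf 5580488217400)))
 (.node (.node (.leaf 260273146564439)
 (.leaf 109730163325950))
 (.node (.leaf 271316070036117)
 (.leaf 98814261683420))))
 (.node (.node (.node (.leaf 49255055837936)
 (.leaf 113896327189020))
 (.node (.leaf 37079208831499)
 (.leaf 15220156630832)))
 (.node (.node (.leaf 61946680627817)
 (.leaf 35121887811747))
 (.node (.leaf 134901927432483)
 (.leaf 104283520842455))))))
 (.node (.node (.node (.node (.node (.leaf 254607886718055)
 (.leaf 88725976412741))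
 (.node (.leaf 51358880476177)
 (.leaf 41975131099821)))
 (.node (.node (.leaf 59569055402719)
 (.leaf 10594191897091))
 (.node (.leaf 94383366631097)
 (.leaf 170499103240303))))
 (.node (.node (.node (.leaf 115091134265497)
 (.leaf 25501307192795))
 (.node (.leaf 275387321659465)
 (.leaf 101701036849404)))
 (.node (.node (.leaf 273254448844185)
 (.leaf 169100223760659))
 (.node (.leaf 10641138198837)
 (.leaf 172296628901635)))))
 (.node (.node (.node (.node (.leaf 131647460226450)
 (.leaf 209964163439581))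
 (.node (.leaf 31863518061004)
 (.leaf 105707520054725)))
 (.node (.node (.leaf 124905077185869)
 (.leaf 257932094014867))
 (.node (.leaf 140629764002146)
 (.leaf 232225657824672))))
 (.node (.node (.node (.leaf 1462998085048)
 (.leaf 122559137209925))
 (.node (.leaf 224021715619689)
 (.leaf 58852919522437)))
 (.node (.node (.leaf 260276821159222)
 (.leaf 214590728069533))
 (.node (.leaf 116879983670671)
 (.leaf 239794127923576))))))

def keyTB14 : RT := .node (.node (.node (.node (.node (.node (.leaf 197863123512583)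
 (.leaf 34923158474702))
 (.node (.leaf 182650089289635)
 (.leaf 96544360312667)))
 (.node (.node (.leaf 206070389155101)
 (.leaf 83694772214012))
 (.node (.leaf 190866996770818)
 (.leaf 59482680573709))))
 (.node (.node (.node (.leaf 213356798300783)
 (.leaf 184547534968427))
 (.node (.leaf 10754685033239)
 (.leaf 93814765133686)))
 (.node (.node (.leaf 277432694425484)
 (.leaf 72880248379545))
 (.node (.leaf 132693255131323)
 (.leaf 237378443375681)))))
 (.node (.node (.node (.node (.leaf 217520157001425)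
 (.leaf 153434181228657))
 (.node (.leaf 195882212228751)
 (.leaf 218236462718338)))
 (.node (.node (.leaf 37080921627202)
 (.leaf 28362594752557))
 (.node (.leaf 21317170450698)
 (.leaf 258694153958469))))
 (.node (.node (.node (.leaf 55121393709939)
 (.leaf 208192973038117))
 (.node (.leaf 9419510822704)
 (.leaf 115467764469782)))
 (.node (.node (.leaf 61033463466071)
 (.leaf 11841102076261))
 (.node (.leaf 102688466819595)
 (.leaf 276030846883708))))))
 (.node (.node (.node (.node (.node (.leaf 36712245436495)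
 (.leaf 117320567496539))
 (.node (.leaf 105243688923459)
 (.leaf 217352453332566)))
 (.node (.node (.leaf 253860882800886)
 (.leaf 258499258403579))
 (.node (.leaf 114569888983451)
 (.leaf 248055184602556))))
 (.node (.node (.node (.leaf 129500910718209)
 (.leaf 103374512206373))
 (.node (.leaf 29159931531639)
 (.leaf 161232825997424)))
 (.node (.node (.leaf 182604887729441)
 (.leaf 116867610778153))
 (.node (.leaf 169055733577148)
 (.leaf 152346723000830)))))
 (.node (.node (.node (.node (.leaf 147777118378182)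
 (.leaf 7963374025868))
 (.node (.leaf 116271356978741)
 (.leaf 115417092956869)))
 (.node (.node (.leaf 83010505380917)
 (.leaf 153137658584802))
 (.node (.leaf 244260633014989)
 (.leaf 42081553413261))))
 (.node (.node (.node (.leaf 37202777137443)
 (.leaf 254956358147399))
 (.node (.leaf 17968659579597)
 (.leaf 100120101771838)))
 (.node (.node (.leaf 32237039285361)
 (.leaf 191934569103467))
 (.node (.leaf 278773414011932)
 (.leaf 226222197583437))))))

def keyTB15 : RT := .node (.node (.node (.node (.node (.node (.leaf 237507426936526)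
 (.leaf 212567224923864))
 (.node (.leaf 71393582057219)
 (.leaf 51566237697426)))
 (.node (.node (.leaf 223037996641124)
 (.leaf 379219893059))
 (.node (.leaf 92671805160683)
 (.leaf 83128709250451))))
 (.node (.node (.node (.leaf 58219023086317)
 (.leaf 139375720060794))
 (.node (.leaf 78567756060369)
 (.leaf 18931681614248)))
 (.node (.node (.leaf 84870623314184)
 (.leaf 30484476751261))
 (.node (.leaf 138797479340772)
 (.leaf 217853099368770)))))
 (.node (.node (.node (.node (.leaf 158568449466410)
 (.leaf 3212693439563))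
 (.node (.leaf 273596501187529)
 (.leaf 221156068009401)))
 (.node (.node (.leaf 244686274329840)
 (.leaf 246512849347797))
 (.node (.leaf 265540687628497)
 (.leaf 17047989384129))))
 (.node (.node (.node (.leaf 108267101871322)
 (.leaf 18848022640407))
 (.node (.leaf 128484630689825)
 (.leaf 108490983907341)))
 (.node (.node (.leaf 159461004875577)
 (.leaf 6575368725301))
 (.node (.leaf 159376869552720)
 (.leaf 127861639006201))))))
 (.node (.node (.node (.node (.node (.leaf 272794441428313)
 (.leaf 123500626039546))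
 (.node (.leaf 221063384594614)
 (.leaf 273748310108069)))
 (.node (.node (.leaf 141325340167846)
 (.leaf 120324593341139))
 (.node (.leaf 241131582252659)
 (.leaf 58808711397141))))
 (.node (.node (.node (.leaf 133364266608515)
 (.leaf 181168300101042))
 (.node (.leaf 224411296537799)
 (.leaf 141856110657030)))
 (.node (.node (.leaf 23172467988669)
 (.leaf 261626523700158))
 (.node (.leaf 227368260546842)
 (.leaf 92910933000954)))))
 (.node (.node (.node (.node (.leaf 38824671473858)
 (.leaf 276377957621072))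
 (.node (.leaf 24261489596892)
 (.leaf 277157084468533)))
 (.node (.node (.leaf 270269554306218)
 (.leaf 11650554866589))
 (.node (.leaf 231784911509014)
 (.leaf 234376404763243))))
 (.node (.node (.node (.leaf 61868356868582)
 (.leaf 6879630687032))
 (.node (.leaf 21578118860890)
 (.leaf 147277688376121)))
 (.node (.node (.leaf 201874906764267)
 (.leaf 178347944927669))
 (.node (.leaf 152411822546485)
 (.leaf 99375352774249))))))

def keyTB16 : RT := .node (.node (.node (.node (.node (.node (.leaf 80385074828736)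
 (.leaf 246518925383263))
 (.node (.leaf 55288941654471)
 (.leaf 239144925132709)))
 (.node (.node (.leaf 257375701437367)
 (.leaf 215968234065324))
 (.node (.leaf 21272437098648)
 (.leaf 181880994375041))))
 (.node (.node (.node (.leaf 95121875978351)
 (.leaf 197694573019035))
 (.node (.leaf 99941261637328)
 (.leaf 24153506023410)))
 (.node (.node (.leaf 137852886339316)
 (.leaf 47146797134399))
 (.node (.leaf 118571428425878)
 (.leaf 54628627333886)))))
 (.node (.node (.node (.node (.leaf 141300723491945)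
 (.leaf 179926223868948))
 (.node (.leaf 9657231987956)
 (.leaf 3506405892745)))
 (.node (.node (.leaf 53408593413146)
 (.leaf 213004521432805))
 (.node (.leaf 148874506681102)
 (.leaf 254563548345720))))
 (.node (.node (.node (.leaf 222702224084588)
 (.leaf 56213105737758))
 (.node (.leaf 195020521966381)
 (.leaf 137048787744485)))
 (.node (.node (.leaf 257225411782838)
 (.leaf 268119283126039))
 (.node (.leaf 203670749477191)
 (.leaf 12352115118901))))))
 (.node (.node (.node (.node (.node (.leaf 158587430207434)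
 (.leaf 161287083261146))
 (.node (.leaf 40529242844367)
 (.leaf 76366113833327)))
 (.node (.node (.leaf 91394812030582)
 (.leaf 196951336069611))
 (.node (.leaf 72668255499798)
 (.leaf 23317164359993))))
 (.node (.node (.node (.leaf 92859122442749)
 (.leaf 183921378294454))
 (.node (.leaf 210497260230748)
 (.leaf 233424155110407)))
 (.node (.node (.leaf 259877133620545)
 (.leaf 42294581776751))
 (.node (.leaf 189503684693154)
 (.leaf 73940991357528)))))
 (.node (.node (.node (.node (.leaf 68773848044570)
 (.leaf 132911614697611))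
 (.node (.leaf 1375815721029)
 (.leaf 78847635088936)))
 (.node (.node (.leaf 144492690614966)
 (.leaf 118763621931599))
 (.node (.leaf 19572068346494)
 (.leaf 170000435195524))))
 (.node (.node (.node (.leaf 241721781335804)
 (.leaf 127616682551199))
 (.node (.leaf 57344119980590)
 (.leaf 179940221066150)))
 (.node (.node (.leaf 3555802896631)
 (.leaf 53416785737675))
 (.node (.leaf 75502229271194)
 (.leaf 158337409906916))))))

def keyTB17 : RT := .node (.node (.node (.node (.node (.node (.leaf 20515601590796)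
 (.leaf 277209369977064))
 (.node (.leaf 187537302522822)
 (.leaf 156012280812485)))
 (.node (.node (.leaf 254584776331354)
 (.leaf 169978216392070))
 (.node (.leaf 49904207854805)
 (.leaf 23984536080191))))
 (.node (.node (.node (.leaf 2669045548576)
 (.leaf 149706631465437))
 (.node (.leaf 201402765891241)
 (.leaf 149226032642642)))
 (.node (.node (.leaf 263980452489516)
 (.leaf 146865368364929))
 (.node (.leaf 95465092316188)
 (.leaf 123732338102995)))))
 (.node (.node (.node (.node (.leaf 127602917485357)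
 (.leaf 184043115521286))
 (.node (.leaf 178711440916073)
 (.leaf 138773070234416)))
 (.node (.node (.leaf 195920332406936)
 (.leaf 137047294637975))
 (.node (.leaf 277659242438126)
 (.leaf 216286785243339))))
 (.node (.node (.node (.leaf 33681890468415)
 (.leaf 225149680658066))
 (.node (.leaf 42014020757537)
 (.leaf 258246847617677)))
 (.node (.node (.leaf 105642310702456)
 (.leaf 86159350211103))
 (.node (.leaf 173922270279133)
 (.leaf 121216168884671))))))
 (.node (.node (.node (.node (.node (.leaf 63259385718943)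
 (.leaf 58308547831548))
 (.node (.leaf 27018421581135)
 (.leaf 145725720243844)))
 (.node (.node (.leaf 84539100631610)
 (.leaf 119520028978071))
 (.node (.leaf 157609020682067)
 (.leaf 83990718085893))))
 (.node (.node (.node (.leaf 107044203493072)
 (.leaf 198694144033646))
 (.node (.leaf 49921472266330)
 (.leaf 262400465828837)))
 (.node (.node (.leaf 82768770206996)
 (.leaf 273144049730014))
 (.node (.leaf 72005126510175)
 (.leaf 96446531934834)))))
 (.node (.node (.node (.node (.leaf 19851361811085)
 (.leaf 24931685329228))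
 (.node (.leaf 114220484866626)
 (.leaf 87418296613889)))
 (.node (.node (.leaf 69272122564732)
 (.leaf 66602338814873))
 (.node (.leaf 123563743857111)
 (.leaf 142490463188803))))
 (.node (.node (.node (.leaf 99485719110721)
 (.leaf 198408057959197))
 (.node (.leaf 25022289747161)
 (.leaf 56521462837423)))
 (.node (.node (.leaf 29924090811913)
 (.leaf 274268178831893))
 (.node (.leaf 109671352502065)
 (.leaf 277357786909182))))))

def keyTB18 : RT := .node (.node (.node (.node (.node (.node (.leaf 196884829808995)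
 (.leaf 114640024501487))
 (.node (.leaf 32608791002044)
 (.leaf 87628908501192)))
 (.node (.node (.leaf 7911830346502)
 (.leaf 228202003293418))
 (.node (.leaf 124631603620285)
 (.leaf 125676698355844))))
 (.node (.node (.node (.leaf 179726059483444)
 (.leaf 275393402009713))
 (.node (.leaf 180302017235427)
 (.leaf 276901325431614)))
 (.node (.node (.leaf 179804456324941)
 (.leaf 42695573433336))
 (.node (.leaf 93826540067237)
 (.leaf 53910874949227)))))
 (.node (.node (.node (.node (.leaf 25138323370104)
 (.leaf 210325031549283))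
 (.node (.leaf 184411728357886)
 (.leaf 105475256109227)))
 (.node (.node (.leaf 210380603082424)
 (.leaf 9828845719086))
 (.node (.leaf 93678734277994)
 (.leaf 57307309307104))))
 (.node (.node (.node (.leaf 48319230872072)
 (.leaf 69342769197876))
 (.node (.leaf 222950920653711)
 (.leaf 43628791866767)))
 (.node (.node (.leaf 202468419952383)
 (.leaf 161270924591956))
 (.node (.leaf 54467039237366)
 (.leaf 18803150170062))))))
 (.node (.node (.node (.node (.node (.leaf 104158627928558)
 (.leaf 215141981181495))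
 (.node (.leaf 4023481433605)
 (.leaf 58878599886664)))
 (.node (.node (.leaf 180688449188421)
 (.leaf 43820526097748))
 (.node (.leaf 265680896824087)
 (.leaf 66132953953646))))
 (.node (.node (.node (.leaf 64032633191827)
 (.leaf 143076050762463))
 (.node (.leaf 22898431809622)
 (.leaf 118001329893736)))
 (.node (.node (.leaf 28621671592062)
 (.leaf 99950341538669))
 (.node (.leaf 116594371370455)
 (.leaf 141698422182944)))))
 (.node (.node (.node (.node (.leaf 130053210686849)
 (.leaf 197960999477402))
 (.node (.leaf 100905841405889)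
 (.leaf 130648334468339)))
 (.node (.node (.leaf 6221162925304)
 (.leaf 220304536499989))
 (.node (.leaf 269475804340913)
 (.leaf 169219129553052))))
 (.node (.node (.node (.leaf 89968955455247)
 (.leaf 145212949675679))
 (.node (.leaf 79513576279762)
 (.leaf 146720369713427)))
 (.node (.node (.leaf 23645003657425)
 (.leaf 25773225307020))
 (.node (.leaf 128315941511112)
 (.leaf 232717646380107))))))

def keyTB19 : RT := .node (.node (.node (.node (.node (.node (.leaf 152807836770078)
 (.leaf 70483315081458))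
 (.node (.leaf 130288662982597)
 (.leaf 263385361632359)))
 (.node (.node (.leaf 87384591016691)
 (.leaf 9592292916939))
 (.node (.leaf 93424665734908)
 (.leaf 200193364512509))))
 (.node (.node (.node (.leaf 274562660701508)
 (.leaf 111422597199259))
 (.node (.leaf 60363740967681)
 (.leaf 22137508480594)))
 (.node (.node (.leaf 2914093669839)
 (.leaf 156338227593716))
 (.node (.leaf 127011418784600)
 (.leaf 49196281742018)))))
 (.node (.node (.node (.node (.leaf 227275155723058)
 (.leaf 88882586812516))
 (.node (.leaf 94637090305379)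
 (.leaf 232707580514794)))
 (.node (.node (.leaf 266804043919847)
 (.leaf 194347714774245))
 (.node (.leaf 180490018372066)
 (.leaf 4589162948875))))
 (.node (.node (.node (.leaf 70213082760903)
 (.leaf 212886555985672))
 (.node (.leaf 236402488810060)
 (.leaf 88674686825584)))
 (.node (.node (.leaf 241388846926992)
 (.leaf 60683744310387))
 (.node (.leaf 186393577607732)
 (.leaf 48757795591941))))))
 (.node (.node (.node (.node (.node (.leaf 101532056603914)
 (.leaf 99997435874852))
 (.node (.leaf 175826713451708)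
 (.leaf 86712908990913)))
 (.node (.node (.leaf 212332989929952)
 (.leaf 39723238230543))
 (.node (.leaf 211230498167804)
 (.leaf 178750583523299))))
 (.node (.node (.node (.leaf 3929310193288)
 (.leaf 9279378395355))
 (.node (.leaf 72739111022941)
 (.leaf 84148062844685)))
 (.node (.node (.leaf 2108064181041)
 (.leaf 13363578511271))
 (.node (.leaf 92751247904161)
 (.leaf 122234245605261)))))
 (.node (.node (.node (.node (.leaf 258333021234313)
 (.leaf 99200632558390))
 (.node (.leaf 207415428543433)
 (.leaf 156383527193690)))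
 (.node (.node (.leaf 127035911156847)
 (.leaf 147714687563612))
 (.node (.leaf 225772266583520)
 (.leaf 163438351229299))))
 (.node (.node (.node (.leaf 32329601933645)
 (.leaf 97200317413478))
 (.node (.leaf 102869394199394)
 (.leaf 193895086565835)))
 (.node (.node (.leaf 125730044368763)
 (.leaf 193685265234932))
 (.node (.leaf 30163393051032)
 (.leaf 141390057042461))))))

def keyTB20 : RT := .node (.node (.node (.node (.node (.node (.leaf 144072437036897)
 (.leaf 209316504652912))
 (.node (.leaf 156715281389511)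
 (.leaf 254464756303419)))
 (.node (.node (.leaf 161378807681836)
 (.leaf 103733888029519))
 (.node (.leaf 151727889246533)
 (.leaf 245889762779571))))
 (.node (.node (.node (.leaf 121394018788663)
 (.leaf 107068421571167))
 (.node (.leaf 75543295792281)
 (.leaf 15429817381970)))
 (.node (.node (.leaf 246041985882341)
 (.leaf 275259288835505))
 (.node (.leaf 204763194332919)
 (.leaf 1972817997107)))))
 (.node (.node (.node (.node (.leaf 24802099435962)
 (.leaf 29030410844920))
 (.node (.leaf 45818092845968)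
 (.leaf 262599321688809)))
 (.node (.node (.leaf 38984280621323)
 (.leaf 122925008489493))
 (.node (.leaf 17685244750476)
 (.leaf 130248855347562))))
 (.node (.node (.node (.leaf 71792765000586)
 (.leaf 113412799728010))
 (.node (.leaf 96991392094304)
 (.leaf 48796135347833)))
 (.node (.node (.leaf 122206596563483)
 (.leaf 101184923649447))
 (.node (.leaf 207928346526497)
 (.leaf 274864884551612))))))
 (.node (.node (.node (.node (.node (.leaf 180949625694804)
 (.leaf 5024004800928))
 (.node (.leaf 102664489980035)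
 (.leaf 106197356436297)))
 (.node (.node (.leaf 206706872086136)
 (.leaf 44142240177911))
 (.node (.leaf 53775157091925)
 (.leaf 86781295697304))))
 (.node (.node (.node (.leaf 182040702135439)
 (.leaf 22517978536824))
 (.node (.leaf 261850677349106)
 (.leaf 263866010761966)))
 (.node (.node (.leaf 124510475999501)
 (.leaf 178785400714436))
 (.node (.leaf 3930616791874)
 (.leaf 9286290412086)))))
 (.node (.node (.node (.node (.leaf 72756139136550)
 (.leaf 28824968632565))
 (.node (.leaf 52224433136838)
 (.leaf 216396328166933)))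
 (.node (.node (.leaf 93738676780110)
 (.leaf 224759405303671))
 (.node (.leaf 232451597687006)
 (.leaf 11427883521944))))
 (.node (.node (.node (.leaf 136053422852096)
 (.leaf 78160250239974))
 (.node (.leaf 233367675016464)
 (.leaf 169027181347114)))
 (.node (.node (.leaf 171271954905965)
 (.leaf 244494683905139))
 (.node (.leaf 176501478062925)
 (.leaf 165291831492957))))))

def keyTB21 : RT := .node (.node (.node (.node (.node (.node (.leaf 161990565350606)
 (.leaf 160809416014416))
 (.node (.leaf 28392146324371)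
 (.leaf 77500562948334)))
 (.node (.node (.leaf 86200601027686)
 (.leaf 251047402524003))
 (.node (.leaf 123360155131189)
 (.leaf 229245796726428))))
 (.node (.node (.node (.leaf 37140806389870)
 (.leaf 97707262882596))
 (.node (.leaf 10242578351004)
 (.leaf 137324941203414)))
 (.node (.node (.leaf 86003108000289)
 (.leaf 54415301023097))
 (.node (.leaf 95548649305642)
 (.leaf 233334997822503)))))
 (.node (.node (.node (.node (.leaf 27787841032506)
 (.leaf 238840436748577))
 (.node (.leaf 102540387279489)
 (.leaf 124506058432973)))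
 (.node (.node (.leaf 248516926282323)
 (.leaf 255623418057388))
 (.node (.leaf 270147510917655)
 (.leaf 119931994250416))))
 (.node (.node (.node (.leaf 148515061826125)
 (.leaf 61744959613313))
 (.node (.leaf 8531519185008)
 (.leaf 148448329343364)))
 (.node (.node (.leaf 57059362804410)
 (.leaf 157979948664811))
 (.node (.leaf 80104047143614)
 (.leaf 53682163831037))))))
 (.node (.node (.node (.node (.node (.leaf 114426062977273)
 (.leaf 223153646425186))
 (.node (.leaf 220751293274994)
 (.leaf 108407145265275)))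
 (.node (.node (.leaf 208790365179996)
 (.leaf 33409595593131))
 (.node (.leaf 120057894716576)
 (.leaf 145343851360778))))
 (.node (.node (.node (.leaf 176701041213525)
 (.leaf 131715576419877))
 (.node (.leaf 193097109083968)
 (.leaf 5479338544155)))
 (.node (.node (.leaf 251587630438624)
 (.leaf 191276579356107))
 (.node (.leaf 35451590472727)
 (.leaf 150504939471291)))))
 (.node (.node (.node (.node (.leaf 169045969607170)
 (.leaf 266812733366323))
 (.node (.leaf 249488099490819)
 (.leaf 236004608095654)))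
 (.node (.node (.leaf 278386380670921)
 (.leaf 50930156959567))
 (.node (.leaf 147916674666076)
 (.leaf 162889397348032))))
 (.node (.node (.node (.leaf 186407512873633)
 (.leaf 145251875012892))
 (.node (.leaf 86770654308777)
 (.leaf 229484311042659)))
 (.node (.node (.leaf 194735247958842)
 (.leaf 152145243125850))
 (.node (.leaf 72800656766459)
 (.leaf 169283814860290))))))

def keyTB22 : RT := .node (.node (.node (.node (.node (.node (.leaf 238509667216310)
 (.leaf 204611985446938))
 (.node (.leaf 262627606324880)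
 (.leaf 243532342565919)))
 (.node (.node (.leaf 20315845092277)
 (.leaf 139810119252005))
 (.node (.leaf 148328947164145)
 (.leaf 189625350620810))))
 (.node (.node (.node (.leaf 261899217019115)
 (.leaf 225395940805806))
 (.node (.leaf 172723567655930)
 (.leaf 90501179244989)))
 (.node (.node (.leaf 230221173164667)
 (.leaf 56716728326324))
 (.node (.leaf 253748007671559)
 (.leaf 196557285846068)))))
 (.node (.node (.node (.node (.leaf 220085811567594)
 (.leaf 119791666274199))
 (.node (.leaf 255384595626420)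
 (.leaf 230118266290004)))
 (.node (.node (.leaf 257767087285066)
 (.leaf 45820846074528))
 (.node (.leaf 274600625089354)
 (.leaf 133540065291726))))
 (.node (.node (.node (.leaf 71768609331393)
 (.leaf 113408647397785))
 (.node (.leaf 97023615924842)
 (.leaf 48803103341120)))
 (.node (.node (.leaf 101178325266966)
 (.leaf 207925486755010))
 (.node (.leaf 211982654180552)
 (.leaf 141401824160284))))))
 (.node (.node (.node (.node (.node (.leaf 218150524263469)
 (.leaf 233717771039423))
 (.node (.leaf 163815556072583)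
 (.leaf 140010501470387)))
 (.node (.node (.leaf 138012938521820)
 (.leaf 88413536736116))
 (.node (.leaf 257744079077508)
 (.leaf 138002330739232))))
 (.node (.node (.node (.leaf 49693357449136)
 (.leaf 113506777638748))
 (.node (.leaf 85731606372871)
 (.leaf 148217614049704)))
 (.node (.node (.leaf 238513607290152)
 (.leaf 44653082778731))
 (.node (.leaf 99809745429966)
 (.leaf 114762320646357)))))
 (.node (.node (.node (.node (.leaf 174524743328953)
 (.leaf 85029026484041))
 (.node (.leaf 269618565318975)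
 (.leaf 113534950769341)))
 (.node (.node (.leaf 69070468806842)
 (.leaf 115652473971298))
 (.node (.leaf 113336538087504)
 (.leaf 17690873252782))))
 (.node (.node (.node (.leaf 195353725937639)
 (.leaf 158877033543079))
 (.node (.leaf 222265175790369)
 (.leaf 91615364314600)))
 (.node (.node (.leaf 84114832689784)
 (.leaf 24398974072490))
 (.node (.leaf 40712841073328)
 (.leaf 144048284447512))))))

def keyTB23 : RT := .node (.node (.node (.node (.node (.node (.leaf 196608681288945)
 (.leaf 72813112873589))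
 (.node (.leaf 2483097018629)
 (.leaf 277810599531879)))
 (.node (.node (.leaf 30148043805963)
 (.leaf 147516438944907))
 (.node (.leaf 34543014844957)
 (.leaf 18207195952311))))
 (.node (.node (.node (.leaf 50992677800982)
 (.leaf 181378023339662))
 (.node (.leaf 217631553440045)
 (.leaf 218453589010360)))
 (.node (.node (.leaf 66815673915576)
 (.leaf 126319936676402))
 (.node (.leaf 185658022846012)
 (.leaf 248325789367285)))))
 (.node (.node (.node (.node (.leaf 21889327431750)
 (.leaf 67098982478156))
 (.node (.leaf 171466402707529)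
 (.leaf 96826488892865)))
 (.node (.node (.leaf 174507891093798)
 (.leaf 85073403754488))
 (.node (.leaf 230644486296137)
 (.leaf 240194910993855))))
 (.node (.node (.node (.leaf 241787407649509)
 (.leaf 208239605589028))
 (.node (.leaf 98905222666122)
 (.leaf 133539193645129)))
 (.node (.node (.leaf 134040050882644)
 (.leaf 242345135511548))
 (.node (.leaf 79055133802714)
 (.leaf 39223168113989))))))
 (.node (.node (.node (.node (.node (.leaf 227601713969494)
 (.leaf 207413235076376))
 (.node (.leaf 96233614001570)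
 (.leaf 89873233046234)))
 (.node (.node (.leaf 156821231510689)
 (.leaf 155102046706567))
 (.node (.leaf 145559083569615)
 (.leaf 195314364640661))))
 (.node (.node (.node (.leaf 218369403653307)
 (.leaf 112145571239517))
 (.node (.leaf 31317866858373)
 (.leaf 1624275270639)))
 (.node (.node (.leaf 25266943433042)
 (.leaf 32893063671578))
 (.node (.leaf 64111152025972)
 (.leaf 103872913162082)))))
 (.node (.node (.node (.node (.leaf 256546421390083)
 (.leaf 134120430755701))
 (.node (.leaf 136358941915546)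
 (.leaf 134493306258751)))
 (.node (.node (.leaf 17244634126105)
 (.leaf 92459206155322))
 (.node (.leaf 176812844865619)
 (.leaf 224816285935783))))
 (.node (.node (.node (.leaf 263068467057507)
 (.leaf 209707678284850))
 (.node (.leaf 160148706209401)
 (.leaf 103215106929613)))
 (.node (.node (.leaf 244317959166470)
 (.leaf 256401025641645))
 (.node (.leaf 102869077612055)
 (.leaf 184634496609106))))))

def keyTB24 : RT := .node (.node (.node (.node (.node (.node (.leaf 255412710656933)
 (.leaf 250517201717450))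
 (.node (.leaf 207133309807970)
 (.leaf 187717110311521)))
 (.node (.node (.leaf 156106480031396)
 (.leaf 181260020151221))
 (.node (.leaf 8721353014491)
 (.leaf 176814575680037))))
 (.node (.node (.node (.leaf 203921032509279)
 (.leaf 15964363751809))
 (.node (.leaf 72597867761065)
 (.leaf 121332166626942)))
 (.node (.node (.leaf 194533129490437)
 (.leaf 87395062896112))
 (.node (.leaf 269631360433109)
 (.leaf 147688776428101)))))
 (.node (.node (.node (.node (.leaf 225809119138625)
 (.leaf 265384801844905))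
 (.node (.leaf 132154962518188)
 (.leaf 265476541330192)))
 (.node (.node (.leaf 119852276580717)
 (.leaf 224937608936693))
 (.node (.leaf 144705703584688)
 (.leaf 1148467302888))))
 (.node (.node (.node (.leaf 97001797039695)
 (.leaf 183500859459242))
 (.node (.leaf 74586835270495)
 (.leaf 245940623026195)))
 (.node (.node (.leaf 121366082920139)
 (.leaf 70443217176407))
 (.node (.leaf 230243070173653)
 (.leaf 56726964590030))))))
 (.node (.node (.node (.node (.node (.leaf 174182415169403)
 (.leaf 56104024463772))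
 (.node (.leaf 118132350565058)
 (.leaf 238768285542525)))
 (.node (.node (.leaf 557373231714)
 (.leaf 100335941195467))
 (.node (.leaf 216332325737271)
 (.leaf 155050990684195))))
 (.node (.node (.node (.leaf 234998203874309)
 (.leaf 79555691254735))
 (.node (.leaf 167908066264790)
 (.leaf 7362022542772)))
 (.node (.node (.leaf 193070450080759)
 (.leaf 5470956847715))
 (.node (.leaf 119771159076616)
 (.leaf 134763862042779)))))
 (.node (.node (.node (.node (.leaf 162572851651658)
 (.leaf 129588382665493))
 (.node (.leaf 210573153490890)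
 (.leaf 114308574404486)))
 (.node (.node (.leaf 148004051344041)
 (.leaf 109005583486996))
 (.node (.leaf 18459113944174)
 (.leaf 186492965787840))))
 (.node (.node (.node (.leaf 219199021435931)
 (.leaf 73849570547830))
 (.node (.leaf 113782514785471)
 (.leaf 135423229131286)))
 (.node (.node (.leaf 228939479155005)
 (.leaf 32163535994962))
 (.node (.leaf 22215985825540)
 (.leaf 252218378597471))))))

def keyTB25 : RT := .node (.node (.node (.node (.node (.node (.leaf 126490608924744)
 (.leaf 113073562424500))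
 (.node (.leaf 203344421016008)
 (.leaf 32731058017779)))
 (.node (.node (.leaf 175127571410649)
 (.leaf 74190878937233))
 (.node (.leaf 102594721990053)
 (.leaf 109220717039737))))
 (.node (.node (.node (.leaf 107636221144305)
 (.leaf 219550451066805))
 (.node (.leaf 120403910443568)
 (.leaf 48697337139256)))
 (.node (.node (.leaf 24389489816167)
 (.leaf 148539614957453))
 (.node (.leaf 166583631482080)
 (.leaf 176742829981309)))))
 (.node (.node (.node (.node (.leaf 131715428069713)
 (.leaf 186417707647344))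
 (.node (.leaf 48781340501073)
 (.leaf 209881526354006)))
 (.node (.node (.leaf 228857765847937)
 (.leaf 249509894130314))
 (.node (.leaf 236011268679245)
 (.leaf 278436744127977))))
 (.node (.node (.node (.leaf 86707575213343)
 (.leaf 50967819084684))
 (.node (.leaf 147884549228399)
 (.leaf 162883019846984)))
 (.node (.node (.leaf 229508306411861)
 (.leaf 194733412728640))
 (.node (.leaf 152179628351199)
 (.leaf 4548296937385))))))
 (.node (.node (.node (.node (.node (.leaf 157379067709)
 (.leaf 86202267477825))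
 (.node (.leaf 194383834275916)
 (.leaf 90255242829004)))
 (.node (.node (.leaf 223709207671627)
 (.leaf 167910013079630))
 (.node (.leaf 159688990174723)
 (.leaf 251053734875940))))
 (.node (.node (.node (.leaf 8735001290461)
 (.leaf 259921299027031))
 (.node (.leaf 180200294016561)
 (.leaf 100324046137603)))
 (.node (.node (.leaf 255976582095734)
 (.leaf 49297343524575))
 (.node (.leaf 180203982625079)
 (.leaf 78194490250609)))))
 (.node (.node (.node (.node (.leaf 165145173135169)
 (.leaf 235662340188405))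
 (.node (.leaf 101822613365958)
 (.leaf 201958033115964)))
 (.node (.node (.leaf 30385945069628)
 (.leaf 219182809205579))
 (.node (.leaf 85791883936245)
 (.leaf 239233238264626))))
 (.node (.node (.node (.leaf 45193854968494)
 (.leaf 75148993486250))
 (.node (.leaf 60721430100530)
 (.leaf 193958408434833)))
 (.node (.node (.leaf 37737369471067)
 (.leaf 257018232190028))
 (.node (.leaf 260375017748397)
 (.leaf 226320565531619))))))

def keyTB26 : RT := .node (.node (.node (.node (.node (.node (.leaf 244404891645931)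
 (.leaf 32936663856418))
 (.node (.leaf 37644984680560)
 (.leaf 88796880812825)))
 (.node (.node (.leaf 208829002156288)
 (.leaf 132778274182265))
 (.node (.leaf 88876182340460)
 (.leaf 150542908145349))))
 (.node (.node (.node (.leaf 45864828176448)
 (.leaf 20000926486581))
 (.node (.leaf 140855160822371)
 (.leaf 231002351731514)))
 (.node (.node (.leaf 12897017829466)
 (.leaf 262467415783691))
 (.node (.leaf 86474756509997)
 (.leaf 171345869325895)))))
 (.node (.node (.node (.node (.leaf 274831350519866)
 (.leaf 180947666493249))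
 (.node (.leaf 36099221397592)
 (.leaf 237116972824397)))
 (.node (.node (.leaf 177389028580071)
 (.leaf 54791597739443))
 (.node (.leaf 251096852802762)
 (.leaf 123389251926578))))
 (.node (.node (.node (.leaf 134351878998689)
 (.leaf 97811171029406))
 (.node (.leaf 100353372635621)
 (.leaf 216363665326775)))
 (.node (.node (.leaf 271153438553041)
 (.leaf 192274693749953))
 (.node (.leaf 28406793243340)
 (.leaf 77459450986527))))))
 (.node (.node (.node (.node (.node (.leaf 204708454178566)
 (.leaf 174704742403842))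
 (.node (.leaf 47101154700904)
 (.leaf 45159066042796)))
 (.node (.node (.leaf 27442505361531)
 (.leaf 91088337710826))
 (.node (.leaf 69709875307290)
 (.leaf 128157094376399))))
 (.node (.node (.node (.leaf 194298034936911)
 (.leaf 186364847422714))
 (.node (.leaf 269893672893775)
 (.leaf 89149763464849)))
 (.node (.node (.leaf 135726598542782)
 (.leaf 245743658771969))
 (.node (.leaf 213111712384206)
 (.leaf 222311968371224)))))
 (.node (.node (.node (.node (.leaf 191259916574607)
 (.leaf 192423700092941))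
 (.node (.leaf 61279979261281)
 (.leaf 138638692270328)))
 (.node (.node (.leaf 228490966068089)
 (.leaf 88653437054603))
 (.node (.leaf 173169101580304)
 (.leaf 64254869528501))))
 (.node (.node (.node (.leaf 104797944623457)
 (.leaf 193950424668164))
 (.node (.leaf 37784035392502)
 (.leaf 257039770774643)))
 (.node (.node (.leaf 149752928841025)
 (.leaf 259009339658335))
 (.node (.leaf 7630666179241)
 (.leaf 131556400465199))))))

def keyTB27 : RT := .node (.node (.node (.node (.node (.node (.leaf 119981174640011)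
 (.leaf 22501605887630))
 (.node (.leaf 143872420857581)
 (.leaf 53806036666033)))
 (.node (.node (.leaf 209900079622160)
 (.leaf 228903318461681))
 (.node (.leaf 19979163779212)
 (.leaf 74043167989977))))
 (.node (.node (.node (.leaf 44897082371579)
 (.leaf 51078430096722))
 (.node (.leaf 270801057822992)
 (.leaf 252940653047388)))
 (.node (.node (.leaf 74855103864398)
 (.leaf 263856389067180))
 (.node (.leaf 56361439268045)
 (.leaf 151286985388190)))))
 (.node (.node (.node (.node (.leaf 137433317725260)
 (.leaf 86345451307094))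
 (.node (.leaf 29226127194659)
 (.leaf 201155447264957)))
 (.node (.node (.leaf 226027638340337)
 (.leaf 157461755800620))
 (.node (.leaf 244416101510131)
 (.leaf 45857404601001))))
 (.node (.node (.node (.leaf 20057813799251)
 (.leaf 158060534839385))
 (.node (.leaf 233602952013165)
 (.leaf 12070121585540)))
 (.node (.node (.leaf 204072674603387)
 (.leaf 165179668061830))
 (.node (.leaf 31621592951661)
 (.leaf 16951915201009))))))
 (.node (.node (.node (.node (.node (.leaf 217269166814947)
 (.leaf 146685779008812))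
 (.node (.leaf 62873874015105)
 (.leaf 223748218237627)))
 (.node (.node (.leaf 108863907819097)
 (.leaf 228821306231349))
 (.node (.leaf 131809809957955)
 (.leaf 35099095255915))))
 (.node (.node (.node (.leaf 221425403672148)
 (.leaf 106849775822127))
 (.node (.leaf 261878223562852)
 (.leaf 59701113344625)))
 (.node (.node (.leaf 177409824844210)
 (.leaf 49323650998670))
 (.node (.leaf 211209855468115)
 (.leaf 48656218789862)))))
 (.node (.node (.node (.node (.leaf 206490183229752)
 (.leaf 42815609902564))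
 (.node (.leaf 228975482906816)
 (.leaf 118208725980649)))
 (.node (.node (.leaf 1256893937979)
 (.leaf 146664626086516))
 (.node (.leaf 154375551986732)
 (.leaf 134582834630797))))
 (.node (.node (.node (.leaf 220438839479192)
 (.leaf 169006676165088))
 (.node (.leaf 171270392795487)
 (.leaf 163581494878934)))
 (.node (.node (.leaf 94657267171852)
 (.leaf 120464604722848))
 (.node (.leaf 250262389055043)
 (.leaf 145410698635136))))))

def keyTB28 : RT := .node (.node (.node (.node (.node (.node (.leaf 102624439616265)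
 (.leaf 85781848930934))
 (.node (.leaf 34767431785018)
 (.leaf 96407415604018)))
 (.node (.node (.leaf 63894982702154)
 (.leaf 232469480279080))
 (.node (.leaf 2244865428248)
 (.leaf 195104427027982))))
 (.node (.node (.node (.leaf 176520303056761)
 (.leaf 263877169356600))
 (.node (.leaf 108421747017083)
 (.leaf 142666771038041)))
 (.node (.node (.leaf 70206183076766)
 (.leaf 260358471599534))
 (.node (.leaf 226318992066690)
 (.leaf 28793747427406)))))
 (.node (.node (.node (.node (.leaf 52188525290430)
 (.leaf 93754104836380))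
 (.node (.leaf 208673071808565)
 (.leaf 45867408564262)))
 (.node (.node (.leaf 227550680617474)
 (.leaf 127782467934917))
 (.node (.leaf 145388736922536)
 (.leaf 58549177215677))))
 (.node (.node (.node (.leaf 210035061419868)
 (.leaf 222515853158961))
 (.node (.leaf 264843308709241)
 (.leaf 255816005232167)))
 (.node (.node (.leaf 8737961963794)
 (.leaf 50925283593440))
 (.node (.leaf 147951058285206)
 (.leaf 199718303203416))))))
 (.node (.node (.node (.node (.node (.leaf 228434165581645)
 (.leaf 210035782417713))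
 (.node (.leaf 16768347485573)
 (.leaf 124484751922507)))
 (.node (.node (.leaf 248553898035983)
 (.leaf 255601839150856))
 (.node (.leaf 270172683237964)
 (.leaf 22263134746556))))
 (.node (.node (.node (.leaf 252262316571488)
 (.leaf 126480492243762))
 (.node (.leaf 113069809532419)
 (.leaf 57095355559118)))
 (.node (.node (.leaf 136003470258902)
 (.leaf 259643680542656))
 (.node (.leaf 164824072704736)
 (.leaf 193223520974535)))))
 (.node (.node (.node (.node (.leaf 37641331738880)
 (.leaf 58425077948459))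
 (.node (.leaf 162824778469082)
 (.leaf 163786839902542)))
 (.node (.node (.leaf 140009622241788)
 (.leaf 273179423187397))
 (.node (.leaf 245430814642109)
 (.leaf 269386981239316))))
 (.node (.node (.node (.leaf 263366935547070)
 (.leaf 87400644935436))
 (.node (.leaf 196665041210402)
 (.leaf 121313301301789)))
 (.node (.node (.leaf 187732391701440)
 (.leaf 156091779240590))
 (.node (.leaf 233736427750332)
 (.leaf 181232027141027))))))

def keyTB29 : RT := .node (.node (.node (.node (.node (.node (.leaf 249950860246370)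
 (.leaf 117203530011185))
 (.node (.leaf 193512489850299)
 (.leaf 88599624106568)))
 (.node (.node (.leaf 28915887192431)
 (.leaf 203537436112790))
 (.node (.leaf 87156626078570)
 (.leaf 118867187806842))))
 (.node (.node (.node (.leaf 103844972898224)
 (.leaf 112590381820802))
 (.node (.leaf 231258927701529)
 (.leaf 163217463432596)))
 (.node (.node (.leaf 227793667049402)
 (.leaf 32026081240555))
 (.node (.leaf 204212286278714)
 (.leaf 69607198014326)))))
 (.node (.node (.node (.node (.leaf 56950847936235)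
 (.leaf 26943173637439))
 (.node (.leaf 91822022406847)
 (.leaf 159547008125286)))
 (.node (.node (.leaf 21534954132011)
 (.leaf 98922360822579))
 (.node (.leaf 41595219099652)
 (.leaf 30058446603004))))
 (.node (.node (.node (.leaf 27670379366594)
 (.leaf 143993866746555))
 (.node (.leaf 33631122437370)
 (.leaf 191632449651820)))
 (.node (.node (.leaf 113385821852311)
 (.leaf 38372034083660))
 (.node (.leaf 35040912674574)
 (.leaf 44324242808287))))))
 (.node (.node (.node (.node (.node (.leaf 196766797212147)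
 (.leaf 275233774643558))
 (.node (.leaf 26904182394316)
 (.leaf 93468794786327)))
 (.node (.node (.leaf 208243442991433)
 (.leaf 155226772569873))
 (.node (.leaf 10473945295230)
 (.leaf 260913283061616))))
 (.node (.node (.node (.leaf 240914092510130)
 (.leaf 153772156393990))
 (.node (.leaf 121083955026276)
 (.leaf 197417754628559)))
 (.node (.node (.leaf 112092776715752)
 (.leaf 41247702019230))
 (.node (.leaf 119580556414830)
 (.leaf 173549035673457)))))
 (.node (.node (.node (.node (.leaf 223387034930951)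
 (.leaf 96254178383622))
 (.node (.leaf 276235357697171)
 (.leaf 184626516287197)))
 (.node (.node (.leaf 250508141204258)
 (.leaf 207133106281604))
 (.node (.leaf 245915726273657)
 (.leaf 121400722729945))))
 (.node (.node (.node (.leaf 107126774902227)
 (.leaf 75527676739683))
 (.node (.leaf 227933013112121)
 (.leaf 147557342409202)))
 (.node (.node (.leaf 206113066416018)
 (.leaf 246733201193327))
 (.node (.leaf 265337209257407)
 (.leaf 132151035342891))))))

def keyTB30 : RT := .node (.node (.node (.node (.node (.node (.leaf 265464080288461)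
 (.leaf 119885197997451))
 (.node (.leaf 224933100278271)
 (.leaf 134032951805671)))
 (.node (.node (.leaf 169196378572780)
 (.leaf 29032300926071))
 (.node (.leaf 144687323408298)
 (.leaf 1132906598630))))
 (.node (.node (.node (.leaf 183513001792814)
 (.leaf 74615714253285))
 (.node (.leaf 174193675375865)
 (.leaf 56105640259794)))
 (.node (.node (.leaf 118196849314832)
 (.leaf 238783629058800))
 (.node (.leaf 566434411771)
 (.leaf 102859107696889)))))
 (.node (.node (.node (.node (.leaf 197912387265715)
 (.leaf 65062598568234))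
 (.node (.leaf 277774715578475)
 (.leaf 169298359003304)))
 (.node (.node (.leaf 220292825876652)
 (.leaf 163453328185656))
 (.node (.leaf 137161039295706)
 (.leaf 220351712439470))))
 (.node (.node (.node (.leaf 119474709124739)
 (.leaf 2094986991085))
 (.node (.leaf 79042550628893)
 (.leaf 181379758841385)))
 (.node (.node (.leaf 30165455595448)
 (.leaf 147498373843956))
 (.node (.leaf 204493514835604)
 (.leaf 69561943187054))))))
 (.node (.node (.node (.node (.node (.leaf 218416692804658)
 (.leaf 107754390667551))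
 (.node (.leaf 226120853038718)
 (.leaf 124790107604216)))
 (.node (.node (.leaf 118438691752930)
 (.leaf 194534307758832))
 (.node (.leaf 195672935302395)
 (.leaf 107806285146914))))
 (.node (.node (.node (.leaf 99827357116404)
 (.leaf 114761769627215))
 (.node (.leaf 8676519876776)
 (.leaf 44281692826920)))
 (.node (.node (.leaf 130483547286728)
 (.leaf 39015068236316))
 (.node (.leaf 225365868309549)
 (.leaf 136362599086683)))))
 (.node (.node (.node (.node (.leaf 249979796618240)
 (.leaf 191015975417171))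
 (.node (.leaf 91868125234819)
 (.leaf 20279654468219)))
 (.node (.node (.leaf 118450916291837)
 (.leaf 103224777924723))
 (.node (.leaf 77588434732381)
 (.leaf 171521850354097))))
 (.node (.node (.node (.leaf 103751375840259)
 (.leaf 151714380589660))
 (.node (.leaf 27003682153106)
 (.leaf 106611223413056)))
 (.node (.node (.leaf 127151078514758)
 (.leaf 605178324121))
 (.node (.leaf 147139714104292)
 (.leaf 928099444449))))))

def keyTB31 : RT := .node (.node (.node (.node (.node (.node (.leaf 265484091122902)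
 (.leaf 16144346853086))
 (.node (.leaf 250510577522064)
 (.leaf 150318968736751)))
 (.node (.node (.leaf 230648202193234)
 (.leaf 101283285056488))
 (.node (.leaf 156849451445127)
 (.leaf 238590036260322))))
 (.node (.node (.node (.leaf 224843240376534)
 (.leaf 263063128889865))
 (.node (.leaf 39572937871812)
 (.leaf 258346787307283)))
 (.node (.node (.leaf 121323773224345)
 (.leaf 44606570548171))
 (.node (.leaf 72179685947411)
 (.leaf 204942976121738)))))
 (.node (.node (.node (.node (.leaf 37349443816298)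
 (.leaf 44540812293305))
 (.node (.leaf 191622280169884)
 (.leaf 35965468285634)))
 (.node (.node (.leaf 88449462220925)
 (.leaf 204322867954530))
 (.node (.leaf 278016592478362)
 (.leaf 162800228992332))))
 (.node (.node (.node (.leaf 153302085542273)
 (.leaf 85633485118600))
 (.node (.leaf 169906905689585)
 (.leaf 152793842527766)))
 (.node (.node (.leaf 165800108817241)
 (.leaf 148384853353292))
 (.node (.leaf 89412042928878)
 (.leaf 187713639345233))))))
 (.node (.node (.node (.node (.node (.leaf 122144953358522)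
 (.leaf 253820217211277))
 (.node (.leaf 147538324856120)
 (.leaf 34543042274307)))
 (.node (.node (.leaf 18154197957212)
 (.leaf 88420873610812))
 (.node (.leaf 204968169021292)
 (.leaf 58462859310247))))
 (.node (.node (.node (.leaf 163801074241496)
 (.leaf 140025784856719))
 (.node (.leaf 132041758970377)
 (.leaf 213049752376185)))
 (.node (.node (.leaf 103267145007578)
 (.leaf 2505681419354))
 (.node (.leaf 174871029377984)
 (.leaf 44581236327003)))))
 (.node (.node (.node (.node (.leaf 156422021717397)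
 (.leaf 25258480866287))
 (.node (.leaf 85713231911824)
 (.leaf 158853030402131)))
 (.node (.node (.leaf 139880675225317)
 (.leaf 101115128747641))
 (.node (.leaf 103712843433301)
 (.leaf 195409730362558))))
 (.node (.node (.node (.leaf 268223042215692)
 (.leaf 67088095154556))
 (.node (.leaf 195469644085136)
 (.leaf 16458854418875)))
 (.node (.node (.leaf 207947955281116)
 (.leaf 240996180077740))
 (.node (.leaf 218125928412353)
 (.leaf 109601544972957))))))

def keyTB32 : RT := .node (.node (.node (.node (.node (.node (.leaf 25187021685461)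
 (.leaf 53215608543659))
 (.node (.leaf 30062202753889)
 (.leaf 119814248259973)))
 (.node (.node (.leaf 254463497541106)
 (.leaf 176768003735492))
 (.node (.leaf 203951132372872)
 (.leaf 188441073913019))))
 (.node (.node (.node (.leaf 260910146566132)
 (.leaf 248306735768563))
 (.node (.leaf 147108745517952)
 (.leaf 160173438573112)))
 (.node (.node (.leaf 235186987193935)
 (.leaf 209275035264878))
 (.node (.leaf 156720695887195)
 (.leaf 218961706251788)))))
 (.node (.node (.node (.node (.leaf 207328816853952)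
 (.leaf 183756631569657))
 (.node (.leaf 26997103702141)
 (.leaf 106588062936033)))
 (.node (.node (.leaf 119900410461237)
 (.leaf 127152519750201))
 (.node (.leaf 147152642056272)
 (.leaf 30902101660207))))
 (.node (.node (.node (.leaf 163208931409009)
 (.leaf 21537079204033))
 (.node (.leaf 211622962990187)
 (.leaf 21872384215566)))
 (.node (.node (.leaf 39541780076606)
 (.leaf 227665258609487))
 (.node (.leaf 185643596461808)
 (.leaf 220097084622985))))))
 (.node (.node (.node (.node (.node (.leaf 119823885610736)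
 (.leaf 66071467747738))
 (.node (.leaf 40883977913007)
 (.leaf 172724368815907)))
 (.node (.node (.leaf 90463147133754)
 (.leaf 227878761087788))
 (.node (.leaf 147542880110092)
 (.leaf 206125560465264))))
 (.node (.node (.node (.leaf 246741264849842)
 (.leaf 155215339541525))
 (.node (.leaf 181584180139269)
 (.leaf 136462146344676)))
 (.node (.node (.leaf 169169754559420)
 (.leaf 245064279644735))
 (.node (.leaf 151216412404094)
 (.leaf 169606305599923)))))
 (.node (.node (.node (.node (.leaf 143035569149463)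
 (.leaf 257775926285295))
 (.node (.leaf 32902999434368)
 (.leaf 207176195643795)))
 (.node (.node (.leaf 4752900418393)
 (.leaf 207338591120356))
 (.node (.leaf 100678312469817)
 (.leaf 198261541503474))))
 (.node (.node (.node (.leaf 69068697567853)
 (.leaf 85018593432231))
 (.node (.leaf 7288715425223)
 (.leaf 156447822131017)))
 (.node (.node (.leaf 188485819224688)
 (.leaf 60094315211284))
 (.node (.leaf 150325898886395)
 (.leaf 72207764249102))))))

def keyTB33 : RT := .node (.node (.node (.node (.node (.node (.leaf 37314916037576)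
 (.leaf 197452957813749))
 (.node (.leaf 147161894610949)
 (.leaf 264544999241579)))
 (.node (.node (.leaf 15999794007587)
 (.leaf 195664285072850))
 (.node (.leaf 46174867576013)
 (.leaf 44309924125389))))
 (.node (.node (.node (.leaf 87892500488893)
 (.leaf 42589959976340))
 (.node (.leaf 253723307955779)
 (.leaf 159970429587367)))
 (.node (.node (.leaf 88590407595922)
 (.leaf 220363597069694))
 (.node (.leaf 119470654734473)
 (.leaf 204478233300262)))))
 (.node (.node (.node (.node (.leaf 16839831040693)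
 (.leaf 19409810314923))
 (.node (.leaf 66334616384892)
 (.leaf 144018519951279)))
 (.node (.node (.leaf 109566591478910)
 (.leaf 217137902073937))
 (.node (.leaf 234859917105477)
 (.leaf 110949078374462))))
 (.node (.node (.node (.leaf 230077954478554)
 (.leaf 52651935993666))
 (.node (.leaf 16123960898558)
 (.leaf 203527472675660)))
 (.node (.node (.leaf 77610045100164)
 (.leaf 194511151989943))
 (.node (.leaf 122896992740095)
 (.leaf 17706950984283))))))
 (.node (.node (.node (.node (.node (.leaf 41258989474505)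
 (.leaf 119600210424071))
 (.node (.leaf 121104059934157)
 (.leaf 193458859340372)))
 (.node (.node (.leaf 153266599106283)
 (.leaf 72593202565631))
 (.node (.leaf 23895291283175)
 (.leaf 175361805244089))))
 (.node (.node (.node (.leaf 159977672438452)
 (.leaf 169173744343115))
 (.node (.leaf 206578151700391)
 (.leaf 22436107001368)))
 (.node (.node (.leaf 269615085825889)
 (.leaf 113570886555909))
 (.node (.leaf 154691994483638)
 (.leaf 157735274250877)))))
 (.node (.node (.node (.node (.leaf 99219774095203)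
 (.leaf 197417886305664))
 (.node (.leaf 112125422371495)
 (.leaf 104106052553759)))
 (.node (.node (.leaf 223809509499768)
 (.leaf 169593538166452))
 (.node (.leaf 243535697562446)
 (.leaf 118462079228066))))
 (.node (.node (.node (.leaf 52389906152865)
 (.leaf 64451204388758))
 (.node (.leaf 49707344031585)
 (.leaf 113502914331602)))
 (.node (.node (.leaf 213178193880630)
 (.leaf 245111314345534))
 (.node (.leaf 154746066325829)
 (.leaf 195337279051184))))))

def keyTB34 : RT := .node (.node (.node (.node (.node (.node (.leaf 257787348500294)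
 (.leaf 45779112877128))
 (.node (.leaf 92458243236532)
 (.leaf 48832967447057)))
 (.node (.node (.leaf 193877474564261)
 (.leaf 125739224041392))
 (.node (.leaf 931691345901)
 (.leaf 211993448961517))))
 (.node (.node (.node (.leaf 233735431577214)
 (.leaf 138019687319383))
 (.node (.leaf 88381374308714)
 (.leaf 44650727555709)))
 (.node (.node (.leaf 72201303367325)
 (.leaf 265894446614884))
 (.node (.leaf 88491068196283)
 (.leaf 256417542619446)))))
 (.node (.node (.node (.node (.leaf 147575487895527)
 (.leaf 96846193037072))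
 (.node (.leaf 59949733009188)
 (.leaf 20569288435349)))
 (.node (.node (.leaf 238763057648223)
 (.leaf 211978737812741))
 (.node (.leaf 144717286604101)
 (.leaf 1099835032723))))
 (.node (.node (.node (.leaf 183513377984470)
 (.leaf 108361601340236))
 (.node (.leaf 160116680553198)
 (.leaf 235188493696081)))
 (.node (.node (.leaf 59944130111569)
 (.leaf 25204967328510))
 (.node (.leaf 222827154489365)
 (.leaf 274538595235057))))))
 (.node (.node (.node (.node (.node (.leaf 133527793542553)
 (.leaf 134013973802046))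
 (.node (.leaf 242358593309855)
 (.leaf 269458101324184)))
 (.node (.node (.leaf 39178800138081)
 (.leaf 38382285160755))
 (.node (.leaf 34981629638758)
 (.leaf 122884681744499))))
 (.node (.node (.node (.leaf 44346260063712)
 (.leaf 196806454201897))
 (.node (.leaf 31270842591864)
 (.leaf 68452606631945)))
 (.node (.node (.leaf 9180438287851)
 (.leaf 95916636051915))
 (.node (.leaf 156852885268694)
 (.leaf 197382269614601)))))
 (.node (.node (.node (.node (.leaf 39930468877230)
 (.leaf 161998158925920))
 (.node (.leaf 219938025945451)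
 (.leaf 159668731396465)))
 (.node (.node (.leaf 259939355580968)
 (.leaf 272394988853635))
 (.node (.leaf 194368530911342)
 (.leaf 180509276577877))))
 (.node (.node (.node (.leaf 4546806812238)
 (.leaf 70166061344469))
 (.node (.leaf 134351717330057)
 (.leaf 97792100859503)))
 (.node (.node (.leaf 176518331825768)
 (.leaf 206451433643922))
 (.node (.leaf 34756315828292)
 (.leaf 96357016223007))))))

def keyTB35 : RT := .node (.node (.node (.node (.node (.node (.leaf 63842575901760)
 (.leaf 169680623713859))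
 (.node (.leaf 205080814663552)
 (.leaf 237102233554690)))
 (.node (.node (.leaf 234036742773828)
 (.leaf 16784802988201))
 (.node (.leaf 59680099908929)
 (.leaf 53700017927070))))
 (.node (.node (.node (.leaf 253424183051140)
 (.leaf 39071847068131))
 (.node (.leaf 190087273676505)
 (.leaf 162608426178253)))
 (.node (.node (.leaf 207290762145933)
 (.leaf 30010759697384))
 (.node (.leaf 135775137011598)
 (.leaf 137233035476268)))))
 (.node (.node (.node (.node (.leaf 229040467279206)
 (.leaf 135435028281923))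
 (.node (.leaf 108910176006074)
 (.leaf 259677723617436)))
 (.node (.node (.leaf 2294310558888)
 (.leaf 87319575267092))
 (.node (.leaf 129203543882872)
 (.leaf 141722715884361))))
 (.node (.node (.node (.leaf 126960571910971)
 (.leaf 131823539160895))
 (.node (.leaf 210946113950094)
 (.leaf 191878387526334)))
 (.node (.node (.leaf 72304832812901)
 (.leaf 160009486870602))
 (.node (.leaf 53600545309155)
 (.leaf 17300900580540))))))
 (.node (.node (.node (.node (.node (.leaf 239254638020708)
 (.leaf 101828322194251))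
 (.node (.leaf 96657933602990)
 (.leaf 129893006140233)))
 (.node (.node (.leaf 45467172295264)
 (.leaf 268796578688264))
 (.node (.leaf 90257461157237)
 (.leaf 85545462588900))))
 (.node (.node (.node (.leaf 192468514429008)
 (.leaf 210567066774060))
 (.node (.leaf 134805795863860)
 (.leaf 64291119503330)))
 (.node (.node (.leaf 2264708377463)
 (.leaf 219939388314559))
 (.node (.leaf 22236650353113)
 (.leaf 163584406057970)))))
 (.node (.node (.node (.node (.leaf 278103606119010)
 (.leaf 132798354541574))
 (.node (.leaf 258588368539061)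
 (.leaf 179461428448734)))
 (.node (.node (.leaf 56685058352703)
 (.leaf 47098495194558))
 (.node (.leaf 125379096401691)
 (.leaf 85507477740857))))
 (.node (.node (.node (.leaf 186487236726727)
 (.leaf 80076041851054))
 (.node (.leaf 53696258691913)
 (.leaf 259953951120730)))
 (.node (.node (.leaf 179850097437228)
 (.leaf 143872182903639))
 (.node (.leaf 58549737107635)
 (.leaf 36116150198022))))))

def keyTB36 : RT := .node (.node (.node (.node (.node (.node (.leaf 222321753950479)
 (.leaf 166399827789647))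
 (.node (.leaf 245749879650116)
 (.leaf 224745363758977)))
 (.node (.node (.leaf 159187709156248)
 (.leaf 194092017964239))
 (.node (.leaf 244467178647624)
 (.leaf 220782387284979))))
 (.node (.node (.node (.leaf 12090647314733)
 (.leaf 204049648186951))
 (.node (.leaf 152548212790403)
 (.leaf 137307264484569)))
 (.node (.node (.leaf 18290839945673)
 (.leaf 155001035012536))
 (.node (.leaf 212008422767)
 (.leaf 56350770286337)))))
 (.node (.node (.node (.node (.leaf 151304174845704)
 (.leaf 88942941828829))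
 (.node (.leaf 212316593828928)
 (.leaf 35083346255008)))
 (.node (.node (.leaf 128357867987864)
 (.leaf 250234354504453))
 (.node (.leaf 145442190176782)
 (.leaf 248519482715424))))
 (.node (.node (.node (.leaf 255589224154354)
 (.leaf 270155035145191))
 (.node (.leaf 119933607948334)
 (.leaf 61777255750802)))
 (.node (.node (.leaf 8541442366366)
 (.leaf 264837977520329))
 (.node (.leaf 21170566070589)
 (.leaf 140929095997167))))))
 (.node (.node (.node (.node (.node (.leaf 208689389079292)
 (.leaf 154529004278013))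
 (.node (.leaf 208697060388959)
 (.leaf 227546687557663)))
 (.node (.node (.leaf 127761786106798)
 (.leaf 201171377064689))
 (.node (.leaf 210032365183578)
 (.leaf 222561287247880))))
 (.node (.node (.node (.leaf 19975903654908)
 (.leaf 9323132199837))
 (.node (.leaf 120084370651435)
 (.leaf 145372666929440)))
 (.node (.node (.leaf 255810537140581)
 (.leaf 8753645447214))
 (.node (.leaf 199724565591292)
 (.leaf 228490946776541)))))
 (.node (.node (.node (.node (.leaf 164833246351649)
 (.leaf 32936961685689))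
 (.node (.leaf 16956211282477)
 (.leaf 193180293083489)))
 (.node (.node (.leaf 37617429880321)
 (.leaf 171307836802920))
 (.node (.leaf 100942778617992)
 (.leaf 130669829176156))))
 (.node (.node (.node (.leaf 12604804400996)
 (.leaf 236432796080302))
 (.node (.leaf 192256255069420)
 (.leaf 155079822194910)))
 (.node (.node (.leaf 235014989844052)
 (.leaf 79555350576459))
 (.node (.leaf 146727076780840)
 (.leaf 99996010649718))))))

def keyTB37 : RT := .node (.node (.node (.node (.node (.node (.leaf 190728831833384)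
 (.leaf 5053172002867))
 (.node (.leaf 51107489670246)
 (.leaf 270799165674725)))
 (.node (.node (.leaf 128113841696389)
 (.leaf 194323600802777))
 (.node (.leaf 28430083616401)
 (.leaf 77483043067964))))
 (.node (.node (.node (.leaf 204693080371475)
 (.leaf 174712649153104))
 (.node (.leaf 32712722998769)
 (.leaf 72326780009737)))
 (.node (.node (.leaf 89158230116667)
 (.leaf 30374806349632))
 (.node (.leaf 27511157127181)
 (.leaf 98073692933565)))))
 (.node (.node (.node (.node (.leaf 165324058057283)
 (.leaf 72329425367107))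
 (.node (.leaf 249480489756044)
 (.leaf 108381937064121)))
 (.node (.node (.leaf 142665117348397)
 (.leaf 229492761427457))
 (.node (.leaf 93747614676563)
 (.leaf 27517755406965))))
 (.node (.node (.node (.leaf 239245316805612)
 (.leaf 45176900892161))
 (.node (.leaf 75142386694007)
 (.leaf 86504185372244)))
 (.node (.node (.leaf 1523298852672)
 (.leaf 236086827146962))
 (.node (.leaf 129938334749159)
 (.leaf 100359575867197))))))
 (.node (.node (.node (.node (.node (.leaf 251612553557825)
 (.leaf 182105962332236))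
 (.node (.leaf 219198584155340)
 (.leaf 73821399876804)))
 (.node (.node (.leaf 221460921760260)
 (.leaf 106820082469986))
 (.node (.leaf 169693565718590)
 (.leaf 205113694588190))))
 (.node (.node (.node (.leaf 125408414672405)
 (.leaf 101814290257192))
 (.node (.leaf 227275797522180)
 (.leaf 162554520011871)))
 (.node (.node (.leaf 138211478544271)
 (.leaf 173991779635358))
 (.node (.leaf 173164804009284)
 (.leaf 107647078862950)))))
 (.node (.node (.node (.node (.leaf 27811587855022)
 (.leaf 238837621308904))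
 (.node (.leaf 102571577705558)
 (.leaf 17283343704366)))
 (.node (.node (.leaf 42463917359138)
 (.leaf 151966840428179))
 (.node (.leaf 69733483499768)
 (.leaf 86233731061404))))
 (.node (.node (.node (.leaf 193202056337793)
 (.leaf 27140216287611))
 (.node (.leaf 58557117702686)
 (.leaf 14814936451670)))
 (.node (.node (.leaf 35064819655687)
 (.leaf 128330705564345))
 (.node (.leaf 205379262293933)
 (.leaf 149776148419057))))))

def keyTB38 : RT := .node (.node (.node (.node (.node (.node (.leaf 23698103094163)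
 (.leaf 138212991567830))
 (.node (.leaf 29212419571123)
 (.leaf 266584305440461)))
 (.node (.node (.leaf 42849049021311)
 (.leaf 118217728224397))
 (.node (.leaf 148487151553213)
 (.leaf 85813686865145))))
 (.node (.node (.node (.leaf 7370802693451)
 (.leaf 191478657600271))
 (.node (.leaf 2316464745475)
 (.leaf 101518166934950)))
 (.node (.node (.leaf 171325671662568)
 (.leaf 103051234637710))
 (.node (.leaf 98041854862481)
 (.leaf 278106420893376)))))
 (.node (.node (.node (.node (.leaf 86264869580736)
 (.leaf 210989142684384))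
 (.node (.leaf 208735143740706)
 (.leaf 21185098424618)))
 (.node (.node (.leaf 2576181657537)
 (.leaf 162596922868979))
 (.node (.leaf 126544346143749)
 (.leaf 39063449626848))))
 (.node (.node (.node (.leaf 237683168656397)
 (.leaf 269900002662269))
 (.node (.leaf 272011551503743)
 (.leaf 49144737433963)))
 (.node (.node (.leaf 246686377941968)
 (.leaf 98986065586559))
 (.node (.leaf 102647818466881)
 (.leaf 206453634195970))))))
 (.node (.node (.node (.node (.node (.leaf 39465472932633)
 (.leaf 220406311371857))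
 (.node (.leaf 204695543419577)
 (.leaf 174721108486279)))
 (.node (.node (.leaf 47100877923600)
 (.leaf 27483665939944))
 (.node (.leaf 91091097248854)
 (.leaf 100267464048011))))
 (.node (.node (.node (.leaf 5041963667200)
 (.leaf 2300571874370))
 (.node (.leaf 39985078985844)
 (.leaf 159667398022878)))
 (.node (.node (.leaf 96363501479291)
 (.leaf 229128882295419))
 (.node (.leaf 138232301455029)
 (.leaf 271131825857346)))))
 (.node (.node (.node (.node (.leaf 96918789873795)
 (.leaf 29242305060754))
 (.node (.leaf 98051295424992)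
 (.leaf 137416947208531)))
 (.node (.node (.leaf 16934461559373)
 (.leaf 201957318751781))
 (.node (.leaf 140815377134163)
 (.leaf 231017091344358))))
 (.node (.node (.node (.leaf 135340159242633)
 (.leaf 233351532938912))
 (.node (.leaf 27807105929687)
 (.leaf 126461730862805)))
 (.node (.node (.leaf 234010267964889)
 (.leaf 98120270042504))
 (.node (.leaf 179453114023204)
 (.leaf 112727244957233))))))

def keyTB39 : RT := .node (.node (.node (.node (.node (.node (.leaf 56653182553062)
 (.leaf 20063706353344))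
 (.node (.leaf 90230864718635)
 (.leaf 65446608268033)))
 (.node (.node (.leaf 159159813609978)
 (.leaf 213102513301132))
 (.node (.leaf 18450307246133)
 (.leaf 219515188364072))))
 (.node (.node (.node (.leaf 137341779327733)
 (.leaf 85978994986121))
 (.node (.leaf 211229104991468)
 (.leaf 48705709332149)))
 (.node (.node (.leaf 2199258484801)
 (.leaf 61246913083481))
 (.node (.leaf 269200544421229)
 (.leaf 222316208301036)))))
 (.node (.node (.node (.node (.leaf 166427171012977)
 (.leaf 61280177798214))
 (.node (.leaf 89485569136404)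
 (.leaf 227554421736086)))
 (.node (.node (.leaf 229197277359390)
 (.leaf 37134708868632))
 (.node (.leaf 97712709492368)
 (.leaf 10246696452039))))
 (.node (.node (.node (.leaf 204036783742625)
 (.leaf 49411455804966))
 (.node (.leaf 157437068309178)
 (.leaf 17266726421864)))
 (.node (.node (.leaf 42462711857461)
 (.leaf 151939090088467))
 (.node (.leaf 201170688457599)
 (.leaf 69747874745126))))))
 (.node (.node (.node (.node (.node (.leaf 27093293175929)
 (.leaf 180208666112876))
 (.node (.leaf 87308499815177)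
 (.leaf 255931767454200)))
 (.node (.node (.leaf 45426955106954)
 (.leaf 268817410606669))
 (.node (.leaf 226021846712708)
 (.leaf 101931572134389))))
 (.node (.node (.node (.leaf 138637533879732)
 (.leaf 229222017767392))
 (.node (.leaf 48757013066142)
 (.leaf 74838342605048)))
 (.node (.node (.leaf 241370132149640)
 (.leaf 191311994722771))
 (.node (.leaf 109218407388444)
 (.leaf 107643008771441)))))
 (.node (.node (.node (.node (.leaf 219500379212839)
 (.leaf 27622152046164))
 (.node (.leaf 272055961656951)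
 (.leaf 30028023371202)))
 (.node (.node (.leaf 113758812785001)
 (.leaf 135433065735963))
 (.node (.leaf 228955579998220)
 (.leaf 32177220872250))))
 (.node (.node (.node (.leaf 21185817675306)
 (.leaf 140883584583952))
 (.node (.leaf 154514341558543)
 (.leaf 53541681833796)))
 (.node (.node (.leaf 175113233317761)
 (.leaf 88848262682811))
 (.node (.leaf 203395523222859)
 (.leaf 109396678642346))))))

def keyTB40 : RT := .node (.node (.node (.node (.node (.node (.leaf 65410745384309)
 (.leaf 199727939015802))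
 (.node (.leaf 81188249719483)
 (.leaf 246496114489046)))
 (.node (.node (.leaf 126542999300170)
 (.leaf 236112455336115))
 (.node (.leaf 75117774574029)
 (.leaf 155043371346515))))
 (.node (.node (.node (.leaf 238846024077663)
 (.leaf 166627027917516))
 (.node (.leaf 217250603415939)
 (.leaf 250252051918250)))
 (.node (.node (.leaf 145437145487395)
 (.leaf 109385759845328))
 (.node (.leaf 173136683223351)
 (.leaf 127789797738697)))))
 (.node (.node (.node (.node (.leaf 44877384107759)
 (.leaf 84830739110652))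
 (.node (.leaf 37753729330902)
 (.leaf 257042626809505)))
 (.node (.node (.leaf 8282526222431)
 (.leaf 7676535629915))
 (.node (.leaf 269179340280117)
 (.leaf 101706238784048))))
 (.node (.node (.node (.leaf 205341196475122)
 (.leaf 191485140793312))
 (.node (.leaf 103042489908548)
 (.leaf 78920227896673)))
 (.node (.node (.leaf 27076892559252)
 (.leaf 108999711777957))
 (.node (.leaf 251615789758718)
 (.leaf 104855633031902))))))
 (.node (.node (.node (.node (.node (.leaf 207783187321771)
 (.leaf 112744487984981))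
 (.node (.leaf 1542104551946)
 (.leaf 173972587422582)))
 (.node (.node (.leaf 203353179352887)
 (.leaf 96666632298104))
 (.node (.leaf 253370969236364)
 (.leaf 190728915846471))))
 (.node (.node (.node (.leaf 235664264725328)
 (.leaf 34749197275467))
 (.node (.leaf 19940900628107)
 (.leaf 27441235309774)))
 (.node (.node (.leaf 201917671728877)
 (.leaf 65467258233771))
 (.node (.leaf 78942927403374)
 (.leaf 268671687485689)))))
 (.node (.node (.node (.node (.leaf 11470227088001)
 (.leaf 23717239986475))
 (.node (.leaf 24368836384295)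
 (.leaf 186559428964000)))
 (.node (.node (.leaf 169668676284023)
 (.leaf 14794526969133))
 (.node (.leaf 129243911416992)
 (.leaf 162628631731637))))
 (.node (.node (.node (.leaf 207271134518750)
 (.leaf 142690407755498))
 (.node (.leaf 35425403801696)
 (.leaf 150560908311861)))
 (.node (.node (.leaf 152525585786283)
 (.leaf 95553463970420))
 (.node (.leaf 18294539816488)
 (.leaf 194069423710037))))))

def keyTB41 : RT := .node (.node (.node (.node (.node (.node (.leaf 244437984266583)
 (.leaf 16780153992497))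
 (.node (.leaf 59652967340571)
 (.leaf 195138330208264)))
 (.node (.node (.leaf 51507285279740)
 (.leaf 96916376871837))
 (.node (.leaf 181524528177555)
 (.leaf 141735407962535))))
 (.node (.node (.node (.leaf 81189349046197)
 (.leaf 246447409151495))
 (.node (.leaf 191885277701772)
 (.leaf 268685501681502)))
 (.node (.node (.leaf 188696817813495)
 (.leaf 260310116437638))
 (.node (.leaf 226331664375403)
 (.leaf 244400025557285)))))
 (.node (.node (.node (.node (.leaf 32923267820720)
 (.leaf 114284647197302))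
 (.node (.leaf 100934334158558)
 (.leaf 154398534584489)))
 (.node (.node (.leaf 12041924026070)
 (.leaf 12895390222491))
 (.node (.leaf 119753051455065)
 (.leaf 23712006332151))))
 (.node (.node (.node (.leaf 128425637109333)
 (.leaf 147983062855275))
 (.node (.leaf 258542709612340)
 (.leaf 126543349724805)))
 (.node (.node (.leaf 128115310761061)
 (.leaf 148537667555072))
 (.node (.leaf 166586329364033)
 (.leaf 176722331618533))))))
 (.node (.node (.node (.node (.node (.leaf 131698835342522)
 (.leaf 49329433368999))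
 (.node (.leaf 162918841858434)
 (.leaf 162030873362362)))
 (.node (.node (.leaf 74157510476579)
 (.leaf 184338879241))
 (.node (.leaf 223701257893753)
 (.leaf 167883094138680))))
 (.node (.node (.node (.leaf 78199098700300)
 (.leaf 100278340987979))
 (.node (.leaf 148469104366708)
 (.leaf 7381021205438)))
 (.node (.node (.leaf 191497615118459)
 (.leaf 86379123737807))
 (.node (.leaf 62841256456264)
 (.leaf 208739391635625)))))
 (.node (.node (.node (.node (.leaf 56370316611128)
 (.leaf 140882932668480))
 (.node (.leaf 114453353305518)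
 (.leaf 205089353848258)))
 (.node (.node (.leaf 160018132635523)
 (.leaf 266777135241898))
 (.node (.leaf 158943471977)
 (.leaf 264824876535493))))
 (.node (.node (.node (.leaf 255810705760801)
 (.leaf 246679665949207))
 (.node (.leaf 149844299707523)
 (.leaf 194332547201407)))
 (.node (.node (.leaf 18310353066350)
 (.leaf 149812617458909))
 (.node (.leaf 273089236569857)
 (.leaf 209872838773581))))))

def keyTB42 : RT := .node (.node (.node (.node (.node (.node (.leaf 228866769791726)
 (.leaf 74050065244283))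
 (.node (.leaf 44883022772664)
 (.leaf 25793228947694)))
 (.node (.node (.leaf 252933519244643)
 (.leaf 179473468653710))
 (.node (.leaf 35438156734821)
 (.leaf 85537535376462))))
 (.node (.node (.node (.leaf 186479677279877)
 (.leaf 278429497983961))
 (.node (.leaf 198167890492219)
 (.leaf 1532159530815)))
 (.node (.node (.leaf 154402372324710)
 (.leaf 220780944751757))
 (.node (.leaf 230274248044370)
 (.leaf 91614532046371)))))
 (.node (.node (.node (.node (.leaf 225780131642659)
 (.leaf 181376962933550))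
 (.node (.leaf 69592782899837)
 (.leaf 42582820054434)))
 (.node (.node (.leaf 127098157520647)
 (.leaf 220275888408206))
 (.node (.leaf 163467894188333)
 (.leaf 32298486696786))))
 (.node (.node (.node (.leaf 97223017044901)
 (.leaf 197933606191064))
 (.node (.leaf 193874146795883)
 (.leaf 125700203700991)))
 (.node (.node (.leaf 9594142646652)
 (.leaf 204956389316362))
 (.node (.leaf 24751250466622)
 (.leaf 226108979780431))))))
 (.node (.node (.node (.node (.node (.leaf 190974983796515)
 (.leaf 159935877973996))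
 (.node (.leaf 52392448955511)
 (.leaf 246725086763680)))
 (.node (.node (.leaf 64399428572816)
 (.leaf 66811944539000))
 (.node (.leaf 93481857445556)
 (.leaf 11918735595546))))
 (.node (.node (.node (.leaf 89455977301294)
 (.leaf 243542616525983))
 (.node (.leaf 175355990257333)
 (.leaf 27656016546359)))
 (.node (.node (.leaf 222856004492446)
 (.leaf 52645750432303))
 (.node (.leaf 16109821422705)
 (.leaf 64101650180261)))))
 (.node (.node (.node (.node (.leaf 110936173454059)
 (.leaf 127107168253882))
 (.node (.leaf 56473794621682)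
 (.leaf 140323207374923)))
 (.node (.node (.leaf 234876281882194)
 (.leaf 112610380752338))
 (.node (.leaf 109576286451068)
 (.leaf 153261692936631))))
 (.node (.node (.node (.leaf 134515620707579)
 (.leaf 40870291245785))
 (.node (.leaf 204462641043371)
 (.leaf 223392881780182)))
 (.node (.node (.leaf 273184252743600)
 (.leaf 85654488647717))
 (.node (.leaf 264504742537568)
 (.leaf 16444546928703))))))

def keyTB43 : RT := .node (.node (.node (.node (.node (.node (.leaf 16866608823168)
 (.leaf 19421440919490))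
 (.node (.leaf 239512851312082)
 (.leaf 253802548425473)))
 (.node (.node (.leaf 247656722054938)
 (.leaf 213749899725344))
 (.node (.leaf 196801430750051)
 (.leaf 150444797939770))))
 (.node (.node (.node (.leaf 163951486644971)
 (.leaf 185517814834913))
 (.node (.leaf 19387930697011)
 (.leaf 144618453387706)))
 (.node (.node (.leaf 83441455699072)
 (.leaf 240194417657530))
 (.node (.leaf 44307515306330)
 (.leaf 211603948264027)))))
 (.node (.node (.node (.node (.leaf 137162775101367)
 (.leaf 26874621990218))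
 (.node (.leaf 207957074154957)
 (.leaf 60578264449620)))
 (.node (.node (.leaf 188487334211035)
 (.leaf 260888261753329))
 (.node (.leaf 193492247784255)
 (.leaf 119604563100841))))
 (.node (.node (.node (.leaf 238585515408763)
 (.leaf 213200104119329))
 (.node (.leaf 203922975575254)
 (.leaf 191613162734281)))
 (.node (.node (.leaf 154753184767458)
 (.leaf 157738526913124))
 (.node (.leaf 253572482464976)
 (.leaf 256585501296621))))))
 (.node (.node (.node (.node (.node (.leaf 213783920752647)
 (.leaf 217622749884041))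
 (.node (.leaf 137511051685181)
 (.leaf 44534010420098)))
 (.node (.node (.leaf 156463191775901)
 (.leaf 144593795134974))
 (.node (.leaf 48419255042321)
 (.leaf 207983543792344))))
 (.node (.node (.node (.leaf 60600289330836)
 (.leaf 56953444402705))
 (.node (.leaf 60378028511493)
 (.leaf 64058013975506)))
 (.node (.node (.leaf 103870546091487)
 (.leaf 218424278015008))
 (.node (.leaf 258822990323554)
 (.leaf 31523155236306)))))
 (.node (.node (.node (.node (.leaf 66048585817724)
 (.leaf 165780842808631))
 (.node (.leaf 148390993319271)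
 (.leaf 254447131904839)))
 (.node (.node (.leaf 24854986871728)
 (.leaf 85945346798056))
 (.node (.leaf 25209931541264)
 (.leaf 257729489189597))))
 (.node (.node (.node (.leaf 126343048099751)
 (.leaf 68951902936600))
 (.node (.leaf 60276004788122)
 (.leaf 115611915731528)))
 (.node (.node (.leaf 17235299750473)
 (.leaf 246041209980236))
 (.node (.leaf 195698502089864)
 (.leaf 46163080269297))))))

def keyTB44 : RT := .node (.node (.node (.node (.node (.node (.leaf 100709876180890)
 (.leaf 185633208955888))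
 (.node (.leaf 248314018760477)
 (.leaf 133274364640113)))
 (.node (.node (.leaf 85903493747111)
 (.leaf 152656868365326))
 (.node (.leaf 33642440778690)
 (.leaf 4785238471217))))
 (.node (.node (.node (.leaf 66329448838022)
 (.leaf 143976007325197))
 (.node (.leaf 22132808979363)
 (.leaf 2890498261348)))
 (.node (.node (.leaf 104046803167015)
 (.leaf 223754032592574))
 (.node (.leaf 169547627744223)
 (.leaf 204611380453147)))))
 (.node (.node (.node (.node (.leaf 242357852712636)
 (.leaf 269475457439313))
 (.node (.leaf 79039707802696)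
 (.leaf 39172289139655)))
 (.node (.node (.leaf 227611141179789)
 (.leaf 89833612290073))
 (.node (.leaf 155129964624093)
 (.leaf 145603327475324))))
 (.node (.node (.node (.leaf 51881644743355)
 (.leaf 234216196811754))
 (.node (.leaf 10493229750069)
 (.leaf 71796774608043)))
 (.node (.node (.leaf 87157778196117)
 (.leaf 173453707612532))
 (.node (.leaf 87157753544462)
 (.leaf 213033190188539))))))
 (.node (.node (.node (.node (.node (.leaf 265893516890249)
 (.leaf 88468321292114))
 (.node (.leaf 7329722507888)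
 (.leaf 59959793825936)))
 (.node (.node (.leaf 20552872413759)
 (.leaf 261915366067682))
 (.node (.leaf 51023745259281)
 (.leaf 122215282161447))))
 (.node (.node (.node (.leaf 103168370807418)
 (.leaf 244355316751742))
 (.node (.leaf 256418564329493)
 (.leaf 127134450144133)))
 (.node (.node (.leaf 108336603415093)
 (.leaf 235186368902411))
 (.node (.leaf 68460615822053)
 (.leaf 9148347925014)))))
 (.node (.node (.node (.node (.leaf 101277949374404)
 (.leaf 42604522175040))
 (.node (.leaf 95921330172864)
 (.leaf 113565326774771)))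
 (.node (.node (.leaf 69094585739070)
 (.leaf 6228481297293))
 (.node (.leaf 206113784030026)
 (.leaf 227895282817966))))
 (.node (.node (.node (.leaf 245417843699418)
 (.leaf 269392291885495))
 (.node (.leaf 263333823487763)
 (.leaf 9564259190323)))
 (.node (.node (.leaf 93392027171707)
 (.leaf 204766325609003))
 (.node (.leaf 204581293832773)
 (.leaf 6198997050177))))))

def keyTB45 : RT := .node (.node (.node (.node (.node (.node (.leaf 245066267022850)
 (.leaf 151244704257813))
 (.node (.leaf 169619515462003)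
 (.leaf 195400453529265)))
 (.node (.node (.leaf 268220253491858)
 (.leaf 195467256060990))
 (.node (.leaf 144078143629255)
 (.leaf 196617018344641))))
 (.node (.node (.node (.leaf 72806299977043)
 (.leaf 2499068838897))
 (.node (.leaf 277830443933436)
 (.leaf 174868656222896)))
 (.node (.node (.leaf 213769506383922)
 (.leaf 156701154596537))
 (.node (.leaf 218169264015076)
 (.leaf 191016583940705)))))
 (.node (.node (.node (.node (.leaf 148335238416036)
 (.leaf 101098598724423))
 (.node (.leaf 158849889502049)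
 (.leaf 222247985666615)))
 (.node (.node (.leaf 156093446108041)
 (.leaf 265393325317588))
 (.node (.leaf 132152856729514)
 (.leaf 92492426149058))))
 (.node (.node (.node (.leaf 240878261509711)
 (.leaf 174164618781857))
 (.node (.leaf 174504388291968)
 (.leaf 218369037037328)))
 (.node (.node (.leaf 99826668261219)
 (.leaf 97236085104368))
 (.node (.leaf 103278493685307)
 (.leaf 25229058585301))))))
 (.node (.node (.node (.node (.node (.leaf 85725544166436)
 (.leaf 171522495525408))
 (.node (.leaf 147114764263634)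
 (.leaf 143032530603024)))
 (.node (.node (.leaf 218995948919911)
 (.leaf 51825728897779))
 (.node (.leaf 58416008065448)
 (.leaf 162820504844586))))
 (.node (.node (.node (.leaf 2943786813547)
 (.leaf 253767848790188))
 (.node (.leaf 196581655529784)
 (.leaf 91829544215770)))
 (.node (.node (.leaf 20323450576332)
 (.leaf 159507741908933))
 (.node (.leaf 217139417443803)
 (.leaf 234814619868477)))))
 (.node (.node (.node (.node (.leaf 243495021010013)
 (.leaf 93523252550523))
 (.node (.leaf 11947364362001)
 (.leaf 144629993944199)))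
 (.node (.node (.leaf 48423056550067)
 (.leaf 225380793143908))
 (.node (.leaf 13350951675743)
 (.leaf 92703986013292))))
 (.node (.node (.node (.leaf 28880974217879)
 (.leaf 197488112324488))
 (.node (.leaf 169632022997395)
 (.leaf 161400008720748)))
 (.node (.node (.leaf 218940496946883)
 (.leaf 240929190604517))
 (.node (.leaf 240187179475463)
 (.leaf 241814618216079))))))

def keyTB46 : RT := .node (.node (.node (.node (.node (.node (.leaf 208241500229748)
 (.leaf 98906090914631))
 (.node (.leaf 169914801657499)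
 (.leaf 134082629386586)))
 (.node (.node (.leaf 38363358122009)
 (.leaf 169274193292310))
 (.node (.leaf 95870312884954)
 (.leaf 98427737937101))))
 (.node (.node (.node (.leaf 96862398451856)
 (.leaf 1947403325961))
 (.node (.leaf 66381702080195)
 (.leaf 22148113877977)))
 (.node (.node (.leaf 80739457889494)
 (.leaf 30870200111317))
 (.node (.leaf 200184978682648)
 (.leaf 101236030967356)))))
 (.node (.node (.node (.node (.leaf 275433296171017)
 (.leaf 121103756240888))
 (.node (.leaf 23901127375349)
 (.leaf 184600450935315)))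
 (.node (.node (.leaf 240936326487721)
 (.leaf 224833569837228))
 (.node (.leaf 15404409488144)
 (.leaf 246075421970797))))
 (.node (.node (.node (.leaf 169936884830018)
 (.leaf 49705680081216))
 (.node (.leaf 124782894297944)
 (.leaf 253535076744031)))
 (.node (.node (.leaf 99037966352135)
 (.leaf 169536463360453))
 (.node (.leaf 41240725535720)
 (.leaf 234255679318335))))))
 (.node (.node (.node (.node (.node (.leaf 240579234008312)
 (.leaf 40689313694385))
 (.node (.leaf 68456836509852)
 (.leaf 263074838220733)))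
 (.node (.node (.leaf 110918211550671)
 (.leaf 895512583387))
 (.node (.leaf 240997226758804)
 (.leaf 65028123739177))))
 (.node (.node (.node (.leaf 56910354099889)
 (.leaf 2072819703622))
 (.node (.leaf 12114953219772)
 (.leaf 117166889900114)))
 (.node (.node (.leaf 181579804008669)
 (.leaf 262613513270215))
 (.node (.leaf 24788078060409)
 (.leaf 226141237588468)))))
 (.node (.node (.node (.node (.leaf 277989656819170)
 (.leaf 132011533869465))
 (.node (.leaf 206622050594259)
 (.leaf 22406326087779)))
 (.node (.node (.leaf 174847515184148)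
 (.leaf 204229825263247))
 (.node (.leaf 139889990209652)
 (.leaf 124756392036080))))
 (.node (.node (.node (.leaf 119452590151088)
 (.leaf 52395889404453))
 (.node (.leaf 197460904789161)
 (.leaf 213048197413482)))
 (.node (.node (.leaf 75568742735724)
 (.leaf 207340280193992))
 (.node (.leaf 114784556330264)
 (.leaf 136405758281930))))))

def keyTB47 : RT := .node (.node (.node (.node (.node (.node (.leaf 35989356687623)
 (.leaf 203873755949822))
 (.node (.leaf 230684413032180)
 (.leaf 35045621870955)))
 (.node (.node (.leaf 243580241160158)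
 (.leaf 101143375738354))
 (.node (.leaf 137542543058173)
 (.leaf 41612354912543))))
 (.node (.node (.node (.leaf 37317506866718)
 (.leaf 137117519380125))
 (.node (.leaf 26878598788659)
 (.leaf 68953976071812)))
 (.node (.node (.leaf 53217206783636)
 (.leaf 153747392294975))
 (.node (.leaf 90463045758160)
 (.leaf 213199823198206)))))
 (.node (.node (.node (.node (.leaf 46122236110853)
 (.leaf 252716946503531))
 (.node (.leaf 24818668358947)
 (.leaf 85922501608238)))
 (.node (.node (.leaf 147127756762285)
 (.leaf 83480217138826))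
 (.node (.leaf 156363000549334)
 (.leaf 217566658111778))))
 (.node (.node (.node (.leaf 193715749960317)
 (.leaf 66829432522257))
 (.node (.leaf 126342805057661)
 (.leaf 60062973085277)))
 (.node (.node (.leaf 1581293721477)
 (.leaf 257705660504507))
 (.node (.leaf 7289581710143)
 (.leaf 239489638031812))))))
 (.node (.node (.node (.node (.node (.leaf 98440183585539)
 (.leaf 107781200527899))
 (.node (.leaf 189605054826038)
 (.leaf 211611608302987)))
 (.node (.node (.leaf 163906258108125)
 (.leaf 276240900238370))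
 (.node (.leaf 93421818984336)
 (.leaf 51054456788381))))
 (.node (.node (.node (.leaf 107091509372476)
 (.leaf 161381400173346))
 (.node (.leaf 10475379248075)
 (.leaf 153763890876710)))
 (.node (.node (.leaf 150461692841086)
 (.leaf 65019623148366))
 (.node (.leaf 139824360669719)
 (.leaf 52675315737517)))))
 (.node (.node (.node (.node (.leaf 41606738457641)
 (.leaf 30074851284478))
 (.node (.leaf 27651958812945)
 (.leaf 33606637960726)))
 (.node (.node (.leaf 111440986968693)
 (.leaf 51844585684417))
 (.node (.leaf 234251448386358)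
 (.leaf 173466750398359))))
 (.node (.node (.node (.leaf 258846655376199)
 (.leaf 163940810521360))
 (.node (.leaf 185528967180617)
 (.leaf 227796054751965)))
 (.node (.node (.leaf 275282561603056)
 (.leaf 198306624827319))
 (.node (.leaf 99046968067402)
 (.leaf 4746098276141))))))

def keyTB48 : RT := .node (.node (.node (.node (.node (.node (.leaf 108325965290667)
 (.leaf 23901193849649))
 (.node (.leaf 12138578071770)
 (.leaf 60081310146618)))
 (.node (.node (.leaf 77639718876484)
 (.leaf 273219151734868))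
 (.node (.leaf 147694769698812)
 (.leaf 241783425104133))))
 (.node (.node (.node (.leaf 101165444133485)
 (.leaf 104103143011677))
 (.node (.leaf 223770447100337)
 (.leaf 265937996647886)))
 (.node (.node (.leaf 136429659055925)
 (.leaf 169153411091577))
 (.node (.leaf 10340296872898)
 (.leaf 252723654139765)))))
 (.node (.node (.node (.node (.leaf 185494358247860)
 (.leaf 80709617721172))
 (.node (.leaf 243572796310941)
 (.leaf 31499279642988)))
 (.node (.node (.leaf 253574218761203)
 (.leaf 239498609649284))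
 (.node (.leaf 98418598909977)
 (.leaf 32023567909976))))
 (.node (.node (.node (.leaf 204196015425963)
 (.leaf 8664496047771))
 (.node (.leaf 183792278931808)
 (.leaf 195433569233433)))
 (.node (.node (.leaf 165802675907554)
 (.leaf 258381111547582))
 (.node (.leaf 245420614115558)
 (.leaf 157740337397841))))))
 (.node (.node (.node (.node (.node (.leaf 130451484424226)
 (.leaf 155206363640524))
 (.node (.leaf 249943371358895)
 (.leaf 155158043456594)))
 (.node (.node (.leaf 148207926364042)
 (.leaf 173570353214009))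
 (.node (.leaf 223388794096885)
 (.leaf 196591410746246))))
 (.node (.node (.node (.leaf 231300101891597)
 (.leaf 40691132864519))
 (.node (.leaf 140303504518793)
 (.leaf 72571151157005)))
 (.node (.node (.leaf 230123309723973)
 (.leaf 100683197632593))
 (.node (.leaf 99188473293791)
 (.leaf 74609545097377)))))
 (.node (.node (.node (.node (.leaf 133291496961112)
 (.leaf 60294849576964))
 (.node (.leaf 173579391347225)
 (.leaf 115621853046089)))
 (.node (.node (.leaf 113337997091516)
 (.leaf 222820326841338))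
 (.node (.leaf 240525570203409)
 (.leaf 64403338113553))))
 (.node (.node (.node (.leaf 181246212820997)
 (.leaf 12112773799380))
 (.node (.leaf 253800393027220)
 (.leaf 247597693293308)))
 (.node (.node (.leaf 66085900231742)
 (.leaf 150350560160363))
 (.node (.leaf 207883802552662)
 (.leaf 231303829620898))))))

def keyTB49 : RT := .node (.node (.node (.node (.node (.node (.leaf 269410615375189)
 (.leaf 15948662498181))
 (.node (.leaf 117232345341222)
 (.leaf 118834735075563)))
 (.node (.node (.leaf 204333795598781)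
 (.leaf 227759296971554))
 (.node (.leaf 268262621484502)
 (.leaf 207452268269339))))
 (.node (.node (.node (.leaf 96210650651533)
 (.leaf 276194801474653))
 (.node (.leaf 255425678986814)
 (.leaf 127058647886868)))
 (.node (.node (.leaf 91621206506201)
 (.leaf 84145460713387))
 (.node (.leaf 148206109768425)
 (.leaf 220370118662796)))))
 (.node (.node (.node (.node (.leaf 218350558015957)
 (.leaf 195485085274333))
 (.node (.leaf 198294040803185)
 (.leaf 32853536748723)))
 (.node (.node (.leaf 11908955661229)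
 (.leaf 224965758959948))
 (.node (.leaf 67113937004626)
 (.leaf 133312113992373))))
 (.node (.node (.node (.leaf 60267307142197)
 (.leaf 209285564991454))
 (.node (.leaf 136453007913383)
 (.leaf 24405794389131)))
 (.node (.node (.leaf 137560281196688)
 (.leaf 60588628497268))
 (.node (.leaf 143059399468994)
 (.leaf 134542542273961))))))
 (.node (.node (.node (.node (.node (.leaf 17209007229429)
 (.leaf 252211404843127))
 (.node (.leaf 171344957221118)
 (.leaf 32734806526760)))
 (.node (.node (.leaf 89516698594509)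
 (.leaf 200418949997000))
 (.node (.leaf 106180602959347)
 (.leaf 146762084432975))))
 (.node (.node (.node (.leaf 224741619711226)
 (.leaf 232412827991375))
 (.node (.leaf 11444245207520)
 (.leaf 130688043834570)))
 (.node (.node (.leaf 165288197204435)
 (.leaf 212877903523293))
 (.node (.leaf 236445489005680)
 (.leaf 101544717582821)))))
 (.node (.node (.node (.node (.leaf 33414290253878)
 (.leaf 236426180856))
 (.node (.leaf 141703349314456)
 (.leaf 96677241496042)))
 (.node (.node (.leaf 128400330711328)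
 (.leaf 53562908237437))
 (.node (.leaf 175136404369745)
 (.leaf 266605137718263))))
 (.node (.node (.node (.leaf 134609748431459)
 (.leaf 245797892698505))
 (.node (.leaf 179885560792803)
 (.leaf 98956365522172)))
 (.node (.node (.leaf 33410470154875)
 (.leaf 181531732391583))
 (.node (.leaf 273060819903705)
 (.leaf 186512051859770))))))

def keyTB50 : RT := .node (.node (.node (.node (.node (.node (.leaf 14797715798793)
 (.leaf 129238073117176))
 (.node (.leaf 200435097353336)
 (.leaf 190109715910756)))
 (.node (.node (.leaf 242186810352995)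
 (.leaf 186537036189191))
 (.node (.leaf 164807428831681)
 (.leaf 10247322481043))))
 (.node (.node (.node (.leaf 65450794465845)
 (.leaf 39100108094470))
 (.node (.leaf 175791048996712)
 (.leaf 272014945979171)))
 (.node (.node (.leaf 129597282453576)
 (.leaf 272400057064105))
 (.node (.leaf 237632119560981)
 (.leaf 140829148870602)))))
 (.node (.node (.node (.node (.leaf 27568777606267)
 (.leaf 210910379780602))
 (.node (.leaf 223189465693448)
 (.leaf 233635687916254)))
 (.node (.node (.leaf 198146831982933)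
 (.leaf 220437516709412))
 (.node (.leaf 106570884523173)
 (.leaf 207794066696084))))
 (.node (.node (.node (.leaf 242183450919057)
 (.leaf 101713491225476))
 (.node (.leaf 193984981076850)
 (.leaf 113074993672284)))
 (.node (.node (.leaf 97681358881195)
 (.leaf 49415042880116))
 (.node (.leaf 259035710238282)
 (.leaf 236102612440071))))))
 (.node (.node (.node (.node (.node (.leaf 226028195031556)
 (.leaf 101938862529634))
 (.node (.leaf 52215128673787)
 (.leaf 74039804151342)))
 (.node (.node (.leaf 39760147918995)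
 (.leaf 56657167108439))
 (.node (.leaf 248273643705649)
 (.leaf 51478299572763))))
 (.node (.node (.node (.leaf 269196392071006)
 (.leaf 166393917745551))
 (.node (.leaf 95551517280885)
 (.leaf 266609901402498)))
 (.node (.node (.leaf 86751293521970)
 (.leaf 163606327825835))
 (.node (.leaf 278090137713397)
 (.leaf 231000920836149)))))
 (.node (.node (.node (.node (.leaf 39990004476747)
 (.leaf 112955054154803))
 (.node (.leaf 228811565937443)
 (.leaf 151973667031474)))
 (.node (.node (.leaf 106518012097208)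
 (.leaf 186361583813416))
 (.node (.leaf 269895166308000)
 (.leaf 45437112502168))))
 (.node (.node (.node (.leaf 123370225521564)
 (.leaf 98031040460956))
 (.node (.leaf 7659642436412)
 (.leaf 137401032162049)))
 (.node (.node (.leaf 88972634017453)
 (.leaf 256137808517648))
 (.node (.leaf 112732615804287)
 (.leaf 248226692235332))))))

def keyTB51 : RT := .node (.node (.node (.node (.node (.node (.leaf 175835342210001)
 (.leaf 62864692769616))
 (.node (.leaf 108862901337401)
 (.leaf 89133447466777)))
 (.node (.node (.leaf 30379853682353)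
 (.leaf 273055980472854))
 (.node (.leaf 131580096768293)
 (.leaf 160826609730220))))
 (.node (.node (.node (.leaf 152547130449089)
 (.leaf 85993505326720))
 (.node (.leaf 229144637196143)
 (.leaf 98988107096338)))
 (.node (.node (.leaf 126987466749943)
 (.leaf 42863442074309))
 (.node (.leaf 208804466320260)
 (.leaf 177420391542993)))))
 (.node (.node (.node (.node (.leaf 157945936409535)
 (.leaf 104811460910093))
 (.node (.leaf 207748010493821)
 (.leaf 228913596728371)))
 (.node (.node (.leaf 241366163050264)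
 (.leaf 192472113605887))
 (.node (.leaf 188672037120926)
 (.leaf 252909853357267))))
 (.node (.node (.node (.leaf 219906472912740)
 (.leaf 109383981677636))
 (.node (.leaf 61775352091714)
 (.leaf 151265091009674)))
 (.node (.node (.leaf 12878884683826)
 (.leaf 103038819660534))
 (.node (.leaf 135336690366602)
 (.leaf 217250143568008))))))
 (.node (.node (.node (.node (.node (.leaf 23685973104639)
 (.leaf 25797536670632))
 (.node (.leaf 51084238626021)
 (.leaf 270782954685626)))
 (.node (.node (.leaf 74852121219374)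
 (.leaf 54824528745144))
 (.node (.leaf 157443733009531)
 (.leaf 262456933735287))))
 (.node (.node (.node (.leaf 205363896034725)
 (.leaf 2598098096249))
 (.node (.leaf 236011757749469)
 (.leaf 135747340423043)))
 (.node (.node (.leaf 30008011060799)
 (.leaf 253404396443339))
 (.node (.leaf 229130326606647)
 (.leaf 86353985516871)))))
 (.node (.node (.node (.node (.leaf 208712521204185)
 (.leaf 149775165163639))
 (.node (.leaf 8290283908166)
 (.leaf 114426625561184)))
 (.node (.node (.leaf 145269897538698)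
 (.leaf 149825136434367))
 (.node (.leaf 89490010019144)
 (.leaf 173960587305524))))
 (.node (.node (.node (.leaf 88831419529270)
 (.leaf 89964425997880))
 (.node (.leaf 154540449382285)
 (.leaf 120441077298821)))
 (.node (.node (.leaf 180495964065422)
 (.leaf 212888820087336))
 (.node (.leaf 89967402386103)
 (.leaf 234010571003531))))))

def keyTB52 : RT := .node (.node (.node (.node (.node (.node (.leaf 98116339855579)
 (.leaf 134384374156075))
 (.node (.leaf 97835683284963)
 (.leaf 73826640990086)))
 (.node (.node (.leaf 271118674563004)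
 (.leaf 192267615198352))
 (.node (.leaf 96928017918695)
 (.leaf 106568874370115))))
 (.node (.node (.node (.leaf 178768425763962)
 (.leaf 125382728925496))
 (.node (.leaf 274875937925690)
 (.leaf 262494790799285)))
 (.node (.node (.leaf 80079643393961)
 (.leaf 72728232479267))
 (.node (.leaf 57082623280829)
 (.leaf 60715710441641)))))
 (.node (.node (.node (.node (.leaf 158088695900130)
 (.leaf 268790210816000))
 (.node (.leaf 259030436100578)
 (.leaf 39776872913070)))
 (.node (.node (.leaf 74156983258152)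
 (.leaf 28847632298201))
 (.node (.leaf 227255547260250)
 (.leaf 162588736006671))))
 (.node (.node (.node (.leaf 119722518718080)
 (.leaf 134764401307309))
 (.node (.leaf 222566278524555)
 (.leaf 179883732619032)))
 (.node (.node (.leaf 246468789837088)
 (.leaf 256181582984279))
 (.node (.leaf 106227060419992)
 (.leaf 206657606712088))))))
 (.node (.node (.node (.node (.node (.leaf 44129132692466)
 (.leaf 53750939478626))
 (.node (.leaf 27541430622633)
 (.leaf 78911436283969)))
 (.node (.node (.leaf 54389933000351)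
 (.leaf 131595383780385))
 (.node (.leaf 22537592412298)
 (.leaf 143856239872765))))
 (.node (.node (.node (.leaf 258590072505926)
 (.leaf 234973796967194))
 (.node (.leaf 64256132217360)
 (.leaf 228795444637258)))
 (.node (.node (.leaf 86693672604914)
 (.leaf 212332886909927))
 (.node (.leaf 65400952816158)
 (.leaf 248277456881923)))))
 (.node (.node (.node (.node (.leaf 194115739278326)
 (.leaf 190727454421030))
 (.node (.leaf 157953205604188)
 (.leaf 165181630709794)))
 (.node (.node (.leaf 147972539684499)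
 (.leaf 112913727438129))
 (.node (.leaf 8270563902853)
 (.leaf 256164545858927))))
 (.node (.node (.node (.leaf 195108119030356)
 (.leaf 2578468828131))
 (.node (.leaf 39466433566479)
 (.leaf 200416103382687)))
 (.node (.node (.leaf 54780741766028)
 (.leaf 106849295380424))
 (.node (.leaf 228983137907735)
 (.leaf 118225369514690))))))

def keyTB53 : RT := .node (.node (.node (.node (.node (.node (.leaf 23728444554236)
 (.leaf 12635359284479))
 (.node (.leaf 159979240326680)
 (.leaf 84848903947822)))
 (.node (.node (.leaf 113734516628925)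
 (.leaf 193091901633747))
 (.node (.leaf 5436237734331)
 (.leaf 243602065032))))
 (.node (.node (.node (.leaf 191918483308590)
 (.leaf 268643198327954))
 (.node (.leaf 210911073481761)
 (.leaf 186343660411645)))
 (.node (.node (.leaf 235647089626816)
 (.leaf 128386785628216))
 (.node (.leaf 8546693483786)
 (.leaf 221464650210155)))))
 (.node (.node (.node (.node (.leaf 86277641960052)
 (.leaf 210981601230376))
 (.node (.leaf 155022627270250)
 (.leaf 211025683328265)))
 (.node (.node (.leaf 213114261726568)
 (.leaf 32193064560735))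
 (.node (.leaf 54374996280915)
 (.leaf 24373463532645))))
 (.node (.node (.node (.leaf 49468204343316)
 (.leaf 3917810547577))
 (.node (.leaf 160857286066243)
 (.leaf 31613109002322)))
 (.node (.node (.leaf 255964409298212)
 (.leaf 42440209117809))
 (.node (.leaf 233582803233632)
 (.leaf 198141617337504))))))
 (.node (.node (.node (.node (.node (.leaf 109051424628532)
 (.leaf 101975753716314))
 (.node (.leaf 88946171715183)
 (.leaf 88713772729817)))
 (.node (.node (.leaf 36100667006201)
 (.leaf 207287403046003))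
 (.node (.leaf 159179947018244)
 (.leaf 12577927417140))))
 (.node (.node (.node (.leaf 129578331884081)
 (.leaf 210618320553140))
 (.node (.leaf 18436658400912)
 (.leaf 63889489157977)))
 (.node (.node (.leaf 44143667457817)
 (.leaf 242199087332216))
 (.node (.leaf 101724193583959)
 (.leaf 237682452828307)))))
 (.node (.node (.node (.node (.leaf 246693263242636)
 (.leaf 51525474480544))
 (.node (.leaf 84815852326226)
 (.leaf 152200352945925)))
 (.node (.node (.leaf 181000211075212)
 (.leaf 272340266943030))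
 (.node (.leaf 194702309730491)
 (.leaf 135357324255334))))
 (.node (.node (.node (.leaf 81165720754445)
 (.leaf 158122220496828))
 (.node (.leaf 65401321816679)
 (.leaf 155027474025254)))
 (.node (.node (.leaf 112961635727440)
 (.leaf 131838063414573))
 (.node (.leaf 86480006798115)
 (.leaf 37152732421738))))))

def keyTB54 : RT := .node (.node (.node (.node (.node (.node (.leaf 182102150820598)
 (.leaf 49181105391662))
 (.node (.leaf 114304548790284)
 (.leaf 261843408862734)))
 (.node (.node (.leaf 132796363723223)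
 (.leaf 88896839017221))
 (.node (.leaf 134552912519536)
 (.leaf 137245101044846))))
 (.node (.node (.node (.leaf 27563993186446)
 (.leaf 206671825155941))
 (.node (.leaf 237116944200011)
 (.leaf 94670941430286)))
 (.node (.node (.leaf 100020397009410)
 (.leaf 146710068915036))
 (.node (.leaf 138608602267710)
 (.leaf 188680954598498)))))
 (.node (.node (.node (.node (.leaf 85661542744420)
 (.leaf 87900869829882))
 (.node (.leaf 56437484164233)
 (.leaf 113490620693676)))
 (.node (.node (.leaf 169220030369080)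
 (.leaf 222293880650966))
 (.node (.leaf 193716542750329)
 (.leaf 141393408466032))))
 (.node (.node (.node (.leaf 15458416620711)
 (.leaf 209717283709660))
 (.node (.leaf 152656299063630)
 (.leaf 83456241812591)))
 (.node (.node (.leaf 70472209857668)
 (.leaf 275490747363982))
 (.node (.leaf 258830381639430)
 (.leaf 31506919884355))))))
 (.node (.node (.node (.node (.node (.leaf 181564483535413)
 (.leaf 209717888361486))
 (.node (.leaf 247605475988464)
 (.leaf 10323938711325)))
 (.node (.node (.leaf 1931528229363)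
 (.leaf 56457028840500))
 (.node (.leaf 159511092727321)
 (.leaf 127082534958989))))
 (.node (.node (.node (.leaf 173466106430409)
 (.leaf 9161595927288))
 (.node (.leaf 22432514856695)
 (.leaf 118846075460629)))
 (.node (.node (.leaf 18144125600306)
 (.leaf 206585005860273))
 (.node (.leaf 145576426326245)
 (.leaf 106588201379609)))))
 (.node (.node (.node (.node (.leaf 44344512952487)
 (.leaf 39026272153118))
 (.node (.leaf 200187330470300)
 (.leaf 56721640871241)))
 (.node (.node (.leaf 30910741000892)
 (.leaf 240551127387870))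
 (.node (.leaf 252732024023261)
 (.leaf 24866789097141))))
 (.node (.node (.node (.leaf 275482425819297)
 (.leaf 35984501390958))
 (.node (.leaf 217126952757167)
 (.leaf 203832555756543)))
 (.node (.node (.leaf 204777177213909)
 (.leaf 34509487478968))
 (.node (.leaf 21886287920128)
 (.leaf 88607750187042))))))

def keyTB55 : RT := .node (.node (.node (.node (.node (.node (.leaf 28879432831243)
 (.leaf 40847108727512))
 (.node (.leaf 148327547792186)
 (.leaf 10325753739458)))
 (.node (.node (.leaf 151672577251947)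
 (.leaf 39571013785332))
 (.node (.leaf 152655815358560)
 (.leaf 16470854534206))))
 (.node (.node (.node (.leaf 203509972279037)
 (.leaf 183803496354765))
 (.node (.leaf 68984244067297)
 (.leaf 89839779529364)))
 (.node (.node (.leaf 220088715090943)
 (.leaf 24434602140553))
 (.node (.leaf 31330152334791)
 (.leaf 139886414074245)))))
 (.node (.node (.node (.node (.leaf 111414121845046)
 (.leaf 60382021013753))
 (.node (.leaf 148369127963155)
 (.leaf 151191869978000)))
 (.node (.node (.leaf 122146163538801)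
 (.leaf 1613498746660))
 (.node (.leaf 278037740608545)
 (.leaf 80686506834739))))
 (.node (.node (.node (.leaf 112608981989875)
 (.leaf 139808981395636))
 (.node (.leaf 89446601032188)
 (.leaf 163220006449177)))
 (.node (.node (.leaf 256575644104378)
 (.leaf 130244150638381))
 (.node (.leaf 87959657007589)
 (.leaf 238553351774940))))))
 (.node (.node (.node (.node (.node (.leaf 113432290933304)
 (.leaf 32302307661961))
 (.node (.leaf 152823832522895)
 (.leaf 175311515914956)))
 (.node (.node (.leaf 21514700403021)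
 (.leaf 132015739166494))
 (.node (.leaf 53237795821227)
 (.leaf 48438717941374))))
 (.node (.node (.node (.leaf 204334656737134)
 (.leaf 56127025429883))
 (.node (.leaf 13359790762870)
 (.leaf 92734570396704)))
 (.node (.node (.leaf 20559939344238)
 (.leaf 261933514413403))
 (.node (.leaf 172717706454264)
 (.leaf 16862661425150)))))
 (.node (.node (.node (.node (.leaf 29059826435665)
 (.leaf 99076936097936))
 (.node (.leaf 122179237250459)
 (.leaf 150461034952994)))
 (.node (.node (.leaf 118188273936778)
 (.leaf 130459588982538))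
 (.node (.leaf 32057050183730)
 (.leaf 134079197766654))))
 (.node (.node (.node (.leaf 264541553594675)
 (.leaf 140279480783695))
 (.node (.leaf 103194701509020)
 (.leaf 238493394797589)))
 (.node (.node (.leaf 203846295525873)
 (.leaf 244327763315530))
 (.node (.leaf 189616888945184)
 (.leaf 190145525820559))))))

def keyTB56 : RT := .node (.node (.node (.node (.node (.node (.leaf 232715134949511)
 (.leaf 1284820588671))
 (.node (.leaf 181524793024311)
 (.leaf 86269204604401)))
 (.node (.node (.leaf 1301714110863)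
 (.leaf 137287902252491))
 (.node (.leaf 129879982394536)
 (.leaf 91062590009880))))
 (.node (.node (.node (.leaf 39463782672982)
 (.leaf 223178629810306))
 (.node (.leaf 120076086024191)
 (.leaf 126929161515539)))
 (.node (.node (.leaf 109205847652479)
 (.leaf 31629754470857))
 (.node (.leaf 259688494266313)
 (.leaf 87301473744454)))))
 (.node (.node (.node (.node (.leaf 135996177184028)
 (.leaf 181571784327467))
 (.node (.leaf 109347801357224)
 (.leaf 113741402073368)))
 (.node (.node (.leaf 242307769070928)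
 (.leaf 24875337928877))
 (.node (.leaf 98904757017391)
 (.leaf 41587880220813))))
 (.node (.node (.node (.leaf 74019510103206)
 (.leaf 44920075946553))
 (.node (.leaf 229128306621954)
 (.leaf 54368965015521)))
 (.node (.node (.leaf 53779687967385)
 (.leaf 90249408155603))
 (.node (.leaf 85527817488429)
 (.leaf 192444741815247))))))
 (.node (.node (.node (.node (.node (.leaf 209259195813603)
 (.leaf 136448505749174))
 (.node (.leaf 169143259709898)
 (.leaf 152632426778971)))
 (.node (.node (.leaf 89462717800624)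
 (.leaf 171485389193139))
 (.node (.leaf 107113018753526)
 (.leaf 172755211514684))))
 (.node (.node (.node (.leaf 90441934229896)
 (.leaf 137148262096073))
 (.node (.leaf 26884514158494)
 (.leaf 207980872111041)))
 (.node (.node (.leaf 60545572975186)
 (.leaf 188480145617899))
 (.node (.leaf 260900340270363)
 (.leaf 229213331742988)))))
 (.node (.node (.node (.node (.leaf 37136584538777)
 (.leaf 65372887314309))
 (.node (.leaf 199700018194126)
 (.leaf 81160549534289)))
 (.node (.node (.leaf 246484974339303)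
 (.leaf 166421477855981))
 (.node (.leaf 252925794850178)
 (.leaf 98972442424530))))
 (.node (.node (.node (.leaf 212884593489922)
 (.leaf 173171942221027))
 (.node (.leaf 107659068933390)
 (.leaf 119922472026797)))
 (.node (.node (.leaf 148504997343889)
 (.leaf 135405817013003))
 (.node (.leaf 228914911072507)
 (.leaf 32182132637081))))))

def keyTB57 : RT := .node (.node (.node (.node (.node (.node (.leaf 52184945725497)
 (.leaf 259952778367266))
 (.node (.leaf 39725410967687)
 (.leaf 112731311448465)))
 (.node (.node (.leaf 56649973774202)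
 (.leaf 248267442208630))
 (.node (.leaf 51529901142452)
 (.leaf 61233677872973))))
 (.node (.node (.node (.leaf 269218494007095)
 (.leaf 222357226768335))
 (.node (.leaf 166373857998056)
 (.leaf 93395843757381)))
 (.node (.node (.leaf 51039424095220)
 (.leaf 181391672148796))
 (.node (.leaf 217601838920072)
 (.leaf 198288348143123)))))
 (.node (.node (.node (.node (.leaf 99056741761174)
 (.leaf 4751454510645))
 (.node (.leaf 108313020765865)
 (.leaf 244341620243640)))
 (.node (.node (.leaf 265929860680638)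
 (.leaf 23855043884449))
 (.node (.leaf 12148069624227)
 (.leaf 85942633328044))))
 (.node (.node (.node (.leaf 235217361191849)
 (.leaf 24450635965930))
 (.node (.leaf 193712657768600)
 (.leaf 30104597556730)))
 (.node (.node (.leaf 161418265739582)
 (.leaf 218965954970576))
 (.node (.leaf 260884949697393)
 (.leaf 240912073811818))))))
 (.node (.node (.node (.node (.node (.leaf 227633709130376)
 (.leaf 185667018696932))
 (.node (.leaf 207423575241071)
 (.leaf 96259340592351)))
 (.node (.node (.leaf 30072037910865)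
 (.leaf 27684611050123))
 (.node (.leaf 143999264375066)
 (.leaf 220104317048888))))
 (.node (.node (.node (.leaf 33613241685382)
 (.leaf 111403753784798))
 (.node (.leaf 218131858728562)
 (.leaf 233768044455299)))
 (.node (.node (.leaf 218433777477842)
 (.leaf 38972468744902))
 (.node (.leaf 200224428119794)
 (.leaf 195422373983080)))))
 (.node (.node (.node (.node (.leaf 56727364429983)
 (.leaf 30883923853887))
 (.node (.leaf 48432728638386)
 (.leaf 11902557620210)))
 (.node (.node (.leaf 240522991772414)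
 (.leaf 248347006128799))
 (.node (.leaf 147124046425693)
 (.leaf 46139401682697))))
 (.node (.node (.node (.leaf 252693071266031)
 (.leaf 119791341089867))
 (.node (.leaf 254420730190793)
 (.leaf 24818290800057)))
 (.node (.node (.leaf 85903735765829)
 (.leaf 88700930716290))
 (.node (.leaf 241343667233550)
 (.leaf 248541218091484))))))

def keyTB58 : RT := .node (.node (.node (.node (.node (.node (.leaf 69705815082012)
 (.leaf 128126550776088))
 (.node (.leaf 194311855723275)
 (.leaf 186329893048571)))
 (.node (.node (.leaf 269923072875929)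
 (.leaf 84817880303565))
 (.node (.leaf 256159236206775)
 (.leaf 237689170450684))))
 (.node (.node (.node (.leaf 174700449642917)
 (.leaf 246685855440250))
 (.node (.leaf 149810142756173)
 (.leaf 134589702522331)))
 (.node (.node (.leaf 220450832578481)
 (.leaf 86331056581352))
 (.node (.leaf 62830430615752)
 (.leaf 51476164529807)))))
 (.node (.node (.node (.node (.leaf 96955720854914)
 (.leaf 84847234861847))
 (.node (.leaf 140917758037081)
 (.leaf 24336091402814)))
 (.node (.node (.leaf 98975272405860)
 (.leaf 166619228204839))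
 (.node (.leaf 227581667235750)
 (.leaf 36129943001241))))
 (.node (.node (.node (.leaf 237087258099899)
 (.leaf 146724921459540))
 (.node (.leaf 160831590785549)
 (.leaf 28415069927187)))
 (.node (.node (.leaf 77465739480608)
 (.leaf 95533812157703))
 (.node (.leaf 270783918386428)
 (.leaf 259017529140490))))))
 (.node (.node (.node (.node (.node (.leaf 222342463213084)
 (.leaf 245754708301666))
 (.node (.leaf 224729060750772)
 (.leaf 48751480624899)))
 (.node (.node (.leaf 74894377784722)
 (.leaf 241373125357679))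
 (.node (.leaf 191309111842767)
 (.leaf 263865462239478))))
 (.node (.node (.node (.leaf 56414529858114)
 (.leaf 151288540527482))
 (.node (.leaf 210613457183649)
 (.leaf 18418533237378)))
 (.node (.node (.leaf 134759671324100)
 (.leaf 64319512622536))
 (.node (.leaf 2240771148550)
 (.leaf 61767309132175)))))
 (.node (.node (.node (.node (.leaf 102587171251821)
 (.leaf 109242859017613))
 (.node (.leaf 219966790784113)
 (.leaf 22249071824195)))
 (.node (.node (.leaf 101549403371483)
 (.leaf 90008542273162))
 (.node (.leaf 178746806465773)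
 (.leaf 223709827879653))))
 (.node (.node (.node (.leaf 167944726906984)
 (.leaf 89145925862668))
 (.node (.leaf 30398360382351)
 (.leaf 251586605959490)))
 (.node (.node (.leaf 182081525607064)
 (.leaf 130648765098049))
 (.node (.leaf 60684532954350)
 (.leaf 37135382257930))))))

def keyTB59 : RT := .node (.node (.node (.node (.node (.node (.leaf 176686413870721)
 (.leaf 126477675199891))
 (.node (.leaf 27769846881878)
 (.leaf 250214386775763)))
 (.node (.node (.leaf 88925066577456)
 (.leaf 246472651081565))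
 (.node (.leaf 138655158062072)
 (.leaf 39497832667802))))
 (.node (.node (.node (.leaf 200420586588581)
 (.leaf 61273286903400))
 (.node (.leaf 268780944909838)
 (.leaf 89526719548566)))
 (.node (.node (.leaf 207740465071666)
 (.leaf 106562014407219))
 (.node (.leaf 221473005497341)
 (.leaf 107669645153154)))))
 (.node (.node (.node (.node (.leaf 219533803606140)
 (.leaf 137347181603737))
 (.node (.leaf 229118877796163)
 (.leaf 54368775658755)))
 (.node (.node (.leaf 24363041571469)
 (.leaf 156694770486479))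
 (.node (.leaf 254443626629585)
 (.leaf 161367314515236))))
 (.node (.node (.node (.leaf 1112679467231)
 (.leaf 103703822117926))
 (.node (.leaf 195425135766319)
 (.leaf 268247903258765)))
 (.node (.node (.leaf 67072841546065)
 (.leaf 195485313010315))
 (.node (.leaf 16439796564250)
 (.leaf 207953329100856))))))
 (.node (.node (.node (.node (.node (.leaf 106611008476550)
 (.leaf 240959121524190))
 (.node (.leaf 108334907249402)
 (.leaf 20598660903106)))
 (.node (.node (.leaf 35947383332970)
 (.leaf 209698749041591))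
 (.node (.leaf 37328846764857)
 (.leaf 103191948510000))))
 (.node (.node (.node (.leaf 183518146457047)
 (.leaf 174855372211148))
 (.node (.leaf 144688549943979)
 (.leaf 80709098884568)))
 (.node (.node (.leaf 60286470085111)
 (.leaf 22137472533445))
 (.node (.leaf 206637033421718)
 (.leaf 22427827730419)))))
 (.node (.node (.node (.node (.leaf 100739872251501)
 (.leaf 88596324727260))
 (.node (.leaf 28892735991478)
 (.leaf 11898284659211)))
 (.node (.node (.leaf 240577220058091)
 (.leaf 64442219541023))
 (.node (.leaf 104056189490653)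
 (.leaf 108328585657838))))
 (.node (.node (.node (.leaf 20555505809611)
 (.leaf 10484967409016))
 (.node (.leaf 245915376410220)
 (.leaf 173524451827661)))
 (.node (.node (.leaf 223363667748737)
 (.leaf 117174291997493))
 (.node (.leaf 181604165159185)
 (.leaf 39174590208496))))))

def keyTB60 : RT := .node (.node (.node (.node (.node (.node (.leaf 276247966846888)
 (.leaf 213082279881117))
 (.node (.leaf 156382110871874)
 (.leaf 165817437273030)))
 (.node (.node (.leaf 148381770162245)
 (.leaf 89426794226951))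
 (.node (.leaf 187679364662930)
 (.leaf 9602997909603))))
 (.node (.node (.node (.leaf 93454662792577)
 (.leaf 24438516709740))
 (.node (.leaf 40709273925743)
 (.leaf 144047989313435)))
 (.node (.node (.leaf 196610839164823)
 (.leaf 72817300936606))
 (.node (.leaf 2498973629894)
 (.leaf 99220752749286)))))
 (.node (.node (.node (.node (.leaf 151183572945178)
 (.leaf 169663464828254))
 (.node (.leaf 21549164080101)
 (.leaf 34986745813224)))
 (.node (.node (.leaf 119785654149824)
 (.leaf 25192614213235))
 (.node (.leaf 208266222297733)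
 (.leaf 257752770327378))))
 (.node (.node (.node (.leaf 138053348276545)
 (.leaf 75526366507272))
 (.node (.leaf 143057351667519)
 (.leaf 163801950831315)))
 (.node (.node (.leaf 254402088799239)
 (.leaf 176750570046539))
 (.node (.leaf 203958433233865)
 (.leaf 257817226245766))))))
 (.node (.node (.node (.node (.node (.leaf 45778146275947)
 (.leaf 32905404686806))
 (.node (.leaf 207145116882880)
 (.leaf 103841246395910)))
 (.node (.node (.leaf 112591547798441)
 (.leaf 92745273728739))
 (.node (.leaf 69608088218831)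
 (.leaf 193486355717456))))
 (.node (.node (.node (.leaf 119588156475462)
 (.leaf 238555469444405))
 (.node (.leaf 213203437307407)
 (.leaf 89830530595739)))
 (.node (.node (.leaf 156861862975751)
 (.leaf 31289609991596))
 (.node (.leaf 203944903735787)
 (.leaf 191653070910677)))))
 (.node (.node (.node (.node (.leaf 15456453739969)
 (.leaf 246031571462969))
 (.node (.leaf 197960200779578)
 (.leaf 152763470965961)))
 (.node (.node (.leaf 130285663742366)
 (.leaf 71743223959974))
 (.node (.leaf 220366190405689)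
 (.leaf 119470199877648))))
 (.node (.node (.node (.leaf 2071587218819)
 (.leaf 79062334757486))
 (.node (.leaf 156733163068815)
 (.leaf 190976884551343)))
 (.node (.node (.leaf 148297995505573)
 (.leaf 2942696097592))
 (.node (.leaf 8680214713405)
 (.leaf 196570867115750))))))

def keyTB61 : RT := .node (.node (.node (.node (.node (.node (.leaf 269495932032001)
 (.leaf 103739466571030))
 (.node (.leaf 181366932567101)
 (.leaf 217618971191187)))
 (.node (.node (.leaf 184595430424213)
 (.leaf 255369977454816))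
 (.node (.leaf 35010697973182)
 (.leaf 122894540645824))))
 (.node (.node (.node (.leaf 230674945832561)
 (.leaf 240236731953710))
 (.node (.leaf 130463368981407)
 (.leaf 23867000464628)))
 (.node (.node (.leaf 12149668034241)
 (.leaf 276246347425255))
 (.node (.leaf 34523805636198)
 (.leaf 278025516687610)))))
 (.node (.node (.node (.node (.leaf 132024947183381)
 (.leaf 56473374227927))
 (.node (.leaf 159532069843916)
 (.leaf 248292559716957)))
 (.node (.node (.leaf 147091385400091)
 (.leaf 44308767762323))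
 (.node (.leaf 211620673180422)
 (.leaf 83452209370682))))
 (.node (.node (.node (.leaf 87905849875543)
 (.leaf 68974384107986))
 (.node (.leaf 53211919255505)
 (.leaf 109576338256136)))
 (.node (.node (.leaf 217125854715293)
 (.leaf 240918549670122))
 (.node (.leaf 153742704408785)
 (.leaf 121128220309574))))))
 (.node (.node (.node (.node (.node (.leaf 185645999954719)
 (.leaf 152645942005533))
 (.node (.leaf 171523156248623)
 (.leaf 107067354500226)))
 (.node (.node (.leaf 173557052471233)
 (.leaf 223347615386013))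
 (.node (.leaf 97654060317813)
 (.leaf 10245062988850))))
 (.node (.node (.node (.leaf 137302839137911)
 (.leaf 85984149149618))
 (.node (.leaf 95524842398164)
 (.leaf 255789607404768)))
 (.node (.node (.leaf 8773502763513)
 (.leaf 233331566930083))
 (.node (.leaf 27828645828110)
 (.leaf 176721562869715)))))
 (.node (.node (.node (.node (.leaf 74837872527405)
 (.leaf 126453340134351))
 (.node (.leaf 228491326919585)
 (.leaf 234009688051140)))
 (.node (.node (.leaf 98071453320648)
 (.leaf 179458496142086))
 (.node (.leaf 210923587436943)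
 (.leaf 112726372410989))))
 (.node (.node (.node (.leaf 56629448648077)
 (.leaf 42455225480305))
 (.node (.leaf 19998853208027)
 (.leaf 190727916564106)))
 (.node (.node (.leaf 246635304304985)
 (.leaf 149862459905868))
 (.node (.leaf 205077555320329)
 (.leaf 160015448402879))))))

def keyTB62 : RT := .node (.node (.node (.node (.node (.node (.leaf 86253264793720)
 (.leaf 210990209253993))
 (.node (.leaf 1270053902536)
 (.leaf 193093263090405)))
 (.node (.node (.leaf 171360992489872)
 (.leaf 103029879231612))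
 (.node (.leaf 146679584487355)
 (.leaf 154379554388290))))
 (.node (.node (.node (.leaf 228455648561065)
 (.leaf 96938540169143))
 (.node (.leaf 29273325542904)
 (.leaf 147897796638165)))
 (.node (.node (.leaf 264839875165116)
 (.leaf 128430789786338))
 (.node (.leaf 65410607802575)
 (.leaf 42866185322982)))))
 (.node (.node (.node (.node (.leaf 112955358415441)
 (.leaf 86670806534012))
 (.node (.leaf 212289567780097)
 (.leaf 191891267065133)))
 (.node (.node (.leaf 268626469689265)
 (.leaf 188664179591831))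
 (.node (.leaf 127750450625671)
 (.leaf 53734743366914))))
 (.node (.node (.node (.leaf 253427957712029)
 (.leaf 39088481169285))
 (.node (.leaf 190113929893582)
 (.leaf 138610695130110)))
 (.node (.node (.leaf 39446574747666)
 (.leaf 200397421624057))
 (.node (.leaf 266627419449789)
 (.leaf 151284023601238))))))
 (.node (.node (.node (.node (.node (.leaf 12857144203462)
 (.leaf 246696134162500))
 (.node (.leaf 149873770075953)
 (.leaf 205110256631073)))
 (.node (.node (.leaf 58615598781236)
 (.leaf 124482743339919))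
 (.node (.leaf 155014704291877)
 (.leaf 51109895579966))))
 (.node (.node (.node (.leaf 211213039288)
 (.leaf 129563183039866))
 (.node (.leaf 237131058383566)
 (.leaf 109376535381374)))
 (.node (.node (.leaf 113782107019106)
 (.leaf 150549598159273))
 (.node (.leaf 85989327836619)
 (.leaf 88942124891676)))))
 (.node (.node (.node (.node (.leaf 3959999441937)
 (.leaf 160865963122233))
 (.node (.leaf 270150490180078)
 (.leaf 152502670698039)))
 (.node (.node (.leaf 99011047222237)
 (.leaf 212840309692547))
 (.node (.leaf 102649816261629)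
 (.leaf 206471436499934))))
 (.node (.node (.node (.leaf 236397282855900)
 (.leaf 88713500857255))
 (.node (.leaf 241365550597621)
 (.leaf 177414436458331)))
 (.node (.node (.leaf 54775793002667)
 (.leaf 251056595122840))
 (.node (.leaf 134391486610414)
 (.leaf 97848620485890))))))

def keyTB63 : RT := .node (.node (.node (.node (.node (.node (.leaf 100392355225890)
 (.leaf 216384295391367))
 (.node (.leaf 73843247911989)
 (.leaf 271133908017805)))
 (.node (.node (.leaf 261885494791712)
 (.leaf 100941760603126))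
 (.node (.leaf 236051924073227)
 (.leaf 204662411394695))))
 (.node (.node (.node (.leaf 75112015014264)
 (.leaf 155071601442031))
 (.node (.leaf 45429777026311)
 (.leaf 268819370623516)))
 (.node (.node (.leaf 47116470628501)
 (.leaf 219530869902991))
 (.node (.leaf 142673817337189)
 (.leaf 89158158988745)))))
 (.node (.node (.node (.node (.leaf 22538919237408)
 (.leaf 255913188181095))
 (.node (.leaf 49273291010629)
 (.leaf 180243921922357)))
 (.node (.node (.leaf 8560151127341)
 (.leaf 159697233369443))
 (.node (.leaf 251039433820265)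
 (.leaf 137369186696409))))
 (.node (.node (.node (.leaf 211176637997954)
 (.leaf 48676528316540))
 (.node (.leaf 86732209277849)
 (.leaf 2207200963031)))
 (.node (.node (.leaf 176686193923350)
 (.leaf 131667660245475))
 (.node (.leaf 217283521515686)
 (.leaf 250210451446934))))))
 (.node (.node (.node (.node (.node (.leaf 145467338204690)
 (.leaf 108896553847284))
 (.node (.leaf 10259510636327)
 (.leaf 259683562772390)))
 (.node (.node (.leaf 32717075864693)
 (.leaf 72348636582962))
 (.node (.leaf 16786099096492)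
 (.leaf 59653579018277))))
 (.node (.node (.node (.leaf 95567015397619)
 (.leaf 18318258322916))
 (.node (.leaf 109259704362218)
 (.leaf 226326343783017)))
 (.node (.node (.leaf 258582929062051)
 (.leaf 137413583576061))
 (.node (.leaf 29237992065025)
 (.leaf 201177519684897)))))
 (.node (.node (.node (.node (.leaf 163563017339429)
 (.leaf 278067446455964))
 (.node (.leaf 25796354210541)
 (.leaf 148463857694683)))
 (.node (.node (.leaf 57069107716496)
 (.leaf 157940871181436))
 (.node (.leaf 130693522990310)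
 (.leaf 49159729012793))))
 (.node (.node (.node (.leaf 227291020438694)
 (.leaf 232716258088779))
 (.node (.leaf 266834386570554)
 (.leaf 249475255252691)))
 (.node (.node (.leaf 236048608413763)
 (.leaf 5429887772776))
 (.node (.leaf 100043183124237)
 (.leaf 235664210112639))))))

def keyTB64 : RT := .node (.node (.node (.node (.node (.node (.leaf 5038820102885)
 (.leaf 51072692489050))
 (.node (.leaf 171364137561)
 (.leaf 114296300393613)))
 (.node (.node (.leaf 274809399497485)
 (.leaf 211203069314082))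
 (.node (.leaf 232455080233968)
 (.leaf 86489529975028))))
 (.node (.node (.node (.leaf 175159799320199)
 (.leaf 74183684747099))
 (.node (.leaf 23670650221837)
 (.leaf 25821804639585)))
 (.node (.node (.leaf 128113826479088)
 (.leaf 194277408608500))
 (.node (.leaf 269924417720535)
 (.leaf 120424583620720)))))
 (.node (.node (.node (.node (.leaf 191293813329163)
 (.leaf 35438414682897))
 (.node (.leaf 149779395258252)
 (.leaf 259056585731762)))
 (.node (.node (.leaf 7639345977907)
 (.leaf 129913635529209))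
 (.node (.leaf 140910893870340)
 (.leaf 45185980575426))))
 (.node (.node (.node (.leaf 162641397099029)
 (.leaf 118236205165532))
 (.node (.leaf 96351692599963)
 (.leaf 96636439508919)))
 (.node (.node (.leaf 192433441998044)
 (.leaf 61250091166448))
 (.node (.leaf 1540227279545)
 (.leaf 236053262774487))))))
 (.node (.node (.node (.node (.node (.leaf 226031850678540)
 (.leaf 101926500477981))
 (.node (.leaf 272368952093562)
 (.leaf 49418452145080)))
 (.node (.node (.leaf 208727529803589)
 (.leaf 126975619372926))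
 (.node (.leaf 159156964944894)
 (.leaf 213134973342357))))
 (.node (.node (.node (.leaf 201899716948367)
 (.leaf 65468621751597))
 (.node (.leaf 78908511882567)
 (.leaf 268629502298947)))
 (.node (.node (.leaf 224749321341807)
 (.leaf 207279699800861))
 (.node (.leaf 194123536390387)
 (.leaf 244453806013924)))))
 (.node (.node (.node (.node (.leaf 252906816693138)
 (.leaf 119950626002388))
 (.node (.leaf 148560134063669)
 (.leaf 216363115677)))
 (.node (.node (.leaf 218418308588856)
 (.leaf 193660541366567))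
 (.node (.leaf 126319851794745)
 (.leaf 185636766778783))))
 (.node (.node (.node (.leaf 21873217323445)
 (.leaf 67132460867986))
 (.node (.leaf 96857279877609)
 (.leaf 99168281163349)))
 (.node (.node (.leaf 127136246183611)
 (.leaf 224923031788158))
 (.node (.leaf 204474395965429)
 (.leaf 211995567667931))))))

def keyTB65 : RT := .node (.node (.node (.node (.node (.node (.leaf 174490154082862)
 (.leaf 85030822833830))
 (.node (.leaf 230653247154067)
 (.leaf 240186743575302)))
 (.node (.node (.leaf 255365523126174)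
 (.leaf 143057140265921))
 (.node (.leaf 163776057500242)
 (.leaf 35022249559019))))
 (.node (.node (.node (.leaf 122902859650331)
 (.leaf 160143529303558))
 (.node (.leaf 243558154435920)
 (.leaf 175346445867484)))
 (.node (.node (.leaf 101140794128454)
 (.leaf 107778300671285))
 (.node (.leaf 137529927947791)
 (.leaf 18177529662363)))))
 (.node (.node (.node (.node (.leaf 239497566537991)
 (.leaf 41584831849093))
 (.node (.leaf 56750047091818)
 (.leaf 30876611664642)))
 (.node (.node (.leaf 169931541239212)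
 (.leaf 134091355022982))
 (.node (.leaf 204970223031745)
 (.leaf 157723787523898))))
 (.node (.node (.node (.leaf 80711445265578)
 (.leaf 60316494597021))
 (.node (.leaf 93460438659367)
 (.leaf 196755879417966)))
 (.node (.node (.leaf 150457897835207)
 (.leaf 169595502435987))
 (.node (.leaf 275437081610664)
 (.leaf 32032763778975))))))
 (.node (.node (.node (.node (.node (.leaf 85628134906985)
 (.leaf 31539355491945))
 (.node (.leaf 66346955256053)
 (.leaf 29062771494286)))
 (.node (.node (.leaf 159945018413705)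
 (.leaf 269394896340792))
 (.node (.leaf 150290480538685)
 (.leaf 160161692076799))))
 (.node (.node (.node (.leaf 235182491800841)
 (.leaf 104085171451450))
 (.node (.leaf 69109676872046)
 (.leaf 227631849454550)))
 (.node (.node (.leaf 97014003719917)
 (.leaf 133528074936680))
 (.node (.leaf 238746584079578)
 (.leaf 222792603687708)))))
 (.node (.node (.node (.node (.leaf 204370747100632)
 (.leaf 99062150334457))
 (.node (.leaf 121113912892395)
 (.leaf 217136010751160)))
 (.node (.node (.leaf 169224495836733)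
 (.leaf 29032642849734))
 (.node (.leaf 45770071481251)
 (.leaf 262644728032005))))
 (.node (.node (.node (.leaf 253840107964403)
 (.leaf 247610077816255))
 (.node (.leaf 98471004539798)
 (.leaf 155140635088883)))
 (.node (.node (.leaf 88508247941446)
 (.leaf 64094992698295))
 (.node (.leaf 132191137295843)
 (.leaf 245428918755101))))))

def keyTB66 : RT := .node (.node (.node (.node (.node (.node (.leaf 110923714014739)
 (.leaf 925305995414))
 (.node (.leaf 127113678409269)
 (.leaf 34519799542226)))
 (.node (.node (.leaf 278007895759351)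
 (.leaf 132074790410177))
 (.node (.leaf 56472026430123)
 (.leaf 159541100263647))))
 (.node (.node (.node (.leaf 174879829861598)
 (.leaf 4765211175191))
 (.node (.leaf 88489182285648)
 (.leaf 115588121159819)))
 (.node (.node (.leaf 144667954977697)
 (.leaf 80711867272948))
 (.node (.leaf 60295156941674)
 (.leaf 93514245413604)))))
 (.node (.node (.node (.node (.leaf 147587379605982)
 (.leaf 274562837331631))
 (.node (.leaf 133565441884069)
 (.leaf 140307719792792)))
 (.node (.node (.leaf 245063476597732)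
 (.leaf 118151533884448))
 (.node (.leaf 87190118324503)
 (.leaf 118875865617146))))
 (.node (.node (.node (.leaf 89405395207993)
 (.leaf 24849808032958))
 (.node (.leaf 98939767248499)
 (.leaf 121320062931949)))
 (.node (.node (.leaf 194528543554800)
 (.leaf 21864361445329))
 (.node (.leaf 60556070511296)
 (.leaf 130469387536849))))))
 (.node (.node (.node (.node (.node (.leaf 113412640174746)
 (.leaf 40728323595448))
 (.node (.leaf 230127281728966)
 (.leaf 117192087755938)))
 (.node (.node (.leaf 181601823355480)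
 (.leaf 30116038510919))
 (.node (.leaf 243516404008741)
 (.leaf 24798320180423))))
 (.node (.node (.node (.leaf 226142307999476)
 (.leaf 141405573960724))
 (.node (.leaf 144073272206580)
 (.leaf 209316409464524)))
 (.node (.node (.leaf 161377379986034)
 (.leaf 203516574381182))
 (.node (.leaf 77645013574202)
 (.leaf 122173878127892)))))
 (.node (.node (.node (.node (.leaf 147473356592870)
 (.leaf 72157874801908))
 (.node (.leaf 88375959358391)
 (.leaf 204940142775814)))
 (.node (.node (.leaf 58425215029990)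
 (.leaf 162858884245714))
 (.node (.leaf 163801783026374)
 (.leaf 140042759972594))))
 (.node (.node (.node (.leaf 6236204974096)
 (.leaf 220253396325861))
 (.node (.leaf 51867538983708)
 (.leaf 277829941690193)))
 (.node (.node (.leaf 273204891323420)
 (.leaf 147743766214883))
 (.node (.leaf 240230998848847)
 (.leaf 44277016648271))))))

def keyTB67 : RT := .node (.node (.node (.node (.node (.node (.leaf 211641153862750)
 (.leaf 44575280264140))
 (.node (.leaf 156438690604846)
 (.leaf 153749677990411)))
 (.node (.node (.leaf 218164464174392)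
 (.leaf 163443075585059))
 (.node (.leaf 118443080818724)
 (.leaf 194524745807562))))
 (.node (.node (.node (.leaf 195694376103190)
 (.leaf 263401088906440))
 (.node (.leaf 225753612914814)
 (.leaf 147521665793266)))
 (.node (.node (.leaf 248313899547318)
 (.leaf 17680398006506))
 (.node (.leaf 41245489383633)
 (.leaf 56712612389535)))))
 (.node (.node (.node (.node (.leaf 213193056644210)
 (.leaf 184601949623486))
 (.node (.leaf 255425417803007)
 (.leaf 250519871343012)))
 (.node (.node (.leaf 253727209199724)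
 (.leaf 169540332793177))
 (.node (.leaf 204631323555406)
 (.leaf 40821800389874))))
 (.node (.node (.node (.leaf 204491432379393)
 (.leaf 126347531268008))
 (.node (.leaf 273166025285954)
 (.leaf 26916533765432)))
 (.node (.node (.leaf 213772804800825)
 (.leaf 16099815712920))
 (.node (.leaf 96839875343210)
 (.leaf 99207851778071))))))
 (.node (.node (.node (.node (.node (.leaf 10461514029238)
 (.leaf 16123409013160))
 (.node (.leaf 250522837690271)
 (.leaf 213760341627438)))
 (.node (.node (.leaf 241814526095014)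
 (.leaf 207383665577373))
 (.node (.leaf 69126225155877)
 (.leaf 154704964138704))))
 (.node (.node (.node (.leaf 124767476641800)
 (.leaf 253565531486301))
 (.node (.leaf 60367610944756)
 (.leaf 195331708536257)))
 (.node (.node (.leaf 218375359081273)
 (.leaf 112117439183977))
 (.node (.leaf 1616138255977)
 (.leaf 25230232019189)))))
 (.node (.node (.node (.node (.leaf 169210073618847)
 (.leaf 84137560258162))
 (.node (.leaf 225796236584760)
 (.leaf 265337519945181)))
 (.node (.node (.leaf 265513581219475)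
 (.leaf 119855643923928))
 (.node (.leaf 181250716117614)
 (.leaf 204745680641426))))
 (.node (.node (.node (.leaf 38992825629708)
 (.leaf 65013045426988))
 (.node (.leaf 231243346912110)
 (.leaf 152789391995812)))
 (.node (.node (.leaf 72810594350567)
 (.leaf 17672932813777))
 (.node (.leaf 49718490596200)
 (.leaf 162828820742546))))))

def keyTB68 : RT := .node (.node (.node (.node (.node (.node (.leaf 153262302117034)
 (.leaf 269609386861694))
 (.node (.leaf 64063483138618)
 (.leaf 60351634254794)))
 (.node (.node (.leaf 268227308294510)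
 (.leaf 240965422227484))
 (.node (.leaf 197403317005082)
 (.leaf 176799087249894))))
 (.node (.node (.node (.leaf 15951110763312)
 (.leaf 163238365695637))
 (.node (.leaf 113488341727221)
 (.leaf 44348185848539)))
 (.node (.node (.leaf 245883491760037)
 (.leaf 25263470681266))
 (.node (.leaf 85706487533447)
 (.leaf 40706869980049)))))
 (.node (.node (.node (.node (.leaf 68448172848233)
 (.leaf 72595658093588))
 (.node (.leaf 52419953021978)
 (.leaf 2538065081958)))
 (.node (.node (.leaf 188452008963026)
 (.leaf 147065907658452))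
 (.node (.leaf 51853909987356)
 (.leaf 42598496483264))))
 (.node (.node (.node (.leaf 9140867506502)
 (.leaf 92433267557747))
 (.node (.leaf 222297865164184)
 (.leaf 264564550021365)))
 (.node (.node (.leaf 30040649778002)
 (.leaf 136388959202203))
 (.node (.leaf 249940510357767)
 (.leaf 95870533420479))))))
 (.node (.node (.node (.node (.node (.leaf 98439615036018)
 (.leaf 138040587886698))
 (.node (.leaf 140276741834481)
 (.leaf 234880116104813)))
 (.node (.node (.leaf 173540968792087)
 (.leaf 24403284119972))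
 (.node (.leaf 207444614236370)
 (.leaf 118157685435875))))
 (.node (.node (.node (.leaf 30419670487459)
 (.leaf 146720852696299))
 (.node (.leaf 160845075982653)
 (.leaf 222346354327367)))
 (.node (.node (.leaf 191259354678561)
 (.leaf 64267421011072))
 (.node (.leaf 104805998281027)
 (.leaf 261874007717317)))))
 (.node (.node (.node (.node (.leaf 100881047807261)
 (.leaf 86235297996334))
 (.node (.leaf 222545491540300)
 (.leaf 266802870661122)))
 (.node (.node (.leaf 149765027616)
 (.leaf 60743021547186))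
 (.node (.leaf 37762950999692)
 (.leaf 257011425448653))))
 (.node (.node (.node (.leaf 149747407350457)
 (.leaf 23663897743575))
 (.node (.leaf 259013058111756)
 (.leaf 7690426194973)))
 (.node (.node (.leaf 94645745385762)
 (.leaf 120434116116615))
 (.node (.leaf 98038332322193)
 (.leaf 238813504231290))))))

def keyTB69 : RT := .node (.node (.node (.node (.node (.node (.leaf 159672857026422)
 (.leaf 251089342603700))
 (.node (.leaf 56647545003853)
 (.leaf 47082312132407)))
 (.node (.node (.leaf 35448925119720)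
 (.leaf 191463000599468))
 (.node (.leaf 33400047389954)
 (.leaf 278066066413811))))
 (.node (.node (.node (.leaf 134401566784996)
 (.leaf 93741422134506))
 (.node (.leaf 45483122956451)
 (.leaf 233632003328001)))
 (.node (.node (.leaf 198128133602593)
 (.leaf 85534912632608))
 (.node (.leaf 126449402529041)
 (.leaf 113071642620346)))))
 (.node (.node (.node (.node (.leaf 27808470739031)
 (.leaf 131813107323537))
 (.node (.leaf 35076425704517)
 (.leaf 2312041532141)))
 (.node (.node (.leaf 39966814749686)
 (.leaf 114310697600230))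
 (.node (.leaf 42871087042868)
 (.leaf 112953101713868))))
 (.node (.node (.node (.leaf 179886077798717)
 (.leaf 186471209940607))
 (.node (.leaf 278447963594655)
 (.leaf 143838960912489)))
 (.node (.node (.leaf 195152302980458)
 (.leaf 217269867021108))
 (.node (.leaf 101975447756631)
 (.leaf 131858705478142))))))
 (.node (.node (.node (.node (.node (.leaf 131712787242159)
 (.leaf 228785187673334))
 (.node (.leaf 120087421745937)
 (.leaf 145371274695813)))
 (.node (.node (.leaf 141728927737968)
 (.leaf 96678452544736))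
 (.node (.leaf 132791422063650)
 (.leaf 171263282056176))))
 (.node (.node (.node (.leaf 255610717803364)
 (.leaf 166576664314637))
 (.node (.leaf 227593551515239)
 (.leaf 12918013301688)))
 (.node (.node (.leaf 37637390805020)
 (.leaf 48766040858951))
 (.node (.leaf 209898229783518)
 (.leaf 32929951114639)))))
 (.node (.node (.node (.node (.leaf 16936155324419)
 (.leaf 273045632947603))
 (.node (.leaf 21173832309474)
 (.leaf 31619140696271)))
 (.node (.node (.leaf 237652152896154)
 (.leaf 194071467175954))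
 (.node (.leaf 244460734741241)
 (.leaf 128300481602046))))
 (.node (.node (.node (.leaf 145409254885444)
 (.leaf 5440691132936))
 (.node (.leaf 179885887999950)
 (.leaf 137300473812899)))
 (.node (.node (.leaf 54772439709617)
 (.leaf 226082892913303))
 (.node (.leaf 49182082569106)
 (.leaf 23713411487693))))))

def keyTB70 : RT := .node (.node (.node (.node (.node (.node (.leaf 74187236606135)
 (.leaf 12057301092604))
 (.node (.leaf 2587893420518)
 (.leaf 162617349372497)))
 (.node (.node (.leaf 118224331223991)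
 (.leaf 96369380866906))
 (.node (.leaf 190084598154709)
 (.leaf 242175841987516))))
 (.node (.node (.node (.leaf 174711304210446)
 (.leaf 208765110396632))
 (.node (.leaf 70199266974140)
 (.leaf 208816978303916)))
 (.node (.node (.leaf 264791589453931)
 (.leaf 128376897010948))
 (.node (.leaf 42829967803848)
 (.leaf 112906876207498)))))
 (.node (.node (.node (.node (.leaf 208673804417110)
 (.leaf 209897533256845))
 (.node (.leaf 219539097648491)
 (.leaf 186537643514786)))
 (.node (.node (.leaf 126516078339507)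
 (.leaf 259677191569257))
 (.node (.leaf 164805395852055)
 (.leaf 30013455239182))))
 (.node (.node (.node (.leaf 212838931834377)
 (.leaf 229164220424059))
 (.node (.leaf 54405653762767)
 (.leaf 53788011593061)))
 (.node (.node (.leaf 90285343815113)
 (.leaf 176479275823651))
 (.node (.leaf 263839636829452)
 (.leaf 108434396271301))))))
 (.node (.node (.node (.node (.node (.leaf 142664080004161)
 (.leaf 100341203285938))
 (.node (.leaf 177373741028827)
 (.leaf 48705391998005)))
 (.node (.node (.leaf 234016784273131)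
 (.leaf 28391032603894))
 (.node (.leaf 119718739548517)
 (.leaf 134778110810421))))
 (.node (.node (.node (.leaf 97840031284484)
 (.leaf 194392550808938))
 (.node (.leaf 123399388452791)
 (.leaf 207291958402916)))
 (.node (.node (.leaf 173990543887968)
 (.leaf 152183551256718))
 (.node (.leaf 100271831636168)
 (.leaf 2301964022539)))))
 (.node (.node (.node (.node (.leaf 101555259193844)
 (.leaf 161985369879820))
 (.node (.leaf 219965153266575)
 (.leaf 159652108572994)))
 (.node (.node (.leaf 8736208939073)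
 (.leaf 259925077234926))
 (.node (.leaf 79513761905987)
 (.leaf 193184455214483))))
 (.node (.node (.node (.leaf 236402950254936)
 (.leaf 180973727608423))
 (.node (.leaf 28857891052073)
 (.leaf 1558203504456)))
 (.node (.node (.leaf 97995105951224)
 (.leaf 207312927323367))
 (.node (.leaf 232462149180492)
 (.leaf 249508875665257))))))

def keyTB71 : RT := .node (.node (.node (.node (.node (.node (.leaf 108413034740439)
 (.leaf 229482790399574))
 (.node (.leaf 194368185356191)
 (.leaf 180512287889993)))
 (.node (.node (.leaf 204648031078232)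
 (.leaf 169030461172591))
 (.node (.leaf 226319363014500)
 (.leaf 212330464317307))))
 (.node (.node (.node (.leaf 163597621314255)
 (.leaf 94644981971194))
 (.node (.leaf 128317909719248)
 (.leaf 167929090976061)))
 (.node (.node (.leaf 7395806867801)
 (.leaf 272034919188312))
 (.node (.leaf 34763710842125)
 (.leaf 180978502800621)))))
 (.node (.node (.node (.node (.leaf 259961122227657)
 (.leaf 39759512416675))
 (.node (.leaf 104852507324810)
 (.leaf 261883434688972)))
 (.node (.node (.leaf 100885857038028)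
 (.leaf 58580739688241))
 (.node (.leaf 36110952137272)
 (.leaf 131576266845836))))
 (.node (.node (.node (.leaf 119950933459661)
 (.leaf 204089813142855))
 (.node (.leaf 173167803976515)
 (.leaf 37624048150885)))
 (.node (.node (.leaf 8313131096638)
 (.leaf 175810607726900))
 (.node (.leaf 45844996147949)
 (.leaf 158093670810000))))))
 (.node (.node (.node (.node (.node (.leaf 260364963258488)
 (.leaf 16959484693679))
 (.node (.leaf 232686614859099)
 (.leaf 93753670419490)))
 (.node (.node (.leaf 45838818384070)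
 (.leaf 114474309800415))
 (.node (.leaf 251589170642730)
 (.leaf 206662144538031))))
 (.node (.node (.node (.leaf 2281986361854)
 (.leaf 227273601330359))
 (.node (.leaf 216350869214768)
 (.leaf 169046543654978)))
 (.node (.node (.leaf 165136553382154)
 (.leaf 148013079336577))
 (.node (.leaf 260374829179623)
 (.leaf 223749486373006)))))
 (.node (.node (.node (.node (.leaf 100000575012607)
 (.leaf 175802848798483))
 (.node (.leaf 20011487599756)
 (.leaf 48657069146942)))
 (.node (.node (.leaf 234978316052411)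
 (.leaf 28382428444509))
 (.node (.leaf 106801592334819)
 (.leaf 100320404723878))))
 (.node (.node (.node (.leaf 89510850099573)
 (.leaf 262495430794380))
 (.node (.leaf 193227613115945)
 (.leaf 262445604473608)))
 (.node (.node (.leaf 109015644843183)
 (.leaf 27586301912310))
 (.node (.leaf 210585600451687)
 (.leaf 18455481733701))))))

def keyTB72 : RT := .node (.node (.node (.node (.node (.node (.leaf 106837066222312)
 (.leaf 169720681138177))
 (.node (.leaf 164825206905991)
 (.leaf 11425892110587)))
 (.node (.node (.leaf 148360182249481)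
 (.leaf 9583539081410))
 (.node (.leaf 119792577561220)
 (.leaf 176793368504267))))
 (.node (.node (.node (.leaf 203939242537351)
 (.leaf 119580937527751))
 (.node (.leaf 238590061498023)
 (.leaf 183812127202020)))
 (.node (.node (.leaf 230087176240636)
 (.leaf 6228866423616))
 (.node (.leaf 220259900577967)
 (.leaf 277784313032469)))))
 (.node (.node (.node (.node (.leaf 169316582643587)
 (.leaf 261921043900663))
 (.node (.leaf 147698175907948)
 (.leaf 225801385120690)))
 (.node (.node (.leaf 148210274527288)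
 (.leaf 151679002373566))
 (.node (.leaf 119862914636106)
 (.leaf 578136804110))))
 (.node (.node (.node (.leaf 147134211226399)
 (.leaf 30897547222621))
 (.node (.leaf 163257899754433)
 (.leaf 200213884644382)))
 (.node (.node (.leaf 274547472789532)
 (.leaf 197392056259270))
 (.node (.leaf 112104006665970)
 (.leaf 101177972748863))))))
 (.node (.node (.node (.node (.node (.leaf 30163877181426)
 (.leaf 147497508139774))
 (.node (.leaf 44537533943561)
 (.leaf 156427939172591)))
 (.node (.node (.leaf 15987943798201)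
 (.leaf 72605149911877))
 (.node (.leaf 124772244800362)
 (.leaf 72174786660491))))
 (.node (.node (.node (.leaf 9573389815068)
 (.leaf 88439301806262))
 (.node (.leaf 147168507193125)
 (.leaf 122915016293478)))
 (.node (.node (.leaf 19384467297503)
 (.leaf 66342554268777))
 (.node (.leaf 224792953912564)
 (.leaf 231292389711818)))))
 (.node (.node (.node (.node (.leaf 32339360852383)
 (.leaf 121121203532530))
 (.node (.leaf 203832443324145)
 (.leaf 31485747452817)))
 (.node (.node (.leaf 56912022441253)
 (.leaf 26981935456726))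
 (.node (.leaf 245099868106519)
 (.leaf 96256298996190))))
 (.node (.node (.node (.leaf 253722960863721)
 (.leaf 163946425662898))
 (.node (.leaf 204748338461383)
 (.leaf 193909172250228)))
 (.node (.node (.leaf 256422540639992)
 (.leaf 102831238145271))
 (.node (.leaf 181261337496346)
 (.leaf 256559462923217))))))

def keyTB73 : RT := .node (.node (.node (.node (.node (.node (.leaf 113586798564200)
 (.leaf 269499887993066))
 (.node (.leaf 213060623714179)
 (.leaf 156397451509235)))
 (.node (.node (.leaf 115611431212403)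
 (.leaf 147565530095348))
 (.node (.leaf 207880285926662)
 (.leaf 114797689951927))))
 (.node (.node (.node (.leaf 42574536911021)
 (.leaf 10324180801056))
 (.node (.leaf 87923826865378)
 (.leaf 37374263263482)))
 (.node (.node (.leaf 113327407274207)
 (.leaf 2897350502447))
 (.node (.leaf 102837272730529)
 (.leaf 233745230217473)))))
 (.node (.node (.node (.node (.leaf 258839235594007)
 (.leaf 84160868791561))
 (.node (.leaf 2088264606116)
 (.leaf 220381032562882)))
 (.node (.node (.leaf 269653465763946)
 (.leaf 68468421106622))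
 (.node (.leaf 127120655462125)
 (.leaf 234217410797928))))
 (.node (.node (.node (.leaf 173511805570266)
 (.leaf 222302773848888))
 (.node (.leaf 41259488396895)
 (.leaf 224799631141515)))
 (.node (.node (.leaf 238737437869797)
 (.leaf 204344811788197))
 (.node (.leaf 193452917798197)
 (.leaf 153737233370226))))))
 (.node (.node (.node (.node (.node (.leaf 17209414883046)
 (.leaf 9156599478475))
 (.node (.leaf 139791663020621)
 (.leaf 52655449695454)))
 (.node (.node (.leaf 171505264181381)
 (.leaf 107098893165889))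
 (.node (.leaf 90483141632567)
 (.leaf 137131086642383))))
 (.node (.node (.node (.leaf 240901490092065)
 (.leaf 144092276181703))
 (.node (.leaf 196630628361844)
 (.leaf 204937888384933)))
 (.node (.node (.leaf 220299692977943)
 (.leaf 234854498978212))
 (.node (.leaf 15427492891890)
 (.leaf 246072420742145)))))
 (.node (.node (.node (.node (.leaf 31297850801839)
 (.leaf 257829738545061))
 (.node (.leaf 211995752933223)
 (.leaf 69587213942038)))
 (.node (.node (.leaf 263379138472427)
 (.leaf 87393638106325))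
 (.node (.leaf 174179889198624)
 (.leaf 141411100805985))))
 (.node (.node (.node (.leaf 238467139476979)
 (.leaf 49718663932886))
 (.node (.leaf 92477356947703)
 (.leaf 174193137784433)))
 (.node (.node (.leaf 97226119683470)
 (.leaf 2938599635045))
 (.node (.leaf 196646017803969)
 (.leaf 121326969941126))))))

def keyTB74 : RT := .node (.node (.node (.node (.node (.node (.leaf 6198211383309)
 (.leaf 165818086225486))
 (.node (.leaf 148406623961101)
 (.leaf 151718306388298)))
 (.node (.node (.leaf 39541970867899)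
 (.leaf 44607302079966))
 (.node (.leaf 56134396122540)
 (.leaf 138012608079296))))
 (.node (.node (.node (.leaf 44603332845392)
 (.leaf 92740534249162))
 (.node (.leaf 269610955336512)
 (.leaf 236403792362431)))
 (.node (.node (.leaf 107619703808022)
 (.leaf 211206090916599))
 (.node (.leaf 2255742853698)
 (.leaf 24332559407354)))))
 (.node (.node (.node (.node (.leaf 79520099361483)
 (.leaf 234982036674371))
 (.node (.leaf 52198584740981)
 (.leaf 93774213472439)))
 (.node (.node (.leaf 180199768026379)
 (.leaf 130649198419165))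
 (.node (.leaf 186382926363788)
 (.leaf 12080605923393))))
 (.node (.node (.node (.leaf 123359208212018)
 (.leaf 251600783826179))
 (.node (.leaf 165273352032650)
 (.leaf 7393837107644)))
 (.node (.node (.leaf 5078458614328)
 (.leaf 35395774442025))
 (.node (.leaf 193975648000578)
 (.leaf 228784252254374))))))
 (.node (.node (.node (.node (.node (.leaf 11457151064272)
 (.leaf 244482857507579))
 (.node (.leaf 239233738827707)
 (.leaf 32768031945027)))
 (.node (.node (.leaf 63842596573475)
 (.leaf 44184784685783))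
 (.node (.leaf 176508107305439)
 (.leaf 37742517571650))))
 (.node (.node (.node (.leaf 25806347417432)
 (.leaf 70164626423452))
 (.node (.leaf 4570625486921)
 (.leaf 75165889141086)))
 (.node (.node (.leaf 171348178109284)
 (.leaf 132809804813536))
 (.node (.leaf 169025126877579)
 (.leaf 5447143994889)))))
 (.node (.node (.node (.node (.leaf 152517521748143)
 (.leaf 148503690253453))
 (.node (.leaf 32171210488409)
 (.leaf 224729388076435)))
 (.node (.node (.leaf 57086336693517)
 (.leaf 165174544826695))
 (.node (.leaf 72346800762454)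
 (.leaf 194387926033267))))
 (.node (.node (.node (.leaf 78145747983121)
 (.leaf 90008033838135))
 (.node (.leaf 102550361300278)
 (.leaf 87344860373022)))
 (.node (.node (.leaf 233726583161127)
 (.leaf 15984695330663))
 (.node (.leaf 8707173866626)
 (.leaf 193922356137992))))))

def keyTB75 : RT := .node (.node (.node (.node (.node (.node (.leaf 111411432254252)
 (.leaf 199734257368189))
 (.node (.leaf 4758842160819)
 (.leaf 108333695354564)))
 (.node (.node (.leaf 174706604609458)
 (.leaf 109355792699708))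
 (.node (.leaf 246691015279828)
 (.leaf 149873599536253))))
 (.node (.node (.node (.leaf 183510846307656)
 (.leaf 174885417133756))
 (.node (.leaf 242329098954148)
 (.leaf 24858368797025)))
 (.node (.node (.leaf 12132798605110)
 (.leaf 144685504627172))
 (.node (.leaf 80712730654387)
 (.leaf 60322109580996)))))
 (.node (.node (.node (.node (.leaf 228444727047424)
 (.leaf 96938920845766))
 (.node (.leaf 29211269014948)
 (.leaf 74074812732454)))
 (.node (.node (.leaf 44898448475673)
 (.leaf 229175156395651))
 (.node (.leaf 54387503563198)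
 (.leaf 84843481212441))))
 (.node (.node (.node (.leaf 140875888504613)
 (.leaf 147886592390110))
 (.node (.leaf 264793896921224)
 (.leaf 128375016107954)))
 (.node (.node (.leaf 65364958396732)
 (.leaf 42865056580820))
 (.node (.leaf 112928996297853)
 (.leaf 160172592185201))))))
 (.node (.node (.node (.node (.node (.leaf 235171904124452)
 (.leaf 64452097403995))
 (.node (.leaf 104089275853838)
 (.leaf 69116807984166)))
 (.node (.node (.leaf 227628162410009)
 (.leaf 181619206094982))
 (.node (.leaf 209306985768932)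
 (.leaf 136409687668420))))
 (.node (.node (.node (.leaf 169172408160303)
 (.leaf 152688900855773))
 (.node (.leaf 89415222001398)
 (.leaf 171522132531184)))
 (.node (.node (.leaf 107097548130426)
 (.leaf 20564645216303))
 (.node (.leaf 10473055550133)
 (.leaf 245901974938972)))))
 (.node (.node (.node (.node (.leaf 96975101213852)
 (.leaf 133546655162571))
 (.node (.leaf 238782218511185)
 (.leaf 222840299089224)))
 (.node (.node (.leaf 204337516471996)
 (.leaf 198308948243876))
 (.node (.leaf 99081828088161)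
 (.leaf 121123707541302))))
 (.node (.node (.node (.leaf 193479507046884)
 (.leaf 217118517085875))
 (.node (.leaf 203843556234948)
 (.leaf 194275381394277)))
 (.node (.node (.leaf 255629313558637)
 (.leaf 166606889401042))
 (.node (.leaf 227557799523957)
 (.leaf 266612508249173))))))

def keyTB76 : RT := .node (.node (.node (.node (.node (.node (.leaf 134560728382208)
 (.leaf 151294327949352))
 (.node (.leaf 12868646139044)
 (.leaf 37614588858502)))
 (.node (.node (.leaf 88812230256612)
 (.leaf 48748384331460))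
 (.node (.leaf 74889104568367)
 (.leaf 113760133027184))))
 (.node (.node (.node (.leaf 229191338075891)
 (.leaf 37114468027415))
 (.node (.leaf 65374187963604)
 (.leaf 81177120615043)))
 (.node (.node (.leaf 246463876475133)
 (.leaf 166406110724351))
 (.node (.leaf 252928347607388)
 (.leaf 98999195247247)))))
 (.node (.node (.node (.node (.leaf 212856371887233)
 (.leaf 173149868733988))
 (.node (.leaf 119966740714375)
 (.leaf 148558663795206)))
 (.node (.node (.leaf 205119828765315)
 (.leaf 160036569110781))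
 (.node (.leaf 58616958761423)
 (.leaf 36098894460790))))
 (.node (.node (.node (.leaf 124463420473962)
 (.leaf 248525736870328))
 (.node (.leaf 50960895884069)
 (.leaf 147929820940471)))
 (.node (.node (.leaf 209925307295384)
 (.leaf 228883392620167))
 (.node (.leaf 32953787331371)
 (.leaf 16906111347478))))))
 (.node (.node (.node (.node (.node (.leaf 273022523376896)
 (.leaf 21186642809286))
 (.node (.leaf 31658412721572)
 (.leaf 44895846974502)))
 (.node (.node (.leaf 256172113084035)
 (.leaf 237672943956414))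
 (.node (.leaf 194102776788505)
 (.leaf 244496482217765))))
 (.node (.node (.node (.leaf 16769687790558)
 (.leaf 59711959832712))
 (.node (.leaf 78933950025650)
 (.leaf 268643517800764)))
 (.node (.node (.leaf 91077789594836)
 (.leaf 1238187822205))
 (.node (.leaf 67119989098958)
 (.leaf 195484969702007)))))
 (.node (.node (.node (.node (.leaf 147499668326281)
 (.leaf 269458441065948))
 (.node (.leaf 39178642960830)
 (.leaf 276213581860720)))
 (.node (.node (.leaf 213041206899871)
 (.leaf 156384856275656))
 (.node (.leaf 275494856356052)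
 (.leaf 169125192320996))))
 (.node (.node (.node (.leaf 22150497906060)
 (.leaf 207176110770305))
 (.node (.leaf 88507790384538)
 (.leaf 115601811545233)))
 (.node (.node (.leaf 156868684198204)
 (.leaf 197386491225456))
 (.node (.leaf 238563198240499)
 (.leaf 107128645375188))))))

def keyTB77 : RT := .node (.node (.node (.node (.node (.node (.leaf 75581514796157)
 (.leaf 143042769398403))
 (.node (.leaf 41602654456542)
 (.leaf 93399847892730)))
 (.node (.node (.leaf 51019058621525)
 (.leaf 181393061769235))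
 (.node (.leaf 217620402142335)
 (.leaf 198304016283446))))
 (.node (.node (.node (.leaf 99062078194148)
 (.leaf 244362043542251))
 (.node (.leaf 265896981735665)
 (.leaf 23847992266999)))
 (.node (.node (.leaf 12117436338058)
 (.leaf 85922842970144))
 (.node (.leaf 235167624298708)
 (.leaf 24462846633778)))))
 (.node (.node (.node (.node (.leaf 117211787625178)
 (.leaf 193712645712159))
 (.node (.leaf 30149710271012)
 (.leaf 161413376715474)))
 (.node (.node (.leaf 218969882740341)
 (.leaf 227654552148835))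
 (.node (.leaf 185647336184408)
 (.leaf 207445707008684))))
 (.node (.node (.node (.leaf 96267504410417)
 (.leaf 93523268893419))
 (.node (.leaf 11920734185713)
 (.leaf 196808673534199)))
 (.node (.node (.leaf 150456195088266)
 (.leaf 147595637369983))
 (.node (.leaf 96858460154817)
 (.leaf 165792699277128))))))
 (.node (.node (.node (.node (.node (.leaf 148372442199644)
 (.leaf 274569637927154))
 (.node (.leaf 133522226193578)
 (.leaf 134026655276263)))
 (.node (.node (.leaf 242349675483810)
 (.leaf 1117717894401))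
 (.node (.leaf 183510642546419)
 (.leaf 227916312528838))))
 (.node (.node (.node (.leaf 147583320880007)
 (.leaf 206103412245111))
 (.node (.leaf 246731762891224)
 (.leaf 101223930768914)))
 (.node (.node (.leaf 114786627068246)
 (.leaf 42585682458092))
 (.node (.leaf 247632454406001)
 (.leaf 10323794957860)))))
 (.node (.node (.node (.node (.leaf 51882304670811)
 (.leaf 234237306391566))
 (.node (.leaf 87945995777062)
 (.leaf 122154410739225)))
 (.node (.node (.leaf 136441632391302)
 (.leaf 35994081007581))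
 (.node (.leaf 209692286537462)
 (.leaf 37315188234224))))
 (.node (.node (.node (.leaf 103167238207610)
 (.leaf 115593523047093))
 (.node (.leaf 27675144613020)
 (.leaf 52656097792203)))
 (.node (.node (.leaf 16133682979665)
 (.leaf 253532461604168))
 (.node (.leaf 16900570580668)
 (.leaf 98430657078692))))))

def keyTB78 : RT := .node (.node (.node (.node (.node (.node (.leaf 155127882357089)
 (.leaf 139899344176950))
 (.node (.leaf 101116814148068)
 (.leaf 175353330984627)))
 (.node (.node (.leaf 88648664622174)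
 (.leaf 234029762521292))
 (.node (.leaf 98130577976101)
 (.leaf 204679017834184))))
 (.node (.node (.node (.leaf 23702626612506)
 (.leaf 25813624415420))
 (.node (.leaf 252901500618736)
 (.leaf 150507149432954)))
 (.node (.node (.leaf 86014762011585)
 (.leaf 88931654262218))
 (.node (.leaf 253399313986698)
 (.leaf 229131613487737)))))
 (.node (.node (.node (.node (.leaf 178784883292112)
 (.leaf 3984988205451))
 (.node (.leaf 101930533483777)
 (.leaf 248227855972376)))
 (.node (.node (.leaf 81221153982195)
 (.leaf 246437740989463))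
 (.node (.leaf 86709591982754)
 (.leaf 212318375870671))))
 (.node (.node (.node (.leaf 250239170869078)
 (.leaf 145445022494578))
 (.node (.leaf 208764603765447)
 (.leaf 149795000739961)))
 (.node (.node (.leaf 70177934822816)
 (.leaf 208824386426568))
 (.node (.leaf 201177037875553)
 (.leaf 154357065935638))))))
 (.node (.node (.node (.node (.node (.leaf 220748993972958)
 (.leaf 119969762453302))
 (.node (.leaf 61770096838323)
 (.leaf 8576086943428)))
 (.node (.node (.leaf 98044578900715)
 (.leaf 238839051745521))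
 (.node (.leaf 85489981691812)
 (.leaf 192464353822662))))
 (.node (.node (.node (.leaf 88685353712384)
 (.leaf 241376336280245))
 (.node (.leaf 248512964396732)
 (.leaf 69686016573652)))
 (.node (.node (.leaf 128130948282514)
 (.leaf 194282435629510))
 (.node (.leaf 186298554892069)
 (.leaf 269893020838755)))))
 (.node (.node (.node (.node (.leaf 84831728308005)
 (.leaf 256129494254558))
 (.node (.leaf 237687442167944)
 (.leaf 134600189143788)))
 (.node (.node (.leaf 220427423589007)
 (.leaf 86312784152475))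
 (.node (.leaf 51522852118174)
 (.leaf 96952183865363))))
 (.node (.node (.node (.leaf 84821491809810)
 (.leaf 140933863991177))
 (.node (.leaf 24340452914735)
 (.leaf 98992976632504)))
 (.node (.node (.leaf 227566942312472)
 (.leaf 36098716329370))
 (.node (.leaf 237103919031593)
 (.leaf 237134031888138))))))

def keyTB79 : RT := .node (.node (.node (.node (.node (.node (.leaf 146724650747223)
 (.leaf 160834909853719))
 (.node (.leaf 28442236799601)
 (.leaf 77482351742164)))
 (.node (.node (.leaf 270817138721951)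
 (.leaf 259069668891336))
 (.node (.leaf 48786761901560)
 (.leaf 74840680133359))))
 (.node (.node (.node (.leaf 191297245529246)
 (.leaf 263851788199575))
 (.node (.leaf 56363045221748)
 (.leaf 222564613241580)))
 (.node (.node (.leaf 179850071868047)
 (.leaf 246483604129691))
 (.node (.leaf 138638389353988)
 (.leaf 186471436971678)))))
 (.node (.node (.node (.node (.leaf 207790257866633)
 (.leaf 64257589098679))
 (.node (.leaf 104799479589326)
 (.leaf 270165579108070)))
 (.node (.node (.leaf 152524005766793)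
 (.leaf 209931741846551))
 (.node (.leaf 228837989453274)
 (.leaf 19941094631259))))
 (.node (.node (.node (.leaf 74059636739858)
 (.leaf 44929593165058))
 (.node (.leaf 255825178045272)
 (.leaf 199761204590330)))
 (.node (.node (.leaf 228489507236949)
 (.leaf 21179524773405))
 (.node (.leaf 140889741773667)
 (.leaf 208679686056536))))))
 (.node (.node (.node (.node (.node (.leaf 154514594007244)
 (.leaf 53595863505749))
 (.node (.leaf 175137473797808)
 (.leaf 192255548721886)))
 (.node (.node (.leaf 138204056080398)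
 (.leaf 45189965698329))
 (.node (.leaf 75152202614556)
 (.leaf 89497395341260))))
 (.node (.node (.node (.leaf 173960896670254)
 (.leaf 179846290738021))
 (.node (.leaf 137286309570669)
 (.leaf 12602251856594)))
 (.node (.node (.leaf 158057878673013)
 (.leaf 262497406905429))
 (.node (.leaf 205371662506024)
 (.leaf 2599989347492)))))
 (.node (.node (.node (.node (.leaf 157936782696582)
 (.leaf 208736883423204))
 (.node (.leaf 39501733638191)
 (.leaf 86244275134719)))
 (.node (.node (.leaf 210993213141340)
 (.leaf 1283514872463))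
 (.node (.leaf 193090555694209)
 (.leaf 171318892570148))))
 (.node (.node (.node (.leaf 103035546247706)
 (.leaf 146659836707719))
 (.node (.leaf 154410052657670)
 (.leaf 70169526135247)))
 (.node (.node (.leaf 208788678305654)
 (.leaf 134767373146917))
 (.node (.leaf 186512661096088)
 (.leaf 169686046017159))))))

def keyTB80 : RT := .node (.node (.node (.node (.node (.node (.leaf 14796450063147)
 (.leaf 129200036797206))
 (.node (.leaf 8253052855552)
 (.leaf 223179588882886)))
 (.node (.node (.leaf 87317802370468)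
 (.leaf 65479357760550))
 (.node (.leaf 54780453023363)
 (.leaf 226036706046398))))
 (.node (.node (.node (.leaf 135332532143641)
 (.leaf 134386935363720))
 (.node (.leaf 33438659321778)
 (.leaf 181489941033276)))
 (.node (.node (.leaf 209272901280477)
 (.leaf 156732455133314))
 (.node (.leaf 243579606162093)
 (.leaf 175341890077402)))))
 (.node (.node (.node (.node (.leaf 121368252195081)
 (.leaf 277826759206298))
 (.node (.leaf 200232016782098)
 (.leaf 274593333920072)))
 (.node (.node (.leaf 111447396352335)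
 (.leaf 60369283678375))
 (.node (.leaf 24402949972506)
 (.leaf 121300762534791))))
 (.node (.node (.node (.leaf 194514308162054)
 (.leaf 21895947135159))
 (.node (.leaf 60545762049637)
 (.leaf 130447298912552)))
 (.node (.node (.leaf 132182854828702)
 (.leaf 245409065573862))
 (.node (.leaf 152676731306001)
 (.leaf 89418831058710))))))
 (.node (.node (.node (.node (.node (.leaf 130237301571127)
 (.leaf 71749717577318))
 (.node (.leaf 113442056155576)
 (.leaf 163903982929034)))
 (.node (.node (.leaf 48394152346077)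
 (.leaf 172717401844092))
 (.node (.leaf 244314720454394)
 (.leaf 265928989289557))))
 (.node (.node (.node (.leaf 23855171633171)
 (.leaf 12143500119167))
 (.node (.leaf 169192373735186)
 (.leaf 29063568250114)))
 (.node (.node (.leaf 45830363390935)
 (.leaf 262584818881243))
 (.node (.leaf 223807078935213)
 (.leaf 169575199275040)))))
 (.node (.node (.node (.node (.leaf 204598798000296)
 (.leaf 222239010835039))
 (.node (.leaf 41296499730310)
 (.leaf 30858984250806)))
 (.node (.node (.leaf 163269916139961)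
 (.leaf 193879275359195))
 (.node (.leaf 125694980867371)
 (.leaf 224835197079817))))
 (.node (.node (.node (.leaf 263087329822106)
 (.leaf 85022127025795))
 (.node (.leaf 7294230258110)
 (.leaf 269422515294550)))
 (.node (.node (.leaf 150311581894124)
 (.leaf 134517494695844))
 (.node (.leaf 17186439751622)
 (.leaf 185673426206501))))))

def keyTB81 : RT := .node (.node (.node (.node (.node (.node (.leaf 89822507798450)
 (.leaf 155162775790804))
 (.node (.leaf 145581552811133)
 (.leaf 268246369377004)))
 (.node (.node (.leaf 49741523690127)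
 (.leaf 241785969600411))
 (.node (.leaf 101171910524420)
 (.leaf 208005212598154))))
 (.node (.node (.node (.leaf 188476583938184)
 (.leaf 260870402393629))
 (.node (.leaf 156704987442572)
 (.leaf 161413959399286)))
 (.node (.node (.leaf 103730226763800)
 (.leaf 195390455329962))
 (.node (.leaf 67106432318555)
 (.leaf 195498035686414)))))
 (.node (.node (.node (.node (.leaf 16452808346293)
 (.leaf 106605186770424))
 (.node (.leaf 240959505765103)
 (.leaf 108367680916149)))
 (.node (.node (.leaf 35960829693084)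
 (.leaf 209663629040968))
 (.node (.leaf 37317932892363)
 (.leaf 103170570953553))))
 (.node (.node (.node (.leaf 22167572319295)
 (.leaf 206578645902042))
 (.node (.leaf 22426276827270)
 (.leaf 100699139893074)))
 (.node (.node (.leaf 11935752398728)
 (.leaf 240525517343576))
 (.node (.leaf 64424665024658)
 (.leaf 104076464808390))))))
 (.node (.node (.node (.node (.node (.leaf 108352987196126)
 (.leaf 20585382944782))
 (.node (.leaf 10507478365896)
 (.leaf 173524705185611)))
 (.node (.node (.leaf 223346510297118)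
 (.leaf 117217277689649))
 (.node (.leaf 181558026790382)
 (.leaf 213059994628573))))
 (.node (.node (.node (.leaf 156384301599100)
 (.leaf 165756719816128))
 (.node (.leaf 187704742873375)
 (.leaf 187737006993265)))
 (.node (.node (.leaf 9568205556721)
 (.leaf 93424931356897))
 (.node (.leaf 24400826792424)
 (.leaf 40682642696779)))))
 (.node (.node (.node (.node (.leaf 196661055473151)
 (.leaf 72815320504158))
 (.node (.leaf 2523855422594)
 (.leaf 151218857075850)))
 (.node (.node (.leaf 169665458442873)
 (.leaf 21528505235408))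
 (.node (.leaf 75580993564069)
 (.leaf 143017890334265))))
 (.node (.node (.node (.leaf 163815701501798)
 (.leaf 176764014929779))
 (.node (.leaf 203911965952853)
 (.leaf 257809111256032)))
 (.node (.node (.leaf 33649108425178)
 (.leaf 261911202430015))
 (.node (.leaf 258808452899546)
 (.leaf 31491141263494))))))

def keyTB82 : RT := .node (.node (.node (.node (.node (.node (.leaf 23897674708818)
 (.leaf 276248493770084))
 (.node (.leaf 34518778153716)
 (.leaf 56962324735880)))
 (.node (.node (.leaf 26963141573464)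
 (.leaf 68940271384264))
 (.node (.leaf 207338581689600)
 (.leaf 183785715549278))))
 (.node (.node (.node (.leaf 39229759050379)
 (.leaf 230135410431018))
 (.node (.leaf 227904827129875)
 (.leaf 206139639349104)))
 (.node (.node (.leaf 246754667353144)
 (.leaf 51025182871947))
 (.node (.leaf 155168848119516)
 (.leaf 136447268854939)))))
 (.node (.node (.node (.node (.leaf 169176051289134)
 (.leaf 127145676788060))
 (.node (.leaf 224924989033509)
 (.leaf 4777651710720)))
 (.node (.node (.leaf 160135682492092)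
 (.leaf 51841853125931))
 (.node (.leaf 234203613347474)
 (.leaf 10470677808632))))
 (.node (.node (.node (.leaf 245915315258095)
 (.leaf 173506191129261))
 (.node (.leaf 163950478792106)
 (.leaf 185540570704001)))
 (.node (.node (.leaf 227753070707915)
 (.leaf 70439701287623))
 (.node (.leaf 103240066549668)
 (.leaf 101262085125777))))))
 (.node (.node (.node (.node (.node (.leaf 197479248652147)
 (.leaf 25241373058416))
 (.node (.leaf 85759005554444)
 (.leaf 77612016602471)))
 (.node (.node (.leaf 171471965889576)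
 (.leaf 83426959695956))
 (.node (.leaf 258844189739470)
 (.leaf 31509733302903))))
 (.node (.node (.node (.leaf 52386664994697)
 (.leaf 13336530986460))
 (.node (.leaf 197432845329567)
 (.leaf 278005454651604)))
 (.node (.node (.leaf 240578094009754)
 (.leaf 151248626699409))
 (.node (.leaf 1644850737468)
 (.leaf 222241123276531)))))
 (.node (.node (.node (.node (.leaf 277982420245123)
 (.leaf 132037818206461))
 (.node (.leaf 32073260513074)
 (.leaf 156071453708836)))
 (.node (.node (.leaf 169876067858037)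
 (.leaf 66373749179764))
 (.node (.leaf 159970065955416)
 (.leaf 150330914275121))))
 (.node (.node (.node (.leaf 193892816931967)
 (.leaf 125735930719169))
 (.node (.leaf 224799182364488)
 (.leaf 263058768737884)))
 (.node (.node (.leaf 88626040702209)
 (.leaf 243511213572727))
 (.node (.leaf 66847510735320)
 (.leaf 1977398976018))))))

def keyTB83 : RT := .node (.node (.node (.node (.node (.node (.leaf 196584332075350)
 (.leaf 231277244794348))
 (.node (.leaf 10361225473905)
 (.leaf 256416742794788)))
 (.node (.node (.leaf 134125477420123)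
 (.leaf 136379353283598))
 (.node (.leaf 189604933723174)
 (.leaf 113548303513113))))
 (.node (.node (.node (.leaf 122120669915101)
 (.leaf 253801953779446))
 (.node (.leaf 156424476129264)
 (.leaf 188470672849018)))
 (.node (.node (.leaf 139894168887343)
 (.leaf 72194237243595))
 (.node (.leaf 206600375310689)
 (.leaf 229235346040313)))))
 (.node (.node (.node (.node (.leaf 37116374410897)
 (.leaf 97705637033257))
 (.node (.leaf 10302330692137)
 (.leaf 191508854834823)))
 (.node (.node (.leaf 33407429656330)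
 (.leaf 181516043507916))
 (.node (.leaf 236450864004544)
 (.leaf 192217601646839))))
 (.node (.node (.node (.leaf 130672834276084)
 (.leaf 60705304043530))
 (.node (.leaf 186399339475750)
 (.leaf 48751388047001)))
 (.node (.node (.leaf 101544159598205)
 (.leaf 90019684023961))
 (.node (.leaf 175795523966095)
 (.leaf 36084519087525))))))
 (.node (.node (.node (.node (.node (.leaf 237143285835124)
 (.leaf 176501746457443))
 (.node (.leaf 263837996714584)
 (.leaf 108372490308268)))
 (.node (.node (.leaf 142695185289009)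
 (.leaf 138658750344666))
 (.node (.leaf 248272115180600)
 (.leaf 51532311578770))))
 (.node (.node (.node (.leaf 129946005049251)
 (.leaf 100378078446773))
 (.node (.leaf 127773350440027)
 (.leaf 166397370347154)))
 (.node (.node (.leaf 99016656532070)
 (.leaf 232723207390462))
 (.node (.leaf 266782081128194)
 (.leaf 249455917254719)))))
 (.node (.node (.node (.node (.leaf 236041095699154)
 (.leaf 63893437907614))
 (.node (.leaf 44153709968870)
 (.leaf 88938347603709)))
 (.node (.node (.leaf 113763787914126)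
 (.leaf 135403952927931))
 (.node (.leaf 220401014323893)
 (.leaf 86333429049020))))
 (.node (.node (.node (.leaf 62817022501076)
 (.leaf 128349328811502))
 (.node (.leaf 120057432882331)
 (.leaf 176744434266279)))
 (.node (.node (.leaf 131695745460960)
 (.leaf 193077320033320))
 (.node (.leaf 103060958168711)
 (.leaf 135309205744259))))))

def keyTB84 : RT := .node (.node (.node (.node (.node (.node (.leaf 195118129706543)
 (.leaf 7387376715416))
 (.node (.leaf 262442618355436)
 (.leaf 137315809795319)))
 (.node (.node (.leaf 27766283094396)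
 (.leaf 87282294101189))
 (.node (.leaf 255942670239660)
 (.leaf 244448293172586))))
 (.node (.node (.node (.leaf 176533481184108)
 (.leaf 165279877156588))
 (.node (.leaf 162018225818562)
 (.leaf 206434638096493)))
 (.node (.node (.leaf 42836653907686)
 (.leaf 229019861020096))
 (.node (.leaf 118255036575991)
 (.leaf 37733728405469)))))
 (.node (.node (.node (.node (.leaf 257042962738934)
 (.leaf 8312748316656))
 (.node (.leaf 42407239825530)
 (.leaf 132799087560476)))
 (.node (.node (.leaf 171304834987980)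
 (.leaf 205341652585006))
 (.node (.leaf 175797155745674)
 (.leaf 177374682711581))))
 (.node (.node (.node (.leaf 54831904306998)
 (.leaf 226030400700900))
 (.node (.leaf 157480316741299)
 (.leaf 244385546946244)))
 (.node (.node (.leaf 126489385258047)
 (.leaf 165173137273562))
 (.node (.leaf 147955827314822)
 (.leaf 131581117101906))))))
 (.node (.node (.node (.node (.node (.leaf 229520052655460)
 (.leaf 194713272429300))
 (.node (.leaf 112713880264210)
 (.leaf 56663408813961)))
 (.node (.node (.leaf 61254641692875)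
 (.leaf 222358231676203))
 (.node (.leaf 10295099580623)
 (.leaf 54404088565576))))
 (.node (.node (.node (.leaf 95535024240220)
 (.leaf 233348682678749))
 (.node (.leaf 234025333631016)
 (.leaf 98093588059300)))
 (.node (.node (.leaf 179489953892815)
 (.leaf 210940320245622))
 (.node (.leaf 151971909950885)
 (.leaf 20030884943417)))))
 (.node (.node (.node (.node (.leaf 246639980345807)
 (.leaf 149814753539958))
 (.node (.leaf 86310039980837)
 (.leaf 211012979976375)))
 (.node (.node (.leaf 193058070484224)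
 (.leaf 171343587251864))
 (.node (.leaf 86710138127099)
 (.leaf 212331211909670))))
 (.node (.node (.node (.leaf 191867565874954)
 (.leaf 127790766499010))
 (.node (.leaf 138646447690911)
 (.leaf 39451911377244)))
 (.node (.node (.leaf 200404905090085)
 (.leaf 266583905354922))
 (.node (.leaf 151312864828507)
 (.leaf 12880660474894))))))

def keyTB85 : RT := .node (.node (.node (.node (.node (.node (.leaf 246690165327780)
 (.leaf 149817520355270))
 (.node (.leaf 205082772457105)
 (.leaf 159981444048755)))
 (.node (.node (.leaf 155015460974450)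
 (.leaf 259848109374))
 (.node (.leaf 129541643010249)
 (.leaf 109375336574348))))
 (.node (.node (.node (.leaf 113757432759975)
 (.leaf 178765816720270))
 (.node (.leaf 3951856071867)
 (.leaf 102629895750999)))
 (.node (.node (.leaf 206457805051927)
 (.leaf 241357869086881))
 (.node (.leaf 54820986015038)
 (.leaf 134371730418214)))))
 (.node (.node (.node (.node (.leaf 216381950305376)
 (.leaf 73845706710250))
 (.node (.leaf 271100140831801)
 (.leaf 236101365686942)))
 (.node (.node (.leaf 204689257680358)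
 (.leaf 75116166529041))
 (.node (.leaf 155037431166742)
 (.leaf 45436047842871))))
 (.node (.node (.node (.leaf 268827991436902)
 (.leaf 61718129398066))
 (.node (.leaf 8525342843135)
 (.leaf 98058057208136)))
 (.node (.node (.leaf 238847345402059)
 (.leaf 159685476762594))
 (.node (.leaf 251032874522572)
 (.leaf 211235856524799))))))
 (.node (.node (.node (.node (.node (.leaf 48711003836337)
 (.leaf 86731295880618))
 (.node (.leaf 2232158943361)
 (.leaf 166595827707224)))
 (.node (.node (.leaf 219961448534562)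
 (.leaf 22221228698587))
 (.node (.leaf 18424141157115)
 (.leaf 186469083146790))))
 (.node (.node (.node (.leaf 273058728509194)
 (.leaf 119730277787852))
 (.node (.leaf 86289696511344)
 (.leaf 51532758123714)))
 (.node (.node (.leaf 96950401465703)
 (.leaf 85989148986083))
 (.node (.leaf 47123802887644)
 (.leaf 45185260797120)))))
 (.node (.node (.node (.node (.leaf 17289851511132)
 (.leaf 239254314904613))
 (.node (.leaf 269178669150473)
 (.leaf 126952816108954)))
 (.node (.node (.leaf 204067897352049)
 (.leaf 49444768293597))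
 (.node (.leaf 157457507225730)
 (.leaf 252920525431951))))
 (.node (.node (.node (.leaf 150549459629098)
 (.leaf 264793158949010))
 (.node (.leaf 154489860410305)
 (.leaf 175097273820441)))
 (.node (.node (.leaf 88848025138524)
 (.leaf 203343067306645))
 (.node (.leaf 65399665124177)
 (.leaf 86202166880050))))))

def keyTB86 : RT := .node (.node (.node (.node (.node (.node (.leaf 222535430659052)
 (.leaf 193220272065474))
 (.node (.leaf 2582942722795)
 (.leaf 58605954943098)))
 (.node (.node (.leaf 124509273720377)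
 (.leaf 248514659665766))
 (.node (.leaf 63840449184297)
 (.leaf 44149532421908))))
 (.node (.node (.node (.leaf 242211623753558)
 (.leaf 101771319619442))
 (.node (.leaf 129218693711902)
 (.leaf 141724050473574)))
 (.node (.node (.leaf 88902653057631)
 (.leaf 94627102640006))
 (.node (.leaf 138257621794698)
 (.leaf 192215519851033)))))
 (.node (.node (.node (.node (.leaf 138243986954120)
 (.leaf 27525488346623))
 (.node (.leaf 78943854383025)
 (.leaf 180520907841497)))
 (.node (.node (.leaf 201953078544144)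
 (.leaf 173988666641734))
 (.node (.leaf 173113541274074)
 (.leaf 107636389166291))))
 (.node (.node (.node (.leaf 272357257056925)
 (.leaf 119739939476574))
 (.node (.leaf 23733068777160)
 (.leaf 106227085296922)))
 (.node (.node (.leaf 206679144703164)
 (.leaf 78900315415161))
 (.node (.leaf 162620407736344)
 (.leaf 39453622579911))))))
 (.node (.node (.node (.node (.node (.leaf 200397995526265)
 (.leaf 236080803184032))
 (.node (.leaf 12902504511226)
 (.leaf 162626412017905)))
 (.node (.node (.leaf 96369569910666)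
 (.leaf 131858434516265))
 (.node (.leaf 85823330601585)
 (.leaf 34747782507732))))
 (.node (.node (.node (.leaf 272027152505544)
 (.leaf 228800052169178))
 (.node (.leaf 96650479027358)
 (.leaf 161995687057870)))
 (.node (.node (.leaf 228991321505510)
 (.leaf 118263702558345))
 (.node (.leaf 53669953080152)
 (.leaf 245766859214512)))))
 (.node (.node (.node (.node (.leaf 74178921469724)
 (.leaf 206667369797580))
 (.node (.leaf 2334837824046)
 (.leaf 158111835207789)))
 (.node (.node (.leaf 56388953146997)
 (.leaf 131823367662677))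
 (.node (.leaf 221469023787048)
 (.leaf 106846823081124))))
 (.node (.node (.node (.leaf 109022297565156)
 (.leaf 32973601226799))
 (.node (.leaf 17297880468609)
 (.leaf 7670337574436)))
 (.node (.node (.leaf 137407379673626)
 (.leaf 61271325967239))
 (.node (.leaf 269200474288646)
 (.leaf 191907870830211))))))

def keyTB87 : RT := .node (.node (.node (.node (.node (.node (.leaf 51043579362668)
 (.leaf 181358914470425))
 (.node (.leaf 243550605384152)
 (.leaf 141405943051321)))
 (.node (.node (.leaf 103245929713310)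
 (.leaf 169250275036352))
 (.node (.leaf 151676878177474)
 (.leaf 107120524342818))))
 (.node (.node (.node (.leaf 75568026859599)
 (.leaf 15397173555401))
 (.node (.leaf 197938119224836)
 (.leaf 152822220297721)))
 (.node (.node (.leaf 1982786680592)
 (.leaf 24753284762088))
 (.node (.leaf 165807688442162)
 (.leaf 148423991877887)))))
 (.node (.node (.node (.node (.leaf 89429453159136)
 (.leaf 187727530355162))
 (.node (.leaf 17669332108792)
 (.leaf 195305191056111)))
 (.node (.node (.leaf 257832255110758)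
 (.leaf 45779306370206))
 (.node (.leaf 92479364945559)
 (.leaf 11889181095082))))
 (.node (.node (.node (.leaf 240520285305580)
 (.leaf 58471384205058))
 (.node (.leaf 162834218638570)
 (.leaf 88489250007808)))
 (.node (.node (.leaf 24817890699822)
 (.leaf 117178522902658))
 (.node (.leaf 181599020794525)
 (.leaf 127030321094991))))))
 (.node (.node (.node (.node (.node (.leaf 147718183627988)
 (.leaf 225788766839370))
 (.node (.leaf 265330633387255)
 (.leaf 265487072342462)))
 (.node (.node (.leaf 225370219554904)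
 (.leaf 60563487072266))
 (.node (.leaf 130436625708375)
 (.leaf 98894672115833))))
 (.node (.node (.node (.leaf 41582034531610)
 (.leaf 30040390597484))
 (.node (.leaf 206608861575631)
 (.leaf 22454733223798)))
 (.node (.node (.leaf 28898386835480)
 (.leaf 184640974764111))
 (.node (.leaf 255364102980751)
 (.leaf 250543522630328)))))
 (.node (.node (.node (.node (.leaf 66360588118488)
 (.leaf 203880802994923))
 (.node (.leaf 139899027720433)
 (.leaf 154700332898334)))
 (.node (.node (.leaf 204363075484235)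
 (.leaf 277974180493919))
 (.node (.leaf 248307124168249)
 (.leaf 230674623470478))))
 (.node (.node (.node (.leaf 113559737753684)
 (.leaf 118404374010734))
 (.node (.leaf 113343780838375)
 (.leaf 17693168150548)))
 (.node (.node (.leaf 195360669922043)
 (.leaf 158837794515531))
 (.node (.leaf 91634099372200)
 (.leaf 84126427998947))))))

def keyTB88 : RT := .node (.node (.node (.node (.node (.node (.leaf 24796073940873)
 (.leaf 226131320514012))
 (.node (.leaf 121150923090271)
 (.leaf 193495308575371)))
 (.node (.node (.leaf 153282940904505)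
 (.leaf 586792075919))
 (.node (.leaf 147138053004417)
 (.leaf 169908677636999))))
 (.node (.node (.node (.leaf 134084566913542)
 (.leaf 39521047387495))
 (.node (.leaf 256536558502952)
 (.leaf 80703875006280)))
 (.node (.node (.leaf 203487891780907)
 (.leaf 77633166331538))
 (.node (.leaf 253809941163813)
 (.leaf 60087142522802)))))
 (.node (.node (.node (.node (.leaf 150313864611028)
 (.leaf 230650585005181))
 (.node (.leaf 34982413615867)
 (.leaf 122935212722726)))
 (.node (.node (.leaf 8675375054602)
 (.leaf 44257582278860))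
 (.node (.leaf 163229692813628)
 (.leaf 227772519388528))))
 (.node (.node (.node (.leaf 174146414885603)
 (.leaf 174540452882173))
 (.node (.leaf 56139680056796)
 (.leaf 195377120899086)))
 (.node (.node (.leaf 56693956449992)
 (.leaf 30861218107314))
 (.node (.leaf 248334091089560)
 (.leaf 147104546858631))))))
 (.node (.node (.node (.node (.node (.leaf 119794887954156)
 (.leaf 254421434727362))
 (.node (.leaf 66830488208343)
 (.leaf 126360123753179)))
 (.node (.node (.leaf 99198115931785)
 (.leaf 243583226341505))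
 (.node (.leaf 101150580575642)
 (.leaf 137574373333953))))
 (.node (.node (.node (.leaf 18158661914440)
 (.leaf 239489615488604))
 (.node (.leaf 38372955038002)
 (.leaf 257724789559551)))
 (.node (.node (.leaf 204934273429832)
 (.leaf 60281718158940))
 (.node (.leaf 275468994403802)
 (.leaf 32081496319731)))))
 (.node (.node (.node (.node (.leaf 85629429278662)
 (.leaf 29033317191697))
 (.node (.leaf 262604824382449)
 (.leaf 34507111387769)))
 (.node (.node (.leaf 132058126542642)
 (.leaf 56436463735995))
 (.node (.leaf 159498516372460)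
 (.leaf 174890171075607))))
 (.node (.node (.node (.leaf 115590589097124)
 (.leaf 80720947566728))
 (.node (.leaf 60320113071645)
 (.leaf 93511814079001)))
 (.node (.node (.leaf 196760183424511)
 (.leaf 150457785388977))
 (.node (.leaf 140318399910056)
 (.leaf 118136423370416))))))

def keyTB89 : RT := .node (.node (.node (.node (.node (.node (.leaf 118862765556518)
 (.leaf 24850419794127))
 (.node (.leaf 98946491662380)
 (.leaf 130245980657785)))
 (.node (.node (.leaf 113445944970092)
 (.leaf 243483939365089))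
 (.node (.leaf 226126835636811)
 (.leaf 161391619977762))))
 (.node (.node (.node (.leaf 122144523447984)
 (.leaf 253785346185181))
 (.node (.leaf 163782003912628)
 (.leaf 140043530168158)))
 (.node (.node (.leaf 159498416148921)
 (.leaf 273187126915686))
 (.node (.leaf 147692895327429)
 (.leaf 44292255578175)))))
 (.node (.node (.node (.node (.leaf 211628688153298)
 (.leaf 89867113438254))
 (.node (.leaf 145558239090720)
 (.leaf 268262003208998)))
 (.node (.node (.leaf 241778539144856)
 (.leaf 101197592446599))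
 (.node (.leaf 119601155905175)
 (.leaf 230244378726953))))
 (.node (.node (.node (.leaf 56706434965268)
 (.leaf 90462321178454))
 (.node (.leaf 213194564501362)
 (.leaf 203926224135530)))
 (.node (.node (.leaf 191612270173036)
 (.leaf 92736700320960))
 (.node (.leaf 56927211889822)
 (.leaf 26964785941489))))))
 (.node (.node (.node (.node (.node (.leaf 247643969126134)
 (.leaf 249961645861549))
 (.node (.leaf 99072486320918)
 (.leaf 64427412585798)))
 (.node (.node (.leaf 21877383466649)
 (.leaf 67118614887605))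
 (.node (.leaf 44584486135066)
 (.leaf 156415611577532))))
 (.node (.node (.node (.leaf 19400221270228)
 (.leaf 144651610126130))
 (.node (.leaf 103233531042796)
 (.leaf 46128988366957)))
 (.node (.node (.leaf 252714054864614)
 (.leaf 264563909193152))
 (.node (.leaf 195675362257765)
 (.leaf 60117040629033)))))
 (.node (.node (.node (.node (.leaf 194481597056559)
 (.leaf 238756783057644))
 (.node (.leaf 173482141989047)
 (.leaf 70453343094540)))
 (.node (.node (.leaf 238556345811562)
 (.leaf 258366432619067))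
 (.node (.leaf 275273258806942)
 (.leaf 169259840750889))))
 (.node (.node (.node (.leaf 261943190269859)
 (.leaf 95911446020264))
 (.node (.leaf 96846498935302)
 (.leaf 134053815124962)))
 (.node (.node (.leaf 225360173111921)
 (.leaf 196595042630974))
 (.node (.leaf 231268124971209)
 (.leaf 85654932030109))))))

def keyTB90 : RT := .node (.node (.node (.node (.node (.node (.leaf 258354052734700)
 (.leaf 207430301695223))
 (.node (.leaf 197466989614985)
 (.leaf 101244551788797)))
 (.node (.node (.leaf 218387552762406)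
 (.leaf 253538998314886))
 (.node (.leaf 16840472958615)
 (.leaf 32298387389678))))
 (.node (.node (.node (.leaf 136343374200152)
 (.leaf 218988449500123))
 (.node (.leaf 260917373085337)
 (.leaf 127099622935438)))
 (.node (.node (.leaf 249968038396637)
 (.leaf 220337070228890))
 (.node (.leaf 189646718640295)
 (.leaf 253547625959441)))))
 (.node (.node (.node (.node (.leaf 16869004683030)
 (.leaf 132027835918214))
 (.node (.leaf 40721776965531)
 (.leaf 19412181178655)))
 (.node (.node (.leaf 184582641894911)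
 (.leaf 83440124083029))
 (.node (.leaf 91624643409152)
 (.leaf 84162684462174))))
 (.node (.node (.node (.leaf 153283383683423)
 (.leaf 134489275712139))
 (.node (.leaf 64082738901340)
 (.leaf 103851015695397)))
 (.node (.node (.leaf 25183870911691)
 (.leaf 208233010406087))
 (.node (.leaf 32903031080095)
 (.leaf 110940947750033))))))
 (.node (.node (.node (.node (.node (.leaf 204176455142423)
 (.leaf 207919026166403))
 (.node (.leaf 207326804579700)
 (.leaf 147113148197464)))
 (.node (.node (.leaf 252740333989681)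
 (.leaf 69708217788203))
 (.node (.leaf 128146799922156)
 (.leaf 155013933485744))))
 (.node (.node (.node (.leaf 232696179695030)
 (.leaf 102581489798554))
 (.node (.leaf 148521063827519)
 (.leaf 8567915934923)))
 (.node (.node (.leaf 148485559104294)
 (.leaf 100890546136420))
 (.node (.leaf 49139308105953)
 (.leaf 227301873773932)))))
 (.node (.node (.node (.node (.leaf 220790204583256)
 (.leaf 160840147323950))
 (.node (.leaf 152490382522400)
 (.leaf 206466350431195)))
 (.node (.node (.leaf 45842589984313)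
 (.leaf 20019608995686))
 (.node (.leaf 176718097688435)
 (.leaf 131702652316501))))
 (.node (.node (.node (.leaf 200407106567231)
 (.leaf 39956910383690))
 (.node (.leaf 162028199850425)
 (.leaf 234052348371497)))
 (.node (.node (.leaf 9312259876477)
 (.leaf 72755929165465))
 (.node (.leaf 28809061881694)
 (.leaf 52168855028866))))))

def keyTB91 : RT := .node (.node (.node (.node (.node (.node (.leaf 216388048899436)
 (.leaf 93758210477472))
 (.node (.leaf 145360772900848)
 (.leaf 219181017327532)))
 (.node (.node (.leaf 73828306838041)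
 (.leaf 129889346169841))
 (.node (.leaf 100376853790945)
 (.leaf 53790043119030))))
 (.node (.node (.node (.leaf 90233173459385)
 (.leaf 85519938229010))
 (.node (.leaf 192430231384392)
 (.leaf 210622891788308)))
 (.node (.node (.leaf 191885723933823)
 (.leaf 268661538037576))
 (.node (.leaf 188660978153052)
 (.leaf 39060570100189)))))
 (.node (.node (.node (.node (.leaf 190145180047740)
 (.leaf 163585861809355))
 (.node (.leaf 94629804795664)
 (.leaf 120435115682280)))
 (.node (.node (.leaf 35088362995505)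
 (.leaf 228793751150256))
 (.node (.leaf 186308959059460)
 (.leaf 230971950796094))))
 (.node (.node (.node (.leaf 128124445307081)
 (.leaf 31649518370110))
 (.node (.leaf 162651713736428)
 (.leaf 244367008625309)))
 (.node (.node (.leaf 72302598744301)
 (.leaf 88880873439193))
 (.node (.leaf 45844543773888)
 (.leaf 140845889168925))))))
 (.node (.node (.node (.node (.node (.leaf 97811342464282)
 (.leaf 194083348449156))
 (.node (.leaf 16795489383567)
 (.leaf 59702993880106)))
 (.node (.node (.leaf 27137051638047)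
 (.leaf 180211793076772))
 (.node (.leaf 131849497635500)
 (.leaf 252251898572102))))
 (.node (.node (.node (.leaf 37742690618579)
 (.leaf 128392769411095))
 (.node (.leaf 207302395476930)
 (.leaf 152159737760491)))
 (.node (.node (.leaf 27082191832764)
 (.leaf 56639422872768))
 (.node (.leaf 47116150886417)
 (.leaf 86473595342705)))))
 (.node (.node (.node (.node (.leaf 1560204057261)
 (.leaf 236051785282266))
 (.node (.leaf 255960630520161)
 (.leaf 193980425749847)))
 (.node (.node (.leaf 162871901734076)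
 (.leaf 126451565035785))
 (.node (.leaf 113107105244570)
 (.leaf 27766808640840))))
 (.node (.node (.node (.leaf 268773952787063)
 (.leaf 89511201798616))
 (.node (.leaf 219521010207327)
 (.leaf 137335052857512)))
 (.node (.node (.leaf 222334179415586)
 (.leaf 261886826128426))
 (.node (.leaf 191500100716374)
 (.leaf 278094905643719))))))

def keyTB92 : RT := .node (.node (.node (.node (.node (.node (.leaf 134375439706233)
 (.leaf 45490068519374))
 (.node (.leaf 27445155129367)
 (.leaf 233625882783462)))
 (.node (.node (.leaf 49287852927008)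
 (.leaf 2273536471846))
 (.node (.leaf 112949026223753)
 (.leaf 101948835647344))))
 (.node (.node (.node (.leaf 5453693447616)
 (.leaf 70169288347034))
 (.node (.leaf 208792005127313)
 (.leaf 112971990670994)))
 (.node (.node (.leaf 278442603100180)
 (.leaf 143881903388550))
 (.node (.leaf 219539657897563)
 (.leaf 259630046041291)))))
 (.node (.node (.node (.node (.leaf 54364240773851)
 (.leaf 53756700213376))
 (.node (.leaf 266788562043321)
 (.leaf 95569186008032)))
 (.node (.node (.leaf 259905055720544)
 (.leaf 96620809069765))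
 (.node (.leaf 180963173642370)
 (.leaf 28817872614530))))
 (.node (.node (.node (.leaf 229472094311031)
 (.leaf 194696205674968))
 (.node (.leaf 18330660697047)
 (.leaf 113084968442481)))
 (.node (.node (.leaf 258538653778088)
 (.leaf 163573465098260))
 (.node (.leaf 278080828818171)
 (.leaf 237655907452396))))))
 (.node (.node (.node (.node (.node (.leaf 266603476614119)
 (.leaf 193927480022273))
 (.node (.leaf 112704036177372)
 (.leaf 221417777181323)))
 (.node (.node (.leaf 108436203437899)
 (.leaf 142707698403358))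
 (.node (.leaf 22476136686084)
 (.leaf 234988142590239))))
 (.node (.node (.node (.leaf 257036444178011)
 (.leaf 74151113742301))
 (.node (.leaf 140846571416462)
 (.leaf 22510127163999)))
 (.node (.node (.leaf 233609925802993)
 (.leaf 8310261071095))
 (.node (.leaf 87317045126103)
 (.leaf 135998796162474)))))
 (.node (.node (.node (.node (.leaf 109039704450191)
 (.leaf 49415921879169))
 (.node (.leaf 223735406667570)
 (.leaf 146670259462777)))
 (.node (.node (.leaf 162579101121952)
 (.leaf 89536008230046))
 (.node (.leaf 85966605620427)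
 (.leaf 140264277607111))))
 (.node (.node (.node (.leaf 155143017875486)
 (.leaf 218380248047881))
 (.node (.leaf 13370084714342)
 (.leaf 92736049665835)))
 (.node (.node (.leaf 230124471965231)
 (.leaf 24788780524906))
 (.node (.leaf 37339367995340)
 (.leaf 255372382482353))))))

def keyTB93 : RT := .node (.node (.node (.node (.node (.node (.leaf 56458444673787)
 (.leaf 175354579897670))
 (.node (.leaf 48806957605065)
 (.leaf 122193200540910)))
 (.node (.node (.leaf 233769957807161)
 (.leaf 91853470450784))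
 (.node (.leaf 21529571572581)
 (.leaf 44324293082560))))
 (.node (.node (.node (.leaf 58442584769630)
 (.leaf 26886310414252))
 (.node (.leaf 207992376797940)
 (.leaf 188458005447462)))
 (.node (.node (.leaf 98415664703511)
 (.leaf 66052408387209))
 (.node (.leaf 99163991965016)
 (.leaf 112095168651018)))))
 (.node (.node (.node (.node (.leaf 193907490935495)
 (.leaf 16453532042596))
 (.node (.leaf 195423871009980)
 (.leaf 87892605136560)))
 (.node (.node (.leaf 44602845830932)
 (.leaf 72173181734326))
 (.node (.leaf 44579898306194)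
 (.leaf 88412295095058))))
 (.node (.node (.node (.leaf 222792308107752)
 (.leaf 239515057702231))
 (.node (.leaf 107777332800113)
 (.leaf 153274894645357)))
 (.node (.node (.leaf 106636918317281)
 (.leaf 74575262838951))
 (.node (.leaf 34999683602541)
 (.leaf 240184966931712))))))
 (.node (.node (.node (.node (.node (.leaf 153790047630500)
 (.leaf 119815945192107))
 (.node (.leaf 204222902016488)
 (.leaf 147173270522207)))
 (.node (.node (.leaf 217085304652842)
 (.leaf 125726705043577))
 (.node (.leaf 238516649390633)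
 (.leaf 92451737223026))))
 (.node (.node (.node (.leaf 119439402247465)
 (.leaf 24351588935710))
 (.node (.leaf 226030253289673)
 (.leaf 106181339653090)))
 (.node (.node (.leaf 33397981740007)
 (.leaf 194107619031627))
 (.node (.leaf 27595379381290)
 (.leaf 244486675356255)))))
 (.node (.node (.node (.node (.leaf 173550263295294)
 (.leaf 255308625486689))
 (.node (.leaf 138392854087626)
 (.leaf 263242216720437)))
 (.node (.node (.leaf 17589473777584)
 (.leaf 23948593826690))
 (.node (.leaf 45029715100780)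
 (.leaf 219972489326190))))
 (.node (.node (.node (.leaf 165016088754755)
 (.leaf 142974591479738))
 (.node (.leaf 14600400765852)
 (.leaf 126599502887068)))
 (.node (.node (.leaf 50184967259122)
 (.leaf 9259486857826))
 (.node (.leaf 160482419660273)
 (.leaf 37666641620233))))))

def keyTB94 : RT := .node (.node (.node (.node (.node (.node (.leaf 30714743212599)
 (.leaf 108794624342745))
 (.node (.leaf 188609268365227)
 (.leaf 88049607010488)))
 (.node (.node (.leaf 142413948043826)
 (.leaf 98546112722390))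
 (.node (.leaf 90796174450608)
 (.leaf 264610813492706))))
 (.node (.node (.node (.leaf 154758148842084)
 (.leaf 21721718908152))
 (.node (.leaf 95697090161872)
 (.leaf 93977265894730)))
 (.node (.node (.leaf 142323357744820)
 (.leaf 183716940886670))
 (.node (.leaf 225721946855474)
 (.leaf 139638044207259)))))
 (.node (.node (.node (.node (.leaf 149164646752181)
 (.leaf 269085907254051))
 (.node (.leaf 142861687956456)
 (.leaf 267295645088314)))
 (.node (.node (.leaf 104375682429068)
 (.leaf 199580032763326))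
 (.node (.leaf 79893564536321)
 (.leaf 32832851956942))))
 (.node (.node (.node (.leaf 166886609232408)
 (.leaf 241931797907704))
 (.node (.leaf 17010487363656)
 (.leaf 124701635641153)))
 (.node (.node (.leaf 160467564231337)
 (.leaf 271667978542725))
 (.node (.leaf 187859850550091)
 (.leaf 50173000671110))))))
 (.node (.node (.node (.node (.node (.leaf 99290287971773)
 (.leaf 195073694487603))
 (.node (.leaf 191230859884639)
 (.leaf 210134736184407)))
 (.node (.node (.leaf 15498347516051)
 (.leaf 174318688860168))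
 (.node (.leaf 181127006316259)
 (.leaf 201104149934581))))
 (.node (.node (.node (.leaf 105537975537732)
 (.leaf 129659346829843))
 (.node (.leaf 79330552845379)
 (.leaf 108052322833851)))
 (.node (.node (.leaf 37006789055048)
 (.leaf 62115600162670))
 (.node (.leaf 35652079285730)
 (.leaf 271766715308330)))))
 (.node (.node (.node (.node (.leaf 132260675684075)
 (.leaf 233008831445029))
 (.node (.leaf 13835842342722)
 (.leaf 95980651905167)))
 (.node (.node (.leaf 143533531747667)
 (.leaf 238376619797526))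
 (.node (.leaf 117095284089877)
 (.leaf 213705450637981))))
 (.node (.node (.node (.leaf 46084908630741)
 (.leaf 244532029080612))
 (.node (.leaf 122968900364715)
 (.leaf 203312715940229)))
 (.node (.node (.leaf 83257834165746)
 (.leaf 74332952062992))
 (.node (.leaf 134447467833678)
 (.leaf 257209096584974))))))

def keyTB95 : RT := .node (.node (.node (.node (.node (.node (.leaf 1315885603861)
 (.leaf 42253491853480))
 (.node (.leaf 83925117484328)
 (.leaf 93988392334740)))
 (.node (.node (.leaf 142337907263418)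
 (.leaf 200498258132657))
 (.node (.leaf 148256865661586)
 (.leaf 114889097709187))))
 (.node (.node (.node (.leaf 184971116280443)
 (.leaf 264622274711065))
 (.node (.leaf 154807586763085)
 (.leaf 72992402600775)))
 (.node (.node (.leaf 107276830462239)
 (.leaf 23529235875759))
 (.node (.leaf 104223640341503)
 (.leaf 134436329591746)))))
 (.node (.node (.node (.node (.leaf 136794205942070)
 (.leaf 241907613174834))
 (.node (.leaf 76850433338910)
 (.leaf 151809673503132)))
 (.node (.node (.leaf 131303457798719)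
 (.leaf 107570232837894))
 (.node (.leaf 232961063720515)
 (.leaf 157033113068797))))
 (.node (.node (.node (.leaf 54014994935517)
 (.leaf 178572083288243))
 (.node (.leaf 142168264410915)
 (.leaf 82830794899763)))
 (.node (.node (.leaf 76986709670331)
 (.leaf 227211327886005))
 (.node (.leaf 74352390325931)
 (.leaf 190377876521129))))))
 (.node (.node (.node (.node (.node (.leaf 113603303374145)
 (.leaf 240096645223326))
 (.node (.leaf 95975095300996)
 (.leaf 200330947036714)))
 (.node (.node (.leaf 182031607624137)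
 (.leaf 187784879452281))
 (.node (.leaf 267311220324045)
 (.leaf 11607087744868))))
 (.node (.node (.node (.leaf 111927403718730)
 (.leaf 269045508813283))
 (.node (.leaf 258418110098197)
 (.leaf 83316659445408)))
 (.node (.node (.leaf 55413646847607)
 (.leaf 191359514290222))
 (.node (.leaf 173362067172698)
 (.leaf 149603968184125)))))
 (.node (.node (.node (.node (.leaf 117870013232661)
 (.leaf 46333902670419))
 (.node (.leaf 14274332603162)
 (.leaf 3044288460987)))
 (.node (.node (.leaf 157405683936587)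
 (.leaf 83253614869308))
 (.node (.leaf 209788548504321)
 (.leaf 113602730607149))))
 (.node (.node (.node (.leaf 217387693432465)
 (.leaf 186223686106766))
 (.node (.leaf 146797624911597)
 (.leaf 728433281530)))
 (.node (.node (.leaf 93951052121740)
 (.leaf 149101386653798))
 (.node (.leaf 89759264187176)
 (.leaf 200983057079029))))))

def keyTB96 : RT := .node (.node (.node (.node (.node (.node (.leaf 221845031132297)
 (.leaf 32791406080289))
 (.node (.leaf 273417098064241)
 (.leaf 253242346241379)))
 (.node (.node (.leaf 132493866907199)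
 (.leaf 150799422500299))
 (.node (.leaf 31218624619543)
 (.leaf 8961713281246))))
 (.node (.node (.node (.leaf 45997617524308)
 (.leaf 79304232693568))
 (.node (.leaf 5786522533586)
 (.leaf 210076786669332)))
 (.node (.node (.leaf 15467038225270)
 (.leaf 174288919714936))
 (.node (.leaf 181118883183433)
 (.leaf 172496321107480)))))
 (.node (.node (.node (.node (.leaf 43402092641917)
 (.leaf 132571270934830))
 (.node (.leaf 103104041724722)
 (.leaf 43399485285672)))
 (.node (.node (.leaf 173214111287541)
 (.leaf 192136597260036))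
 (.node (.leaf 157309363385439)
 (.leaf 263238892351096))))
 (.node (.node (.node (.leaf 271699361483944)
 (.leaf 187866095409048))
 (.node (.leaf 50175041456128)
 (.leaf 138853622545195)))
 (.node (.node (.leaf 119043503463502)
 (.leaf 3234758862861))
 (.node (.leaf 89688047517761)
 (.leaf 125096225598610))))))
 (.node (.node (.node (.node (.node (.leaf 137228770157654)
 (.leaf 179149055109247))
 (.node (.leaf 273396510611300)
 (.leaf 253237500057532)))
 (.node (.node (.leaf 150088936711590)
 (.leaf 107582052224568))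
 (.node (.leaf 74318275582267)
 (.leaf 134455824295744))))
 (.node (.node (.node (.leaf 50384824162558)
 (.leaf 8984676147958))
 (.node (.leaf 206849199549276)
 (.leaf 37544807979177)))
 (.node (.node (.leaf 268838063564672)
 (.leaf 90921397534465))
 (.node (.leaf 256371760701192)
 (.leaf 258449957932855)))))
 (.node (.node (.node (.node (.leaf 138373078885873)
 (.leaf 65560813009546))
 (.node (.leaf 192738154660928)
 (.leaf 701355283442)))
 (.node (.node (.leaf 81274909136605)
 (.leaf 213678512531817))
 (.node (.leaf 68370444990235)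
 (.leaf 123342140944180))))
 (.node (.node (.node (.leaf 227219510124686)
 (.leaf 276273073384740))
 (.node (.leaf 129657368453518)
 (.leaf 30314268173410)))
 (.node (.node (.leaf 137454741629705)
 (.leaf 126624016852996))
 (.node (.leaf 271619494173854)
 (.leaf 81317440827951))))))

def keyTB97 : RT := .node (.node (.node (.node (.node (.node (.leaf 189709171997809)
 (.leaf 21085627144357))
 (.node (.leaf 191324029690028)
 (.leaf 173351590080445)))
 (.node (.node (.leaf 105022246407617)
 (.leaf 51649123197750))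
 (.node (.leaf 253313547512293)
 (.leaf 81289239583601))))
 (.node (.node (.node (.leaf 115946530381585)
 (.leaf 42492994455934))
 (.node (.leaf 95941219623600)
 (.leaf 143514282983433)))
 (.node (.node (.leaf 111825835476423)
 (.leaf 116037761209162))
 (.node (.leaf 262112792675171)
 (.leaf 115026564800570)))))
 (.node (.node (.node (.node (.leaf 271770721333995)
 (.leaf 132239816976097))
 (.node (.leaf 84346929224554)
 (.leaf 48898464072314)))
 (.node (.node (.leaf 23055453644569)
 (.leaf 11496796241577))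
 (.node (.leaf 51628541713230)
 (.leaf 18273215464977))))
 (.node (.node (.node (.leaf 55784694220269)
 (.leaf 37521889721206))
 (.node (.leaf 208619965889568)
 (.leaf 129109173539240)))
 (.node (.node (.leaf 276177691878535)
 (.leaf 21749983332531))
 (.node (.leaf 265155458947156)
 (.leaf 88151084451836))))))
 (.node (.node (.node (.node (.node (.leaf 67607222821094)
 (.leaf 50264350246229))
 (.node (.leaf 8811856039291)
 (.leaf 3089510586762)))
 (.node (.node (.leaf 120683081285395)
 (.leaf 105046387672560))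
 (.node (.leaf 200972305787483)
 (.leaf 221853422271488))))
 (.node (.node (.node (.leaf 1011243552867)
 (.leaf 275120490959808))
 (.node (.leaf 81315791523407)
 (.leaf 189674750343744)))
 (.node (.node (.leaf 216970693851079)
 (.leaf 193562286277825))
 (.node (.leaf 180026118785161)
 (.leaf 257171507678960)))))
 (.node (.node (.node (.node (.leaf 135008747833754)
 (.leaf 36921388266159))
 (.node (.leaf 83722592491140)
 (.leaf 210137578860180)))
 (.node (.node (.leaf 15486613873404)
 (.leaf 241262031120881))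
 (.node (.leaf 30329005563621)
 (.leaf 54032333631551))))
 (.node (.node (.node (.leaf 22587391706573)
 (.leaf 142155726448368))
 (.node (.leaf 52484344939507)
 (.leaf 196106270947854)))
 (.node (.node (.leaf 153319671226748)
 (.leaf 122962751343333))
 (.node (.leaf 255319692685846)
 (.leaf 247532741250339))))))

def keyTB98 : RT := .node (.node (.node (.node (.node (.node (.leaf 132568794841902)
 (.leaf 74222723360011))
 (.node (.leaf 150793199672459)
 (.leaf 158133617965236)))
 (.node (.node (.leaf 82112428648997)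
 (.leaf 192175556007775))
 (.node (.leaf 217363711746433)
 (.leaf 212087436389801))))
 (.node (.node (.node (.leaf 38002652706652)
 (.leaf 104223340297946))
 (.node (.leaf 203286079549879)
 (.leaf 227223269417170)))
 (.node (.node (.leaf 46017927396455)
 (.leaf 50419354067699))
 (.node (.leaf 219990270989962)
 (.leaf 241907262517949)))))
 (.node (.node (.node (.node (.leaf 76893680103795)
 (.leaf 151803711622114))
 (.node (.leaf 131264741755956)
 (.leaf 107548348892085)))
 (.node (.node (.leaf 88021081689641)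
 (.leaf 76865875814690))
 (.node (.leaf 154786422709981)
 (.leaf 196118114220468))))
 (.node (.node (.node (.leaf 119360731613122)
 (.leaf 89783596304486))
 (.node (.leaf 83288582738035)
 (.leaf 196104336323802)))
 (.node (.node (.leaf 199373744078024)
 (.leaf 258390304942620))
 (.node (.leaf 133849540387479)
 (.leaf 246570666822476))))))
 (.node (.node (.node (.node (.node (.leaf 45020656153585)
 (.leaf 200503800249516))
 (.node (.leaf 148260888467623)
 (.leaf 114862066696711)))
 (.node (.node (.leaf 184971125305768)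
 (.leaf 264626926550312))
 (.node (.leaf 154759773383787)
 (.leaf 122252291169949))))
 (.node (.node (.node (.leaf 212706039854643)
 (.leaf 84963692747996))
 (.node (.leaf 219707887940468)
 (.leaf 184943224093883)))
 (.node (.node (.leaf 158157952202740)
 (.leaf 123993313515518))
 (.node (.leaf 235834699794457)
 (.leaf 73181953072007)))))
 (.node (.node (.node (.node (.leaf 5806300500084)
 (.leaf 43535475163852))
 (.node (.leaf 268860103612213)
 (.leaf 247591214310855)))
 (.node (.node (.leaf 132564497556298)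
 (.leaf 74249097781128))
 (.node (.leaf 150808624081308)
 (.leaf 13982682174224))))
 (.node (.node (.node (.leaf 58377210896749)
 (.leaf 90966984279219))
 (.node (.leaf 256345397960214)
 (.leaf 126585534916281)))
 (.node (.node (.leaf 32794438063844)
 (.leaf 273374188370529))
 (.node (.leaf 253295048750756)
 (.leaf 105107961971044))))))

def keyTB99 : RT := .node (.node (.node (.node (.node (.node (.leaf 115556289136283)
 (.leaf 90833217947203))
 (.node (.leaf 38035540300678)
 (.leaf 11556384818769)))
 (.node (.node (.leaf 191579878938604)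
 (.leaf 208922076625515))
 (.node (.leaf 84938665117722)
 (.leaf 262557670670106))))
 (.node (.node (.node (.leaf 206859982443458)
 (.leaf 179144521989474))
 (.node (.leaf 192128735425073)
 (.leaf 84366475675326)))
 (.node (.node (.leaf 48867205416369)
 (.leaf 17526475752778))
 (.node (.leaf 23978904694452)
 (.leaf 244547127123391)))))
 (.node (.node (.node (.node (.leaf 23553834987563)
 (.leaf 103123513322144))
 (.node (.leaf 224351112345232)
 (.leaf 142430103158242)))
 (.node (.node (.leaf 83719700439652)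
 (.leaf 131054229808788))
 (.node (.leaf 83236409018250)
 (.leaf 209747375485993))))
 (.node (.node (.node (.leaf 40296157074942)
 (.leaf 114172844548369))
 (.node (.leaf 40305059399311)
 (.leaf 30316406876450)))
 (.node (.node (.leaf 137476695546000)
 (.leaf 146789634758957))
 (.node (.leaf 82856356848823)
 (.leaf 77022474505682))))))
 (.node (.node (.node (.node (.node (.leaf 83950254268277)
 (.leaf 250130429154870))
 (.node (.leaf 253301043753459)
 (.leaf 98611500355709)))
 (.node (.node (.leaf 90811868089313)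
 (.leaf 206799621133443))
 (.node (.leaf 242591507014873)
 (.leaf 79856617161018))))
 (.node (.node (.node (.leaf 43550867844675)
 (.leaf 27208052922872))
 (.node (.leaf 214284297510984)
 (.leaf 172604013606777)))
 (.node (.node (.leaf 188572779819522)
 (.leaf 55757038127813))
 (.node (.leaf 37584009319447)
 (.leaf 208570722112194)))))
 (.node (.node (.node (.node (.leaf 240062207140193)
 (.leaf 109505863838450))
 (.node (.leaf 130158402498497)
 (.leaf 145067878485852)))
 (.node (.node (.leaf 131078537894814)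
 (.leaf 199418174397014))
 (.node (.leaf 208959968389913)
 (.leaf 67567470993864))))
 (.node (.node (.node (.leaf 157373062746291)
 (.leaf 82052422766342))
 (.node (.leaf 191366021667559)
 (.leaf 173375407164851)))
 (.node (.node (.leaf 149645416688738)
 (.leaf 117881242306819))
 (.node (.leaf 151802299148383)
 (.leaf 164888695443490))))))

def keyTB100 : RT := .node (.node (.node (.node (.node (.node (.leaf 136796515889037)
 (.leaf 62083551223008))
 (.node (.leaf 164921892792512)
 (.leaf 44760271566313)))
 (.node (.node (.leaf 73289446609751)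
 (.leaf 128827102652308))
 (.node (.leaf 142995182838858)
 (.leaf 11587641216759))))
 (.node (.node (.node (.leaf 111886921568401)
 (.leaf 269080329628548))
 (.node (.leaf 42206592161678)
 (.leaf 182517177826604)))
 (.node (.node (.leaf 132402157419878)
 (.leaf 114145151963761))
 (.node (.leaf 256855712659890)
 (.leaf 146207851946037)))))
 (.node (.node (.node (.node (.leaf 80210141814822)
 (.leaf 109529708539481))
 (.node (.leaf 130197433847092)
 (.leaf 148279997906819)))
 (.node (.node (.leaf 262141143291716)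
 (.leaf 88155235147827))
 (.node (.leaf 247540102226697)
 (.leaf 50287046174195))))
 (.node (.node (.node (.leaf 208944672085861)
 (.leaf 95294507708185))
 (.node (.leaf 200966102296241)
 (.leaf 212103097944124)))
 (.node (.node (.leaf 233667617209859)
 (.leaf 118506830865188))
 (.node (.leaf 99244556752605)
 (.leaf 165021443449943))))))
 (.node (.node (.node (.node (.node (.leaf 87866203513398)
 (.leaf 221788305826009))
 (.node (.leaf 214321784491515)
 (.leaf 11481958154597)))
 (.node (.node (.leaf 73145612584608)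
 (.leaf 107901344498135))
 (.node (.leaf 35519792530716)
 (.leaf 265166363781506))))
 (.node (.node (.node (.leaf 8796168755145)
 (.leaf 3067026147777))
 (.node (.leaf 94332272316492)
 (.leaf 149166861791145)))
 (.node (.node (.leaf 142129030961668)
 (.leaf 52470711774306))
 (.node (.leaf 196100159819838)
 (.leaf 153351905754398)))))
 (.node (.node (.node (.node (.leaf 115539984399506)
 (.leaf 70696141917857))
 (.node (.leaf 129434534520848)
 (.leaf 43513954813815)))
 (.node (.node (.leaf 137445492200776)
 (.leaf 27169734267444))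
 (.node (.leaf 238320209045475)
 (.leaf 65591261332097))))
 (.node (.node (.node (.leaf 132519798531441)
 (.leaf 199587102153767))
 (.node (.leaf 77031895901780)
 (.leaf 201098199160111)))
 (.node (.node (.leaf 209790390525559)
 (.leaf 200503943894466))
 (.node (.leaf 157338700092781)
 (.leaf 239316628458299))))))

def keyTB101 : RT := .node (.node (.node (.node (.node (.node (.leaf 220019611696024)
 (.leaf 241918628808040))
 (.node (.leaf 76837363300908)
 (.leaf 151817121014894)))
 (.node (.node (.leaf 129102404213135)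
 (.leaf 83944110125449))
 (.node (.leaf 134965408615674)
 (.leaf 192755812920798))))
 (.node (.node (.node (.leaf 55414585741141)
 (.leaf 116075581823319))
 (.node (.leaf 213678769374600)
 (.leaf 68349224438227)))
 (.node (.node (.leaf 224352809228368)
 (.leaf 1177791339590))
 (.node (.leaf 33284312157620)
 (.leaf 88042561259488)))))
 (.node (.node (.node (.node (.leaf 243737613118941)
 (.leaf 122306626094192))
 (.node (.leaf 705064506671)
 (.leaf 94002630450571)))
 (.node (.node (.leaf 138369686823253)
 (.leaf 263204977004352))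
 (.node (.leaf 191237467403063)
 (.leaf 1028467398227))))
 (.node (.node (.node (.leaf 119302162273381)
 (.leaf 276156665395583))
 (.node (.leaf 50162741832396)
 (.leaf 89695160021023)))
 (.node (.node (.leaf 192207163416322)
 (.leaf 273413595858100))
 (.node (.leaf 212696094178300)
 (.leaf 243685366566968))))))
 (.node (.node (.node (.node (.node (.leaf 3253629603224)
 (.leaf 215436735027992))
 (.node (.leaf 216957943888901)
 (.leaf 193518432106720)))
 (.node (.node (.leaf 143510704755665)
 (.leaf 81646616014350))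
 (.node (.leaf 233525706433734)
 (.leaf 137196204478560))))
 (.node (.node (.node (.leaf 179103245539691)
 (.leaf 149093820573317))
 (.node (.leaf 89793841167366)
 (.leaf 30356818102272)))
 (.node (.node (.leaf 104200073532645)
 (.leaf 203327250495970))
 (.node (.leaf 105134845102347)
 (.leaf 115544072189639)))))
 (.node (.node (.node (.node (.leaf 37705583284244)
 (.leaf 74294813038571))
 (.node (.leaf 134480040752418)
 (.leaf 50406579550071)))
 (.node (.node (.leaf 206884856107075)
 (.leaf 37557621773708))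
 (.node (.leaf 268877715812057)
 (.leaf 90951496561458))))
 (.node (.node (.node (.leaf 256350806729802)
 (.leaf 108085011305433))
 (.node (.leaf 50429279902461)
 (.leaf 8974503659389)))
 (.node (.node (.leaf 187820526937152)
 (.leaf 33286384260451))
 (.node (.leaf 88097707815472)
 (.leaf 18216790410385))))))

def keyTB102 : RT := .node (.node (.node (.node (.node (.node (.leaf 98558858620392)
 (.leaf 54029660810214))
 (.node (.leaf 22545195201808)
 (.leaf 23049404231567)))
 (.node (.node (.leaf 33285494531270)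
 (.leaf 88036515578073))
 (.node (.leaf 99702626054631)
 (.leaf 84352123279169))))
 (.node (.node (.node (.leaf 48878998663244)
 (.leaf 128810864438278))
 (.node (.leaf 126910599499876)
 (.leaf 94892761173429)))
 (.node (.node (.leaf 9233785802684)
 (.leaf 172497654578880))
 (.node (.leaf 132589416780088)
 (.leaf 103099990418916)))))
 (.node (.node (.node (.node (.leaf 43370372884962)
 (.leaf 173204201884476))
 (.node (.leaf 192112626882620)
 (.leaf 157364724812619)))
 (.node (.node (.leaf 271701539585746)
 (.leaf 187874709070212))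
 (.node (.leaf 50187838943733)
 (.leaf 122758412182462))))
 (.node (.node (.node (.leaf 216999901364347)
 (.leaf 1306653559336))
 (.node (.leaf 219864291248302)
 (.leaf 126865124750897)))
 (.node (.node (.leaf 33315023879142)
 (.leaf 119054442897824))
 (.node (.leaf 192085148325977)
 (.leaf 16975811486700))))))
 (.node (.node (.node (.node (.node (.leaf 278829090822274)
 (.leaf 124306269800006))
 (.node (.leaf 233557366348545)
 (.leaf 221787550672079)))
 (.node (.node (.leaf 225655665355505)
 (.leaf 45993356687498))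
 (.node (.leaf 1218248796214)
 (.leaf 124665086795575))))
 (.node (.node (.node (.leaf 142332026499614)
 (.leaf 84965426028632))
 (.node (.leaf 974742642722)
 (.leaf 119360553463693)))
 (.node (.node (.leaf 276179227868384)
 (.leaf 50098722101673))
 (.node (.leaf 82118441562838)
 (.leaf 192171267585728)))))
 (.node (.node (.node (.node (.leaf 116007185064872)
 (.leaf 114837374098109))
 (.node (.leaf 55788014036669)
 (.leaf 195079224160092)))
 (.node (.node (.leaf 262533340090504)
 (.leaf 98549976093099))
 (.node (.leaf 90844508631443)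
 (.leaf 122972075298165))))
 (.node (.node (.node (.leaf 255296725283962)
 (.leaf 74250226104950))
 (.node (.leaf 150774594525754)
 (.leaf 236130370163283)))
 (.node (.node (.leaf 36916895608143)
 (.leaf 132493738949411))
 (.node (.leaf 173234224439633)
 (.leaf 233560143762211))))))

def keyTB103 : RT := .node (.node (.node (.node (.node (.node (.leaf 111846622226431)
 (.leaf 256827731809176))
 (.node (.leaf 223586086719978)
 (.leaf 35602915955039)))
 (.node (.node (.leaf 234796773123493)
 (.leaf 126877537240790))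
 (.node (.leaf 191567787116476)
 (.leaf 45033980845124))))
 (.node (.node (.node (.leaf 142824348279542)
 (.leaf 42200628615306))
 (.node (.leaf 182469693409982)
 (.leaf 132394079596797)))
 (.node (.node (.leaf 142995589648531)
 (.leaf 14590940928008))
 (.node (.leaf 126604484904675)
 (.leaf 186165484974175)))))
 (.node (.node (.node (.node (.leaf 146797097444009)
 (.leaf 125085779465134))
 (.node (.leaf 89776272547453)
 (.leaf 83299555139921)))
 (.node (.node (.leaf 265320477338615)
 (.leaf 241221208470115))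
 (.node (.leaf 32782858790965)
 (.leaf 166907890884229))))
 (.node (.node (.node (.leaf 239313874984838)
 (.leaf 276097028674556))
 (.node (.leaf 221891197091020)
 (.leaf 970960522553)))
 (.node (.node (.leaf 275114793778431)
 (.leaf 236129611072692))
 (.node (.leaf 239725453966992)
 (.leaf 13843574120109))))))
 (.node (.node (.node (.node (.node (.leaf 227515048835600)
 (.leaf 236170778670113))
 (.node (.leaf 239728220069934)
 (.leaf 83951210179325)))
 (.node (.node (.leaf 135033082959741)
 (.leaf 250129481039400))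
 (.node (.leaf 253336452121184)
 (.leaf 123316974913659))))
 (.node (.node (.node (.leaf 227234906595050)
 (.leaf 276288016507614))
 (.node (.leaf 129652149924181)
 (.leaf 5776391826283)))
 (.node (.node (.leaf 87866257604203)
 (.leaf 145119924120563))
 (.node (.leaf 190390408607929)
 (.leaf 124712787435829)))))
 (.node (.node (.node (.node (.leaf 160495747256851)
 (.leaf 153342497361748))
 (.node (.leaf 172487431649178)
 (.leaf 253239181489136)))
 (.node (.node (.leaf 20353947772701)
 (.leaf 46105097794121))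
 (.node (.leaf 1222975462431)
 (.leaf 124700455687032))))
 (.node (.node (.node (.leaf 30280964909368)
 (.leaf 50150054619298))
 (.node (.leaf 219889585724044)
 (.leaf 206807307154864)))
 (.node (.node (.leaf 267251766956921)
 (.leaf 104329721909748))
 (.node (.leaf 88145429821796)
 (.leaf 247581397624251))))))

def keyTB104 : RT := .node (.node (.node (.node (.node (.node (.leaf 50244592742785)
 (.leaf 208935649770921))
 (.node (.leaf 95255525639949)
 (.leaf 200957163293489)))
 (.node (.node (.leaf 21066693764032)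
 (.leaf 17559048119545))
 (.node (.leaf 22571345668532)
 (.leaf 13975177379668))))
 (.node (.node (.node (.leaf 68359844994296)
 (.leaf 137223094941461))
 (.node (.leaf 228139512477476)
 (.leaf 105494897121501)))
 (.node (.node (.leaf 276087789620860)
 (.leaf 99644140313633))
 (.node (.leaf 149602948043273)
 (.leaf 234766042546585)))))
 (.node (.node (.node (.node (.leaf 11496874169481)
 (.leaf 191322460158310))
 (.node (.leaf 120705329817100)
 (.leaf 212702599599415)))
 (.node (.node (.leaf 243679473186151)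
 (.leaf 188626622248854))
 (.node (.leaf 55733779547485)
 (.leaf 37586204154042))))
 (.node (.node (.node (.leaf 208586345634189)
 (.leaf 129112731348285))
 (.node (.leaf 276164319999614)
 (.leaf 37553390838070)))
 (.node (.node (.leaf 132223953536667)
 (.leaf 95269590151514))
 (.node (.leaf 150089240908745)
 (.leaf 200353641327941))))))
 (.node (.node (.node (.node (.node (.leaf 182003523875987)
 (.leaf 95298761192767))
 (.node (.leaf 80212928811519)
 (.leaf 73266670053095)))
 (.node (.node (.leaf 108799331277167)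
 (.leaf 111850004922603))
 (.node (.leaf 116045307227310)
 (.leaf 262137555568959))))
 (.node (.node (.node (.leaf 114970606883188)
 (.leaf 271768291256549))
 (.node (.leaf 132217218747939)
 (.leaf 8977231353298)))
 (.node (.node (.leaf 45992355624316)
 (.leaf 81694335046775))
 (.node (.leaf 262541510217639)
 (.leaf 114988507484599)))))
 (.node (.node (.node (.node (.leaf 228107867389179)
 (.leaf 227478325957630))
 (.node (.leaf 105080992309380)
 (.leaf 14267785862026)))
 (.node (.node (.leaf 124278270075517)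
 (.leaf 174307854524061))
 (.node (.leaf 22570515141295)
 (.leaf 14006845422886))))
 (.node (.node (.node (.leaf 68374929193791)
 (.leaf 137197520623506))
 (.node (.leaf 132624726194675)
 (.leaf 103107967425662)))
 (.node (.node (.leaf 164905950427920)
 (.leaf 44737503867209))
 (.node (.leaf 221770100648517)
 (.leaf 214299943924545))))))

def keyTB105 : RT := .node (.node (.node (.node (.node (.node (.leaf 191196010076905)
 (.leaf 1026348866382))
 (.node (.leaf 73145452735948)
 (.leaf 107952620888599)))
 (.node (.node (.leaf 35621352867492)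
 (.leaf 234771520649760))
 (.node (.leaf 221133021279579)
 (.leaf 209453088918573))))
 (.node (.node (.node (.leaf 52437130472250)
 (.leaf 81659395576817))
 (.node (.leaf 219702097671648)
 (.leaf 31231191979960)))
 (.node (.node (.leaf 99257528286196)
 (.leaf 73003592439444))
 (.node (.leaf 107297591106760)
 (.leaf 255331788602990)))))
 (.node (.node (.node (.node (.leaf 30650495028274)
 (.leaf 23062079563661))
 (.node (.leaf 58398669190405)
 (.leaf 122768849878128)))
 (.node (.node (.leaf 36998152373988)
 (.leaf 133851800294332))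
 (.node (.leaf 146197452243845)
 (.leaf 173356320222592))))
 (.node (.node (.node (.leaf 225606391734951)
 (.leaf 46969411815156))
 (.node (.leaf 145088868742842)
 (.leaf 46969616194507)))
 (.node (.node (.leaf 104334636899348)
 (.leaf 87824941244577))
 (.node (.leaf 35484558855413)
 (.leaf 8858016194716))))))
 (.node (.node (.node (.node (.node (.leaf 3079039089400)
 (.leaf 42518535870636))
 (.node (.leaf 62101946466553)
 (.leaf 35643958813875)))
 (.node (.node (.leaf 68361389137371)
 (.leaf 224349427281213))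
 (.node (.leaf 1236021752555)
 (.leaf 33288471538781))))
 (.node (.node (.node (.leaf 243718547991419)
 (.leaf 122306454648593))
 (.node (.leaf 36957059553305)
 (.leaf 132527201909639)))
 (.node (.node (.leaf 126106929132795)
 (.leaf 276298446342149))
 (.node (.leaf 27154179908396)
 (.leaf 1201693798532)))))
 (.node (.node (.node (.node (.leaf 124692381139488)
 (.leaf 250071896188015))
 (.node (.leaf 30283641311667)
 (.leaf 50150344865079)))
 (.node (.node (.leaf 46376503030122)
 (.leaf 23540967561098))
 (.node (.leaf 23934582825254)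
 (.leaf 213711408846840))))
 (.node (.node (.node (.leaf 276295624182910)
 (.leaf 129666572114001))
 (.node (.leaf 157030766823749)
 (.leaf 54081156335678)))
 (.node (.node (.leaf 275145626035729)
 (.leaf 172511453573655))
 (.node (.leaf 43393763255213)
 (.leaf 133801672759301))))))

def keyTB106 : RT := .node (.node (.node (.node (.node (.node (.leaf 246576241497963)
 (.leaf 48878334253408))
 (.node (.leaf 149091924066367)
 (.leaf 160521613199271)))
 (.node (.node (.leaf 37714982796824)
 (.leaf 134446509164030))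
 (.node (.leaf 50415148281698)
 (.leaf 206905883540897))))
 (.node (.node (.node (.leaf 212132373057205)
 (.leaf 187849977213351))
 (.node (.leaf 79358990281470)
 (.leaf 201137644866780)))
 (.node (.node (.leaf 103097532538505)
 (.leaf 51670262169604))
 (.node (.leaf 18275962681881)
 (.leaf 107940912297289)))))
 (.node (.node (.node (.node (.leaf 146203790676668)
 (.leaf 209750670301986))
 (.node (.leaf 40323088722003)
 (.leaf 114191593323734)))
 (.node (.node (.leaf 265306568633819)
 (.leaf 256371540223773))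
 (.node (.leaf 139656868555949)
 (.leaf 68088288795682))))
 (.node (.node (.node (.leaf 150113662863901)
 (.leaf 199622103549840))
 (.node (.leaf 79906740393373)
 (.leaf 271590799310457)))
 (.node (.node (.leaf 142443559782725)
 (.leaf 83756141787198))
 (.node (.leaf 210101618891599)
 (.leaf 15524114323184))))))
 (.node (.node (.node (.node (.node (.leaf 45016525398226)
 (.leaf 220032312720400))
 (.node (.leaf 136775376687612)
 (.leaf 115535744844320)))
 (.node (.node (.leaf 131097084290620)
 (.leaf 233702668122194))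
 (.node (.leaf 118479058714845)
 (.leaf 242598042736481))))
 (.node (.node (.node (.leaf 95684477937147)
 (.leaf 124026921827418))
 (.node (.leaf 3289869071662)
 (.leaf 215462106954688)))
 (.node (.node (.leaf 247593489047007)
 (.leaf 74278912868206))
 (.node (.leaf 178561597683254)
 (.leaf 118480524689341)))))
 (.node (.node (.node (.node (.leaf 14580198054420)
 (.leaf 138849696505295))
 (.node (.leaf 238335542729947)
 (.leaf 117917266477945)))
 (.node (.node (.leaf 239314444426814)
 (.leaf 221119414239557))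
 (.node (.leaf 21087415669439)
 (.leaf 5778303106595))))
 (.node (.node (.node (.leaf 73035080099597)
 (.leaf 43543220247160))
 (.node (.leaf 268850210332486)
 (.leaf 241217549666825)))
 (.node (.node (.leaf 30334281885277)
 (.leaf 22552351918061))
 (.node (.leaf 135001554361451)
 (.leaf 179127031775603))))))

def keyTB107 : RT := .node (.node (.node (.node (.node (.node (.leaf 149070594781517)
 (.leaf 15477955867490))
 (.node (.leaf 236122199920794)
 (.leaf 36945982298571)))
 (.node (.node (.leaf 132528439179131)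
 (.leaf 183731006531051))
 (.node (.leaf 225726146636858)
 (.leaf 126586047376367))))
 (.node (.node (.node (.leaf 32820682103122)
 (.leaf 273367364219681))
 (.node (.leaf 253293796252648)
 (.leaf 11592074015625)))
 (.node (.node (.leaf 191553357232135)
 (.leaf 50294740803028))
 (.node (.leaf 208917414881194)
 (.leaf 84946034327794)))))
 (.node (.node (.node (.node (.leaf 179124860189039)
 (.leaf 192113366366102))
 (.node (.leaf 190390148321612)
 (.leaf 113642457345086)))
 (.node (.node (.leaf 105094027727934)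
 (.leaf 115558291239640))
 (.node (.leaf 38043774673556)
 (.leaf 114884738792096))))
 (.node (.node (.node (.leaf 184934009321104)
 (.leaf 68040336687926))
 (.node (.leaf 199590859989455)
 (.leaf 79906975827432)))
 (.node (.node (.leaf 262162054201664)
 (.leaf 241905892710031))
 (.node (.leaf 17004881454503)
 (.leaf 192721156601294))))))
 (.node (.node (.node (.node (.node (.leaf 720422228181)
 (.leaf 55412161307833))
 (.node (.leaf 116128270655305)
 (.leaf 114200216129476)))
 (.node (.node (.leaf 256852528529288)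
 (.leaf 68034320276525))
 (.node (.leaf 150112559985343)
 (.leaf 199586757985541))))
 (.node (.node (.node (.leaf 79908391922800)
 (.leaf 265323976713696))
 (.node (.leaf 142818689054827)
 (.leaf 182510406215852)))
 (.node (.node (.leaf 132367207090488)
 (.leaf 235812392626157))
 (.node (.leaf 107298172372877)
 (.leaf 266480396981385)))))
 (.node (.node (.node (.node (.leaf 21720420613918)
 (.leaf 87994944055050))
 (.node (.leaf 119299457968570)
 (.leaf 89752469906893)))
 (.node (.node (.leaf 83297104953940)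
 (.leaf 196094146697318))
 (.node (.leaf 199393869970011)
 (.leaf 258420508154880))))
 (.node (.node (.node (.leaf 192162804204883)
 (.leaf 133797776750211))
 (.node (.leaf 246575805852283)
 (.leaf 200502122749031)))
 (.node (.node (.leaf 148270732849907)
 (.leaf 114851518594453))
 (.node (.leaf 264579457197309)
 (.leaf 188391219592830))))))

def keyTB108 : RT := .node (.node (.node (.node (.node (.node (.leaf 14614668564446)
 (.leaf 150784882256509))
 (.node (.leaf 266433084570140)
 (.leaf 200341683553048)))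
 (.node (.node (.leaf 266490923236542)
 (.leaf 68096165213646))
 (.node (.leaf 150150603768021)
 (.leaf 219758560255224))))
 (.node (.node (.node (.leaf 192191862684661)
 (.leaf 1322515998267))
 (.node (.leaf 179982502615242)
 (.leaf 187773680552197)))
 (.node (.node (.leaf 209395206029411)
 (.leaf 58366601996186))
 (.node (.leaf 122775191258993)
 (.leaf 70697487602288)))))
 (.node (.node (.node (.node (.leaf 256332447138524)
 (.leaf 139666434783800))
 (.node (.leaf 42222567749310)
 (.leaf 83932911941041)))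
 (.node (.node (.leaf 174284263887346)
 (.leaf 181080594108560))
 (.node (.leaf 126872512592729)
 (.leaf 33313101169484))))
 (.node (.node (.node (.leaf 131077163307354)
 (.leaf 18240872358857))
 (.node (.leaf 98587958281990)
 (.leaf 233665284525381)))
 (.node (.node (.leaf 118526349431955)
 (.leaf 242594626064853))
 (.node (.leaf 212752309762998)
 (.leaf 243725055640189))))))
 (.node (.node (.node (.node (.node (.leaf 3268300596056)
 (.leaf 215456068483935))
 (.node (.leaf 43397358282727)
 (.leaf 173221591957264)))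
 (.node (.node (.leaf 88163876483751)
 (.leaf 23508578445092))
 (.node (.leaf 104187139265237)
 (.leaf 181123915180941))))
 (.node (.node (.node (.leaf 16985450716793)
 (.leaf 698312699831))
 (.node (.leaf 138338298128173)
 (.leaf 263230738209963)))
 (.node (.node (.leaf 89727391898450)
 (.leaf 82052738039951))
 (.node (.leaf 130183807230719)
 (.leaf 126138895196763)))))
 (.node (.node (.node (.node (.leaf 209736855310656)
 (.leaf 158191194528042))
 (.node (.leaf 81316405278443)
 (.leaf 199409161720610)))
 (.node (.node (.leaf 258452068625540)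
 (.leaf 209422831373269))
 (.node (.leaf 164907745696586)
 (.leaf 246568143020963))))
 (.node (.node (.node (.leaf 267288134419053)
 (.leaf 94856712956723))
 (.node (.leaf 107287206607665)
 (.leaf 266433359126746)))
 (.node (.node (.leaf 223561236990364)
 (.leaf 50183868026015))
 (.node (.leaf 9210891861685)
 (.leaf 13841826284422))))))

def keyTB109 : RT := .node (.node (.node (.node (.node (.node (.leaf 8958926384127)
 (.leaf 46029700211077))
 (.node (.leaf 81692693271297)
 (.leaf 228094058704738)))
 (.node (.node (.leaf 108850398015006)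
 (.leaf 188572176732572))
 (.node (.leaf 88041139239487)
 (.leaf 180021214644417))))
 (.node (.node (.node (.leaf 36953752361486)
 (.leaf 235787072716937))
 (.node (.leaf 73169807384402)
 (.leaf 23067859604258)))
 (.node (.node (.leaf 11534991727748)
 (.leaf 166882822403004))
 (.node (.leaf 129078692041635)
 (.leaf 122996357133420)))))
 (.node (.node (.node (.node (.leaf 203333897588401)
 (.leaf 83282730467986))
 (.node (.leaf 48905808588313)
 (.leaf 132374958049041)))
 (.node (.node (.leaf 153320808312268)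
 (.leaf 129399613790064))
 (.node (.leaf 130205432827359)
 (.leaf 126154998569459))))
 (.node (.node (.node (.leaf 90942049270397)
 (.leaf 55389387331618))
 (.node (.leaf 223583336747271)
 (.leaf 99699625018076)))
 (.node (.node (.leaf 130200817576540)
 (.leaf 126155963433412))
 (.node (.leaf 90963379495920)
 (.leaf 79317513421886))))))
 (.node (.node (.node (.node (.node (.leaf 5804373660376)
 (.leaf 76985053072353))
 (.node (.leaf 201122466345620)
 (.leaf 123297798460504)))
 (.node (.node (.leaf 190361303483559)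
 (.leaf 137449451456121))
 (.node (.leaf 146825318521828)
 (.leaf 157062552852832))))
 (.node (.node (.node (.leaf 82871040197881)
 (.leaf 77005471015206))
 (.node (.leaf 50408963372975)
 (.leaf 30673557953730)))
 (.node (.node (.leaf 271605165141956)
 (.leaf 42221819911665))
 (.node (.leaf 93941877928243)
 (.leaf 142327532943803)))))
 (.node (.node (.node (.node (.leaf 122264833602151)
 (.leaf 87998098397893))
 (.node (.leaf 76842924434483)
 (.leaf 74246899642136)))
 (.node (.node (.leaf 82835934513241)
 (.leaf 217394639417553))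
 (.node (.leaf 227032540528513)
 (.leaf 46325681683496))))
 (.node (.node (.node (.leaf 242632175196005)
 (.leaf 68092836334595))
 (.node (.leaf 266431231345083)
 (.leaf 200361762802178)))
 (.node (.node (.leaf 153341250773030)
 (.leaf 143550243226235))
 (.node (.leaf 117054188828296)
 (.leaf 191220774863017))))))

def keyTB110 : RT := .node (.node (.node (.node (.node (.node (.leaf 968460410177)
 (.leaf 73134950632453))
 (.node (.leaf 107902169815264)
 (.leaf 35638326223825)))
 (.node (.node (.leaf 234805121031694)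
 (.leaf 221102527020988))
 (.node (.leaf 209452795910740)
 (.leaf 142121298133408))))
 (.node (.node (.node (.leaf 52442445144195)
 (.leaf 214319151869601))
 (.node (.leaf 172594577639440)
 (.leaf 165060125996582)))
 (.node (.node (.leaf 142988410303162)
 (.leaf 55400486270307))
 (.node (.leaf 116120103600688)
 (.leaf 116032280256568)))))
 (.node (.node (.node (.node (.leaf 114859121873511)
 (.leaf 40323826501391))
 (.node (.leaf 114206223920799)
 (.leaf 72984904421651)))
 (.node (.node (.leaf 109527000495534)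
 (.leaf 178598739255992))
 (.node (.leaf 132402232956027)
 (.leaf 115931983489317))))
 (.node (.node (.node (.leaf 38051439997923)
 (.leaf 265306216476085))
 (.node (.leaf 129065869859981)
 (.leaf 271779579594107)))
 (.node (.node (.leaf 94874001280287)
 (.leaf 146219234167951))
 (.node (.leaf 80210824452984)
 (.leaf 188628491972782))))))
 (.node (.node (.node (.node (.node (.leaf 55731579667273)
 (.leaf 94295100795152))
 (.node (.leaf 1307970331308)
 (.leaf 219899415112215)))
 (.node (.node (.leaf 271605362027084)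
 (.leaf 74253694176449))
 (.node (.leaf 104321621319821)
 (.leaf 88147990212766))))
 (.node (.node (.node (.leaf 247564813592666)
 (.leaf 50299549425776))
 (.node (.leaf 95266421916753)
 (.leaf 200959799255342)))
 (.node (.node (.leaf 212075681469152)
 (.leaf 233684432846447))
 (.node (.leaf 118533101022575)
 (.leaf 50261923620262)))))
 (.node (.node (.node (.node (.leaf 208941997981240)
 (.leaf 111917806681423))
 (.node (.leaf 221104609785663)
 (.leaf 209401410372615)))
 (.node (.node (.leaf 13988798573294)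
 (.leaf 58353267738893))
 (.node (.leaf 105015115443804)
 (.leaf 51608756883141))))
 (.node (.node (.node (.leaf 253306917904929)
 (.leaf 221122981383356))
 (.node (.leaf 209448803907684)
 (.leaf 124273865179970)))
 (.node (.node (.leaf 108819097760669)
 (.leaf 142813989662425))
 (.node (.leaf 136784352533531)
 (.leaf 62076731951222))))))

def keyTB111 : RT := .node (.node (.node (.node (.node (.node (.leaf 164858111461293)
 (.leaf 44790210958307))
 (.node (.leaf 73259341763457)
 (.leaf 128799641092795)))
 (.node (.node (.leaf 11590173218795)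
 (.leaf 111929502019156))
 (.node (.leaf 269103031130366)
 (.leaf 38026877992896))))
 (.node (.node (.node (.leaf 104237276370469)
 (.leaf 203321447340597))
 (.node (.leaf 239313173236011)
 (.leaf 221120789786912)))
 (.node (.node (.leaf 182490559151736)
 (.leaf 73271880754821))
 (.node (.leaf 182020727789416)
 (.leaf 223608626101549)))))
 (.node (.node (.node (.node (.leaf 99670012484768)
 (.leaf 236161923460831))
 (.node (.leaf 67560684514307)
 (.leaf 234778752414836)))
 (.node (.node (.leaf 187791048055414)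
 (.leaf 131273199698878))
 (.node (.leaf 264631961522299)
 (.leaf 116071776671170))))
 (.node (.node (.node (.leaf 116010695815499)
 (.leaf 114858505348747))
 (.node (.leaf 40295670261125)
 (.leaf 5828098220285)))
 (.node (.node (.leaf 73015861654412)
 (.leaf 119320027787207))
 (.node (.leaf 276167161329609)
 (.leaf 89778294327021))))))
 (.node (.node (.node (.node (.node (.leaf 83336238646187)
 (.leaf 132242898808665))
 (.node (.leaf 58342989783118)
 (.leaf 36979788767927)))
 (.node (.node (.leaf 133803942027548)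
 (.leaf 115521391173209))
 (.node (.leaf 131102511062324)
 (.leaf 225641794152975))))
 (.node (.node (.node (.leaf 46945412770353)
 (.leaf 145101755976236))
 (.node (.leaf 44748549478035)
 (.leaf 94850665342117)))
 (.node (.node (.leaf 125117892496588)
 (.leaf 278801034134724))
 (.node (.leaf 224320025415692)
 (.leaf 1185472899130)))))
 (.node (.node (.node (.node (.leaf 107325830900304)
 (.leaf 9244001636420))
 (.node (.leaf 138823541904380)
 (.leaf 119081215607271)))
 (.node (.node (.leaf 3243617513277)
 (.leaf 263202894085385))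
 (.node (.leaf 139675583428923)
 (.leaf 149185937655616))))
 (.node (.node (.node (.leaf 256811783863704)
 (.leaf 55741976795818))
 (.node (.leaf 195057835366761)
 (.leaf 193565407262364)))
 (.node (.node (.leaf 188363619328110)
 (.leaf 240083532299637))
 (.node (.leaf 95956201202810)
 (.leaf 208596805106546))))))

def keyTB112 : RT := .node (.node (.node (.node (.node (.node (.leaf 116092629515990)
 (.leaf 225657304852599))
 (.node (.leaf 228093388549706)
 (.leaf 46093192898651)))
 (.node (.node (.leaf 225637916621501)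
 (.leaf 111824824556793))
 (.node (.leaf 238338906862493)
 (.leaf 117080339343907))))
 (.node (.node (.node (.leaf 189688201826906)
 (.leaf 23029386745137))
 (.node (.leaf 35472914231240)
 (.leaf 265182182677579)))
 (.node (.node (.leaf 8839373649056)
 (.leaf 3084839338506))
 (.node (.leaf 82113268980520)
 (.leaf 187743282188424)))))
 (.node (.node (.node (.node (.leaf 267266156260188)
 (.leaf 40284753702241))
 (.node (.leaf 114169054166878)
 (.leaf 265280748151520)))
 (.node (.node (.leaf 241238378538904)
 (.leaf 139697292386039))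
 (.node (.leaf 68032703129216)
 (.leaf 150130004164269))))
 (.node (.node (.node (.leaf 271624126979723)
 (.leaf 122773095312672))
 (.node (.leaf 217008525566200)
 (.leaf 200496489825487)))
 (.node (.node (.leaf 158173536845235)
 (.leaf 81303101508337))
 (.node (.leaf 20361220280673)
 (.leaf 8855451250177))))))
 (.node (.node (.node (.node (.node (.leaf 146797707560852)
 (.leaf 157088866559537))
 (.node (.leaf 30249437955449)
 (.leaf 50106621384234)))
 (.node (.node (.leaf 256356667626358)
 (.leaf 139687412137695))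
 (.node (.leaf 42212762458423)
 (.leaf 83968472495473))))
 (.node (.node (.node (.leaf 123346712823334)
 (.leaf 227010234147277))
 (.node (.leaf 242622943466156)
 (.leaf 68038669081111)))
 (.node (.node (.leaf 89745889347249)
 (.leaf 14628114666611))
 (.node (.leaf 83271367912438)
 (.leaf 209776899951731)))))
 (.node (.node (.node (.node (.leaf 157061622453163)
 (.leaf 82818510174574))
 (.node (.leaf 77022286670073)
 (.leaf 37673174507809)))
 (.node (.node (.leaf 192753959957599)
 (.leaf 694802127147))
 (.node (.leaf 70695067488131)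
 (.leaf 129406241781572))))
 (.node (.node (.node (.leaf 88020189493809)
 (.leaf 154784785104391))
 (.node (.leaf 192721794754132)
 (.leaf 182461341351956)))
 (.node (.node (.leaf 241216002559454)
 (.leaf 30363244874234))
 (.node (.leaf 142374521907471)
 (.leaf 183735470141278))))))

def keyTB113 : RT := .node (.node (.node (.node (.node (.node (.leaf 225707287377911)
 (.leaf 253236792901264))
 (.node (.leaf 105100359989782)
 (.leaf 191580584660565)))
 (.node (.node (.leaf 81666543404703)
 (.leaf 184953711207676))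
 (.node (.leaf 109523575449060)
 (.leaf 130168148465744))))
 (.node (.node (.node (.leaf 148263125991018)
 (.leaf 262124257037541))
 (.node (.leaf 46991162140373)
 (.leaf 145076641362012)))
 (.node (.node (.leaf 14279740432855)
 (.leaf 84386524197637))
 (.node (.leaf 275125318900341)
 (.leaf 239694883645414)))))
 (.node (.node (.node (.node (.leaf 13862792175666)
 (.leaf 227495415741303))
 (.node (.leaf 215469794254177)
 (.leaf 179091147738367)))
 (.node (.node (.leaf 108050225428045)
 (.leaf 36996890676429))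
 (.node (.leaf 13952653753960)
 (.leaf 58407772377516))))
 (.node (.node (.node (.leaf 23938823763417)
 (.leaf 46098740349711))
 (.node (.leaf 244545682119462)
 (.leaf 206830252661839)))
 (.node (.node (.leaf 166879157711489)
 (.leaf 220031863357854))
 (.node (.leaf 76892224095624)
 (.leaf 151843007822291))))))
 (.node (.node (.node (.node (.node (.leaf 9267457430856)
 (.leaf 160512050931868))
 (.node (.leaf 150101218173202)
 (.leaf 107609082661416)))
 (.node (.node (.leaf 36913994864951)
 (.leaf 105507968572811))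
 (.node (.leaf 276079146704640)
 (.leaf 219735592089421))))
 (.node (.node (.node (.leaf 87982360856025)
 (.leaf 31218901335108))
 (.node (.leaf 20378920287541)
 (.leaf 195079701259979)))
 (.node (.node (.leaf 158139555560925)
 (.leaf 178565123043218))
 (.node (.leaf 191227823134491)
 (.leaf 89737260560841)))))
 (.node (.node (.node (.node (.leaf 81290784112235)
 (.leaf 210127365160756))
 (.node (.leaf 99253676950210)
 (.leaf 142389168514169)))
 (.node (.node (.leaf 122292322871823)
 (.leaf 14239852101933))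
 (.node (.leaf 276145091933060)
 (.leaf 21776002871931))))
 (.node (.node (.node (.leaf 48926269850126)
 (.leaf 214310900175691))
 (.node (.leaf 172586266775630)
 (.leaf 138858314472020)))
 (.node (.node (.leaf 142329079328512)
 (.leaf 84942643914305))
 (.node (.leaf 166901196287334)
 (.leaf 83920856669060))))))

def keyTB114 : RT := .node (.node (.node (.node (.node (.node (.leaf 135013896651131)
 (.leaf 55388049298211))
 (.node (.leaf 76977829773700)
 (.leaf 268874479728862)))
 (.node (.node (.leaf 76848794018090)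
 (.leaf 151863576202093))
 (.node (.leaf 126134035277043)
 (.leaf 200487873411917))))
 (.node (.node (.node (.leaf 158166937690461)
 (.leaf 81308443897038))
 (.node (.leaf 201103110650683)
 (.leaf 105526460442431)))
 (.node (.node (.leaf 79311835331262)
 (.leaf 98575255939949))
 (.node (.leaf 90784514291629)
 (.leaf 122947021361649)))))
 (.node (.node (.node (.node (.leaf 255317790591891)
 (.leaf 132599473051915))
 (.node (.leaf 150834702309334)
 (.leaf 223555543900856)))
 (.node (.node (.leaf 73120232512252)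
 (.leaf 107908244822080))
 (.node (.leaf 35625585771158)
 (.leaf 234765715421385))))
 (.node (.node (.node (.leaf 43502046999011)
 (.leaf 192189323867853))
 (.node (.leaf 45058130387085)
 (.leaf 30671795657593)))
 (.node (.node (.leaf 81317679236747)
 (.leaf 189696241217755))
 (.node (.leaf 15479418273934)
 (.leaf 36954242037119))))))
 (.node (.node (.node (.node (.node (.leaf 173175706194259)
 (.leaf 233555895735623))
 (.node (.leaf 192127186885623)
 (.leaf 157323091563107)))
 (.node (.node (.leaf 221891110488818)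
 (.leaf 233712287121345))
 (.node (.leaf 23928364629036)
 (.leaf 213677012110323))))
 (.node (.node (.node (.leaf 46083263996205)
 (.leaf 244560679384647))
 (.node (.leaf 74289614070817)
 (.leaf 134438212325422)))
 (.node (.node (.leaf 257184449587811)
 (.leaf 1342862779194))
 (.node (.leaf 224314505625091)
 (.leaf 142453465944750)))))
 (.node (.node (.node (.node (.leaf 83741597052330)
 (.leaf 51621490661938))
 (.node (.leaf 107909769640027)
 (.leaf 146226827261004)))
 (.node (.node (.leaf 13817997753580)
 (.leaf 227515900044981))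
 (.node (.leaf 246604857276841)
 (.leaf 105101808783425))))
 (.node (.node (.node (.leaf 233686991594692)
 (.leaf 13961602069323))
 (.node (.leaf 23922960607914)
 (.leaf 46076086081180)))
 (.node (.node (.leaf 244523083923566)
 (.leaf 215451832239637))
 (.node (.leaf 183717341109326)
 (.leaf 232970072672430))))))

def keyTB115 : RT := .node (.node (.node (.node (.node (.node (.leaf 81663986519371)
 (.leaf 262569232255784))
 (.node (.leaf 115000836730753)
 (.leaf 228131294698536)))
 (.node (.node (.leaf 221761276931798)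
 (.leaf 119068524797599))
 (.node (.leaf 188379415731343)
 (.leaf 94304507984760))))
 (.node (.node (.node (.leaf 165001935483698)
 (.leaf 108067062223333))
 (.node (.leaf 18250382102620)
 (.leaf 54013871382357)))
 (.node (.node (.leaf 22554530752855)
 (.leaf 11478579358235))
 (.node (.leaf 88097377604880)
 (.leaf 99681198471684)))))
 (.node (.node (.node (.node (.leaf 84331080355902)
 (.leaf 48903442279710))
 (.node (.leaf 128834492450088)
 (.leaf 126922436671733)))
 (.node (.node (.leaf 94864843466500)
 (.leaf 172512571704549))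
 (.node (.leaf 103116302522055)
 (.leaf 43373551858345))))
 (.node (.node (.node (.leaf 271670490626698)
 (.leaf 131287536525112))
 (.node (.leaf 142451625361002)
 (.leaf 192186253484099)))
 (.node (.node (.leaf 188402590619457)
 (.leaf 105037404310730))
 (.node (.leaf 94334940524629)
 (.leaf 221839091481394))))))
 (.node (.node (.node (.node (.node (.leaf 13954233782958)
 (.leaf 58363030388138))
 (.node (.leaf 117909117703951)
 (.leaf 31225407963681)))
 (.node (.node (.leaf 65614809729899)
 (.leaf 42477776444592))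
 (.node (.leaf 278861165980574)
 (.leaf 193549813393848))))
 (.node (.node (.node (.leaf 188415222902098)
 (.leaf 126154001775686))
 (.node (.leaf 276283120501045)
 (.leaf 36982476117234)))
 (.node (.node (.leaf 131322264381167)
 (.leaf 264572386454268))
 (.node (.leaf 107577508604432)
 (.leaf 232965100284941)))))
 (.node (.node (.node (.node (.leaf 266490049428432)
 (.leaf 150115821225091))
 (.node (.leaf 276078268208135)
 (.leaf 148279257729774)))
 (.node (.node (.leaf 262137304013069)
 (.leaf 241901635923713))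
 (.node (.leaf 17005408632584)
 (.leaf 219749600894556))))
 (.node (.node (.node (.leaf 87994334666437)
 (.leaf 20392003840864))
 (.node (.leaf 219890117772239)
 (.leaf 271603342337140)))
 (.node (.node (.leaf 184979013701851)
 (.leaf 52485261483313))
 (.node (.leaf 178545009505669)
 (.leaf 154779132909632))))))

def keyTB116 : RT := .node (.node (.node (.node (.node (.node (.leaf 196073603919925)
 (.leaf 199383170951138))
 (.node (.leaf 258430245970654)
 (.leaf 125124126963118)))
 (.node (.node (.leaf 137185513636397)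
 (.leaf 179146804747921))
 (.node (.leaf 232960956992650)
 (.leaf 257206241995855))))
 (.node (.node (.node (.leaf 142431495507451)
 (.leaf 83768352015918))
 (.node (.leaf 17538595338375)
 (.leaf 45044204275084)))
 (.node (.node (.leaf 219996508382429)
 (.leaf 95673441368544))
 (.node (.leaf 124004918129366)
 (.leaf 212719223253038)))))
 (.node (.node (.node (.node (.leaf 243698746465626)
 (.leaf 8839202521568))
 (.node (.leaf 275123778836115)
 (.leaf 17029413863354)))
 (.node (.node (.leaf 79863607236682)
 (.leaf 149615931446168))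
 (.node (.leaf 132229575307632)
 (.leaf 95999773883905))))
 (.node (.node (.node (.leaf 143517886703803)
 (.leaf 3246713151619))
 (.node (.leaf 250135713220288)
 (.leaf 154808651721144)))
 (.node (.node (.leaf 95664426559135)
 (.leaf 90787002041430))
 (.node (.leaf 38031517452415)
 (.leaf 104212766146662))))))
 (.node (.node (.node (.node (.node (.leaf 203291402257192)
 (.leaf 239311408078372))
 (.node (.leaf 181985586354710)
 (.leaf 104337533208745)))
 (.node (.node (.leaf 199615240853376)
 (.leaf 35510244759117))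
 (.node (.leaf 209782324563380)
 (.leaf 200465691146208))))
 (.node (.node (.node (.leaf 221769370768208)
 (.leaf 173353806754265))
 (.node (.leaf 114175633935520)
 (.leaf 146203814400773)))
 (.node (.node (.leaf 80236662776334)
 (.leaf 203308188562107))
 (.node (.leaf 83241539339990)
 (.leaf 212103899151647)))))
 (.node (.node (.node (.node (.leaf 93983536847458)
 (.leaf 149079648605720))
 (.node (.leaf 132378327334056)
 (.leaf 115024465665312)))
 (.node (.node (.leaf 228107082866936)
 (.leaf 27210000312591))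
 (.node (.leaf 120694106502991)
 (.leaf 137179915685177))))
 (.node (.node (.node (.leaf 20389066117063)
 (.leaf 51657076384585))
 (.node (.leaf 18224823101131)
 (.leaf 124018437839476)))
 (.node (.node (.leaf 68341101977064)
 (.leaf 262560994242328))
 (.node (.leaf 206899848445387)
 (.leaf 46009312417151))))))

def keyTB117 : RT := .node (.node (.node (.node (.node (.node (.leaf 50393627661887)
 (.leaf 157067896197459))
 (.node (.leaf 54040608220487)
 (.leaf 40310135627053)))
 (.node (.node (.leaf 30652461670638)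
 (.leaf 253317138274977))
 (.node (.leaf 65576940344443)
 (.leaf 227214398706362))))
 (.node (.node (.node (.leaf 276281183650931)
 (.leaf 129634536929284))
 (.node (.leaf 206789070892268)
 (.leaf 242597548897973)))
 (.node (.node (.leaf 174316631084324)
 (.leaf 181108252508558))
 (.node (.leaf 216949001576199)
 (.leaf 271653332080996)))))
 (.node (.node (.node (.node (.leaf 50132859935559)
 (.leaf 89713272754540))
 (.node (.leaf 123295458950133)
 (.leaf 216961503678205)))
 (.node (.node (.leaf 193543234962756)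
 (.leaf 129415469124317))
 (.node (.leaf 227039314024279)
 (.leaf 265173659508577))))
 (.node (.node (.node (.leaf 88121912009682)
 (.leaf 20343405881888))
 (.node (.leaf 221888627359401)
 (.leaf 233700580999340)))
 (.node (.node (.leaf 94300421341189)
 (.leaf 51661515226069))
 (.node (.leaf 149608909169678)
 (.leaf 117909650580206))))))
 (.node (.node (.node (.node (.node (.leaf 157407724865632)
 (.leaf 134474164648503))
 (.node (.leaf 136785593179294)
 (.leaf 115576991801903)))
 (.node (.node (.leaf 131067101326449)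
 (.leaf 225626761996820))
 (.node (.leaf 46976193162703)
 (.leaf 145097025965275))))
 (.node (.node (.node (.leaf 187798591246857)
 (.leaf 44737164443198))
 (.node (.leaf 94899677999429)
 (.leaf 239735286087454)))
 (.node (.node (.leaf 119354236884475)
 (.leaf 125127145027074))
 (.node (.leaf 278842529573814)
 (.leaf 213713321977882)))))
 (.node (.node (.node (.node (.leaf 37008070722811)
 (.leaf 219839807611692))
 (.node (.leaf 206834405676556)
 (.leaf 108842186069597)))
 (.node (.node (.leaf 188583815976837)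
 (.leaf 107916440609231))
 (.node (.leaf 146174963570152)
 (.leaf 43369162540913))))
 (.node (.node (.node (.leaf 173179847708423)
 (.leaf 13823271047410))
 (.node (.leaf 227489909858245)
 (.leaf 9261260365515)))
 (.node (.node (.leaf 138847936171772)
 (.leaf 67615117686516))
 (.node (.leaf 173224679710430)
 (.leaf 233533055571344))))))

def keyTB118 : RT := .node (.node (.node (.node (.node (.node (.leaf 215452337551367)
 (.leaf 183719624096485))
 (.node (.leaf 187855269517813)
 (.leaf 142952600564404)))
 (.node (.node (.leaf 11546946476581)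
 (.leaf 122974094087287))
 (.node (.leaf 14251806971655)
 (.leaf 84327428799540))))
 (.node (.node (.node (.leaf 124300539083754)
 (.leaf 174278152093591))
 (.node (.leaf 267282145820933)
 (.leaf 104381542614144)))
 (.node (.node (.leaf 31212874134193)
 (.leaf 206824555598365))
 (.node (.leaf 50107254370778)
 (.leaf 89700867167545)))))
 (.node (.node (.node (.node (.leaf 238353083664459)
 (.leaf 117048147404370))
 (.node (.leaf 221818828130707)
 (.leaf 214321194908505)))
 (.node (.node (.leaf 191234688252029)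
 (.leaf 1010004488802))
 (.node (.leaf 221116215557587)
 (.leaf 142160427079618))))
 (.node (.node (.node (.leaf 52479916651655)
 (.leaf 81690390033899))
 (.node (.leaf 31260188416706)
 (.leaf 99269554410510)))
 (.node (.node (.leaf 73140833956624)
 (.leaf 107937821634925))
 (.node (.leaf 234766391045654)
 (.leaf 114970529774764))))))
 (.node (.node (.node (.node (.node (.leaf 239707012131712)
 (.leaf 125085160883907))
 (.node (.leaf 278841054259899)
 (.leaf 55791648095050)))
 (.node (.node (.leaf 195063380123086)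
 (.leaf 149129178490447))
 (.node (.leaf 240050114643626)
 (.leaf 109497076426137))))
 (.node (.node (.node (.leaf 130211129234160)
 (.leaf 145115607945286))
 (.node (.leaf 239757320158515)
 (.leaf 125131601124261)))
 (.node (.node (.leaf 278849275531738)
 (.leaf 187802996202090))
 (.node (.leaf 269074036511249)
 (.leaf 142854583994151)))))
 (.node (.node (.node (.node (.leaf 232974128437178)
 (.leaf 200319931308390))
 (.node (.leaf 182005044695595)
 (.leaf 95311127704790)))
 (.node (.node (.leaf 80247393844958)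
 (.leaf 73299580888464))
 (.node (.leaf 276082492188562)
 (.leaf 83741177539966))))
 (.node (.node (.node (.leaf 111814028430319)
 (.leaf 116041465055570))
 (.node (.leaf 262115466575578)
 (.leaf 271743295115620)))
 (.node (.node (.leaf 233576429752773)
 (.leaf 137228362414282))
 (.node (.leaf 149078102484727)
 (.leaf 89779399694795))))))

def keyTB119 : RT := .node (.node (.node (.node (.node (.node (.leaf 149083951787390)
 (.leaf 239724745617429))
 (.node (.leaf 119363612959586)
 (.leaf 262509616629386)))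
 (.node (.node (.leaf 276110976580105)
 (.leaf 81282759530302))
 (.node (.leaf 250122383064371)
 (.leaf 265266334303757))))
 (.node (.node (.node (.leaf 44780468098480)
 (.leaf 94900433818069))
 (.node (.leaf 115945267189922)
 (.leaf 42505617226578)))
 (.node (.node (.leaf 268847549379777)
 (.leaf 111919904079486))
 (.node (.leaf 263221123014877)
 (.leaf 271704087181278)))))
 (.node (.node (.node (.node (.leaf 146209551643565)
 (.leaf 62080523188833))
 (.node (.leaf 43363134854557)
 (.leaf 173190206579404)))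
 (.node (.node (.leaf 236186755209410)
 (.leaf 46001386869108))
 (.node (.leaf 9210766759850)
 (.leaf 138822850015462))))
 (.node (.node (.node (.leaf 233701196831989)
 (.leaf 118492853733460))
 (.node (.leaf 54053928389018)
 (.leaf 23021238156824)))
 (.node (.node (.leaf 11511487384282)
 (.leaf 111918929189810))
 (.node (.leaf 195064584167965)
 (.leaf 240079588306904))))))
 (.node (.node (.node (.node (.node (.leaf 128815674431319)
 (.leaf 126904662155626))
 (.node (.leaf 132528744017190)
 (.leaf 105536394222399)))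
 (.node (.node (.leaf 116098566914315)
 (.leaf 70668749037309))
 (.node (.leaf 225628350949013)
 (.leaf 46071226734034))))
 (.node (.node (.node (.leaf 80204980310041)
 (.leaf 73317529803485))
 (.node (.leaf 191583699530840)
 (.leaf 235797359277274)))
 (.node (.node (.leaf 241234856638601)
 (.leaf 139649494401653))
 (.node (.leaf 119023979693738)
 (.leaf 3231243997872)))))
 (.node (.node (.node (.node (.leaf 95713096886051)
 (.leaf 212696663310097))
 (.node (.leaf 85004734887772)
 (.leaf 45018993443470)))
 (.node (.node (.leaf 220015402731570)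
 (.leaf 108072292566713))
 (.node (.leaf 105093498026164)
 (.leaf 104210126595113))))
 (.node (.node (.node (.leaf 172588970157710)
 (.leaf 131276886763821))
 (.node (.leaf 21036932026295)
 (.leaf 191362023868205)))
 (.node (.node (.leaf 173320624110763)
 (.leaf 200984226969369))
 (.node (.leaf 116116277285564)
 (.leaf 70676601864217))))))

def keyTB120 : RT := .node (.node (.node (.node (.node (.node (.leaf 109508981170539)
 (.leaf 113648084690315))
 (.node (.leaf 217393363910726)
 (.leaf 116087152338919)))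
 (.node (.node (.leaf 70670814314256)
 (.leaf 164875761953299))
 (.node (.leaf 46357757006353)
 (.leaf 14226818914087))))
 (.node (.node (.node (.leaf 3030016291437)
 (.leaf 157407188601174))
 (.node (.leaf 27149523913488)
 (.leaf 256851876043770)))
 (.node (.node (.leaf 87886318429016)
 (.leaf 35476012504013))
 (.node (.leaf 265144086178310)
 (.leaf 8804933741741)))))
 (.node (.node (.node (.node (.leaf 3051658159639)
 (.leaf 115983752080269))
 (.node (.leaf 95995234362961)
 (.leaf 143520903993324)))
 (.node (.node (.leaf 236125784642547)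
 (.leaf 13860272968909))
 (.node (.leaf 227479756503261)
 (.leaf 215461959184393))))
 (.node (.node (.node (.leaf 166851987874311)
 (.leaf 108070231335147))
 (.node (.leaf 37022553693358)
 (.leaf 13992877679188)))
 (.node (.node (.leaf 58384298010658)
 (.leaf 206782799140718))
 (.node (.leaf 242604010644827)
 (.leaf 193544206583527))))))
 (.node (.node (.node (.node (.node (.leaf 188421533109948)
 (.leaf 14635363963907))
 (.node (.leaf 16982509873338)
 (.leaf 273394534705549)))
 (.node (.node (.leaf 79880851648329)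
 (.leaf 43525859254896))
 (.node (.leaf 35471564965025)
 (.leaf 265125464808832))))
 (.node (.node (.node (.leaf 135025786922628)
 (.leaf 37687859986719))
 (.node (.leaf 65614958894270)
 (.leaf 227022641604681)))
 (.node (.node (.leaf 46318538453599)
 (.leaf 242636490554817))
 (.node (.leaf 192138497465314)
 (.leaf 108042524779248)))))
 (.node (.node (.node (.node (.leaf 8950484753186)
 (.leaf 79327805409268))
 (.node (.leaf 5828424523343)
 (.leaf 225681366561302)))
 (.node (.node (.leaf 40325349522626)
 (.leaf 129422539470148))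
 (.node (.leaf 253290137705611)
 (.leaf 20374796219057))))
 (.node (.node (.node (.leaf 221886014882010)
 (.leaf 124003049425722))
 (.node (.leaf 88060177109839)
 (.leaf 201000608082997)))
 (.node (.node (.leaf 221855218668089)
 (.leaf 275085205659728))
 (.node (.leaf 65592243960538)
 (.leaf 123344878017375))))))

def keyTB121 : RT := .node (.node (.node (.node (.node (.node (.leaf 276257850489603)
 (.leaf 129633044382802))
 (.node (.leaf 103136921363095)
 (.leaf 224347981470540)))
 (.node (.node (.leaf 142431115264634)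
 (.leaf 120672786415945))
 (.node (.leaf 271705441203861)
 (.leaf 50209146912212))))
 (.node (.node (.node (.leaf 224355342968913)
 (.leaf 262510080965690))
 (.node (.leaf 166907471380105)
 (.leaf 83916737667634)))
 (.node (.node (.leaf 181103923051335)
 (.leaf 201096906704077))
 (.node (.leaf 129609178761067)
 (.leaf 74266295852064)))))
 (.node (.node (.node (.node (.leaf 223579897147837)
 (.leaf 239310210812337))
 (.node (.leaf 157318120350261)
 (.leaf 137179516246513)))
 (.node (.node (.leaf 225637858537835)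
 (.leaf 111853614789375))
 (.node (.leaf 228136877201575)
 (.leaf 46045562348387))))
 (.node (.node (.node (.leaf 50301208721082)
 (.leaf 129421039091555))
 (.node (.leaf 208582831493833)
 (.leaf 90930565976327)))
 (.node (.node (.leaf 83351446290258)
 (.leaf 55392897873225))
 (.node (.leaf 178586679036800)
 (.leaf 268835195926384))))))
 (.node (.node (.node (.node (.node (.leaf 190397186058957)
 (.leaf 240072080991360))
 (.node (.leaf 95984026080506)
 (.leaf 116066150027867)))
 (.node (.node (.leaf 55743342064623)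
 (.leaf 195039601851280))
 (.node (.leaf 217396136651935)
 (.leaf 186162614796776))))
 (.node (.node (.node (.leaf 146791981962063)
 (.leaf 172494292264848))
 (.node (.leaf 203273361888292)
 (.leaf 160522340628028)))
 (.node (.node (.leaf 37674807660396)
 (.leaf 50389636072946))
 (.node (.leaf 206868763686995)
 (.leaf 37530243087574)))))
 (.node (.node (.node (.node (.leaf 21716954326127)
 (.leaf 95668951136741))
 (.node (.leaf 94004099565014)
 (.leaf 142355011968944)))
 (.node (.node (.leaf 256385883105208)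
 (.leaf 178559591275343))
 (.node (.leaf 132354809761563)
 (.leaf 119079297043537))))
 (.node (.node (.node (.leaf 275150950115869)
 (.leaf 273395452675339))
 (.node (.leaf 136818353217809)
 (.leaf 123975629622129)))
 (.node (.node (.leaf 32814329594308)
 (.leaf 166908242488067))
 (.node (.leaf 122735912427787)
 (.leaf 67566351193420))))))

def keyTB122 : RT := .node (.node (.node (.node (.node (.node (.leaf 165008190702318)
 (.leaf 182491714440159))
 (.node (.leaf 219891994166765)
 (.leaf 122287287772674)))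
 (.node (.node (.leaf 174277665685275)
 (.leaf 126856737428423))
 (.node (.leaf 83235658681595)
 (.leaf 79305964288229))))
 (.node (.node (.node (.leaf 18249367091365)
 (.leaf 276287570296213))
 (.node (.leaf 129670290091195)
 (.leaf 8967406811455)))
 (.node (.node (.leaf 206877726528189)
 (.leaf 172548456704942))
 (.node (.leaf 227234476966657)
 (.leaf 74304661511962)))))
 (.node (.node (.node (.node (.leaf 124709941270241)
 (.leaf 160460845253846))
 (.node (.leaf 138380391260952)
 (.leaf 263255782593777)))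
 (.node (.node (.leaf 276167070929050)
 (.leaf 82074439810620))
 (.node (.leaf 250092848373396)
 (.leaf 145123419629587))))
 (.node (.node (.node (.leaf 267285940424662)
 (.leaf 44740384558542))
 (.node (.leaf 94852013459581)
 (.leaf 50196357724235)))
 (.node (.node (.leaf 9260413843026)
 (.leaf 27185843896859))
 (.node (.leaf 151858430310544)
 (.leaf 199422993911660))))))
 (.node (.node (.node (.node (.node (.leaf 258438036755400)
 (.leaf 209408121167953))
 (.node (.leaf 192146838866880)
 (.leaf 88022855382805)))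
 (.node (.node (.leaf 209784709968457)
 (.leaf 113643019330892))
 (.node (.leaf 186172760509576)
 (.leaf 146821441842673))))
 (.node (.node (.node (.leaf 126587266497116)
 (.leaf 199616865821881))
 (.node (.leaf 241260674133545)
 (.leaf 157311078720861)))
 (.node (.node (.leaf 109485836694531)
 (.leaf 46937687422347))
 (.node (.leaf 14265397044377)
 (.leaf 84348932205540)))))
 (.node (.node (.node (.node (.leaf 55416150195118)
 (.leaf 223607825185768))
 (.node (.leaf 99665392358569)
 (.leaf 15497488293072)))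
 (.node (.node (.leaf 236128228661246)
 (.leaf 219699173056453))
 (.node (.leaf 88025458088129)
 (.leaf 14582532847612))))
 (.node (.node (.node (.leaf 126615785340195)
 (.leaf 113608743747324))
 (.node (.leaf 217367927966742)
 (.leaf 186200444425870)))
 (.node (.node (.leaf 105548968911732)
 (.leaf 239307345764115))
 (.node (.leaf 221123412067824)
 (.leaf 181138185012787))))))

def keyTB123 : RT := .node (.node (.node (.node (.node (.node (.leaf 182466737744763)
 (.leaf 181973792874337))
 (.node (.leaf 109514427036626)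
 (.leaf 122755678942085)))
 (.node (.node (.leaf 172595466077959)
 (.leaf 42484737088490))
 (.node (.leaf 30244521983895)
 (.leaf 255344493043623))))
 (.node (.node (.node (.leaf 30687010536865)
 (.leaf 192710309638148))
 (.node (.leaf 751639099929)
 (.leaf 38068751035037)))
 (.node (.node (.leaf 142835576761437)
 (.leaf 42245150570680))
 (.node (.leaf 191562939610975)
 (.leaf 83339598374779)))))
 (.node (.node (.node (.node (.leaf 200466190265791)
 (.leaf 148271248560171))
 (.node (.leaf 111935038217288)
 (.leaf 32808784737070)))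
 (.node (.node (.leaf 3277656265609)
 (.leaf 172620586674283))
 (.node (.leaf 131257038624936)
 (.leaf 149134741924248))))
 (.node (.node (.node (.leaf 240100867374392)
 (.leaf 30241429941157))
 (.node (.leaf 153322505072755)
 (.leaf 195074673654193)))
 (.node (.node (.leaf 212077460357452)
 (.leaf 244517717865852))
 (.node (.leaf 180032320495228)
 (.leaf 138823332868519))))))
 (.node (.node (.node (.node (.node (.leaf 172555460178764)
 (.leaf 157069820211061))
 (.node (.leaf 111930243869817)
 (.leaf 138333174625229)))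
 (.node (.node (.leaf 94312468468656)
 (.leaf 132359579993795))
 (.node (.leaf 115984754068155)
 (.leaf 257205792787810))))
 (.node (.node (.node (.leaf 1362406335025)
 (.leaf 117882296383055))
 (.node (.leaf 271661593720217)
 (.leaf 200380939050764)))
 (.node (.node (.leaf 192079115896441)
 (.leaf 157364335464987))
 (.node (.leaf 1188708510462)
 (.leaf 81240572717250)))))
 (.node (.node (.node (.node (.leaf 210076762140693)
 (.leaf 187875785690059))
 (.node (.leaf 50191353780243)
 (.leaf 33326899530634)))
 (.node (.node (.leaf 88097232005994)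
 (.leaf 149640783666555))
 (.node (.leaf 73025353685568)
 (.leaf 43517696772039))))
 (.node (.node (.node (.leaf 132501410771324)
 (.leaf 239330501916526))
 (.node (.leaf 165008784830422)
 (.leaf 142967678409748)))
 (.node (.node (.leaf 37671318359093)
 (.leaf 1368473896875))
 (.node (.leaf 271633325607798)
 (.leaf 35516797660940))))))

def keyTB124 : RT := .node (.node (.node (.node (.node (.node (.leaf 257178610760409)
 (.leaf 244553493319738))
 (.node (.leaf 269080547990489)
 (.leaf 191380542571681)))
 (.node (.node (.leaf 117874414111114)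
 (.leaf 158169899711519))
 (.node (.leaf 191214787218899)
 (.leaf 124671136153716))))
 (.node (.node (.node (.leaf 160494478594887)
 (.leaf 233524302866229))
 (.node (.leaf 179091184389861)
 (.leaf 253314234217212)))
 (.node (.node (.leaf 238345568744789)
 (.leaf 117040995592811))
 (.node (.leaf 117089635023565)
 (.leaf 964282076194)))))
 (.node (.node (.node (.node (.leaf 227463844914701)
 (.leaf 124263353088991))
 (.node (.leaf 89809317671049)
 (.leaf 210107655574776)))
 (.node (.node (.leaf 128816938016444)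
 (.leaf 82864775372925))
 (.node (.leaf 278801102639248)
 (.leaf 114143941150119))))
 (.node (.node (.node (.leaf 182453892665708)
 (.leaf 65579625874376))
 (.node (.leaf 192744710910033)
 (.leaf 149179956531461)))
 (.node (.node (.leaf 190407182786251)
 (.leaf 137484615018373))
 (.node (.leaf 20370722555049)
 (.leaf 107608792216759))))))
 (.node (.node (.node (.node (.node (.leaf 233017425845714)
 (.leaf 14598816447253))
 (.node (.leaf 148255809716296)
 (.leaf 225701658388493)))
 (.node (.node (.leaf 118488789492979)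
 (.leaf 138814074188340))
 (.node (.leaf 238382940641029)
 (.leaf 120695296051623))))
 (.node (.node (.node (.leaf 129433255265132)
 (.leaf 227027224920588))
 (.node (.leaf 104374841085574)
 (.leaf 82813212239013)))
 (.node (.node (.leaf 219750594417154)
 (.leaf 42497679586683))
 (.node (.leaf 30282662350681)
 (.leaf 130167225337986)))))
 (.node (.node (.node (.node (.leaf 271718765049043)
 (.leaf 21770592388872))
 (.node (.leaf 273418198870171)
 (.leaf 253274718388149)))
 (.node (.node (.leaf 107570096993497)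
 (.leaf 36964532822330))
 (.node (.leaf 132512810569283)
 (.leaf 105537821575945))))
 (.node (.node (.node (.leaf 276079553284600)
 (.leaf 70658809341049))
 (.node (.leaf 111810306505724)
 (.leaf 115935872334989)))
 (.node (.node (.leaf 191537438910438)
 (.leaf 122969314026597))
 (.node (.leaf 98587745067831)
 (.leaf 235822741321763))))))

def keyTB125 : RT := .node (.node (.node (.node (.node (.node (.leaf 227510495167290)
 (.leaf 179986959344591))
 (.node (.leaf 266481839506809)
 (.leaf 153334817933584)))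
 (.node (.node (.leaf 172539765088351)
 (.leaf 142830733586811))
 (.node (.leaf 267256517685330)
 (.leaf 46951637564460))))
 (.node (.node (.node (.leaf 84327187772999)
 (.leaf 196118839729490))
 (.node (.leaf 199370107239791)
 (.leaf 83305422057572)))
 (.node (.node (.leaf 95672350255692)
 (.leaf 212720947682448))
 (.node (.leaf 11488781297783)
 (.leaf 191336416409599)))))
 (.node (.node (.node (.node (.leaf 258388120865912)
 (.leaf 21034285707961))
 (.node (.leaf 52467946518962)
 (.leaf 114867328379419)))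
 (.node (.node (.leaf 184972742396647)
 (.leaf 108803358652839))
 (.node (.leaf 93983647125792)
 (.leaf 42202148405393))))
 (.node (.node (.node (.leaf 131262728662257)
 (.leaf 264614574712757))
 (.node (.leaf 95977691490422)
 (.leaf 238384753998211)))
 (.node (.node (.leaf 117082024792692)
 (.leaf 212072784874380))
 (.node (.leaf 153361372972134)
 (.leaf 68064671462951))))))
 (.node (.node (.node (.node (.node (.leaf 95675052144841)
 (.leaf 124020592472381))
 (.node (.leaf 46328897464245)
 (.leaf 14229358538247)))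
 (.node (.node (.leaf 157392673069536)
 (.leaf 122793500080163))
 (.node (.leaf 37024836684368)
 (.leaf 133827652602832))))
 (.node (.node (.node (.leaf 136777272467953)
 (.leaf 131097364736256))
 (.node (.leaf 213699020219537)
 (.leaf 1213880296228)))
 (.node (.node (.leaf 217423505461184)
 (.leaf 72986069346703))
 (.node (.leaf 107299479192787)
 (.leaf 173344970101672)))))
 (.node (.node (.node (.node (.leaf 46975683212989)
 (.leaf 44769027967339))
 (.node (.leaf 73298835140288)
 (.leaf 208614443805960)))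
 (.node (.node (.leaf 90952999081748)
 (.leaf 235781734839482))
 (.node (.leaf 73121710177866)
 (.leaf 180041017629057))))
 (.node (.node (.node (.leaf 88118252052848)
 (.leaf 247585541215313))
 (.node (.leaf 23559971364950)
 (.leaf 104219705029505)))
 (.node (.node (.leaf 21058888507480)
 (.leaf 17552438060877))
 (.node (.leaf 22583478754125)
 (.leaf 68346573674681))))))

def keyTB126 : RT := .node (.node (.node (.node (.node (.node (.leaf 90919942436987)
 (.leaf 235793460654604))
 (.node (.leaf 180013476886055)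
 (.leaf 115939069330316)))
 (.node (.node (.leaf 42474735376239)
 (.leaf 271760246102402))
 (.node (.leaf 138399911398217)
 (.leaf 105044494426286))))
 (.node (.node (.node (.leaf 81236663135496)
 (.leaf 209397133259294))
 (.node (.leaf 124261060180566)
 (.leaf 108803216974521)))
 (.node (.node (.leaf 62104509291411)
 (.leaf 164923862823008))
 (.node (.leaf 11558667977299)
 (.leaf 21035771345283)))))
 (.node (.node (.node (.node (.leaf 73034550259656)
 (.leaf 241264630003961))
 (.node (.leaf 54042044689523)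
 (.leaf 30313491635748)))
 (.node (.node (.leaf 208611130873053)
 (.leaf 18257335189802))
 (.node (.leaf 181085621181097)
 (.leaf 199385565394998))))
 (.node (.node (.node (.leaf 87828431764338)
 (.leaf 183692742992962))
 (.node (.leaf 122972089273184)
 (.leaf 142377673083691)))
 (.node (.node (.leaf 84947553056739)
 (.leaf 262117425842041))
 (.node (.leaf 115022718177080)
 (.leaf 220034206068157))))))
 (.node (.node (.node (.node (.node (.leaf 200354656162569)
 (.leaf 181978562588984))
 (.node (.leaf 154793636027151)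
 (.leaf 196087326595878)))
 (.node (.node (.leaf 126153905661922)
 (.leaf 21767275504278))
 (.node (.leaf 122295973507429)
 (.leaf 219717015848584))))
 (.node (.node (.node (.leaf 31266383704204)
 (.leaf 99268538135094))
 (.node (.leaf 256841359185911)
 (.leaf 80206187790422)))
 (.node (.node (.leaf 23529944843366)
 (.leaf 21033754265310))
 (.node (.leaf 17559542029514)
 (.leaf 83723194209132)))))
 (.node (.node (.node (.node (.leaf 107299084528715)
 (.leaf 266470427955251))
 (.node (.leaf 158153228702027)
 (.leaf 142127815316081)))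
 (.node (.node (.leaf 113594020581779)
 (.leaf 129110075090204))
 (.node (.leaf 1361908443929)
 (.leaf 219857807442376))))
 (.node (.node (.node (.leaf 37692581704771)
 (.leaf 190411996348843))
 (.node (.leaf 15471304394824)
 (.leaf 268849641815290)))
 (.node (.node (.leaf 172580772103726)
 (.leaf 188631906691207))
 (.node (.leaf 126129790678598)
 (.leaf 132260771697639))))))

def keyTB127 : RT := .node (.node (.node (.node (.node (.node (.leaf 95252779779499)
 (.leaf 67600758320266))
 (.node (.leaf 50241706139698)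
 (.leaf 120719227983621)))
 (.node (.node (.leaf 105056631459406)
 (.leaf 50147669761817))
 (.node (.leaf 246619905559743)
 (.leaf 23084005208413))))
 (.node (.node (.node (.leaf 87824859474840)
 (.leaf 265184632200397))
 (.node (.leaf 3050990936415)
 (.leaf 117879876387306)))
 (.node (.node (.leaf 178590694664451)
 (.leaf 190357446493294))
 (.node (.leaf 113657671133376)
 (.leaf 240089038486555)))))
 (.node (.node (.node (.node (.leaf 116038081762609)
 (.leaf 257214368403568))
 (.node (.leaf 244523926385740)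
 (.leaf 76990262793581)))
 (.node (.node (.leaf 23569300349013)
 (.leaf 227035575000305))
 (.node (.leaf 265180470181040)
 (.leaf 88128664683085))))
 (.node (.node (.node (.leaf 90838071055955)
 (.leaf 38012148378229))
 (.node (.leaf 227209321096172)
 (.leaf 74348911026545)))
 (.node (.node (.leaf 45984308618753)
 (.leaf 239748777217961))
 (.node (.leaf 74269151063814)
 (.leaf 150813981757186))))))
 (.node (.node (.node (.node (.node (.leaf 275116552098001)
 (.leaf 82831090097036))
 (.node (.leaf 278837970817036)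
 (.leaf 124285155874874)))
 (.node (.node (.leaf 142134881680255)
 (.leaf 225723330293041))
 (.node (.leaf 146793325570613)
 (.leaf 157068593691638))))
 (.node (.node (.node (.leaf 32805003009324)
 (.leaf 186185146749783))
 (.node (.leaf 265278019234158)
 (.leaf 83286518636192)))
 (.node (.node (.leaf 79318320944334)
 (.leaf 5788061544984))
 (.node (.leaf 232971047720576)
 (.leaf 250104860770386)))))
 (.node (.node (.node (.node (.leaf 48873917590852)
 (.leaf 70674728971880))
 (.node (.leaf 217382332773865)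
 (.leaf 27184006801508)))
 (.node (.node (.leaf 120706809693918)
 (.leaf 262517451135604))
 (.node (.leaf 206910381387304)
 (.leaf 23045071725017))))
 (.node (.node (.node (.leaf 51621000869589)
 (.leaf 84958839404367))
 (.node (.leaf 30657965023754)
 (.leaf 271611070013619)))
 (.node (.node (.leaf 17567582708340)
 (.leaf 191382624109503))
 (.node (.leaf 136807469153589)
 (.leaf 62084118798816))))))

def keyTB128 : RT := .node (.node (.node (.node (.node (.node (.leaf 247575630355148)
 (.leaf 257162838728978))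
 (.node (.leaf 135017438739495)
 (.leaf 149089920265870)))
 (.node (.node (.leaf 225727354412298)
 (.leaf 105117714328309))
 (.node (.leaf 115545639246985)
 (.leaf 208932581956471))))
 (.node (.node (.node (.leaf 210132928137464)
 (.leaf 174297206464321))
 (.node (.leaf 81264184574366)
 (.leaf 228114270893387)))
 (.node (.node (.leaf 129447350526380)
 (.leaf 132563536642079))
 (.node (.leaf 255318320895136)
 (.leaf 11479051730126)))))
 (.node (.node (.node (.node (.leaf 255319752288639)
 (.leaf 30664036136712))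
 (.node (.leaf 264589442430283)
 (.leaf 200990486214504)))
 (.node (.node (.leaf 191545621017890)
 (.leaf 137453164780732))
 (.node (.leaf 23916315228722)
 (.leaf 45036505488033))))
 (.node (.node (.node (.leaf 243740735217551)
 (.leaf 123350236628328))
 (.node (.leaf 143487445425017)
 (.leaf 21727158434241)))
 (.node (.node (.leaf 30285101199644)
 (.leaf 37546342785632))
 (.node (.leaf 99670390166594)
 (.leaf 149661617822986))))))
 (.node (.node (.node (.node (.node (.leaf 215485234089874)
 (.leaf 108040474059027))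
 (.node (.leaf 189686987195327)
 (.leaf 180027204172813)))
 (.node (.node (.leaf 129074830648281)
 (.leaf 133847123173534))
 (.node (.leaf 246576173008986)
 (.leaf 111843848000090))))
 (.node (.node (.node (.leaf 67596212717953)
 (.leaf 124000181984449))
 (.node (.leaf 250130816690134)
 (.leaf 81310766134384)))
 (.node (.node (.leaf 189671731522704)
 (.leaf 217000448424531))
 (.node (.leaf 193533101597466)
 (.leaf 119311849354142)))))
 (.node (.node (.node (.node (.leaf 81644318744203)
 (.leaf 253363542265478))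
 (.node (.leaf 22568610870096)
 (.leaf 206807090595315)))
 (.node (.node (.leaf 157399901259173)
 (.leaf 82067951485049))
 (.node (.leaf 149176488107605)
 (.leaf 83716476955877))))
 (.node (.node (.node (.leaf 8984008062398)
 (.leaf 223580083428120))
 (.node (.leaf 103136219026350)
 (.leaf 114991967401146)))
 (.node (.node (.leaf 184963483593977)
 (.leaf 35633824702702))
 (.node (.leaf 46325892708000)
 (.leaf 23529200807236))))))

def keyTB129 : RT := .node (.node (.node (.node (.node (.node (.leaf 186201030874661)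
 (.leaf 35497454151973))
 (.node (.leaf 212696905118972)
 (.leaf 256391393906410)))
 (.node (.node (.leaf 199626293621736)
 (.leaf 79877727233934))
 (.node (.leaf 124685326140316)
 (.leaf 188603431778851))))
 (.node (.node (.node (.leaf 183734030420863)
 (.leaf 117036645465678))
 (.node (.leaf 271734052746482)
 (.leaf 43552490094985)))
 (.node (.node (.leaf 131100111580783)
 (.leaf 241927365720643))
 (.node (.leaf 235828410283759)
 (.leaf 13862180248163)))))
 (.node (.node (.node (.node (.leaf 132621865837128)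
 (.leaf 99245069979804))
 (.node (.leaf 122252478722483)
 (.leaf 227038612528408)))
 (.node (.node (.leaf 227198321195435)
 (.leaf 119044280955380))
 (.node (.leaf 157387917648564)
 (.leaf 227029686053810))))
 (.node (.node (.node (.leaf 68325585003518)
 (.leaf 142973200170065))
 (.node (.leaf 165046579562904)
 (.leaf 150777724167650)))
 (.node (.node (.leaf 81295663313784)
 (.leaf 142113733591539))
 (.node (.leaf 151854013811733)
 (.leaf 164917044165260))))))
 (.node (.node (.node (.node (.node (.leaf 67596145875445)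
 (.leaf 256851627512521))
 (.node (.leaf 241924782565710)
 (.leaf 17009322418684)))
 (.node (.node (.leaf 99675692714690)
 (.leaf 188373898971209))
 (.node (.leaf 94310286033503)
 (.leaf 243725650991486))))
 (.node (.node (.node (.leaf 76892837535502)
 (.leaf 143524389660059))
 (.node (.leaf 142832959405192)
 (.leaf 191184568739681)))
 (.node (.node (.leaf 214296274303961)
 (.leaf 269084720410629))
 (.node (.leaf 263208631933446)
 (.leaf 173353505935915)))))
 (.node (.node (.node (.node (.leaf 46381361345954)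
 (.leaf 120709935545232))
 (.node (.leaf 105038929808105)
 (.leaf 193554500817349)))
 (.node (.node (.leaf 188390225152581)
 (.leaf 126901961700272))
 (.node (.leaf 107561520170388)
 (.leaf 105546859559126))))
 (.node (.node (.node (.leaf 139643635776500)
 (.leaf 208590212980985))
 (.node (.leaf 80241888537208)
 (.leaf 73273013870406)))
 (.node (.node (.leaf 276083112109834)
 (.leaf 221801299123321))
 (.node (.leaf 125110283477490)
 (.leaf 233575468478307))))))

def keyTB130 : RT := .node (.node (.node (.node (.node (.node (.leaf 221825345957144)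
 (.leaf 65563618333241))
 (.node (.leaf 82112945378606)
 (.leaf 11546147483809)))
 (.node (.node (.leaf 17541032768437)
 (.leaf 23926230808613))
 (.node (.leaf 234772696722465)
 (.leaf 182005718242545))))
 (.node (.node (.node (.leaf 214311687431586)
 (.leaf 129098384401490))
 (.node (.leaf 192734345343586)
 (.leaf 731127955536)))
 (.node (.node (.leaf 134969649759991)
 (.leaf 149606464158264))
 (.node (.leaf 189684872897855)
 (.leaf 128816264608840)))))
 (.node (.node (.node (.node (.leaf 253305264499130)
 (.leaf 81287690372734))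
 (.node (.leaf 187839822060606)
 (.leaf 33300652904936)))
 (.node (.node (.leaf 99275272018538)
 (.leaf 216956862976511))
 (.node (.leaf 119025790937184)
 (.leaf 212076486243349))))
 (.node (.node (.node (.leaf 124252964152633)
 (.leaf 89740924200295))
 (.node (.leaf 142958255885624)
 (.leaf 94301902525249)))
 (.node (.node (.leaf 213662582083394)
 (.leaf 189681565222823))
 (.node (.leaf 31206378369433)
 (.leaf 183690810634933))))))
 (.node (.node (.node (.node (.node (.leaf 225734810748587)
 (.leaf 219841672782389))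
 (.node (.leaf 8845558745349)
 (.leaf 269055389234119)))
 (.node (.node (.leaf 186205979788441)
 (.leaf 149142294476311))
 (.node (.leaf 256805333209889)
 (.leaf 87846229984506))))
 (.node (.node (.node (.leaf 276153788021850)
 (.leaf 62105901997050))
 (.node (.leaf 104377706584406)
 (.leaf 87862113611324)))
 (.node (.node (.leaf 30323936149232)
 (.leaf 137441434535483))
 (.node (.leaf 123330239202715)
 (.leaf 187742826144373)))))
 (.node (.node (.node (.node (.leaf 74315120726881)
 (.leaf 138397669001298))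
 (.node (.leaf 164996779080440)
 (.leaf 201104341084152)))
 (.node (.node (.leaf 35601741521341)
 (.leaf 27151143736303))
 (.node (.leaf 52434399053630)
 (.leaf 208922759025831))))
 (.node (.node (.node (.leaf 265299607439574)
 (.leaf 128794163874195))
 (.node (.leaf 98550721124272)
 (.leaf 105065741335347)))
 (.node (.node (.leaf 157330633411091)
 (.leaf 90780636904322))
 (.node (.leaf 157419249471448)
 (.leaf 122758684824013))))))

def keyTB131 : RT := .node (.node (.node (.node (.node (.node (.leaf 137441266169484)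
 (.leaf 108834467202625))
 (.node (.leaf 132230363951547)
 (.leaf 95250025875970)))
 (.node (.node (.leaf 246579621139883)
 (.leaf 134450109001059))
 (.node (.leaf 30263352148557)
 (.leaf 133821644813287))))
 (.node (.node (.node (.leaf 107305401841519)
 (.leaf 115939561910757))
 (.node (.leaf 126629355231178)
 (.leaf 224349003495680)))
 (.node (.node (.leaf 201094762935394)
 (.leaf 118479677064002))
 (.node (.leaf 187764375957821)
 (.leaf 42479762559671)))))
 (.node (.node (.node (.node (.leaf 200383341292735)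
 (.leaf 6210685106777))
 (.node (.leaf 89958754864748)
 (.leaf 145238391356204)))
 (.node (.node (.leaf 197967587842959)
 (.leaf 152803077800412))
 (.node (.leaf 70469093878260)
 (.leaf 130274813936695))))
 (.node (.node (.node (.leaf 100883453955759)
 (.leaf 130658358796197))
 (.node (.leaf 49141474754951)
 (.leaf 227304994030928)))
 (.node (.node (.leaf 88875570654450)
 (.leaf 94655730652161))
 (.node (.leaf 232709503995731)
 (.leaf 266796502475684))))))
 (.node (.node (.node (.node (.node (.leaf 220296374137159)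
 (.leaf 269459848225933))
 (.node (.leaf 169200481579789)
 (.leaf 84122178076358)))
 (.node (.node (.leaf 2107998265922)
 (.leaf 13371279076518))
 (.node (.leaf 92753175292473)
 (.leaf 122190545827672))))
 (.node (.node (.node (.leaf 258349663086606)
 (.leaf 99195716568333))
 (.node (.leaf 207451289212257)
 (.leaf 156369874337484)))
 (.node (.node (.leaf 127020170038493)
 (.leaf 147680668799890))
 (.node (.leaf 225806880812215)
 (.leaf 79544640769154)))))
 (.node (.node (.node (.node (.leaf 146762375497423)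
 (.leaf 23703445197678))
 (.node (.leaf 25824827859422)
 (.leaf 128341429416868)))
 (.node (.node (.leaf 274836279608308)
 (.leaf 180938606353514))
 (.node (.leaf 5047553937975)
 (.leaf 102611967662945))))
 (.node (.node (.node (.leaf 106181529440555)
 (.leaf 206656182566627))
 (.node (.leaf 44152150810294)
 (.leaf 53795966497226)))
 (.node (.node (.leaf 86736842411301)
 (.leaf 182065381710413))
 (.node (.leaf 22498014061790)
 (.leaf 261833992689394))))))

def keyTB132 : RT := .node (.node (.node (.node (.node (.node (.leaf 263851487024547)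
 (.leaf 124483817110474))
 (.node (.leaf 178746699214861)
 (.leaf 3923767734039)))
 (.node (.node (.leaf 9287097028842)
 (.leaf 72755125247549))
 (.node (.leaf 28809769166089)
 (.leaf 52188934295972))))
 (.node (.node (.node (.leaf 216383451458694)
 (.leaf 93800070112970))
 (.node (.leaf 263360949368276)
 (.leaf 87409562015285)))
 (.node (.node (.leaf 9588144772638)
 (.leaf 93416389180538))
 (.node (.leaf 200184342545839)
 (.leaf 274579841874430)))))
 (.node (.node (.node (.node (.leaf 111447780793433)
 (.leaf 60353727809622))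
 (.node (.leaf 22155438072722)
 (.leaf 2919273323703)))
 (.node (.node (.leaf 72779715453980)
 (.leaf 169274181432593))
 (.node (.leaf 238459533930938)
 (.leaf 204626818993741))))
 (.node (.node (.node (.leaf 262623537858413)
 (.leaf 243532232635251))
 (.node (.leaf 20315551464360)
 (.leaf 139788793370904)))
 (.node (.node (.leaf 148322718195980)
 (.leaf 189621520288409))
 (.node (.leaf 261943524790149)
 (.leaf 225376698582734))))))
 (.node (.node (.node (.node (.node (.leaf 172732288047697)
 (.leaf 90437617284327))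
 (.node (.leaf 230255790181311)
 (.leaf 56735007825953)))
 (.node (.node (.leaf 253714815829370)
 (.leaf 196601093084065))
 (.node (.leaf 220089071381890)
 (.leaf 119794030557185))))
 (.node (.node (.node (.leaf 255367367067713)
 (.leaf 230104150758638))
 (.node (.leaf 257797651566306)
 (.leaf 45776706061756)))
 (.node (.node (.leaf 133585881085715)
 (.leaf 71747633684655))
 (.node (.leaf 113420042848323)
 (.leaf 96978874880852)))))
 (.node (.node (.node (.node (.leaf 48857245810903)
 (.leaf 101163548299774))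
 (.node (.leaf 207881287882571)
 (.leaf 211964002136845)))
 (.node (.node (.leaf 141415966674535)
 (.leaf 218167647396408))
 (.node (.leaf 233769222322894)
 (.leaf 163758572449871))))
 (.node (.node (.node (.leaf 140013205513647)
 (.leaf 138032891538135))
 (.node (.leaf 88439742340453)
 (.leaf 194395150171094)))
 (.node (.node (.leaf 180465247258015)
 (.leaf 4572781390034))
 (.node (.leaf 70180353335448)
 (.leaf 212864073211604))))))

def keyTB133 : RT := .node (.node (.node (.node (.node (.node (.leaf 236450612366769)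
 (.leaf 88655957780669))
 (.node (.leaf 241392656627426)
 (.leaf 60696288144291)))
 (.node (.node (.leaf 186381127807004)
 (.leaf 48728688402792))
 (.node (.leaf 101521087010168)
 (.leaf 100025792926118))))
 (.node (.node (.node (.leaf 175789675669783)
 (.leaf 86679408706825))
 (.node (.leaf 212284625650084)
 (.leaf 39727200754822)))
 (.node (.node (.leaf 211181703943882)
 (.leaf 100359454185695))
 (.node (.leaf 155096972384488)
 (.leaf 234967532600422)))))
 (.node (.node (.node (.node (.leaf 194742348610267)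
 (.leaf 167895470923818))
 (.node (.leaf 7391933546622)
 (.leaf 193064042458961)))
 (.node (.node (.leaf 5442628307358)
 (.leaf 119766520026597))
 (.node (.leaf 134801248340127)
 (.leaf 162540518174893))))
 (.node (.node (.node (.leaf 129566039120687)
 (.leaf 210618445932685))
 (.node (.leaf 114337832781125)
 (.leaf 148008230822716)))
 (.node (.node (.leaf 109019553878408)
 (.leaf 18454353972755))
 (.node (.leaf 186465503338646)
 (.leaf 219150607265333))))))
 (.node (.node (.node (.node (.node (.leaf 73869508126377)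
 (.leaf 113747459169464))
 (.node (.leaf 135379604478910)
 (.leaf 228925510903201)))
 (.node (.node (.leaf 32196886907299)
 (.leaf 22200594511982))
 (.node (.leaf 252265265855175)
 (.leaf 126503286308274))))
 (.node (.node (.node (.leaf 113059861798087)
 (.leaf 203357241473303))
 (.node (.leaf 32741322740474)
 (.leaf 175151759961606)))
 (.node (.node (.leaf 74215020229545)
 (.leaf 102562758025759))
 (.node (.leaf 109256281679325)
 (.leaf 107620182910757)))))
 (.node (.node (.node (.node (.leaf 219513421107848)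
 (.leaf 120450312836967))
 (.node (.leaf 48707783920918)
 (.leaf 24376582751033)))
 (.node (.node (.leaf 148567021031044)
 (.leaf 166590677781780))
 (.node (.leaf 176704865509466)
 (.leaf 131666739141765))))
 (.node (.node (.node (.leaf 209931639496603)
 (.leaf 228892035639191))
 (.node (.leaf 249474338373116)
 (.leaf 235999671001320)))
 (.node (.node (.leaf 278429840535187)
 (.leaf 50950333868131))
 (.node (.leaf 147942548276609)
 (.leaf 162881032977438))))))

def keyTB134 : RT := .node (.node (.node (.node (.node (.node (.leaf 229488508928965)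
 (.leaf 152157381984578))
 (.node (.leaf 164181951975)
 (.leaf 86180376004483)))
 (.node (.node (.leaf 90241662473806)
 (.leaf 223711140783929))
 (.node (.leaf 159664186781001)
 (.leaf 251069526075981))))
 (.node (.node (.node (.leaf 8748655001509)
 (.leaf 259926071995299))
 (.node (.leaf 180223799326967)
 (.leaf 78192264345547)))
 (.node (.node (.leaf 100272115222378)
 (.leaf 163415472257069))
 (.node (.leaf 32300946260750)
 (.leaf 97202550129953)))))
 (.node (.node (.node (.node (.leaf 102816335275276)
 (.leaf 193882152461140))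
 (.node (.leaf 125740742779405)
 (.leaf 193672799554723)))
 (.node (.node (.leaf 30161614907765)
 (.leaf 144070631517382))
 (.node (.leaf 209281802849224)
 (.leaf 156712593201420))))
 (.node (.node (.node (.leaf 254451005922056)
 (.leaf 161400181001701))
 (.node (.leaf 103705679083137)
 (.leaf 151681535982767)))
 (.node (.node (.leaf 245917353974924)
 (.leaf 121371675297321))
 (.node (.leaf 107069166369758)
 (.leaf 75581114270182))))))
 (.node (.node (.node (.node (.node (.leaf 15418012783412)
 (.leaf 246022761142425))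
 (.node (.leaf 275245107742419)
 (.leaf 204747043530819)))
 (.node (.node (.leaf 1935244797966)
 (.leaf 24804638426494))
 (.node (.leaf 29021657878119)
 (.leaf 39015363268687))))
 (.node (.node (.node (.leaf 122903334378199)
 (.leaf 17676601875813))
 (.node (.leaf 58445068563680)
 (.leaf 162852345115129)))
 (.node (.node (.leaf 273223477265805)
 (.leaf 245412598240545))
 (.node (.leaf 269434967570985)
 (.leaf 56089018236930)))))
 (.node (.node (.node (.node (.leaf 118167338231584)
 (.leaf 79086526282753))
 (.node (.leaf 196630014950710)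
 (.leaf 121321591071978)))
 (.node (.node (.leaf 187721816977752)
 (.leaf 156087868510583))
 (.node (.leaf 181272392981818)
 (.leaf 249982878682435))))
 (.node (.node (.node (.leaf 117167332241812)
 (.leaf 193501211164051))
 (.node (.leaf 88599224739284)
 (.leaf 28904649874946)))
 (.node (.node (.leaf 203515531261921)
 (.leaf 87138389039769))
 (.node (.leaf 118825615720403)
 (.leaf 103888936826925))))))

def keyTB135 : RT := .node (.node (.node (.node (.node (.node (.leaf 112566723361743)
 (.leaf 231281276621442))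
 (.node (.leaf 163232636590360)
 (.leaf 227736404890379)))
 (.node (.node (.leaf 32047221985531)
 (.leaf 204205923335577))
 (.node (.leaf 69582973310925)
 (.leaf 56947114098871))))
 (.node (.node (.node (.leaf 26997716752636)
 (.leaf 91823791577509))
 (.node (.leaf 159548850064762)
 (.leaf 21520402898253)))
 (.node (.node (.leaf 98913405167067)
 (.leaf 41599774582705))
 (.node (.leaf 30078781692648)
 (.leaf 27625606588616)))))
 (.node (.node (.node (.node (.leaf 144011374222991)
 (.leaf 33611252812567))
 (.node (.leaf 203905263867519)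
 (.leaf 191633210773407)))
 (.node (.node (.leaf 113369355147369)
 (.leaf 38356665234994))
 (.node (.leaf 35007445414179)
 (.leaf 44357204229052))))
 (.node (.node (.node (.leaf 196803857711727)
 (.leaf 26921355186521))
 (.node (.leaf 93512764905292)
 (.leaf 269630692499239)))
 (.node (.node (.leaf 64113041766310)
 (.leaf 208274079758781))
 (.node (.leaf 155210009258070)
 (.leaf 10495430826182))))))
 (.node (.node (.node (.node (.node (.leaf 260924726933861)
 (.leaf 240907835504949))
 (.node (.leaf 153788228822787)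
 (.leaf 121134958335378)))
 (.node (.node (.leaf 197363664244026)
 (.leaf 112105892323114))
 (.node (.leaf 41268267725123)
 (.leaf 119638551244374))))
 (.node (.node (.node (.leaf 173521846597424)
 (.leaf 223346025100909))
 (.node (.leaf 96236130064088)
 (.leaf 39194937320132)))
 (.node (.node (.leaf 276190202491234)
 (.leaf 184620199347485))
 (.node (.leaf 250500610114693)
 (.leaf 207123441965143)))))
 (.node (.node (.node (.node (.leaf 227896887319192)
 (.leaf 147570123498181))
 (.node (.leaf 206101590191086)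
 (.leaf 246708861172994)))
 (.node (.node (.leaf 265336678839102)
 (.leaf 132160678693114))
 (.node (.leaf 265471326330203)
 (.leaf 119864429051469))))
 (.node (.node (.node (.leaf 224922942340458)
 (.leaf 134017550832436))
 (.node (.leaf 144677824153602)
 (.leaf 1103986490332)))
 (.node (.node (.leaf 183546083857909)
 (.leaf 74563712335538))
 (.node (.leaf 174137286293372)
 (.leaf 174542211714305))))))

def keyTB136 : RT := .node (.node (.node (.node (.node (.node (.leaf 238792134608109)
 (.leaf 566775700497))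
 (.node (.leaf 148208496461746)
 (.leaf 65024603362864)))
 (.node (.node (.leaf 277798964907247)
 (.leaf 137134219970877))
 (.node (.leaf 220340920703844)
 (.leaf 119488049649161))))
 (.node (.node (.node (.leaf 181390941567371)
 (.leaf 147533740168097))
 (.node (.leaf 204447769400461)
 (.leaf 218446411455663)))
 (.node (.node (.leaf 107790003155525)
 (.leaf 99828225106679))
 (.node (.leaf 114780944544821)
 (.leaf 226108925302626)))))
 (.node (.node (.node (.node (.leaf 124768317871540)
 (.leaf 224771514860481))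
 (.node (.leaf 232464148718162)
 (.leaf 11428366092753)))
 (.node (.node (.leaf 136032022820132)
 (.leaf 233313527222663))
 (.node (.leaf 169001730932111)
 (.leaf 171249451275890))))
 (.node (.node (.node (.leaf 244449442347107)
 (.leaf 176511368246657))
 (.node (.leaf 165310331361644)
 (.leaf 162005990991983)))
 (.node (.node (.leaf 160831292948086)
 (.leaf 28421049643369))
 (.node (.leaf 77475760547042)
 (.leaf 123372370483160))))))
 (.node (.node (.node (.node (.node (.leaf 229244040525817)
 (.leaf 37112539389273))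
 (.node (.leaf 97654502541102)
 (.leaf 10243936789483)))
 (.node (.node (.leaf 137305955124077)
 (.leaf 86026536139229))
 (.node (.leaf 54419076003474)
 (.leaf 95580536960625))))
 (.node (.node (.node (.leaf 27785489916128)
 (.leaf 238838294931359))
 (.node (.leaf 248526358937850)
 (.leaf 255607749977409)))
 (.node (.node (.leaf 270181561219596)
 (.leaf 119920229084359))
 (.node (.leaf 61733828025323)
 (.leaf 8546426841370)))))
 (.node (.node (.node (.node (.leaf 148456495772137)
 (.leaf 57088910224326))
 (.node (.leaf 157951870230597)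
 (.leaf 80058795877853)))
 (.node (.node (.leaf 53690291285475)
 (.leaf 114445643312787))
 (.node (.leaf 223142970492376)
 (.leaf 220785603217997))))
 (.node (.node (.node (.leaf 108384879891678)
 (.leaf 208780589506596))
 (.node (.leaf 33449329976510)
 (.leaf 120086403172227)))
 (.node (.node (.leaf 145348257308147)
 (.leaf 251607361596745))
 (.node (.leaf 191293541087479)
 (.leaf 35412169598923))))))

def keyTB137 : RT := .node (.node (.node (.node (.node (.node (.leaf 150524851869546)
 (.leaf 39929279126142))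
 (.node (.leaf 219935173176027)
 (.leaf 272400108509954)))
 (.node (.node (.leaf 132795197584404)
 (.leaf 259622574340152))
 (.node (.leaf 164795471798976)
 (.leaf 51115749271292))))
 (.node (.node (.node (.leaf 270797088030977)
 (.leaf 134347191218899))
 (.node (.leaf 97808189318771)
 (.leaf 206472256802715)))
 (.node (.node (.leaf 85766858995285)
 (.leaf 34737475670894))
 (.node (.leaf 96401884616931)
 (.leaf 63882744702776)))))
 (.node (.node (.node (.node (.leaf 169713681000939)
 (.leaf 205078630581461))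
 (.node (.leaf 237140929797404)
 (.leaf 234026736930215)))
 (.node (.node (.leaf 16817869835710)
 (.leaf 59708748625344))
 (.node (.leaf 253433627014559)
 (.leaf 39074078204251))))
 (.node (.node (.node (.leaf 190118539919536)
 (.leaf 162648576430003))
 (.node (.leaf 207258092470774)
 (.leaf 29999569695548)))
 (.node (.node (.leaf 135756503445896)
 (.leaf 137300668501193))
 (.node (.leaf 229005538568094)
 (.leaf 108857126031954))))))
 (.node (.node (.node (.node (.node (.leaf 2269986467023)
 (.leaf 87295322753839))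
 (.node (.leaf 255961370130573)
 (.leaf 129221460498769)))
 (.node (.node (.leaf 141736830990987)
 (.leaf 126949568512282))
 (.node (.leaf 131830268262456)
 (.leaf 210938846819718))))
 (.node (.node (.node (.leaf 191919042131422)
 (.leaf 72309717991618))
 (.node (.leaf 159993669816426)
 (.leaf 53574837758903)))
 (.node (.node (.leaf 17276817279801)
 (.leaf 239240177148720))
 (.node (.leaf 101786407927255)
 (.leaf 96637104514325)))))
 (.node (.node (.node (.node (.leaf 129901088135851)
 (.leaf 45434477297112))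
 (.node (.leaf 268779490208247)
 (.leaf 85542232632214)))
 (.node (.node (.leaf 192444998449139)
 (.leaf 64287626493622))
 (.node (.leaf 2206909506059)
 (.leaf 163602043615407))))
 (.node (.node (.node (.leaf 278057960338467)
 (.leaf 258533573677522))
 (.node (.leaf 179444171762587)
 (.leaf 56685873593254)))
 (.node (.node (.leaf 47101453140511)
 (.leaf 125371819585896))
 (.node (.leaf 222542915505322)
 (.leaf 179900987452317))))))

def keyTB138 : RT := .node (.node (.node (.node (.node (.node (.leaf 260350715283952)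
 (.leaf 226351465549736))
 (.node (.leaf 62819999951261)
 (.leaf 143882879396264)))
 (.node (.node (.leaf 88845014659494)
 (.leaf 58571824762704))
 (.node (.leaf 36080638810251)
 (.leaf 222331533195527))))
 (.node (.node (.node (.leaf 166407731752098)
 (.leaf 245802544985397))
 (.node (.leaf 159190230049032)
 (.leaf 194119449870143)))
 (.node (.node (.leaf 154401017809123)
 (.leaf 12093107382373))
 (.node (.leaf 204078119095509)
 (.leaf 152508217387927)))))
 (.node (.node (.node (.node (.leaf 18281900356142)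
 (.leaf 154975082672637))
 (.node (.leaf 227620991621)
 (.leaf 56367700683576)))
 (.node (.node (.leaf 151257401534047)
 (.leaf 252923212141144))
 (.node (.leaf 88947040369842)
 (.leaf 35112753041144))))
 (.node (.node (.node (.leaf 250267677937803)
 (.leaf 145414319424847))
 (.node (.leaf 264800360148474)
 (.leaf 21216238253798)))
 (.node (.node (.leaf 140923112699414)
 (.leaf 208659710620747))
 (.node (.leaf 154491453074676)
 (.leaf 45890915832263))))))
 (.node (.node (.node (.node (.node (.leaf 227572354617367)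
 (.leaf 127771597885807))
 (.node (.leaf 201180014530602)
 (.leaf 210058898481278)))
 (.node (.node (.leaf 19941503537630)
 (.leaf 255792111088660))
 (.node (.leaf 199741490514889)
 (.leaf 228490792598130))))
 (.node (.node (.node (.leaf 193979694357253)
 (.leaf 32949345298846))
 (.node (.leaf 16964160868774)
 (.leaf 193170733601434)))
 (.node (.node (.leaf 37614880681709)
 (.leaf 30407302730165))
 (.node (.leaf 12599078996895)
 (.leaf 192220292454627)))))
 (.node (.node (.node (.node (.leaf 74027716340625)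
 (.leaf 190734081302823))
 (.node (.leaf 235668662835186)
 (.leaf 128109827711006)))
 (.node (.node (.leaf 194272200299646)
 (.leaf 204704024948230))
 (.node (.leaf 174690877436841)
 (.leaf 89166577690527))))
 (.node (.node (.node (.leaf 27523850964246)
 (.leaf 45212992658002))
 (.node (.leaf 75131726478309)
 (.leaf 98104107995986)))
 (.node (.node (.leaf 257702936310161)
 (.leaf 49734580739958))
 (.node (.leaf 113466314412468)
 (.leaf 85737253660279))))))

def keyTB139 : RT := .node (.node (.node (.node (.node (.node (.leaf 44652455104980)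
 (.leaf 85026932937282))
 (.node (.leaf 113525808095187)
 (.leaf 69088126121197)))
 (.node (.node (.leaf 115605077637122)
 (.leaf 195354446042613))
 (.node (.leaf 158849693866276)
 (.leaf 222300088045061))))
 (.node (.node (.node (.leaf 91605200740187)
 (.leaf 24455077091278))
 (.node (.leaf 40689972290787)
 (.leaf 2534810109344)))
 (.node (.node (.leaf 34555198835262)
 (.leaf 18176331060337))
 (.node (.leaf 50996592351898)
 (.leaf 217617353060518)))))
 (.node (.node (.node (.node (.leaf 66842682756941)
 (.leaf 126313093965623))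
 (.node (.leaf 185618010522223)
 (.leaf 248305715832427)))
 (.node (.node (.leaf 21909824501967)
 (.leaf 67118590583527))
 (.node (.leaf 171508901200893)
 (.leaf 96869653157772))))
 (.node (.node (.node (.leaf 230676888990071)
 (.leaf 240218488580208))
 (.node (.leaf 241776057259902)
 (.leaf 242355601512981)))
 (.node (.node (.leaf 227646264908732)
 (.leaf 89835433877522))
 (.node (.leaf 156874812209913)
 (.leaf 155133612890891))))))
 (.node (.node (.node (.node (.node (.leaf 145610305195655)
 (.leaf 218328820920643))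
 (.node (.leaf 31267405948996)
 (.leaf 1601599543790)))
 (.node (.node (.leaf 25267502671415)
 (.leaf 32914101311686))
 (.node (.leaf 256587350986090)
 (.leaf 134102311496091))))
 (.node (.node (.node (.leaf 136360317360572)
 (.leaf 134547249853818))
 (.node (.leaf 17181735789473)
 (.leaf 92446616653186)))
 (.node (.node (.leaf 176756242728961)
 (.leaf 224781784921138))
 (.node (.leaf 263115801497449)
 (.leaf 209718319021947)))))
 (.node (.node (.node (.node (.leaf 160141277508303)
 (.leaf 103160683056367))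
 (.node (.leaf 244315810821955)
 (.leaf 256455821373955)))
 (.node (.node (.leaf 8685241624971)
 (.leaf 15956022375159))
 (.node (.leaf 72629640672309)
 (.leaf 194480592115124))))
 (.node (.node (.node (.leaf 42572842588247)
 (.leaf 127076611729700))
 (.node (.leaf 39560261103150)
 (.leaf 68448727766286)))
 (.node (.node (.leaf 9146631388815)
 (.leaf 148415488858847))
 (.node (.leaf 245054288458243)
 (.leaf 151238730565774))))))

def keyTB140 : RT := .node (.node (.node (.node (.node (.node (.leaf 169619487762843)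
 (.leaf 72173479623011))
 (.node (.leaf 204933551297993)
 (.leaf 118459153053125)))
 (.node (.node (.leaf 191022844439038)
 (.leaf 159960366344745))
 (.node (.leaf 52364865269817)
 (.leaf 64409969493026))))
 (.node (.node (.node (.leaf 11904434527900)
 (.leaf 89413680826499))
 (.node (.leaf 243599471312569)
 (.leaf 175353353035887)))
 (.node (.node (.leaf 222800989566673)
 (.leaf 52652202106123))
 (.node (.leaf 16123111979793)
 (.leaf 110931578241773)))))
 (.node (.node (.node (.node (.leaf 931214718338)
 (.leaf 56478905980930))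
 (.node (.leaf 140303618847405)
 (.leaf 234823643939473)))
 (.node (.node (.leaf 109598512418201)
 (.leaf 153273306071330))
 (.node (.leaf 40884954259318)
 (.leaf 240978869877877))))
 (.node (.node (.node (.leaf 85686224070088)
 (.leaf 264569158159110))
 (.node (.leaf 16456765153679)
 (.leaf 16859156194925)))
 (.node (.node (.leaf 19385607509389)
 (.leaf 239543778741571))
 (.node (.leaf 253784170211291)
 (.leaf 247660361256586))))))
 (.node (.node (.node (.node (.node (.leaf 213748569017279)
 (.leaf 150454512935529))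
 (.node (.leaf 163933794347208)
 (.leaf 185486344291045)))
 (.node (.node (.leaf 144636748846204)
 (.leaf 103238357653826))
 (.node (.leaf 83483061615641)
 (.leaf 44257138930150))))
 (.node (.node (.node (.leaf 211634019617361)
 (.leaf 207969022616877))
 (.node (.leaf 60541913235474)
 (.leaf 188452751001521)))
 (.node (.node (.leaf 238583611733710)
 (.leaf 213201026649086))
 (.node (.leaf 154727239238347)
 (.leaf 157761809726699)))))
 (.node (.node (.node (.node (.leaf 253543301975116)
 (.leaf 137554422381288))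
 (.node (.leaf 30905116276165)
 (.leaf 44588107909565)))
 (.node (.node (.leaf 156462657111515)
 (.leaf 48441911955942))
 (.node (.leaf 20573408655492)
 (.leaf 258831074418996))))
 (.node (.node (.node (.leaf 31494513779148)
 (.leaf 66058692644695))
 (.node (.leaf 165811555371452)
 (.leaf 24821109260475)))
 (.node (.node (.leaf 85954529562347)
 (.leaf 25177335698666))
 (.node (.leaf 68969632884013)
 (.leaf 60331639149633))))))

def keyTB141 : RT := .node (.node (.node (.node (.node (.node (.leaf 150330483769401)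
 (.leaf 195672290475084))
 (.node (.leaf 46165252576596)
 (.leaf 100689991241760)))
 (.node (.node (.leaf 133285661809203)
 (.leaf 152676910744796))
 (.node (.leaf 4765309356953)
 (.leaf 235196500789419))))
 (.node (.node (.node (.leaf 130476957210461)
 (.leaf 66377852447500))
 (.node (.leaf 104055227558937)
 (.leaf 223789178559856)))
 (.node (.node (.leaf 169588312761610)
 (.leaf 51878896230023))
 (.node (.leaf 234226369072987)
 (.leaf 173485202738957)))))
 (.node (.node (.node (.node (.leaf 213058151789004)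
 (.leaf 265931543073014))
 (.node (.leaf 88449823351197)
 (.leaf 7292752350209)))
 (.node (.node (.leaf 59960478633270)
 (.leaf 127182313987630))
 (.node (.leaf 108309040355799)
 (.leaf 106591337871880))))
 (.node (.node (.node (.leaf 101226062814522)
 (.leaf 95926116256267))
 (.node (.leaf 181622588807486)
 (.leaf 195395555258441)))
 (.node (.node (.leaf 268236611745237)
 (.leaf 195438563647332))
 (.node (.leaf 174880243890086)
 (.leaf 77585404554503))))))
 (.node (.node (.node (.node (.node (.leaf 101104693617767)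
 (.leaf 49280979186536))
 (.node (.leaf 165138954589106)
 (.leaf 201921554592349)))
 (.node (.node (.leaf 37755907015223)
 (.leaf 257055914175329))
 (.node (.leaf 244416421108937)
 (.leaf 20060304542322))))
 (.node (.node (.node (.leaf 140861326446947)
 (.leaf 231010441396816))
 (.node (.leaf 12857892434096)
 (.leaf 262475700926521)))
 (.node (.node (.leaf 86499029632126)
 (.leaf 171369400017466))
 (.node (.leaf 177415724372286)
 (.leaf 54794142000080)))))
 (.node (.node (.node (.node (.leaf 271130610489938)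
 (.leaf 27449768289708))
 (.node (.leaf 91064180106886)
 (.leaf 69696194268949)))
 (.node (.node (.leaf 186302942336223)
 (.leaf 269919860971628))
 (.node (.leaf 213148956745481)
 (.leaf 61253748169622))))
 (.node (.node (.node (.leaf 138643110499554)
 (.leaf 173154805021445))
 (.node (.leaf 104804895751829)
 (.leaf 149744767915605)))
 (.node (.node (.leaf 259066902465306)
 (.leaf 7635560402025))
 (.node (.leaf 131557999976693)
 (.leaf 44895746413673))))))

def keyTB142 : RT := .node (.node (.node (.node (.node (.node (.leaf 74861547281626)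
 (.leaf 137394598468087))
 (.node (.leaf 86339689314241)
 (.leaf 29248376285867)))
 (.node (.node (.leaf 226066573265692)
 (.leaf 157467369158754))
 (.node (.leaf 158106547809175)
 (.leaf 233612022561508))))
 (.node (.node (.node (.leaf 31678778542702)
 (.leaf 217254504337232))
 (.node (.leaf 146699385727115)
 (.leaf 228798990954263)))
 (.node (.node (.leaf 221464927848052)
 (.leaf 106804854416365))
 (.node (.leaf 42847155351865)
 (.leaf 118210164452380)))))
 (.node (.node (.node (.node (.leaf 1275144315499)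
 (.leaf 134597073248029))
 (.node (.leaf 220434454549767)
 (.leaf 195154522463205)))
 (.node (.node (.leaf 142694174853441)
 (.leaf 89535362633867))
 (.node (.leaf 173954104415567)
 (.leaf 200422021300579))))
 (.node (.node (.node (.leaf 198153421541899)
 (.leaf 1559828540395))
 (.node (.leaf 126549469586464)
 (.leaf 236101727004389)))
 (.node (.node (.leaf 191457726505604)
 (.leaf 23766949951090))
 (.node (.leaf 128404898801027)
 (.leaf 266622500246976))))))
 (.node (.node (.node (.node (.node (.leaf 246476447322120)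
 (.leaf 99023921570241))
 (.node (.leaf 181555956805950)
 (.leaf 149843788377328)))
 (.node (.node (.leaf 273022752598669)
 (.leaf 186544682846694))
 (.node (.leaf 14830295388976)
 (.leaf 242202760904186))))
 (.node (.node (.node (.leaf 65477257835998)
 (.leaf 272015725487026))
 (.node (.leaf 237689370990662)
 (.leaf 27618411062799)))
 (.node (.node (.leaf 152003350210670)
 (.leaf 106519211711175))
 (.node (.leaf 207788747622303)
 (.leaf 101764660355088)))))
 (.node (.node (.node (.node (.leaf 138224705369912)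
 (.leaf 49438569140662))
 (.node (.leaf 101970445798334)
 (.leaf 112721525475315)))
 (.node (.node (.leaf 248243591342583)
 (.leaf 51508155987905))
 (.node (.leaf 269200498055155)
 (.leaf 112964386412879))))
 (.node (.node (.node (.leaf 8246478751733)
 (.leaf 211016522198637))
 (.node (.leaf 98039797672360)
 (.leaf 256184188475674)))
 (.node (.node (.leaf 86259327956721)
 (.leaf 246637164413933))
 (.node (.leaf 229140551030023)
 (.leaf 205353106650499))))))

def keyTB143 : RT := .node (.node (.node (.node (.node (.node (.leaf 188683174313054)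
 (.leaf 109358090617503))
 (.node (.leaf 103010897967113)
 (.leaf 135314808989744)))
 (.node (.node (.leaf 2575229706810)
 (.leaf 81182295092626))
 (.node (.leaf 208709261363248)
 (.leaf 42446549799169))))
 (.node (.node (.node (.leaf 96916299737501)
 (.leaf 147168334603123))
 (.node (.leaf 37355345557747)
 (.leaf 35987726308125)))
 (.node (.node (.leaf 204352975738984)
 (.leaf 278012941012749))
 (.node (.leaf 169874581661838)
 (.leaf 122161445051644)))))
 (.node (.node (.node (.node (.leaf 132065665435191)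
 (.leaf 139874251952785))
 (.node (.leaf 53240378193458)
 (.leaf 147092480163858)))
 (.node (.node (.leaf 218977979644424)
 (.leaf 207370979458305))
 (.node (.leaf 183776951161381)
 (.leaf 136441709390307))))
 (.node (.node (.node (.leaf 169139710949542)
 (.leaf 143015594136975))
 (.node (.leaf 198274031561562)
 (.leaf 60077846395810)))
 (.node (.node (.leaf 197496190149870)
 (.leaf 87949927730010))
 (.node (.leaf 217098660950495)
 (.leaf 23892821859590))))))
 (.node (.node (.node (.node (.node (.leaf 206626710543325)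
 (.leaf 22411617351811))
 (.node (.leaf 275481481239313)
 (.leaf 12115334230563)))
 (.node (.node (.leaf 80712786395845)
 (.leaf 10310063733471))
 (.node (.leaf 240579921242970)
 (.leaf 252688232049303))))
 (.node (.node (.node (.leaf 203826098003525)
 (.leaf 99080542683260))
 (.node (.leaf 27113255904741)
 (.leaf 39500613180766)))
 (.node (.node (.leaf 65370671475108)
 (.leaf 84841702794792))
 (.node (.leaf 78945084838713)
 (.leaf 268631978341825)))))
 (.node (.node (.node (.node (.leaf 98437574873492)
 (.leaf 35332510604424))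
 (.node (.leaf 61110754507789)
 (.leaf 34404669966947)))
 (.node (.node (.leaf 61871962256328)
 (.leaf 43644739281869))
 (.node (.leaf 138781711988603)
 (.leaf 114947598443705))))
 (.node (.node (.node (.leaf 11820392818247)
 (.leaf 276934136925508))
 (.node (.leaf 71364050551412)
 (.leaf 51588466961452)))
 (.node (.node (.leaf 24908217483613)
 (.leaf 203048935800014))
 (.node (.leaf 167855386098226)
 (.leaf 147346754466961))))))

def keyTB144 : RT := .node (.node (.node (.node (.node (.node (.leaf 189522370268657)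
 (.leaf 71979539849580))
 (.node (.leaf 48576593053379)
 (.leaf 168223273773816)))
 (.node (.node (.leaf 84909840163508)
 (.leaf 167058390190612))
 (.node (.leaf 123700214914031)
 (.leaf 216288726201767))))
 (.node (.node (.node (.leaf 3548195844897)
 (.leaf 211375359854056))
 (.node (.leaf 99371260693112)
 (.leaf 137007578674179)))
 (.node (.node (.leaf 171639404571228)
 (.leaf 128624445420178))
 (.node (.leaf 252623497929024)
 (.leaf 165217700468605)))))
 (.node (.node (.node (.node (.leaf 100813536580991)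
 (.leaf 26511364908703))
 (.node (.leaf 240320152222324)
 (.leaf 124077279900858)))
 (.node (.node (.leaf 196894023675466)
 (.leaf 258770321155232))
 (.node (.leaf 29069429731850)
 (.leaf 216684694821287))))
 (.node (.node (.node (.leaf 62220120150190)
 (.leaf 146391710605872))
 (.node (.leaf 15201701721209)
 (.leaf 210346909645677)))
 (.node (.node (.leaf 168777418885037)
 (.leaf 58867805369146))
 (.node (.leaf 180691744856154)
 (.leaf 57263279769867))))))
 (.node (.node (.node (.node (.node (.leaf 257905098998061)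
 (.leaf 53884707199034))
 (.node (.leaf 25128869642049)
 (.leaf 227943941092624)))
 (.node (.node (.leaf 146536327533230)
 (.leaf 10751383604712))
 (.node (.leaf 193016286643286)
 (.leaf 64885046546734))))
 (.node (.node (.node (.leaf 33551471491890)
 (.leaf 111001082146850))
 (.node (.leaf 117280368064147)
 (.leaf 84614106754017)))
 (.node (.node (.leaf 5010057339540)
 (.leaf 11617303315497))
 (.node (.leaf 233198981410481)
 (.leaf 211504266271153)))))
 (.node (.node (.node (.node (.leaf 156167827480019)
 (.leaf 67158911738000))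
 (.node (.leaf 247275431201759)
 (.leaf 276808035202448)))
 (.node (.node (.leaf 181722673146259)
 (.leaf 28614201971243))
 (.node (.leaf 9017390412139)
 (.leaf 116504453261830))))
 (.node (.node (.node (.leaf 42317510372525)
 (.leaf 87720385783319))
 (.node (.leaf 110070191169541)
 (.leaf 228231751667973)))
 (.node (.node (.leaf 22794995356800)
 (.leaf 128444292899279))
 (.node (.leaf 102920365053416)
 (.leaf 215788212056516))))))

def keyTB145 : RT := .node (.node (.node (.node (.node (.node (.leaf 241751155591939)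
 (.leaf 18933065102013))
 (.node (.leaf 181447592597690)
 (.leaf 203655048447713)))
 (.node (.node (.leaf 16392025437398)
 (.leaf 15051975551388))
 (.node (.leaf 24005979949762)
 (.leaf 5360547141757))))
 (.node (.node (.node (.leaf 65879925912162)
 (.leaf 47778694681442))
 (.node (.leaf 19557862326426)
 (.leaf 3691701708108)))
 (.node (.node (.leaf 2660377158017)
 (.leaf 64336359689750))
 (.node (.leaf 188918240604789)
 (.leaf 118581435824296)))))
 (.node (.node (.node (.node (.leaf 270229601127720)
 (.leaf 179339135885129))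
 (.node (.leaf 9658476562770)
 (.leaf 38952716849671)))
 (.node (.node (.leaf 277671265556111)
 (.leaf 81375658217588))
 (.node (.leaf 35887490274119)
 (.leaf 130814446307266))))
 (.node (.node (.node (.leaf 96322199352455)
 (.leaf 108287905425510))
 (.node (.leaf 18893777821811)
 (.leaf 226523835164315)))
 (.node (.node (.leaf 45500164338010)
 (.leaf 6084401000473))
 (.node (.leaf 128485330565853)
 (.leaf 133776073101621))))))
 (.node (.node (.node (.node (.node (.leaf 130944478192147)
 (.leaf 40164277973331))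
 (.node (.leaf 45626386695495)
 (.leaf 179754120215865)))
 (.node (.node (.leaf 222022929976575)
 (.leaf 38448023066136))
 (.node (.leaf 218933454585469)
 (.leaf 177318407303270))))
 (.node (.node (.node (.leaf 242928596221998)
 (.leaf 226181101633421))
 (.node (.leaf 35806848621072)
 (.leaf 250606221512206)))
 (.node (.node (.leaf 22349924573320)
 (.leaf 265946851537927))
 (.node (.leaf 105219507741369)
 (.leaf 105747722345898)))))
 (.node (.node (.node (.node (.leaf 206068831950883)
 (.leaf 142589545837152))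
 (.node (.leaf 228174187158792)
 (.leaf 115454390446423)))
 (.node (.node (.leaf 213250014432872)
 (.leaf 170541110575245))
 (.node (.leaf 243258420165528)
 (.leaf 130928648398413))))
 (.node (.node (.node (.leaf 264399791688909)
 (.leaf 38588175880672))
 (.node (.leaf 38853453734239)
 (.leaf 66465598502267)))
 (.node (.node (.leaf 217513508437849)
 (.leaf 209048326338678))
 (.node (.leaf 177233397654481)
 (.leaf 34966155680131))))))

def keyTB146 : RT := .node (.node (.node (.node (.node (.node (.leaf 182611370582644)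
 (.leaf 216692379511795))
 (.node (.leaf 138444865245485)
 (.leaf 118317604562503)))
 (.node (.node (.leaf 222037396134752)
 (.leaf 57656931953205))
 (.node (.leaf 19785001741302)
 (.leaf 260249570719723))))
 (.node (.node (.node (.leaf 263626228262178)
 (.leaf 117253163077744))
 (.node (.leaf 47279787068185)
 (.leaf 54473028808849)))
 (.node (.node (.leaf 86962301406084)
 (.leaf 43285366935840))
 (.node (.leaf 17945984430622)
 (.leaf 113903317095126)))))
 (.node (.node (.node (.node (.leaf 37097152235200)
 (.leaf 99502536400832))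
 (.node (.leaf 55070430167776)
 (.leaf 104274396259618)))
 (.node (.node (.leaf 37233689702897)
 (.leaf 83674428159687))
 (.node (.leaf 254990730156288)
 (.leaf 278760409760042))))
 (.node (.node (.node (.leaf 9883477531501)
 (.leaf 129166757199809))
 (.node (.leaf 24904571303155)
 (.leaf 200822586110911)))
 (.node (.node (.leaf 43791093828613)
 (.leaf 257112023169248))
 (.node (.leaf 21318148696427)
 (.leaf 17121812477700))))))
 (.node (.node (.node (.node (.node (.leaf 139053376627173)
 (.leaf 265010364617399))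
 (.node (.leaf 46681194031326)
 (.leaf 101637322063444)))
 (.node (.node (.leaf 125622044413760)
 (.leaf 49878547369682))
 (.node (.leaf 115801122138203)
 (.leaf 16177533899852))))
 (.node (.node (.node (.leaf 212667102458353)
 (.leaf 71879638571923))
 (.node (.leaf 180381174495714)
 (.leaf 132866972597052)))
 (.node (.node (.leaf 111201154352161)
 (.leaf 66878201596042))
 (.node (.leaf 176335492668157)
 (.leaf 223008427428450)))))
 (.node (.node (.node (.node (.leaf 107152100530987)
 (.leaf 91151033396712))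
 (.node (.leaf 145821663751683)
 (.leaf 41725072499492)))
 (.node (.node (.leaf 39103243168742)
 (.leaf 231371212115855))
 (.node (.leaf 88333873893733)
 (.leaf 233440700144975))))
 (.node (.node (.node (.leaf 80533864078115)
 (.leaf 183239354079039))
 (.node (.leaf 278637620081671)
 (.leaf 199661841569350)))
 (.node (.node (.leaf 58050835119396)
 (.leaf 51582023465464))
 (.node (.leaf 73900075937653)
 (.leaf 170980142854451))))))

def keyTB147 : RT := .node (.node (.node (.node (.node (.node (.leaf 234382984407483)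
 (.leaf 63679534514028))
 (.node (.leaf 211584149762129)
 (.leaf 6924697669559)))
 (.node (.node (.leaf 151443221144280)
 (.leaf 276384188704404))
 (.node (.leaf 79385073214064)
 (.leaf 85285698103152))))
 (.node (.node (.node (.leaf 21610399559209)
 (.leaf 250918920214818))
 (.node (.leaf 194146185576157)
 (.leaf 175434547816884)))
 (.node (.node (.leaf 38493185165809)
 (.leaf 78704650321637))
 (.node (.leaf 176994439096717)
 (.leaf 210859253908464)))))
 (.node (.node (.node (.node (.leaf 213879940568009)
 (.leaf 20694570485510))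
 (.node (.leaf 220806248083719)
 (.leaf 96417806770908)))
 (.node (.node (.leaf 36171821461054)
 (.leaf 114737783628101))
 (.node (.leaf 138983090576269)
 (.leaf 77326315325612))))
 (.node (.node (.node (.leaf 56219457235643)
 (.leaf 119516053720025))
 (.node (.leaf 56566260373611)
 (.leaf 143148052317533)))
 (.node (.node (.leaf 56801659494853)
 (.leaf 67031208004165))
 (.node (.leaf 120288048891578)
 (.leaf 241092383012007))))))
 (.node (.node (.node (.node (.node (.leaf 124198823170394)
 (.leaf 257280161819227))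
 (.node (.leaf 210501227791689)
 (.leaf 42041368199868)))
 (.node (.node (.leaf 264483365036635)
 (.leaf 151426148359573))
 (.node (.leaf 233407428229195)
 (.leaf 7011322766930))))
 (.node (.node (.node (.leaf 3186344261543)
 (.leaf 273633070702104))
 (.node (.leaf 171007066475213)
 (.leaf 234384942945675)))
 (.node (.node (.leaf 236342434833536)
 (.leaf 194962363671802))
 (.node (.leaf 264037380136716)
 (.leaf 215816913452897)))))
 (.node (.node (.node (.node (.leaf 207851197917445)
 (.leaf 224270394561133))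
 (.node (.leaf 30488934128165)
 (.leaf 114403942464434)))
 (.node (.node (.leaf 258243702411793)
 (.leaf 4632016607590))
 (.node (.leaf 97590705787435)
 (.leaf 68675034173961))))
 (.node (.node (.node (.leaf 99725405750137)
 (.leaf 18864869881250))
 (.node (.leaf 178717866448647)
 (.leaf 53432649366264)))
 (.node (.node (.leaf 21440829784756)
 (.leaf 110036223044859))
 (.node (.leaf 35364871467593)
 (.leaf 138568385635660))))))

def keyTB148 : RT := .node (.node (.node (.node (.node (.node (.leaf 253616935416193)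
 (.leaf 29395646594184))
 (.node (.leaf 27703510973937)
 (.leaf 8484028371024)))
 (.node (.node (.leaf 182693623387895)
 (.leaf 196508591675851))
 (.node (.leaf 216503018769461)
 (.leaf 141695001502265))))
 (.node (.node (.node (.leaf 181186341763410)
 (.leaf 78076953789217))
 (.node (.leaf 221030482246632)
 (.leaf 6091814275975)))
 (.node (.node (.leaf 191837079897570)
 (.leaf 241016125116825))
 (.node (.leaf 225005788731711)
 (.leaf 179370057822580)))))
 (.node (.node (.node (.node (.leaf 187036727646437)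
 (.leaf 28460952698403))
 (.node (.leaf 33331648630805)
 (.leaf 148875289588210)))
 (.node (.node (.leaf 118780192205750)
 (.leaf 187011162886781))
 (.node (.leaf 19565564965720)
 (.leaf 169995351849823))))
 (.node (.node (.node (.leaf 182732208094983)
 (.leaf 146941697818633))
 (.node (.leaf 159122958185963)
 (.leaf 53433774980072)))
 (.node (.node (.leaf 77417554895061)
 (.leaf 86126934885780))
 (.node (.leaf 131460444678358)
 (.leaf 267784911464969))))))
 (.node (.node (.node (.node (.node (.leaf 120840703415027)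
 (.leaf 143932913124029))
 (.node (.leaf 234939871021242)
 (.leaf 60207700954360)))
 (.node (.node (.leaf 36037002360597)
 (.leaf 216322806809265))
 (.node (.leaf 3517515432092)
 (.leaf 68732638865285))))
 (.node (.node (.node (.leaf 132909607752687)
 (.leaf 78375186313149))
 (.node (.leaf 184096306969108)
 (.leaf 65858269466063)))
 (.node (.node (.leaf 8476060171483)
 (.leaf 250206505242438))
 (.node (.leaf 176076719269727)
 (.leaf 130304719164524)))))
 (.node (.node (.node (.node (.leaf 145141620716711)
 (.leaf 138716887355352))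
 (.node (.leaf 50476078588047)
 (.leaf 261029228543920)))
 (.node (.node (.leaf 257386416084828)
 (.leaf 147275640843994))
 (.node (.leaf 2347586073015)
 (.leaf 31448681513170))))
 (.node (.node (.node (.leaf 99972314852368)
 (.leaf 38286140021863))
 (.node (.leaf 256308370129651)
 (.leaf 101358610580875)))
 (.node (.node (.leaf 272941281255494)
 (.leaf 77985882993817))
 (.node (.leaf 153943023102948)
 (.leaf 181649144393941))))))

def keyTB149 : RT := .node (.node (.node (.node (.node (.node (.leaf 54596274779540)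
 (.leaf 153615184376600))
 (.node (.leaf 233911692817649)
 (.leaf 92960801018189)))
 (.node (.node (.leaf 38772698814566)
 (.leaf 239178584153088))
 (.node (.leaf 173771394060740)
 (.leaf 43210292321279))))
 (.node (.node (.node (.leaf 214157864452485)
 (.leaf 9714899899454))
 (.node (.leaf 203968495153880)
 (.leaf 110911756027128)))
 (.node (.node (.leaf 225252275289296)
 (.leaf 33025872015005))
 (.node (.leaf 24153131025971)
 (.leaf 87700417488527)))))
 (.node (.node (.node (.node (.leaf 243934264804775)
 (.leaf 141901542938080))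
 (.node (.leaf 227675227663913)
 (.leaf 223201015388088)))
 (.node (.node (.leaf 40501197863924)
 (.leaf 196153551513038))
 (.node (.leaf 22772312223684)
 (.leaf 115173178982280))))
 (.node (.node (.node (.leaf 187610273211269)
 (.leaf 165558099243519))
 (.node (.leaf 259891118505132)
 (.leaf 37482348284202)))
 (.node (.node (.leaf 120800768149227)
 (.leaf 62463996193664))
 (.node (.leaf 78753864394435)
 (.leaf 201834257734331))))))
 (.node (.node (.node (.node (.node (.leaf 181447946971680)
 (.leaf 177565387086125))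
 (.node (.leaf 79373883237629)
 (.leaf 167106721507640)))
 (.node (.node (.leaf 123741930821794)
 (.leaf 135214836880451))
 (.node (.leaf 211074802686827)
 (.leaf 29121136570164))))
 (.node (.node (.node (.leaf 145892312219790)
 (.leaf 180275463713166))
 (.node (.leaf 152083647009858)
 (.leaf 135282927537418)))
 (.node (.node (.leaf 145062522573742)
 (.leaf 139458692751372))
 (.node (.leaf 132890140696059)
 (.leaf 79803616187950)))))
 (.node (.node (.node (.node (.leaf 40173931603519)
 (.leaf 271452598673476))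
 (.node (.leaf 103519973245948)
 (.leaf 269699829058630)))
 (.node (.node (.leaf 69322082121999)
 (.leaf 125172753553231))
 (.node (.leaf 40226018872965)
 (.leaf 241847607874521))))
 (.node (.node (.node (.leaf 213284045163261)
 (.leaf 61070778615677))
 (.node (.leaf 109282848793664)
 (.leaf 34331817386994)))
 (.node (.node (.leaf 162191529272675)
 (.leaf 151932862607920))
 (.node (.leaf 31865633247768)
 (.leaf 103970524383631))))))

def keyTB150 : RT := .node (.node (.node (.node (.node (.node (.leaf 31081710412169)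
 (.leaf 193723845709050))
 (.node (.leaf 18349647443025)
 (.leaf 263683812151598)))
 (.node (.node (.leaf 212611346611992)
 (.leaf 185600293952971))
 (.node (.leaf 270614441954030)
 (.leaf 67247766223117))))
 (.node (.node (.node (.leaf 93205923397377)
 (.leaf 26500406537992))
 (.node (.leaf 175177611669032)
 (.leaf 47590220159103)))
 (.node (.node (.leaf 178480875117559)
 (.leaf 208843551322638))
 (.node (.leaf 265765192758917)
 (.leaf 176575678482406)))))
 (.node (.node (.node (.node (.leaf 112009556194405)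
 (.leaf 48998376308280))
 (.node (.leaf 18135602285706)
 (.leaf 177649734966603)))
 (.node (.node (.leaf 102713271081768)
 (.leaf 275407747566455))
 (.node (.leaf 239799464860033)
 (.leaf 2997145449714))))
 (.node (.node (.node (.leaf 261273071080423)
 (.leaf 163746532001966))
 (.node (.leaf 34917560642796)
 (.leaf 31130496290974)))
 (.node (.node (.leaf 169117473569364)
 (.leaf 189285188843907))
 (.node (.leaf 224198537723982)
 (.leaf 264715536798654))))))
 (.node (.node (.node (.node (.node (.leaf 15017522014299)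
 (.leaf 213488838594798))
 (.node (.leaf 177918985794676)
 (.leaf 10601451067199)))
 (.node (.node (.leaf 16664610273796)
 (.leaf 277450115202146))
 (.node (.leaf 206762415625941)
 (.leaf 44957980000348))))
 (.node (.node (.node (.leaf 65708791448023)
 (.leaf 63986659107589))
 (.node (.leaf 235457326734645)
 (.leaf 100812685071017)))
 (.node (.node (.leaf 25064999442357)
 (.leaf 118975173393927))
 (.node (.leaf 174957908539841)
 (.leaf 262033359428064)))))
 (.node (.node (.node (.node (.leaf 168045253596812)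
 (.leaf 66651538644830))
 (.node (.leaf 123574147930103)
 (.leaf 145945442525363)))
 (.node (.node (.leaf 58017873595121)
 (.leaf 180287678923354))
 (.node (.leaf 43629233418713)
 (.leaf 91178621001294))))
 (.node (.node (.node (.leaf 222081683009158)
 (.leaf 258796625768043))
 (.node (.leaf 259238103628069)
 (.leaf 64891149184176)))
 (.node (.node (.leaf 197058022804993)
 (.leaf 329377044667))
 (.node (.leaf 255016918084604)
 (.leaf 355948654648))))))

def keyTB151 : RT := .node (.node (.node (.node (.node (.node (.leaf 211108081231684)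
 (.leaf 146373916893057))
 (.node (.leaf 41018251397506)
 (.leaf 143103305384304)))
 (.node (.node (.leaf 141264180552521)
 (.leaf 243271727641184))
 (.node (.leaf 134869117578504)
 (.leaf 216098655890573))))
 (.node (.node (.node (.leaf 22369714328452)
 (.leaf 5605125800571))
 (.node (.leaf 231350266916045)
 (.leaf 88343078006942)))
 (.node (.node (.leaf 184575855591880)
 (.leaf 135829334337011))
 (.node (.leaf 191990208582816)
 (.leaf 198908027871754)))))
 (.node (.node (.node (.node (.leaf 171132389763495)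
 (.leaf 114276220018862))
 (.node (.leaf 66462284187496)
 (.leaf 217549433133810)))
 (.node (.node (.leaf 61093989649729)
 (.leaf 34409547149521))
 (.node (.leaf 133079460822222)
 (.leaf 98768717271999))))
 (.node (.node (.node (.leaf 55991126088709)
 (.leaf 255753718237408))
 (.node (.leaf 214591593942029)
 (.leaf 254662327503459)))
 (.node (.node (.leaf 134640357184895)
 (.leaf 138409832899436))
 (.node (.leaf 87468268992761)
 (.leaf 225447802532962))))))
 (.node (.node (.node (.node (.node (.leaf 257146164137075)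
 (.leaf 109110025866061))
 (.node (.leaf 226235273423743)
 (.leaf 60769975098673)))
 (.node (.node (.leaf 223980151835430)
 (.leaf 139965049304166))
 (.node (.leaf 129817775000467)
 (.leaf 218821638994010))))
 (.node (.node (.node (.leaf 136867888077067)
 (.leaf 109641994771649))
 (.node (.leaf 55820860143574)
 (.leaf 199689818799539)))
 (.node (.node (.leaf 133471774158969)
 (.leaf 94356910520013))
 (.node (.leaf 153584139806185)
 (.leaf 168078371712287)))))
 (.node (.node (.node (.node (.leaf 232564457706467)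
 (.leaf 70598513353601))
 (.node (.leaf 182270894326459)
 (.leaf 142048350360250)))
 (.node (.node (.leaf 109681983458900)
 (.leaf 271327163078910))
 (.node (.leaf 81854999385309)
 (.leaf 165400445556463))))
 (.node (.node (.node (.leaf 38175202130684)
 (.leaf 200044753437647))
 (.node (.leaf 142044025558132)
 (.leaf 260253694622326)))
 (.node (.node (.leaf 129149462253787)
 (.leaf 32294280912177))
 (.node (.leaf 102145888613765)
 (.leaf 131633179929967))))))

def keyTB152 : RT := .node (.node (.node (.node (.node (.node (.leaf 83130356321045)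
 (.leaf 149387612023906))
 (.node (.leaf 41932382849283)
 (.leaf 59540545141563)))
 (.node (.node (.leaf 191972783832257)
 (.leaf 198928666892246))
 (.node (.leaf 95094778077870)
 (.leaf 124644410570516))))
 (.node (.node (.node (.leaf 25540202402678)
 (.leaf 185566127316882))
 (.node (.leaf 100121480428415)
 (.leaf 268744923950438)))
 (.node (.node (.leaf 115338467792583)
 (.leaf 134932880963563))
 (.node (.leaf 201672102441072)
 (.leaf 213341687315225)))))
 (.node (.node (.node (.node (.leaf 37060446525199)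
 (.leaf 265197456215711))
 (.node (.leaf 270709327589074)
 (.leaf 230395920646419)))
 (.node (.node (.leaf 58847106751372)
 (.leaf 180707208372168))
 (.node (.leaf 57262361115723)
 (.leaf 143295824666706))))
 (.node (.node (.node (.leaf 268464407113350)
 (.leaf 102420962443853))
 (.node (.leaf 96548114889420)
 (.leaf 100103170163735)))
 (.node (.node (.leaf 32262897328834)
 (.leaf 199211174913145))
 (.node (.leaf 83638379510287)
 (.leaf 15213405576232))))))
 (.node (.node (.node (.node (.node (.leaf 82687107673856)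
 (.leaf 247814287062593))
 (.node (.leaf 104494659939736)
 (.leaf 208172020796184)))
 (.node (.node (.leaf 127436119976546)
 (.leaf 207516898238702))
 (.node (.leaf 82015778879198)
 (.leaf 237192814992586))))
 (.node (.node (.node (.leaf 209213488793646)
 (.leaf 164988426423642))
 (.node (.leaf 61934293899945)
 (.leaf 87659081283829)))
 (.node (.node (.leaf 141138296538310)
 (.leaf 66123672760416))
 (.node (.leaf 116256288118405)
 (.leaf 23778630765574)))))
 (.node (.node (.node (.node (.leaf 174103405520896)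
 (.leaf 201346813203784))
 (.node (.leaf 139451201960092)
 (.leaf 53896890585377)))
 (.node (.node (.leaf 251724720751845)
 (.leaf 36800963590897))
 (.node (.leaf 64694536749658)
 (.leaf 175035695460600))))
 (.node (.node (.node (.leaf 219772628756124)
 (.leaf 121765917782395))
 (.node (.leaf 92353090312503)
 (.leaf 140506460753322)))
 (.node (.node (.leaf 15806578562836)
 (.leaf 93856088593270))
 (.node (.leaf 265231678630561)
 (.leaf 104505085145502))))))

def keyTB153 : RT := .node (.node (.node (.node (.node (.node (.leaf 78061166438296)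
 (.leaf 29925426015206))
 (.node (.leaf 91747096532240)
 (.leaf 184403728564286)))
 (.node (.node (.leaf 153165858131230)
 (.leaf 203471288650592))
 (.node (.leaf 209976473695016)
 (.leaf 247960910509631))))
 (.node (.node (.node (.leaf 190057831480765)
 (.leaf 97575081708099))
 (.node (.leaf 79229126153267)
 (.leaf 87610169423967)))
 (.node (.node (.leaf 270612350873723)
 (.leaf 158702487058984))
 (.node (.leaf 42677168707758)
 (.leaf 38555307148321)))))
 (.node (.node (.node (.node (.leaf 38832360353838)
 (.leaf 88740553863994))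
 (.node (.leaf 55857925256725)
 (.leaf 106425352154190)))
 (.node (.node (.leaf 130886254227077)
 (.leaf 205786967503833))
 (.node (.leaf 164292741025425)
 (.leaf 250452491900988))))
 (.node (.node (.node (.leaf 99124610869840)
 (.leaf 58258268155395))
 (.node (.leaf 182593552344757)
 (.leaf 98779386726825)))
 (.node (.node (.leaf 49258088816705)
 (.leaf 140502731232026))
 (.node (.leaf 231165483140929)
 (.leaf 132670791045954))))))
 (.node (.node (.node (.node (.node (.leaf 73187867015176)
 (.leaf 98491095043776))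
 (.node (.leaf 51679112656168)
 (.leaf 4864723091386)))
 (.node (.node (.leaf 22823012075364)
 (.leaf 115762223376458))
 (.node (.leaf 224862854423011)
 (.leaf 126256899495098))))
 (.node (.node (.node (.leaf 222871965040202)
 (.leaf 179835455916919))
 (.node (.leaf 110984350931329)
 (.leaf 47322936792229)))
 (.node (.node (.leaf 14981747440890)
 (.leaf 269663850884361))
 (.node (.leaf 133774364621450)
 (.leaf 210312750659429)))))
 (.node (.node (.node (.node (.leaf 168827037465603)
 (.leaf 4511820985013))
 (.node (.leaf 221172429518507)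
 (.leaf 76322046375292)))
 (.node (.node (.leaf 149478153734063)
 (.leaf 42270875633714))
 (.node (.leaf 135627643521314)
 (.leaf 246785619265680))))
 (.node (.node (.node (.leaf 131954557777079)
 (.leaf 145828857658834))
 (.node (.leaf 180551575180370)
 (.leaf 276715440113893)))
 (.node (.node (.leaf 76961981841545)
 (.leaf 161334230974290))
 (.node (.leaf 55197968717325)
 (.leaf 261049683720329))))))

def keyTB154 : RT := .node (.node (.node (.node (.node (.node (.leaf 257260281992932)
 (.leaf 239204953396156))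
 (.node (.leaf 220957015740981)
 (.leaf 201801519781742)))
 (.node (.node (.leaf 63641345534132)
 (.leaf 61883163374127))
 (.node (.leaf 108456757168307)
 (.leaf 31417398679331))))
 (.node (.node (.node (.leaf 8356682295057)
 (.leaf 119699989282577))
 (.node (.leaf 3869645674269)
 (.leaf 265587301822359)))
 (.node (.node (.leaf 242663310555975)
 (.leaf 228684379984816))
 (.node (.leaf 146887682630120)
 (.leaf 14391248335506)))))
 (.node (.node (.node (.node (.leaf 6553888383308)
 (.leaf 46845780515902))
 (.node (.leaf 264485132465214)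
 (.leaf 132911660817377)))
 (.node (.node (.leaf 27020968805012)
 (.leaf 253686973287072))
 (.node (.leaf 267481282975376)
 (.leaf 210248623971810))))
 (.node (.node (.node (.leaf 153454306533988)
 (.leaf 272748671193910))
 (.node (.leaf 130116454965711)
 (.leaf 210257893660146)))
 (.node (.node (.leaf 20745113931445)
 (.leaf 110437793055143))
 (.node (.leaf 200163424561918)
 (.leaf 179585556826555))))))
 (.node (.node (.node (.node (.node (.leaf 210472469130460)
 (.leaf 220947672318051))
 (.node (.leaf 87119958243266)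
 (.leaf 78333658649735)))
 (.node (.node (.leaf 255499092845386)
 (.leaf 58296830647114))
 (.node (.leaf 57942271708622)
 (.leaf 225267027562266))))
 (.node (.node (.node (.leaf 65953429746626)
 (.leaf 211465622252898))
 (.node (.leaf 156194510467633)
 (.leaf 177845338312865)))
 (.node (.node (.leaf 191798466487384)
 (.leaf 169846195651276))
 (.node (.leaf 11966509631285)
 (.leaf 210840097061824)))))
 (.node (.node (.node (.node (.leaf 3863210750606)
 (.leaf 9352319717147))
 (.node (.leaf 93174784923229)
 (.leaf 235768306180809)))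
 (.node (.node (.leaf 202622208428569)
 (.leaf 26101196666326))
 (.node (.leaf 99733340484787)
 (.leaf 192782210592278))))
 (.node (.node (.node (.leaf 183948544375940)
 (.leaf 249085785663277))
 (.node (.leaf 253631119404819)
 (.leaf 226867196995056)))
 (.node (.node (.leaf 157811614729779)
 (.leaf 145737408244603))
 (.node (.leaf 198557706060221)
 (.leaf 254570976136225))))))

def keyTB155 : RT := .node (.node (.node (.node (.node (.node (.leaf 263287217560282)
 (.leaf 252176507065505))
 (.node (.leaf 2166063168824)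
 (.leaf 64788892182097)))
 (.node (.node (.leaf 6657787993160)
 (.leaf 165712946406343))
 (.node (.leaf 25400924629532)
 (.leaf 235521909285656))))
 (.node (.node (.node (.leaf 178736699640750)
 (.leaf 167337735273305))
 (.node (.leaf 49936945804802)
 (.leaf 277101760066978)))
 (.node (.node (.leaf 50591669253895)
 (.leaf 7573690246637))
 (.node (.leaf 5842130604573)
 (.leaf 251663268734145)))))
 (.node (.node (.node (.node (.leaf 120219909774974)
 (.leaf 159435720306758))
 (.node (.leaf 220533711774325)
 (.leaf 253983327879429)))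
 (.node (.node (.leaf 253443681748400)
 (.leaf 29478021136853))
 (.node (.leaf 277207636376448)
 (.leaf 6915954858653))))
 (.node (.node (.node (.leaf 94823790157275)
 (.leaf 33702712618301))
 (.node (.leaf 33493279142635)
 (.leaf 273941834539775)))
 (.node (.node (.leaf 34444089198759)
 (.leaf 4678903788387))
 (.node (.leaf 48065635780340)
 (.leaf 230879718659879))))))
 (.node (.node (.node (.node (.node (.leaf 74831681496766)
 (.leaf 250928862333469))
 (.node (.leaf 11623405161579)
 (.leaf 233176313068046)))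
 (.node (.node (.leaf 183896893917540)
 (.leaf 83170860927477))
 (.node (.leaf 251441511566804)
 (.leaf 36901365780636))))
 (.node (.node (.node (.leaf 27021880716176)
 (.leaf 228294676605673))
 (.node (.leaf 75954481712788)
 (.leaf 20790656549628)))
 (.node (.node (.leaf 192340198614221)
 (.leaf 159234068965597))
 (.node (.leaf 263957083998059)
 (.leaf 135618312799756)))))
 (.node (.node (.node (.node (.leaf 246821162917313)
 (.leaf 177504358141769))
 (.node (.leaf 131953409468560)
 (.leaf 145853696879376)))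
 (.node (.node (.leaf 231742263258326)
 (.leaf 243942128549848))
 (.node (.leaf 43664022068337)
 (.leaf 116538833982242))))
 (.node (.node (.node (.leaf 108714643782251)
 (.leaf 122023740065524))
 (.node (.leaf 130791827249494)
 (.leaf 96317512805948)))
 (.node (.node (.leaf 236768468127104)
 (.leaf 103669071109499))
 (.node (.leaf 146296194398602)
 (.leaf 131524910046229))))))

def keyTB156 : RT := .node (.node (.node (.node (.node (.node (.leaf 267738686773900)
 (.leaf 96413587078302))
 (.node (.leaf 270024247963502)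
 (.leaf 4288770022160)))
 (.node (.node (.leaf 230799417950537)
 (.leaf 102923071158103))
 (.node (.leaf 91354352659476)
 (.leaf 57799181298809))))
 (.node (.node (.node (.leaf 170596426220498)
 (.leaf 47892292353503))
 (.node (.leaf 193270695114426)
 (.leaf 154575040272987)))
 (.node (.node (.leaf 226875132013993)
 (.leaf 138987239571628))
 (.node (.leaf 77319654055869)
 (.leaf 64748280964110)))))
 (.node (.node (.node (.node (.leaf 827221005038)
 (.leaf 115116751463674))
 (.node (.leaf 187651478776211)
 (.leaf 165563776396121)))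
 (.node (.node (.leaf 196326803084425)
 (.leaf 256283807620556))
 (.node (.leaf 144890253689367)
 (.leaf 127591651136461))))
 (.node (.node (.node (.leaf 212994186988038)
 (.leaf 252426657111213))
 (.node (.leaf 232329735742999)
 (.leaf 6342968508421)))
 (.node (.node (.leaf 84915672617459)
 (.leaf 30454346614590))
 (.node (.leaf 114392500660660)
 (.leaf 258230342078292))))))
 (.node (.node (.node (.node (.node (.leaf 138777504726781)
 (.leaf 114959513355588))
 (.node (.leaf 97325342648952)
 (.leaf 194611236169605)))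
 (.node (.node (.leaf 196166626730991)
 (.leaf 55575506861519))
 (.node (.leaf 257319672147163)
 (.leaf 162418354619336))))
 (.node (.node (.node (.leaf 216570801616763)
 (.leaf 47051342140601))
 (.node (.leaf 115197049291817)
 (.leaf 159386271518385)))
 (.node (.node (.leaf 138604554699291)
 (.leaf 147315160816026))
 (.node (.leaf 152711090694119)
 (.leaf 108938165860344)))))
 (.node (.node (.node (.node (.leaf 209351915006783)
 (.leaf 158553370495057))
 (.node (.leaf 28637953948414)
 (.leaf 95512820314959)))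
 (.node (.node (.leaf 68999287580007)
 (.leaf 25391724721666))
 (.node (.leaf 232399914530033)
 (.leaf 116339743238269))))
 (.node (.node (.node (.leaf 7600389456482)
 (.leaf 55277140861794))
 (.node (.leaf 63505174487194)
 (.leaf 137853377610202)))
 (.node (.node (.leaf 37503142327609)
 (.leaf 108453861944309))
 (.node (.leaf 207831974717837)
 (.leaf 9691117545854))))))

def keyTB157 : RT := .node (.node (.node (.node (.node (.node (.leaf 10891006223024)
 (.leaf 7745031492095))
 (.node (.leaf 195238146180839)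
 (.leaf 75978598647788)))
 (.node (.node (.leaf 20784956277879)
 (.leaf 47941974666974))
 (.node (.leaf 150022214354320)
 (.leaf 89078320887698))))
 (.node (.node (.node (.leaf 47204666919279)
 (.leaf 244678726561150))
 (.node (.leaf 76288004698249)
 (.leaf 238316676951770)))
 (.node (.node (.leaf 263899038245303)
 (.leaf 74905594978660))
 (.node (.leaf 229453112587931)
 (.leaf 78387720039477)))))
 (.node (.node (.node (.node (.leaf 41805256924331)
 (.leaf 229249358567061))
 (.node (.leaf 232117596576958)
 (.leaf 97118165167884)))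
 (.node (.node (.leaf 93159009465776)
 (.leaf 194558823363029))
 (.node (.leaf 181193104743250)
 (.leaf 60257530168953))))
 (.node (.node (.node (.leaf 36017983762971)
 (.leaf 136087572621393))
 (.node (.leaf 196980686084290)
 (.leaf 246544982695957)))
 (.node (.node (.leaf 225279386665998)
 (.leaf 179385802271594))
 (.node (.leaf 80378094703226)
 (.leaf 90322641423677))))))
 (.node (.node (.node (.node (.node (.leaf 34214406304491)
 (.leaf 119261451933310))
 (.node (.leaf 158381013705976)
 (.leaf 20506671565152)))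
 (.node (.node (.leaf 201059365453887)
 (.leaf 127588094173658))
 (.node (.leaf 212991524488505)
 (.leaf 252446745329212))))
 (.node (.node (.node (.leaf 232332981119989)
 (.leaf 224424324493831))
 (.node (.leaf 260732677416586)
 (.leaf 131381962408307)))
 (.node (.node (.leaf 155993940655074)
 (.leaf 176102881549135))
 (.node (.leaf 2661575440376)
 (.leaf 259493619452735)))))
 (.node (.node (.node (.node (.leaf 67055145998795)
 (.leaf 179924738468847))
 (.node (.leaf 104682307484551)
 (.leaf 265653294773730)))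
 (.node (.node (.leaf 117752228254105)
 (.leaf 169957779316510))
 (.node (.leaf 5229209026802)
 (.leaf 256074312372165))))
 (.node (.node (.node (.leaf 147643893378151)
 (.leaf 29452206755531))
 (.node (.leaf 31680748449532)
 (.leaf 15078204286363)))
 (.node (.node (.leaf 24008834147073)
 (.leaf 5426195732050))
 (.node (.leaf 47818586644980)
 (.leaf 137030830695835))))))

def keyTB158 : RT := .node (.node (.node (.node (.node (.node (.leaf 254532925721293)
 (.leaf 27705352789272))
 (.node (.leaf 108126412298081)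
 (.leaf 179576159792162)))
 (.node (.node (.leaf 259495382367657)
 (.leaf 136097588729613))
 (.node (.leaf 200160553528113)
 (.leaf 49916402903811))))
 (.node (.node (.node (.leaf 196483890032907)
 (.leaf 241743882699730))
 (.node (.leaf 199894922791821)
 (.leaf 123468255304797)))
 (.node (.node (.leaf 275559558797947)
 (.leaf 99971024722746))
 (.node (.leaf 149686214534710)
 (.leaf 144489560759504)))))
 (.node (.node (.node (.node (.leaf 184017691124545)
 (.leaf 165924589819534))
 (.node (.leaf 89887704967576)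
 (.leaf 167310325136696)))
 (.node (.node (.leaf 26060534503339)
 (.leaf 162117447661037))
 (.node (.leaf 1401495079798)
 (.leaf 78849877175328))))
 (.node (.node (.node (.leaf 127663604377530)
 (.leaf 24265084992712))
 (.node (.leaf 246394954279452)
 (.leaf 133329945455661)))
 (.node (.node (.leaf 108964392547007)
 (.leaf 130054389685795))
 (.node (.leaf 234162668710409)
 (.leaf 195953270941277))))))
 (.node (.node (.node (.node (.node (.leaf 127507068131390)
 (.leaf 70869267449837))
 (.node (.leaf 204437999764591)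
 (.leaf 181857008773605)))
 (.node (.node (.leaf 55247587091926)
 (.leaf 64338353855205))
 (.node (.leaf 188940393226774)
 (.leaf 105631662184213))))
 (.node (.node (.node (.leaf 178953479590512)
 (.leaf 277574876959891))
 (.node (.leaf 121862248947452)
 (.leaf 64563174288406)))
 (.node (.node (.leaf 33206623683789)
 (.leaf 224046892231458))
 (.node (.leaf 14942055355741)
 (.leaf 245989082479025)))))
 (.node (.node (.node (.node (.leaf 24587889956490)
 (.leaf 116583023133043))
 (.node (.leaf 32416385252322)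
 (.leaf 5227167184915)))
 (.node (.node (.leaf 256113159610059)
 (.leaf 275548278466108))
 (.node (.leaf 108173874266536)
 (.leaf 31704678737358))))
 (.node (.node (.node (.leaf 76900765898936)
 (.leaf 82781690312465))
 (.node (.leaf 5852684353616)
 (.leaf 108152219308339)))
 (.node (.node (.leaf 135077195548109)
 (.leaf 270372851980468))
 (.node (.leaf 140125245399599)
 (.leaf 12335776559391))))))

def keyTB159 : RT := .node (.node (.node (.node (.node (.node (.leaf 192500194480993)
 (.leaf 41397226420791))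
 (.node (.leaf 167335869781935)
 (.leaf 32511779660086)))
 (.node (.node (.leaf 255532205109469)
 (.leaf 253647655610334))
 (.node (.leaf 160883839642237)
 (.leaf 264048031902300))))
 (.node (.node (.node (.leaf 224245103424496)
 (.leaf 189978257987996))
 (.node (.leaf 2130667158210)
 (.leaf 159478220356828)))
 (.node (.node (.leaf 6538993812340)
 (.leaf 127842431643980))
 (.node (.leaf 272777794845758)
 (.leaf 123545772611527)))))
 (.node (.node (.node (.node (.leaf 221029733119315)
 (.leaf 273731028014065))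
 (.node (.leaf 225243122742954)
 (.leaf 213792675411424)))
 (.node (.node (.leaf 21450902156457)
 (.leaf 267719143864318))
 (.node (.leaf 14934831534310)
 (.leaf 245958761825621))))
 (.node (.node (.node (.leaf 111315170125992)
 (.leaf 225180146674282))
 (.node (.leaf 232676155877951)
 (.leaf 228659992378850)))
 (.node (.node (.leaf 198825865545482)
 (.leaf 192339352858142))
 (.node (.leaf 38310549386458)
 (.leaf 17096862161625))))))
 (.node (.node (.node (.node (.node (.leaf 116310519769003)
 (.leaf 201849096480199))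
 (.node (.leaf 255865374806858)
 (.leaf 70122238406714)))
 (.node (.node (.leaf 268089813300961)
 (.leaf 85620501918059))
 (.node (.leaf 67723898114493)
 (.leaf 87027038841889))))
 (.node (.node (.node (.leaf 226538632657626)
 (.leaf 45529080812705))
 (.node (.leaf 241022074583467)
 (.leaf 189499944005055)))
 (.node (.node (.leaf 73898052325419)
 (.leaf 18942446298788))
 (.node (.leaf 203627604078249)
 (.leaf 16371161751724)))))
 (.node (.node (.node (.node (.leaf 140601177889545)
 (.leaf 142518053005316))
 (.node (.leaf 202826544587982)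
 (.leaf 8002628462117)))
 (.node (.node (.leaf 126831237180562)
 (.leaf 264391891571779))
 (.node (.leaf 258675816839291)
 (.leaf 142570328866538))))
 (.node (.node (.node (.leaf 59608733008606)
 (.leaf 4051710558549))
 (.node (.leaf 59509612374924)
 (.leaf 179716978950532)))
 (.node (.node (.leaf 190858395931322)
 (.leaf 198759474549584))
 (.node (.leaf 237410936600695)
 (.leaf 25110532412033))))))

def keyTB160 : RT := .node (.node (.node (.node (.node (.node (.leaf 61979292845340)
 (.leaf 16646883503477))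
 (.node (.leaf 277444883678330)
 (.leaf 184383191265979)))
 (.node (.node (.leaf 153135004411606)
 (.leaf 123643636468688))
 (.node (.leaf 214691341397183)
 (.leaf 209653103885598))))
 (.node (.node (.node (.leaf 274294379623960)
 (.leaf 152086520019016))
 (.node (.leaf 135261345666228)
 (.leaf 11852862230842)))
 (.node (.node (.leaf 276931034988099)
 (.leaf 242002344634077))
 (.node (.leaf 56508136105047)
 (.leaf 174107230099817)))))
 (.node (.node (.node (.node (.leaf 201309558572827)
 (.leaf 265108013210912))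
 (.node (.leaf 166990050988280)
 (.leaf 685277897160)))
 (.node (.node (.leaf 271486020249689)
 (.leaf 198419727338737))
 (.node (.leaf 178503192536281)
 (.leaf 129680645006976))))
 (.node (.node (.node (.leaf 42916808038255)
 (.leaf 130865195099513))
 (.node (.leaf 210367178827303)
 (.leaf 14437282693394)))
 (.node (.node (.leaf 92640623426354)
 (.leaf 154047416945529))
 (.node (.leaf 264898714132107)
 (.leaf 218486391408267))))))
 (.node (.node (.node (.node (.node (.leaf 176928846823643)
 (.leaf 235461037203598))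
 (.node (.leaf 102418447081781)
 (.leaf 96486745498131)))
 (.node (.node (.leaf 193428803404115)
 (.leaf 7976731657543))
 (.node (.leaf 55168411849041)
 (.leaf 144211997330423))))
 (.node (.node (.node (.leaf 115415582532195)
 (.leaf 228386190166069))
 (.node (.leaf 224490503048011)
 (.leaf 277410828148614)))
 (.node (.node (.leaf 191168438307570)
 (.leaf 116833604475948))
 (.node (.leaf 178162538413043)
 (.leaf 228384962046709)))))
 (.node (.node (.node (.node (.leaf 40219677670537)
 (.leaf 93245762351739))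
 (.node (.leaf 220484701971047)
 (.leaf 245294173299964)))
 (.node (.node (.leaf 5552521625322)
 (.leaf 21117362596155))
 (.node (.leaf 122572642467108)
 (.leaf 172320146407822))))
 (.node (.node (.node (.leaf 214776765339185)
 (.leaf 123663935634578))
 (.node (.leaf 214705034587038)
 (.leaf 47387376415889)))
 (.node (.node (.leaf 163082807108388)
 (.leaf 190045071138016))
 (.node (.leaf 223071339573334)
 (.leaf 114568341840769))))))

def keyTB161 : RT := .node (.node (.node (.node (.node (.node (.leaf 103966880917219)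
 (.leaf 184211429834028))
 (.node (.leaf 132339750246244)
 (.leaf 69243837921212)))
 (.node (.node (.leaf 177297293113216)
 (.leaf 242967752191746))
 (.node (.leaf 226209363254340)
 (.leaf 261601260131633))))
 (.node (.node (.node (.leaf 133488363055095)
 (.leaf 94409192066349))
 (.node (.leaf 346523973686)
 (.leaf 220466196852535)))
 (.node (.node (.leaf 79220814180440)
 (.leaf 212603247747203))
 (.node (.leaf 221979020108277)
 (.leaf 203255130152760)))))
 (.node (.node (.node (.node (.leaf 152595362035019)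
 (.leaf 98498617241979))
 (.node (.leaf 30208315229611)
 (.leaf 156512347913834)))
 (.node (.node (.leaf 248757338795237)
 (.leaf 243195017599224))
 (.node (.leaf 84519889901640)
 (.leaf 5574227626844))))
 (.node (.node (.node (.leaf 122101807843691)
 (.leaf 69505711564548))
 (.node (.leaf 9947822981893)
 (.leaf 11072604567687)))
 (.node (.node (.leaf 76419077339818)
 (.leaf 55944840024140))
 (.node (.leaf 255712909045390)
 (.leaf 177282518187945))))))
 (.node (.node (.node (.node (.node (.leaf 250553872565150)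
 (.leaf 212263247772200))
 (.node (.leaf 65249140453693)
 (.leaf 69353391543267)))
 (.node (.node (.leaf 115044634135989)
 (.leaf 210699807853091))
 (.node (.leaf 30604413032125)
 (.leaf 217324922054791))))
 (.node (.node (.node (.leaf 9415415359487)
 (.leaf 269567034012584))
 (.node (.leaf 184235777729747)
 (.leaf 268737518895547)))
 (.node (.node (.leaf 88753269144778)
 (.leaf 220722303785522))
 (.node (.leaf 184574183468741)
 (.leaf 135851615392042)))))
 (.node (.node (.node (.node (.leaf 104165318600179)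
 (.leaf 115348875874355))
 (.node (.leaf 161447443522313)
 (.leaf 199163401208934)))
 (.node (.node (.leaf 204885309273317)
 (.leaf 278790479824867))
 (.node (.leaf 24947613165433)
 (.leaf 52757304409912))))
 (.node (.node (.node (.leaf 29906529253020)
 (.leaf 176944671932901))
 (.node (.leaf 26168107004599)
 (.leaf 60777599158390)))
 (.node (.node (.leaf 123889072002001)
 (.leaf 41452899409958))
 (.node (.leaf 238949349629632)
 (.leaf 79818913835777))))))

def keyTB162 : RT := .node (.node (.node (.node (.node (.node (.leaf 56522661748065)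
 (.leaf 217355432788704))
 (.node (.leaf 129532843312202)
 (.leaf 103379626675959)))
 (.node (.node (.leaf 127453572889043)
 (.leaf 198961179734112))
 (.node (.leaf 87811135660344)
 (.leaf 261495875749348))))
 (.node (.node (.node (.leaf 153040741660864)
 (.leaf 125560478602729))
 (.node (.leaf 139423472483466)
 (.leaf 78548646654002)))
 (.node (.node (.leaf 186982340768502)
 (.leaf 115471461767306))
 (.node (.leaf 61086622994860)
 (.leaf 38465828040116)))))
 (.node (.node (.node (.node (.leaf 218873215309792)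
 (.leaf 9907117311183))
 (.node (.leaf 208897178652744)
 (.leaf 97900329183771)))
 (.node (.node (.leaf 168451051789031)
 (.leaf 24963639789632))
 (.node (.leaf 26787375718344)
 (.leaf 104619863338059))))
 (.node (.node (.node (.leaf 193389936291925)
 (.leaf 171194215905088))
 (.node (.leaf 226259020037147)
 (.leaf 6816719029608)))
 (.node (.node (.leaf 136506368805420)
 (.leaf 79664517444718))
 (.node (.leaf 57887977829291)
 (.leaf 186979213897557))))))
 (.node (.node (.node (.node (.node (.leaf 198604367434424)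
 (.leaf 242902723029508))
 (.node (.leaf 265718775489701)
 (.leaf 66170611529300)))
 (.node (.node (.leaf 176381452400912)
 (.leaf 165222286430303))
 (.node (.leaf 175224792969141)
 (.leaf 243313940898145))))
 (.node (.node (.node (.leaf 233487263601740)
 (.leaf 258695384178216))
 (.node (.leaf 59588888514393)
 (.leaf 3987222322969)))
 (.node (.node (.leaf 254654829401822)
 (.leaf 71372711279369))
 (.node (.leaf 170536236010656)
 (.leaf 243249706255256)))))
 (.node (.node (.node (.node (.leaf 130760883439013)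
 (.leaf 126830259783799))
 (.node (.leaf 219462762293247)
 (.leaf 147368774780677)))
 (.node (.node (.leaf 145796874579088)
 (.leaf 41740851691407))
 (.node (.leaf 276494822537385)
 (.leaf 93080516574066))))
 (.node (.node (.node (.leaf 102078579082524)
 (.leaf 243801950623689))
 (.node (.leaf 216094900066818)
 (.leaf 47607071995011)))
 (.node (.node (.leaf 205794354992682)
 (.leaf 36383733780937))
 (.node (.leaf 153434745155353)
 (.leaf 202022289685368))))))

def keyTB163 : RT := .node (.node (.node (.node (.node (.node (.leaf 124370695308119)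
 (.leaf 118294675989004))
 (.node (.leaf 18768476930973)
 (.leaf 244084752309536)))
 (.node (.node (.leaf 9118476157771)
 (.leaf 256505321459001))
 (.node (.leaf 49019037229570)
 (.leaf 18081569057477))))
 (.node (.node (.node (.leaf 177668964647959)
 (.leaf 102705568731842))
 (.node (.leaf 9419575576975)
 (.leaf 269566865011923)))
 (.node (.node (.leaf 106514134530431)
 (.leaf 150173320132360))
 (.node (.leaf 49250553631193)
 (.leaf 231154981308451)))))
 (.node (.node (.node (.node (.leaf 132678199564880)
 (.leaf 73192763530192))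
 (.node (.leaf 109064410643599)
 (.leaf 136827645255002)))
 (.node (.node (.leaf 93722446629425)
 (.leaf 69357190048300))
 (.node (.leaf 48314039132301)
 (.leaf 65230029081496))))
 (.node (.node (.node (.leaf 47255209014861)
 (.leaf 197865327137248))
 (.node (.leaf 133219182424415)
 (.leaf 152218487510395)))
 (.node (.node (.leaf 62199895738553)
 (.leaf 211115636012387))
 (.node (.leaf 41005897273400)
 (.leaf 143106919055975))))))
 (.node (.node (.node (.node (.node (.leaf 203036243571827)
 (.leaf 167878970933812))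
 (.node (.leaf 104640638232634)
 (.leaf 195857018814273)))
 (.node (.node (.leaf 215385151680594)
 (.leaf 33562290893389))
 (.node (.leaf 58227668826828)
 (.leaf 4392764725775))))
 (.node (.node (.node (.leaf 102053431380988)
 (.leaf 124898734615592))
 (.node (.leaf 121274636672324)
 (.leaf 26153912471901)))
 (.node (.node (.leaf 52556461030655)
 (.leaf 198444767092349))
 (.node (.leaf 133076946370844)
 (.leaf 21367874958639)))))
 (.node (.node (.node (.node (.leaf 177860238850112)
 (.leaf 54439969067061))
 (.node (.leaf 224192686591091)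
 (.leaf 14692227084913)))
 (.node (.node (.leaf 114249273481582)
 (.leaf 228204389587259))
 (.node (.leaf 141106874391591)
 (.leaf 130530348769594))))
 (.node (.node (.node (.leaf 262802388781644)
 (.leaf 177927042951841))
 (.node (.leaf 82950134829470)
 (.leaf 161444320041216)))
 (.node (.node (.leaf 153433201819585)
 (.leaf 38657824695539))
 (.node (.leaf 250437008979637)
 (.leaf 4815555389641))))))

def keyTB164 : RT := .node (.node (.node (.node (.node (.node (.leaf 22823777067325)
 (.leaf 241994746611725))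
 (.node (.leaf 259254477358161)
 (.leaf 111238012202758)))
 (.node (.node (.leaf 202812010296130)
 (.leaf 31845046827016))
 (.node (.leaf 28151173383069)
 (.leaf 6804169359850))))
 (.node (.node (.node (.leaf 136535277095211)
 (.leaf 79693531586848))
 (.node (.leaf 208485908847190)
 (.leaf 148109095844984)))
 (.node (.node (.leaf 212500494357177)
 (.leaf 83138647068925))
 (.node (.leaf 268955136762764)
 (.leaf 163990858514915)))))
 (.node (.node (.node (.node (.leaf 35727637085913)
 (.leaf 99457296461348))
 (.node (.leaf 57716909466448)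
 (.leaf 203260484238342)))
 (.node (.node (.leaf 45370665930899)
 (.leaf 155443666555475))
 (.node (.leaf 76063790607695)
 (.leaf 156500790594339))))
 (.node (.node (.node (.leaf 118381944497548)
 (.leaf 23781103506882))
 (.node (.leaf 182203722510211)
 (.leaf 146348110241902)))
 (.node (.node (.leaf 154106578837070)
 (.leaf 1500210546389))
 (.node (.leaf 86931452809254)
 (.leaf 215378505369532))))))
 (.node (.node (.node (.node (.node (.leaf 37238865373664)
 (.leaf 129867802350294))
 (.node (.leaf 270729795760412)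
 (.leaf 230391386466729)))
 (.node (.node (.leaf 273291196332398)
 (.leaf 169117689993465))
 (.node (.leaf 147787303615796)
 (.leaf 7933257717730))))
 (.node (.node (.node (.leaf 103354295018717)
 (.leaf 249143444094721))
 (.node (.leaf 70597053895656)
 (.leaf 182282531116942)))
 (.node (.node (.leaf 45247552314668)
 (.leaf 22009015008614))
 (.node (.leaf 209509821237144)
 (.leaf 14699619664970)))))
 (.node (.node (.node (.node (.leaf 98147950579447)
 (.leaf 172342300896879))
 (.node (.leaf 155448073670077)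
 (.leaf 176584638159427)))
 (.node (.node (.leaf 51884349186068)
 (.leaf 162676123608187))
 (.node (.leaf 48180537703902)
 (.leaf 153584773945850))))
 (.node (.node (.node (.leaf 116847358682663)
 (.leaf 48346148464841))
 (.node (.leaf 47240434379920)
 (.leaf 197897336752141)))
 (.node (.node (.leaf 133245178015073)
 (.leaf 32599638895074))
 (.node (.leaf 91929050954556)
 (.leaf 218192748358313))))))

def keyTB165 : RT := .node (.node (.node (.node (.node (.node (.leaf 9072572872567)
 (.leaf 37394830338270))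
 (.node (.leaf 275977954140227)
 (.leaf 129483308131724)))
 (.node (.node (.leaf 208152240388344)
 (.leaf 43805518285814))
 (.node (.leaf 123873337222533)
 (.leaf 248358379098737))))
 (.node (.node (.node (.leaf 264723183291213)
 (.leaf 93718873446317))
 (.node (.leaf 242771899030963)
 (.leaf 94221083615353)))
 (.node (.node (.leaf 214244746839757)
 (.leaf 197533709991199))
 (.node (.leaf 102152401433394)
 (.leaf 152558958719076)))))
 (.node (.node (.node (.node (.leaf 150199122452970)
 (.leaf 262837118214631))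
 (.node (.leaf 69200862263048)
 (.leaf 203428896524876)))
 (.node (.node (.leaf 92693427246192)
 (.leaf 113902602169610))
 (.node (.leaf 55106851482812)
 (.leaf 104290772027841))))
 (.node (.node (.node (.leaf 9888448321160)
 (.leaf 202479399524111))
 (.node (.leaf 106733663588531)
 (.leaf 134684289216973)))
 (.node (.node (.leaf 154626495896931)
 (.leaf 122536177892489))
 (.node (.leaf 248409748909582)
 (.leaf 273272723771324))))))
 (.node (.node (.node (.node (.node (.leaf 5513066746272)
 (.leaf 21133864845443))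
 (.node (.leaf 206087621323317)
 (.leaf 19754716144459)))
 (.node (.node (.leaf 111135796637240)
 (.leaf 77792656600749))
 (.node (.leaf 82697970938975)
 (.leaf 70287028878955))))
 (.node (.node (.node (.leaf 154624382697268)
 (.leaf 50352380298291))
 (.node (.leaf 179774146852959)
 (.leaf 47632106921039)))
 (.node (.node (.leaf 243161448872506)
 (.leaf 84479742816396))
 (.node (.leaf 195876943532083)
 (.leaf 218188943774473)))))
 (.node (.node (.node (.node (.leaf 215103073539941)
 (.leaf 125650567227057))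
 (.node (.leaf 152318866537289)
 (.leaf 65981020357095)))
 (.node (.node (.leaf 87501317627709)
 (.leaf 81465686808385))
 (.node (.leaf 237554758656076)
 (.leaf 114667423497420))))
 (.node (.node (.node (.leaf 142474862380228)
 (.leaf 57893900056830))
 (.node (.leaf 222965368245389)
 (.leaf 161229366221700)))
 (.node (.node (.leaf 202372941767775)
 (.leaf 119007367942947))
 (.node (.leaf 188821667856086)
 (.leaf 155950981419574))))))

def keyTB166 : RT := .node (.node (.node (.node (.node (.node (.leaf 254819496441382)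
 (.leaf 213376008003420))
 (.node (.leaf 35832060989609)
 (.leaf 17170390498699)))
 (.node (.node (.leaf 139075324596565)
 (.leaf 265018163863360))
 (.node (.leaf 72846156480787)
 (.leaf 270646109674566))))
 (.node (.node (.node (.leaf 106731235648033)
 (.leaf 8636308461277))
 (.node (.leaf 168921949467760)
 (.leaf 247974511798867)))
 (.node (.node (.leaf 190958290924314)
 (.leaf 51346774631339))
 (.node (.leaf 121046169984853)
 (.leaf 232209045616211)))))
 (.node (.node (.node (.node (.leaf 171171657439861)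
 (.leaf 65744364425318))
 (.node (.leaf 35151615840276)
 (.leaf 237541782767479)))
 (.node (.node (.leaf 122379511427139)
 (.leaf 162231913700111))
 (.node (.leaf 36760662542396)
 (.leaf 45618233206206))))
 (.node (.node (.node (.leaf 198775650543105)
 (.leaf 204877505033068))
 (.node (.leaf 85075998898519)
 (.leaf 155929119712436)))
 (.node (.node (.leaf 74667436572227)
 (.leaf 268965992912842))
 (.node (.leaf 42948535728181)
 (.leaf 150678889138331))))))
 (.node (.node (.node (.node (.node (.leaf 194613896568757)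
 (.leaf 99112513523777))
 (.node (.leaf 225817527195046)
 (.leaf 55136168570474)))
 (.node (.node (.leaf 183321680485160)
 (.leaf 206753838613590))
 (.node (.leaf 197054618701592)
 (.leaf 313720200651))))
 (.node (.node (.node (.leaf 213476553795264)
 (.leaf 105230420955072))
 (.node (.leaf 167005114504753)
 (.leaf 154056934705411)))
 (.node (.node (.leaf 264902411153824)
 (.leaf 194668549626745))
 (.node (.leaf 22611370086027)
 (.leaf 191116523607691)))))
 (.node (.node (.node (.node (.leaf 80915446674332)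
 (.leaf 109669564030781))
 (.node (.leaf 87579018823501)
 (.leaf 20263079745045)))
 (.node (.node (.leaf 140206792342606)
 (.leaf 118621524129922))
 (.node (.leaf 100160909882950)
 (.leaf 218804362205230))))
 (.node (.node (.node (.leaf 121229071619744)
 (.leaf 85350431912844))
 (.node (.leaf 242766442346351)
 (.leaf 50089322227584)))
 (.node (.node (.leaf 205519213948072)
 (.leaf 251753267152070))
 (.node (.leaf 180381818437849)
 (.leaf 263613153212986))))))

def keyTB167 : RT := .node (.node (.node (.node (.node (.node (.leaf 212643371540620)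
 (.leaf 130759449890701))
 (.node (.leaf 94230505880800)
 (.leaf 265098863458196)))
 (.node (.node (.leaf 29142713065617)
 (.leaf 214810889657960))
 (.node (.leaf 111120174304693)
 (.leaf 80502682480726))))
 (.node (.node (.node (.leaf 183266940181027)
 (.leaf 278598969755325))
 (.node (.leaf 135174054936607)
 (.leaf 211094443262894)))
 (.node (.node (.leaf 43238277673474)
 (.leaf 17954220952261))
 (.node (.leaf 110397969289715)
 (.leaf 193616173547645)))))
 (.node (.node (.node (.node (.leaf 150256940366026)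
 (.leaf 193345073941858))
 (.node (.leaf 37263202416665)
 (.leaf 236367255929525)))
 (.node (.node (.leaf 194993127061163)
 (.leaf 141292450122810))
 (.node (.leaf 121156615137363)
 (.leaf 120293025394405))))
 (.node (.node (.node (.leaf 241132622861945)
 (.leaf 103997391509856))
 (.node (.leaf 58785831122169)
 (.leaf 133327956693286)))
 (.node (.node (.leaf 144399813702401)
 (.leaf 276354043260091))
 (.node (.leaf 241157867767842)
 (.leaf 243978192785675))))))
 (.node (.node (.node (.node (.node (.leaf 248795331530777)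
 (.leaf 118592652629028))
 (.node (.leaf 270240732510090)
 (.leaf 54573265224725)))
 (.node (.node (.leaf 127647011941323)
 (.leaf 94780386067786))
 (.node (.leaf 33678004557613)
 (.leaf 33467758124203))))
 (.node (.node (.node (.leaf 123471176289662)
 (.leaf 145728405580593))
 (.node (.leaf 82765580107994)
 (.leaf 31365132000956)))
 (.node (.node (.leaf 104705858757552)
 (.leaf 261253632940851))
 (.node (.leaf 10000486895620)
 (.leaf 99322691316603)))))
 (.node (.node (.node (.node (.leaf 4979769966350)
 (.leaf 180535482600927))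
 (.node (.leaf 276674099550707)
 (.leaf 71992059804703)))
 (.node (.node (.leaf 48575349494648)
 (.leaf 192604886376046))
 (.node (.leaf 277160839670834)
 (.leaf 204423067665918))))
 (.node (.node (.node (.leaf 181872940994833)
 (.leaf 12343499412627))
 (.node (.leaf 264359082988547)
 (.leaf 217857011958921)))
 (.node (.node (.leaf 158566007060838)
 (.leaf 195219021506642))
 (.node (.leaf 215967959930976)
 (.leaf 21237845099822))))))

def keyTB168 : RT := .node (.node (.node (.node (.node (.node (.leaf 159394919217225)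
 (.leaf 128606003262047))
 (.node (.leaf 235390970875125)
 (.leaf 140793918467366)))
 (.node (.node (.leaf 92922392339717)
 (.leaf 123521767239795))
 (.node (.leaf 185434952100408)
 (.leaf 110861481850447))))
 (.node (.node (.node (.leaf 109925631027054)
 (.leaf 101024007935323))
 (.node (.leaf 26672289969565)
 (.leaf 34455240991436)))
 (.node (.node (.leaf 277132593659765)
 (.leaf 262375896285036))
 (.node (.leaf 150230600118353)
 (.leaf 193366939824055)))))
 (.node (.node (.node (.node (.leaf 222144618730274)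
 (.leaf 63283093449860))
 (.node (.leaf 36541851691968)
 (.leaf 75012924859022)))
 (.node (.node (.leaf 72701161661372)
 (.leaf 3212996084643))
 (.node (.leaf 261669258712707)
 (.leaf 227338112019993))))
 (.node (.node (.node (.leaf 117996163371341)
 (.leaf 169862694621012))
 (.node (.leaf 115703404625147)
 (.leaf 81709675471433)))
 (.node (.node (.leaf 130323793729264)
 (.leaf 192570977215475))
 (.node (.leaf 14410906415484)
 (.leaf 65930069250798))))))
 (.node (.node (.node (.node (.node (.leaf 212008298878833)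
 (.leaf 131791747011121))
 (.node (.leaf 96741646479925)
 (.leaf 267523939833529)))
 (.node (.node (.leaf 9795765724900)
 (.leaf 157882939275565))
 (.node (.leaf 77159687791869)
 (.leaf 219041354388663))))
 (.node (.node (.node (.leaf 198823320575442)
 (.leaf 202305778393375))
 (.node (.leaf 31365796481049)
 (.leaf 261211309205725)))
 (.node (.node (.leaf 9993974709884)
 (.leaf 203164373594432))
 (.node (.leaf 19913806948280)
 (.leaf 44060757031924)))))
 (.node (.node (.node (.node (.leaf 35931078393157)
 (.leaf 90740433348498))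
 (.node (.leaf 157602722871663)
 (.leaf 110467137803843)))
 (.node (.node (.leaf 144727643464823)
 (.leaf 268361840668583))
 (.node (.leaf 5683106694599)
 (.leaf 40488597790600))))
 (.node (.node (.node (.leaf 38536007409332)
 (.leaf 78721253120026))
 (.node (.leaf 177004745946414)
 (.leaf 213907436874911)))
 (.node (.node (.leaf 219409358179322)
 (.leaf 119673549436779))
 (.node (.leaf 10906905159678)
 (.leaf 146974327446835))))))

def keyTB169 : RT := .node (.node (.node (.node (.node (.node (.leaf 270018152532536)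
 (.leaf 212016009836222))
 (.node (.leaf 182784667497905)
 (.leaf 43200320148300)))
 (.node (.node (.leaf 242707149121168)
 (.leaf 85348471828189))
 (.node (.leaf 220632815991880)
 (.leaf 196318045799833))))
 (.node (.node (.node (.leaf 48033579938606)
 (.leaf 139326002249353))
 (.node (.leaf 252126836742675)
 (.leaf 158199605976638)))
 (.node (.node (.leaf 50443626904592)
 (.leaf 23485153888590))
 (.node (.leaf 64580863078158)
 (.leaf 269736618769429)))))
 (.node (.node (.node (.node (.leaf 836605495276)
 (.leaf 172867700158278))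
 (.node (.leaf 146237630252895)
 (.leaf 215981529912428)))
 (.node (.node (.leaf 177087435618087)
 (.leaf 41423568043990))
 (.node (.leaf 140144990550012)
 (.leaf 231849881972003))))
 (.node (.node (.node (.leaf 55547964274825)
 (.leaf 257321314217712))
 (.node (.leaf 68670085181689)
 (.leaf 36187567175845)))
 (.node (.node (.leaf 114741546911664)
 (.leaf 151479392823933))
 (.node (.leaf 75502474701802)
 (.leaf 273106824765150))))))
 (.node (.node (.node (.node (.node (.leaf 187588517853191)
 (.leaf 1393440479973))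
 (.node (.leaf 177444109424982)
 (.leaf 21789596484263)))
 (.node (.node (.leaf 83849732939734)
 (.leaf 57316463225876))
 (.node (.leaf 92905824375196)
 (.leaf 148967203340537))))
 (.node (.node (.node (.leaf 144788156177489)
 (.leaf 268375255884681))
 (.node (.leaf 263908601011838)
 (.leaf 189993159502232)))
 (.node (.node (.leaf 4650609640176)
 (.leaf 144874119129407))
 (.node (.leaf 197625500106188)
 (.leaf 127494290170391)))))
 (.node (.node (.node (.node (.leaf 216557618119489)
 (.leaf 234156912114510))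
 (.node (.leaf 173785048970599)
 (.leaf 120812792852842)))
 (.node (.node (.leaf 225042037873546)
 (.leaf 164347991485068))
 (.node (.leaf 181650491296790)
 (.leaf 78107117244559))))
 (.node (.node (.node (.leaf 222670290862601)
 (.leaf 33396181365625))
 (.node (.leaf 232373068927613)
 (.leaf 46855916279562)))
 (.node (.node (.leaf 23298214661662)
 (.leaf 201761365300160))
 (.node (.leaf 83902631010313)
 (.leaf 57328188741099))))))

def keyTB170 : RT := .node (.node (.node (.node (.node (.node (.leaf 83999652255638)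
 (.leaf 107018941681899))
 (.node (.leaf 216529516985518)
 (.leaf 158377907484755)))
 (.node (.node (.leaf 144475018603734)
 (.leaf 157817876608781))
 (.node (.leaf 229350934120890)
 (.leaf 185424333551230))))
 (.node (.node (.node (.leaf 74812432733645)
 (.leaf 69434858250836))
 (.node (.leaf 76354251818303)
 (.leaf 125010847594215)))
 (.node (.node (.leaf 19828469327177)
 (.leaf 254946145171011))
 (.node (.leaf 23211220325254)
 (.leaf 210508985617407)))))
 (.node (.node (.node (.node (.leaf 42011649118597)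
 (.leaf 21613321751586))
 (.node (.leaf 194164963694480)
 (.leaf 175391590471069)))
 (.node (.node (.leaf 177061411305370)
 (.leaf 247275722293832))
 (.node (.leaf 9387481952919)
 (.leaf 70867014554541))))
 (.node (.node (.node (.leaf 240391773149078)
 (.leaf 164328018545611))
 (.node (.leaf 253488510343187)
 (.leaf 192809270424052)))
 (.node (.node (.leaf 220540831675224)
 (.leaf 262374822259538))
 (.node (.leaf 162407024602021)
 (.leaf 231179187772001))))))
 (.node (.node (.node (.node (.node (.leaf 27395094361764)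
 (.leaf 209379158492085))
 (.node (.leaf 80361334714210)
 (.leaf 244696236430802)))
 (.node (.node (.leaf 246558754160033)
 (.leaf 55302841584502))
 (.node (.leaf 254944376635396)
 (.leaf 23200139741721))))
 (.node (.node (.node (.leaf 25322092727153)
 (.leaf 5945947744925))
 (.node (.leaf 61643309546971)
 (.leaf 121196331963480)))
 (.node (.node (.leaf 231749172480427)
 (.leaf 130049173384318))
 (.node (.leaf 203975523479987)
 (.leaf 84626327668929)))))
 (.node (.node (.node (.node (.leaf 177814780850030)
 (.leaf 193304823956416))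
 (.node (.leaf 145146015646969)
 (.leaf 252631031829657)))
 (.node (.node (.leaf 259840556272612)
 (.leaf 141299536621729))
 (.node (.leaf 153939987753906)
 (.leaf 103974987813393))))
 (.node (.node (.node (.leaf 58803905181019)
 (.leaf 47034618005134))
 (.node (.leaf 168159189452342)
 (.leaf 233375832273798)))
 (.node (.node (.leaf 7073769149965)
 (.leaf 273617540637028))
 (.node (.leaf 107223820921651)
 (.leaf 37285559841468))))))

def keyTB171 : RT := .node (.node (.node (.node (.node (.node (.leaf 159223118918044)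
 (.leaf 230951278254922))
 (.node (.leaf 141846441518651)
 (.leaf 227695625233196)))
 (.node (.node (.leaf 223263485980612)
 (.leaf 10150253561625))
 (.node (.leaf 269734138577941)
 (.leaf 270356046186580))))
 (.node (.node (.node (.leaf 83180750859221)
 (.leaf 11969734584218))
 (.node (.leaf 127858505616833)
 (.leaf 167312610863589)))
 (.node (.node (.leaf 105654318083117)
 (.leaf 255884412517354))
 (.node (.leaf 230902812548732)
 (.leaf 29401200951139)))))
 (.node (.node (.node (.node (.leaf 232673778196156)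
 (.leaf 60938040994990))
 (.node (.leaf 95139456931476)
 (.leaf 249063356212667)))
 (.node (.node (.leaf 92852693151413)
 (.leaf 58313840120231))
 (.node (.leaf 32516085144657)
 (.leaf 148952592290697))))
 (.node (.node (.node (.leaf 74934658265309)
 (.leaf 267670749369033))
 (.node (.leaf 56608568492485)
 (.leaf 111266394499653)))
 (.node (.node (.leaf 117740544820906)
 (.leaf 225137916711600))
 (.node (.leaf 152696628739124)
 (.leaf 63558962281504))))))
 (.node (.node (.node (.node (.node (.leaf 268142180099733)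
 (.leaf 273122027872098))
 (.node (.leaf 276856464168402)
 (.leaf 57936776583243)))
 (.node (.node (.leaf 56245452232615)
 (.leaf 75457853726232))
 (.node (.leaf 43000323661665)
 (.leaf 17437908039941))))
 (.node (.node (.node (.leaf 62399992898157)
 (.leaf 103643508611621))
 (.node (.leaf 228271837437122)
 (.leaf 4268381442870)))
 (.node (.node (.leaf 230785381798857)
 (.leaf 91339953372318))
 (.node (.leaf 57822627702641)
 (.leaf 119523954200327)))))
 (.node (.node (.node (.node (.leaf 211379353846607)
 (.leaf 99416799308101))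
 (.node (.leaf 136978548097459)
 (.leaf 171630607594807)))
 (.node (.node (.leaf 184016723455272)
 (.leaf 108286835547416))
 (.node (.leaf 213826119743329)
 (.leaf 175522160119549))))
 (.node (.node (.node (.leaf 236748846883180)
 (.leaf 77950328813424))
 (.node (.leaf 97314737029482)
 (.leaf 250145006938174)))
 (.node (.node (.leaf 47162407452482)
 (.leaf 240439991088126))
 (.node (.leaf 253976378145631)
 (.leaf 124227132475065))))))

def keyTB172 : RT := .node (.node (.node (.node (.node (.node (.leaf 111334688370111)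
 (.leaf 95740442010141))
 (.node (.leaf 149211349562940)
 (.leaf 228325927069910)))
 (.node (.node (.leaf 101073387527416)
 (.leaf 84579758351025))
 (.node (.leaf 273735426450601)
 (.leaf 17102309121486))))
 (.node (.node (.node (.leaf 24307408025588)
 (.leaf 108746341182931))
 (.node (.leaf 121997370142819)
 (.leaf 192513821416042)))
 (.node (.node (.leaf 214181440072255)
 (.leaf 221193479560282))
 (.node (.leaf 63581852363737)
 (.leaf 178370100803691)))))
 (.node (.node (.node (.node (.leaf 147001431631786)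
 (.leaf 75623380398310))
 (.node (.leaf 173924125841338)
 (.leaf 197678895730930)))
 (.node (.node (.leaf 56805026117367)
 (.leaf 182708444682274))
 (.node (.leaf 220618564020205)
 (.leaf 202278083986011))))
 (.node (.node (.node (.leaf 26679205342380)
 (.leaf 47975683135786))
 (.node (.leaf 139326298285803)
 (.leaf 176261111364083)))
 (.node (.node (.leaf 217892663393406)
 (.leaf 263977023705855))
 (.node (.leaf 28458954358429)
 (.leaf 77389666286480))))))
 (.node (.node (.node (.node (.node (.leaf 86161979583209)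
 (.leaf 235549963086774))
 (.node (.leaf 147637711542103)
 (.leaf 118749355275346)))
 (.node (.node (.leaf 24537446776187)
 (.leaf 107022218294486))
 (.node (.leaf 255490807885594)
 (.leaf 67699240113090))))
 (.node (.node (.node (.leaf 89070721304613)
 (.leaf 196969017343911))
 (.node (.leaf 137866116682152)
 (.leaf 124525272936683)))
 (.node (.node (.leaf 219042375910260)
 (.leaf 273979372725063))
 (.node (.leaf 235736439264097)
 (.leaf 220807226104375)))))
 (.node (.node (.node (.node (.leaf 119258945977402)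
 (.leaf 135064121864250))
 (.node (.leaf 68440590579492)
 (.leaf 7703695106610)))
 (.node (.node (.leaf 195271393273476)
 (.leaf 184036288107065))
 (.node (.leaf 179955699510517)
 (.leaf 254478417425979))))
 (.node (.node (.node (.leaf 101312262259500)
 (.leaf 97127392005307))
 (.node (.leaf 42963309844468)
 (.leaf 17453751260147)))
 (.node (.node (.leaf 21787662236672)
 (.leaf 60923068342404))
 (.node (.leaf 261679709983264)
 (.leaf 162162587963312))))))

def keyTB173 : RT := .node (.node (.node (.node (.node (.node (.leaf 95769420093276)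
 (.leaf 157576062717396))
 (.node (.leaf 84041001359274)
 (.leaf 149737302550862)))
 (.node (.node (.leaf 222702989285570)
 (.leaf 158245812969282))
 (.node (.leaf 52140261360638)
 (.leaf 251711268400046))))
 (.node (.node (.node (.leaf 120236975527911)
 (.leaf 256206464728849))
 (.node (.leaf 277617333676414)
 (.leaf 233895091062669)))
 (.node (.node (.leaf 44078986697818)
 (.leaf 89902043247727))
 (.node (.leaf 38820213861488)
 (.leaf 159130644605370)))))
 (.node (.node (.node (.node (.leaf 143950038911370)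
 (.leaf 234890640926816))
 (.node (.leaf 151488845270814)
 (.leaf 272936116082188)))
 (.node (.node (.leaf 115195240142148)
 (.leaf 200909528106251))
 (.node (.leaf 277675841145995)
 (.leaf 157910109411854))))
 (.node (.node (.node (.leaf 77147288514940)
 (.leaf 52145125241157))
 (.node (.leaf 4510650050043)
 (.leaf 9825545907231)))
 (.node (.node (.leaf 141665644643971)
 (.leaf 140677521458355))
 (.node (.leaf 199895627524940)
 (.leaf 231841845767281))))))
 (.node (.node (.node (.node (.node (.leaf 200875559221298)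
 (.leaf 87003240702262))
 (.node (.leaf 23455589492051)
 (.leaf 173881835662158)))
 (.node (.node (.leaf 189046591707680)
 (.leaf 156005236855733))
 (.node (.leaf 252094011201573)
 (.leaf 152393855498412))))
 (.node (.node (.node (.leaf 201407466314040)
 (.leaf 95455011054810))
 (.node (.leaf 193648611532741)
 (.leaf 90767660222965)))
 (.node (.node (.leaf 229252251034263)
 (.leaf 124587431557964))
 (.node (.leaf 251428266715301)
 (.leaf 201742836785517)))))
 (.node (.node (.node (.node (.leaf 167261445849989)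
 (.leaf 47887834180160))
 (.node (.leaf 176210535376781)
 (.leaf 78863749960214)))
 (.node (.node (.leaf 160921446317250)
 (.leaf 241177417609941))
 (.node (.leaf 3674085191974)
 (.leaf 138727263310034))))
 (.node (.node (.node (.leaf 177484840593181)
 (.leaf 69046468250824))
 (.node (.leaf 111332858395760)
 (.leaf 91213151340487)))
 (.node (.node (.leaf 5960115451221)
 (.leaf 201364182364704))
 (.node (.leaf 6342080638736)
 (.leaf 48085081238001))))))

def keyTB174 : RT := .node (.node (.node (.node (.node (.node (.leaf 152352750088324)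
 (.leaf 140709799278599))
 (.node (.leaf 268331308758001)
 (.leaf 211532713446274)))
 (.node (.node (.leaf 243961449333796)
 (.leaf 116564032405267))
 (.node (.leaf 72668102468472)
 (.leaf 147051525773232))))
 (.node (.node (.node (.leaf 75597021309826)
 (.leaf 21260013272686))
 (.node (.leaf 41814634422856)
 (.leaf 3482077311760)))
 (.node (.node (.leaf 222115153081134)
 (.leaf 63238191402633))
 (.node (.leaf 9036938289268)
 (.leaf 252168227375943)))))
 (.node (.node (.node (.node (.leaf 264360652909758)
 (.leaf 109889820891162))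
 (.node (.leaf 265622166033999)
 (.leaf 167203195594936)))
 (.node (.node (.leaf 141034029586611)
 (.leaf 78781411758759))
 (.node (.leaf 96752096775860)
 (.leaf 20505045190823))))
 (.node (.node (.node (.leaf 131347042181823)
 (.leaf 107247349991174))
 (.node (.leaf 256218514185541)
 (.leaf 198721763979636)))
 (.node (.node (.leaf 232129844137365)
 (.leaf 120751201714674))
 (.node (.leaf 149518308339538)
 (.leaf 148886912600420))))))
 (.node (.node (.node (.node (.node (.leaf 67171520234939)
 (.leaf 158684950939833))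
 (.node (.leaf 65986204124140)
 (.leaf 34244051352321)))
 (.node (.node (.leaf 189286881989730)
 (.leaf 200829714741252))
 (.node (.leaf 43629830984910)
 (.leaf 244290100173502))))
 (.node (.node (.node (.leaf 123600602698323)
 (.leaf 110189136926694))
 (.node (.leaf 196916740657545)
 (.leaf 121427898926203)))
 (.node (.node (.leaf 114633432626291)
 (.leaf 77792738610724))
 (.node (.leaf 253898549214396)
 (.leaf 103559090890093)))))
 (.node (.node (.node (.node (.leaf 191665574782667)
 (.leaf 232937265093775))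
 (.node (.leaf 46661576400526)
 (.leaf 101692444309229)))
 (.node (.node (.leaf 49846744161484)
 (.leaf 15827789015227))
 (.node (.leaf 93845490396491)
 (.leaf 148104587836093))))
 (.node (.node (.node (.leaf 152311536041209)
 (.leaf 66596611240083))
 (.node (.leaf 78015491582634)
 (.leaf 129734021501539)))
 (.node (.node (.leaf 244072332639570)
 (.leaf 175034868054288))
 (.node (.leaf 36805753587065)
 (.leaf 135948365094485))))))

def keyTB175 : RT := .node (.node (.node (.node (.node (.node (.leaf 162696287454692)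
 (.leaf 25619150121040))
 (.node (.leaf 59506807228187)
 (.leaf 190884729380807)))
 (.node (.node (.leaf 134951090538441)
 (.leaf 240358845724827))
 (.node (.leaf 124085844985742)
 (.leaf 170726050358769))))
 (.node (.node (.node (.leaf 124593965995840)
 (.leaf 254856122310288))
 (.node (.leaf 213423700848301)
 (.leaf 106386748924449)))
 (.node (.node (.leaf 51372323195768)
 (.leaf 87475745571657))
 (.node (.leaf 197530104137549)
 (.leaf 109326779700697)))))
 (.node (.node (.node (.node (.leaf 223052176359004)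
 (.leaf 271945659063773))
 (.node (.leaf 274291993688080)
 (.leaf 69509055612552)))
 (.node (.node (.leaf 202319286286897)
 (.leaf 231461013016907))
 (.node (.leaf 80921743053157)
 (.leaf 97565659067030))))
 (.node (.node (.node (.leaf 202507133357712)
 (.leaf 186729878310855))
 (.node (.leaf 238977206135567)
 (.leaf 87812939012150)))
 (.node (.node (.leaf 261542048968503)
 (.leaf 31173699119979))
 (.node (.leaf 262046489535554)
 (.leaf 26735384956940))))))
 (.node (.node (.node (.node (.node (.leaf 74630954630651)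
 (.leaf 50039210698286))
 (.node (.leaf 62001742113952)
 (.leaf 106470816445336)))
 (.node (.node (.leaf 24492140790286)
 (.leaf 171185070481298))
 (.node (.leaf 47628789510645)
 (.leaf 117361650880580))))
 (.node (.node (.node (.leaf 31085868930774)
 (.leaf 69286802953280))
 (.node (.leaf 7947337850488)
 (.leaf 82016918886400)))
 (.node (.node (.leaf 1776863455080)
 (.leaf 76430937558337))
 (.node (.leaf 170144579936465)
 (.leaf 34349414122888)))))
 (.node (.node (.node (.node (.leaf 170716131661904)
 (.leaf 263735519006173))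
 (.node (.leaf 132330785356159)
 (.leaf 66562903669176)))
 (.node (.node (.leaf 66912308387154)
 (.leaf 209041439526658))
 (.node (.leaf 45418508405828)
 (.leaf 258462358273215))))
 (.node (.node (.node (.leaf 144181690941867)
 (.leaf 115388177240467))
 (.node (.leaf 160711416950133)
 (.leaf 150660165350522)))
 (.node (.node (.leaf 271936783207689)
 (.leaf 168939642641034))
 (.node (.leaf 41947633289339)
 (.leaf 205528032367326))))))

def keyTB176 : RT := .node (.node (.node (.node (.node (.node (.leaf 165347178493135)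
 (.leaf 135941133415096))
 (.node (.leaf 25579176712485)
 (.leaf 98670254813218)))
 (.node (.node (.leaf 52864509445779)
 (.leaf 191723157827217))
 (.node (.leaf 107199672520389)
 (.leaf 42110190858493))))
 (.node (.node (.node (.leaf 177882693230297)
 (.leaf 245289002284529))
 (.node (.leaf 247847345080619)
 (.leaf 231498597777016)))
 (.node (.node (.leaf 193745996275124)
 (.leaf 18364795503868))
 (.node (.leaf 67210096589240)
 (.leaf 248045228149270)))))
 (.node (.node (.node (.node (.leaf 620830168660)
 (.leaf 168456993798274))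
 (.node (.leaf 149392276544370)
 (.leaf 36363144713458)))
 (.node (.node (.leaf 66534685020918)
 (.leaf 131628325550782))
 (.node (.leaf 193007319620119)
 (.leaf 125150025757682))))
 (.node (.node (.node (.leaf 220186600697061)
 (.leaf 201971593710318))
 (.node (.leaf 163985176182432)
 (.leaf 209216460794012)))
 (.node (.node (.leaf 164949442863393)
 (.leaf 87516885737841))
 (.node (.leaf 20208388844899)
 (.leaf 190945157895614))))))
 (.node (.node (.node (.node (.node (.leaf 146452919836416)
 (.leaf 225846210647617))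
 (.node (.leaf 243815661743512)
 (.leaf 174912325548824)))
 (.node (.node (.leaf 50364592205874)
 (.leaf 130537211990233))
 (.node (.leaf 140667511780151)
 (.leaf 4338789393025))))
 (.node (.node (.node (.leaf 124897924216177)
 (.leaf 257959795489831))
 (.node (.leaf 265773177612153)
 (.leaf 111994765172666)))
 (.node (.node (.leaf 165963725976997)
 (.leaf 248064956578390))
 (.node (.leaf 22901848435832)
 (.leaf 98151891769778)))))
 (.node (.node (.node (.node (.leaf 104119504876847)
 (.leaf 215118372633995))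
 (.node (.leaf 52561828202245)
 (.leaf 209608754409121)))
 (.node (.node (.leaf 48120340662786)
 (.leaf 141221538570797))
 (.node (.leaf 22007353765465)
 (.leaf 222941507218740))))
 (.node (.node (.node (.leaf 232583049164198)
 (.leaf 93010431156667))
 (.node (.leaf 146575788132947)
 (.leaf 81893382271876)))
 (.node (.node (.leaf 82959650155126)
 (.leaf 218469469666472))
 (.node (.leaf 28138013633339)
 (.leaf 212272630656956))))))

def keyTB177 : RT := .node (.node (.node (.node (.node (.node (.leaf 163739182574164)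
 (.leaf 241863224970863))
 (.node (.leaf 2959781580143)
 (.leaf 244280412489009)))
 (.node (.node (.leaf 42066581215771)
 (.leaf 214579416455268))
 (.node (.leaf 105472413463548)
 (.leaf 59558990123100))))
 (.node (.node (.node (.leaf 220197518967587)
 (.leaf 44949491644543))
 (.node (.leaf 64024789140264)
 (.leaf 151919311149862)))
 (.node (.node (.leaf 188783919783998)
 (.leaf 93018276293309))
 (.node (.leaf 48105528032505)
 (.leaf 41444209816907)))))
 (.node (.node (.node (.node (.leaf 122100580517859)
 (.leaf 45218564246038))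
 (.node (.leaf 249164102229589)
 (.leaf 219440905145246)))
 (.node (.node (.leaf 165963531546462)
 (.leaf 110178576268589))
 (.node (.leaf 78601661942266)
 (.leaf 275370061129356))))
 (.node (.node (.node (.leaf 64666908620330)
 (.leaf 261593993535945))
 (.node (.leaf 222893159595681)
 (.leaf 115810783447056)))
 (.node (.node (.leaf 207516820293158)
 (.leaf 51703882123575))
 (.node (.leaf 121731980511044)
 (.leaf 92337438687105))))))
 (.node (.node (.node (.node (.node (.leaf 35158873274754)
 (.leaf 121479079833968))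
 (.node (.leaf 220668735996879)
 (.leaf 47389364943951)))
 (.node (.node (.leaf 25052016882001)
 (.leaf 34288901951959))
 (.node (.leaf 198622832048988)
 (.leaf 242920558319785))))
 (.node (.node (.node (.leaf 164289355283692)
 (.leaf 28330974869938))
 (.node (.leaf 97864186975662)
 (.leaf 22627955773793)))
 (.node (.node (.leaf 212536606588764)
 (.leaf 11094243487913))
 (.node (.leaf 72866405708996)
 (.leaf 115729299498735)))))
 (.node (.node (.node (.node (.leaf 25523035360283)
 (.leaf 276487579653791))
 (.node (.leaf 1765665153355)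
 (.leaf 118661149857195)))
 (.node (.node (.leaf 100161741454069)
 (.leaf 37431293792334))
 (.node (.leaf 109695183152062)
 (.leaf 125606490243160))))
 (.node (.node (.node (.leaf 85410326895335)
 (.leaf 38631828031153))
 (.node (.leaf 29197113480642)
 (.leaf 161242435395459)))
 (.node (.node (.leaf 22929393884761)
 (.leaf 265968209944979))
 (.node (.leaf 223078470801333)
 (.leaf 114567104687623))))))

def keyTB178 : RT := .node (.node (.node (.node (.node (.node (.leaf 239800000727311)
 (.leaf 270660845190320))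
 (.node (.leaf 134837717425665)
 (.leaf 209071714623199)))
 (.node (.node (.leaf 124340499106061)
 (.leaf 18794437076099))
 (.node (.leaf 210715974575321)
 (.leaf 261280543955733))))
 (.node (.node (.node (.leaf 227958267339213)
 (.leaf 10731916030636))
 (.node (.leaf 39131137008044)
 (.leaf 140198490098997)))
 (.node (.node (.leaf 93084833344116)
 (.leaf 201628269184847))
 (.node (.leaf 35669062631031)
 (.leaf 10583925817771)))))
 (.node (.node (.node (.node (.leaf 219804469346399)
 (.leaf 146327148753577))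
 (.node (.leaf 186757836291743)
 (.leaf 277372009069173)))
 (.node (.node (.leaf 209994348705866)
 (.leaf 125877639783399))
 (.node (.leaf 147763820243785)
 (.leaf 182198480064612))))
 (.node (.node (.node (.leaf 225436846634699)
 (.leaf 126299058794198))
 (.node (.leaf 223986146800936)
 (.leaf 232934661904109)))
 (.node (.node (.leaf 265736766929363)
 (.leaf 271325524037755))
 (.node (.leaf 95101170802773)
 (.leaf 105715290596901))))))
 (.node (.node (.node (.node (.node (.leaf 32639668462092)
 (.leaf 200059251954052))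
 (.node (.leaf 153056573891102)
 (.leaf 258494413477603)))
 (.node (.node (.leaf 210357299862347)
 (.leaf 115085693174894))
 (.node (.leaf 48234820831424)
 (.leaf 198987120007979))))
 (.node (.node (.node (.leaf 30169336375242)
 (.leaf 121071371862871))
 (.node (.leaf 85078888466324)
 (.leaf 154102732376153)))
 (.node (.node (.leaf 1452257015149)
 (.leaf 268441793328108))
 (.node (.leaf 70257779806577)
 (.leaf 87642000459121)))))
 (.node (.node (.node (.node (.leaf 139971721627893)
 (.leaf 224872800267004))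
 (.node (.leaf 214206556418710)
 (.leaf 152257185589218)))
 (.node (.node (.leaf 24503013576352)
 (.leaf 116261012352631))
 (.node (.leaf 52709284565045)
 (.leaf 8595667615494))))
 (.node (.node (.node (.leaf 71847570711094)
 (.leaf 91803323039854))
 (.node (.leaf 213306633137756)
 (.leaf 276012685542194)))
 (.node (.node (.leaf 256467023442484)
 (.leaf 76035805730784))
 (.node (.leaf 62031990080613)
 (.leaf 160731661348616))))))

def keyTB179 : RT := .node (.node (.node (.node (.node (.node (.leaf 28366343557256)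
 (.leaf 139429896461790))
 (.node (.leaf 232226938214904)
 (.leaf 38203091984456)))
 (.node (.node (.leaf 183324747534047)
 (.leaf 122365072687017))
 (.node (.leaf 237208381822280)
 (.leaf 145041437827996))))
 (.node (.node (.node (.leaf 91909154412192)
 (.leaf 237420508713496))
 (.node (.leaf 14433303252870)
 (.leaf 118388507046814)))
 (.node (.node (.leaf 30588510262912)
 (.leaf 81480843859457))
 (.node (.leaf 208976456688727)
 (.leaf 51926839345464)))))
 (.node (.node (.node (.node (.leaf 257391896428272)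
 (.leaf 50613309376922))
 (.node (.leaf 68735315222653)
 (.leaf 104553443586311)))
 (.node (.node (.leaf 63571336263460)
 (.leaf 197612531665221))
 (.node (.leaf 69456298014129)
 (.leaf 104549467503923))))
 (.node (.node (.node (.leaf 8361649977349)
 (.leaf 91217522688043))
 (.node (.leaf 133636311034932)
 (.leaf 2366822994607)))
 (.node (.node (.leaf 32430737171952)
 (.leaf 227383617154832))
 (.node (.leaf 38938593961980)
 (.leaf 108189537361187))))))
 (.node (.node (.node (.node (.node (.leaf 195168776745891)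
 (.leaf 125038935618380))
 (.node (.leaf 179335730870345)
 (.leaf 178965412168287)))
 (.node (.node (.leaf 68389168329300)
 (.leaf 137048891532798))
 (.node (.leaf 144430089625873)
 (.leaf 195982514955793))))
 (.node (.node (.node (.leaf 9620801869908)
 (.leaf 181722575607164))
 (.node (.leaf 260730224646753)
 (.leaf 263323620020119)))
 (.node (.node (.leaf 74992006553209)
 (.leaf 268320805700092))
 (.node (.leaf 197690639275537)
 (.leaf 23349171924127)))))
 (.node (.node (.node (.node (.leaf 229365467890396)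
 (.leaf 10144870734815))
 (.node (.leaf 40915429568283)
 (.leaf 231219120736062)))
 (.node (.node (.leaf 27359323777871)
 (.leaf 84578830460707))
 (.node (.leaf 81409455812826)
 (.leaf 265538523286176))))
 (.node (.node (.node (.leaf 165922990652523)
 (.leaf 153487982832418))
 (.node (.leaf 87102054260345)
 (.leaf 78318291481867)))
 (.node (.node (.leaf 5658970806354)
 (.leaf 36543094062130))
 (.node (.leaf 131735972734282)
 (.leaf 219359434161009))))))

def keyTB180 : RT := .node (.node (.node (.node (.node (.node (.leaf 198575303925396)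
 (.leaf 61650259028587))
 (.node (.leaf 224079914490589)
 (.leaf 238273643631809)))
 (.node (.node (.leaf 33005970511257)
 (.leaf 24158615483120))
 (.node (.leaf 165685083341434)
 (.leaf 210436823575069))))
 (.node (.node (.node (.leaf 254604960027388)
 (.leaf 143151646001354))
 (.node (.leaf 90320399455551)
 (.leaf 34205879535385)))
 (.node (.node (.leaf 25300383299153)
 (.leaf 146901593576036))
 (.node (.leaf 53127935867411)
 (.leaf 141021332442251)))))
 (.node (.node (.node (.node (.leaf 3487236363207)
 (.leaf 201731704740957))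
 (.node (.leaf 235419915758203)
 (.leaf 36845211220794)))
 (.node (.node (.leaf 81748236600581)
 (.leaf 110388748349948))
 (.node (.leaf 175531945043850)
 (.leaf 170587714317903))))
 (.node (.node (.node (.leaf 202648308357849)
 (.leaf 33245089091913))
 (.node (.leaf 140765674114585)
 (.leaf 189033369343728)))
 (.node (.node (.leaf 99361869788411)
 (.leaf 53144060292053))
 (.node (.leaf 115719594175782)
 (.leaf 47937852986128))))))
 (.node (.node (.node (.node (.node (.leaf 150023936299373)
 (.leaf 149222910974114))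
 (.node (.leaf 230842857906239)
 (.leaf 19908507612667)))
 (.node (.node (.leaf 255441268288506)
 (.leaf 198684058391469))
 (.node (.leaf 201053781271395)
 (.leaf 4739167397685))))
 (.node (.node (.node (.leaf 130137145430504)
 (.leaf 172851915840394))
 (.node (.leaf 161341610713650)
 (.leaf 19810855474820)))
 (.node (.node (.leaf 97605469041915)
 (.leaf 85556939012101))
 (.node (.leaf 70110119558265)
 (.leaf 203136991643536)))))
 (.node (.node (.node (.node (.leaf 178371521258197)
 (.leaf 121887461537985))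
 (.node (.leaf 133624956613295)
 (.leaf 154597623750016)))
 (.node (.node (.leaf 6605439159146)
 (.leaf 76385303613584))
 (.node (.leaf 118034075352931)
 (.leaf 229391842973662))))
 (.node (.node (.node (.leaf 224395151666085)
 (.leaf 187579355172257))
 (.node (.leaf 246404918799951)
 (.leaf 40947380764329)))
 (.node (.node (.leaf 95129118266679)
 (.leaf 153647554513472))
 (.node (.leaf 248777135384050)
 (.leaf 143312042366312))))))

def keyTB181 : RT := .node (.node (.node (.node (.node (.node (.leaf 125842669143470)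
 (.leaf 163129488392223))
 (.node (.leaf 36734733501239)
 (.leaf 224473381451347)))
 (.node (.node (.leaf 105427403131415)
 (.leaf 16150532115697))
 (.node (.leaf 253916631161360)
 (.leaf 117330556375724))))
 (.node (.node (.node (.leaf 170145246308713)
 (.leaf 98627317474777))
 (.node (.leaf 42717822366253)
 (.leaf 209524738480228)))
 (.node (.node (.leaf 208429100184488)
 (.leaf 178122923954450))
 (.node (.leaf 248725568218088)
 (.leaf 52909161805192)))))
 (.node (.node (.node (.node (.leaf 146478951574531)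
 (.leaf 103044739570790))
 (.node (.leaf 31527115740449)
 (.leaf 66359831988777)))
 (.node (.node (.leaf 181525677266891)
 (.leaf 86272517140871))
 (.node (.leaf 131670712821607)
 (.leaf 228831921706004))))
 (.node (.node (.node (.leaf 223801220272887)
 (.leaf 206609605534773))
 (.node (.leaf 99072148946630)
 (.leaf 169590631019074)))
 (.node (.node (.leaf 250497059773754)
 (.leaf 207163812822826))
 (.node (.leaf 204766272118318)
 (.leaf 193868835196266))))))
 (.node (.node (.node (.node (.node (.leaf 135365985283401)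
 (.leaf 191895631784530))
 (.node (.leaf 154498213039077)
 (.leaf 256132219458548)))
 (.node (.node (.leaf 237674320591978)
 (.leaf 195122821919287))
 (.node (.leaf 217249936739169)
 (.leaf 35059797002467))))
 (.node (.node (.node (.leaf 128303189935928)
 (.leaf 250257303378021))
 (.node (.leaf 145429355134165)
 (.leaf 223153416722307)))
 (.node (.node (.leaf 244446068702999)
 (.leaf 176489241183952))
 (.node (.leaf 203862208806071)
 (.leaf 139846922533259)))))
 (.node (.node (.node (.node (.leaf 253833057609271)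
 (.leaf 247650552366711))
 (.node (.leaf 173513683971335)
 (.leaf 258828540043804)))
 (.node (.node (.leaf 35950741287388)
 (.leaf 209690703549468))
 (.node (.leaf 37352524256529)
 (.leaf 103160401031610))))
 (.node (.node (.node (.leaf 245070788083277)
 (.leaf 154738523675225))
 (.node (.leaf 96239687014253)
 (.leaf 253734012867443)))
 (.node (.node (.leaf 144008728207417)
 (.leaf 22131280257159))
 (.node (.leaf 2917772469282)
 (.leaf 104080997732771))))))

def keyTB182 : RT := .node (.node (.node (.node (.node (.node (.leaf 169573424950348)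
 (.leaf 204615027115348))
 (.node (.leaf 134079021124847)
 (.leaf 136372584425283)))
 (.node (.node (.leaf 115622405298243)
 (.leaf 113339358700372))
 (.node (.leaf 17662712327023)
 (.leaf 195347507223536))))
 (.node (.node (.node (.leaf 91070031019142)
 (.leaf 1239188063946))
 (.node (.leaf 135329585913886)
 (.leaf 186334680265854)))
 (.node (.node (.leaf 220396353949126)
 (.leaf 17255921054057))
 (.node (.leaf 179868122842527)
 (.leaf 137294907486813)))))
 (.node (.node (.node (.node (.leaf 228847122765135)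
 (.leaf 81219404399334))
 (.node (.leaf 273087067695695)
 (.leaf 119713348344926)))
 (.node (.node (.leaf 211016028161360)
 (.leaf 1289956157663))
 (.node (.leaf 193082784574502)
 (.leaf 171338633521384))))
 (.node (.node (.node (.leaf 146683596061403)
 (.leaf 154403784874094))
 (.node (.leaf 145457744977962)
 (.leaf 126543242707070)))
 (.node (.node (.leaf 231021051747948)
 (.leaf 128157338139436))
 (.node (.leaf 56359625441105)
 (.leaf 151314211289502))))))
 (.node (.node (.node (.node (.node (.leaf 203370764228069)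
 (.leaf 32773541537951))
 (.node (.leaf 2258473436786)
 (.leaf 61726402876803)))
 (.node (.node (.leaf 86707311121094)
 (.leaf 212274937231090))
 (.node (.leaf 39767849321920)
 (.leaf 211231423618001))))
 (.node (.node (.node (.leaf 151261506759692)
 (.leaf 12867265456137))
 (.node (.leaf 195136014113103)
 (.leaf 217262748018677)))
 (.node (.node (.leaf 167939978872792)
 (.leaf 7353124689158))
 (.node (.leaf 131838093229084)
 (.leaf 221441639280413)))))
 (.node (.node (.node (.node (.leaf 106816814867719)
 (.leaf 70210272648851))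
 (.node (.leaf 208823076902360)
 (.leaf 132794942158947)))
 (.node (.node (.leaf 88899357500801)
 (.leaf 150543656400085))
 (.node (.leaf 169010806272106)
 (.leaf 45883614806888))))
 (.node (.node (.node (.leaf 20056840106350)
 (.leaf 139870221361231))
 (.node (.leaf 101110834267567)
 (.leaf 175351766280919)))
 (.node (.node (.leaf 136408536317285)
 (.leaf 203866031722569))
 (.node (.leaf 139893428905429)
 (.leaf 207998653710180))))))

def keyTB183 : RT := .node (.node (.node (.node (.node (.node (.leaf 22454587749005)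
 (.leaf 19430298266886))
 (.node (.leaf 144590287631127)
 (.leaf 258823834235662)))
 (.node (.node (.leaf 52397771920604)
 (.leaf 13352577841904))
 (.node (.leaf 206140433450250)
 (.leaf 246730443201976))))
 (.node (.node (.node (.leaf 244323750673952)
 (.leaf 247622884370248))
 (.node (.leaf 10314664991499)
 (.leaf 249976556714647)))
 (.node (.node (.leaf 117218201096023)
 (.leaf 275431758879910))
 (.node (.leaf 32037850430009)
 (.leaf 175322653340896)))))
 (.node (.node (.node (.node (.leaf 136473746629113)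
 (.leaf 187695127308451))
 (.node (.leaf 85630409057677)
 (.leaf 169898717851797)))
 (.node (.node (.leaf 29065583386626)
 (.leaf 159947459204896))
 (.node (.leaf 269415850477183)
 (.leaf 150320396754847))))
 (.node (.node (.node (.leaf 204620975483905)
 (.leaf 263098515397942))
 (.node (.leaf 60100375241962)
 (.leaf 191640311561103)))
 (.node (.node (.leaf 195425383664116)
 (.leaf 268240987563063))
 (.node (.leaf 32909498110296)
 (.leaf 33633139192183))))))
 (.node (.node (.node (.node (.node (.leaf 207176362817355)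
 (.leaf 4750867705146))
 (.node (.leaf 258351971441987)
 (.leaf 275242687254932)))
 (.node (.node (.leaf 26913764707731)
 (.leaf 93463975736788))
 (.node (.leaf 90464071655379)
 (.leaf 89849500435173))))
 (.node (.node (.node (.leaf 156877854238824)
 (.leaf 169242610628930))
 (.node (.leaf 29062740351640)
 (.leaf 45821067053121)))
 (.node (.node (.leaf 262603592496366)
 (.leaf 39006696467723))
 (.node (.leaf 200197941943057)
 (.leaf 122920888252582)))))
 (.node (.node (.node (.node (.leaf 17661459783746)
 (.leaf 4755018506242))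
 (.node (.leaf 115610650770188)
 (.leaf 245071992498451)))
 (.node (.node (.leaf 154725406465605)
 (.leaf 96246538854527))
 (.node (.leaf 253772535951046)
 (.leaf 2069628607038))))
 (.node (.node (.node (.leaf 79031526466673)
 (.leaf 196653589206451))
 (.node (.leaf 121299064111177)
 (.leaf 16867901922919)))
 (.node (.node (.leaf 109541345789160)
 (.leaf 217148217512850))
 (.node (.leaf 234863760026589)
 (.leaf 110929217452163))))))

def keyTB184 : RT := .node (.node (.node (.node (.node (.node (.leaf 125692819784500)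
 (.leaf 224820007799195))
 (.node (.leaf 263115191810492)
 (.leaf 39531365160962)))
 (.node (.node (.leaf 258356444300789)
 (.leaf 121322678555173))
 (.node (.leaf 194499997445788)
 (.leaf 87385551036536))))
 (.node (.node (.node (.leaf 269650917192297)
 (.leaf 44656078590218))
 (.node (.leaf 72179395004033)
 (.leaf 204968229722140)))
 (.node (.node (.leaf 186325587008077)
 (.leaf 278094213595045))
 (.node (.leaf 134377039272867)
 (.leaf 33442529310967)))))
 (.node (.node (.node (.node (.leaf 65388128823146)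
 (.leaf 199733718159927))
 (.node (.leaf 91061199883169)
 (.leaf 1260678860890)))
 (.node (.node (.leaf 135341951102701)
 (.leaf 112722364229784))
 (.node (.leaf 56629811247524)
 (.leaf 188642296474013))))
 (.node (.node (.node (.leaf 193951714216109)
 (.leaf 27446554826005))
 (.node (.leaf 113066180905407)
 (.leaf 97667358021142)))
 (.node (.node (.leaf 273086178499025)
 (.leaf 23753538542546))
 (.node (.leaf 128428601254769)
 (.leaf 106176941148854))))))
 (.node (.node (.node (.node (.node (.leaf 206655847173844)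
 (.leaf 134585274541982))
 (.node (.leaf 137282650726207)
 (.leaf 12612402004944)))
 (.node (.node (.leaf 205092497824722)
 (.leaf 237086632015375))
 (.node (.leaf 234048301534642)
 (.leaf 101917733536043))))
 (.node (.node (.node (.leaf 248269153177315)
 (.leaf 131807892779466))
 (.node (.leaf 33459568088763)
 (.leaf 181492249361022)))
 (.node (.node (.leaf 65376256837621)
 (.leaf 199736678275803))
 (.node (.leaf 206457991302822)
 (.leaf 140860741643010)))))
 (.node (.node (.node (.node (.leaf 145351272395698)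
 (.leaf 141755743725624))
 (.node (.leaf 96644165620416)
 (.leaf 120437914271013)))
 (.node (.node (.leaf 205348471583779)
 (.leaf 167885995153148))
 (.node (.leaf 229012071895763)
 (.leaf 118251770975859))))
 (.node (.node (.node (.leaf 101727198984513)
 (.leaf 27096023713974))
 (.node (.leaf 37145933872370)
 (.leaf 176710613394433)))
 (.node (.node (.leaf 74853243047763)
 (.leaf 126449674326948))
 (.node (.leaf 146656728788891)
 (.leaf 219927520597589))))))

def keyTB185 : RT := .node (.node (.node (.node (.node (.node (.leaf 22256042914670)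
 (.leaf 250257594253634))
 (.node (.leaf 174714175441123)
 (.leaf 109363731846968)))
 (.node (.node (.leaf 182055094417899)
 (.leaf 22503073621205))
 (.node (.leaf 80114398911772)
 (.leaf 53683767225767))))
 (.node (.node (.node (.leaf 222567398542294)
 (.leaf 228965610392777))
 (.node (.leaf 32189333661598)
 (.leaf 137397720897593)))
 (.node (.node (.leaf 29211923453315)
 (.leaf 201192754027118))
 (.node (.leaf 120105106202106)
 (.leaf 145400730646246)))))
 (.node (.node (.node (.node (.leaf 193055582018838)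
 (.leaf 5472005550905))
 (.node (.leaf 251637611678182)
 (.leaf 130701544846128)))
 (.node (.node (.leaf 60694941054647)
 (.leaf 191282519711122))
 (.node (.leaf 35436827037704)
 (.leaf 150554475722200))))
 (.node (.node (.node (.leaf 174714732464236)
 (.leaf 70217787493509))
 (.node (.leaf 208800236984650)
 (.leaf 126554423528015)))
 (.node (.node (.leaf 231032852832694)
 (.leaf 128129166522466))
 (.node (.leaf 56355935894431)
 (.leaf 203343892292596))))))
 (.node (.node (.node (.node (.node (.leaf 32745794116714)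
 (.leaf 5067283359264))
 (.node (.leaf 102622907215608)
 (.leaf 51086592722348)))
 (.node (.node (.leaf 270765134009990)
 (.leaf 134369984175322))
 (.node (.leaf 97830333634327)
 (.leaf 263862258253914))))
 (.node (.node (.node (.leaf 87302758583795)
 (.leaf 201914145351097))
 (.node (.leaf 65451778898757)
 (.leaf 78944499152137)))
 (.node (.node (.leaf 268691125649828)
 (.leaf 164822605302946))
 (.node (.leaf 11468463329880)
 (.leaf 162527041094081)))))
 (.node (.node (.node (.node (.leaf 23731637696839)
 (.leaf 165320374608350))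
 (.node (.leaf 161980926108137)
 (.leaf 206481515070711)))
 (.node (.node (.leaf 229009219434100)
 (.leaf 118262089036781))
 (.node (.leaf 252238585450648)
 (.leaf 263816408336186))))
 (.node (.node (.node (.leaf 260372319426984)
 (.leaf 226304416659359))
 (.node (.leaf 148493529842749)
 (.leaf 7377671405205)))
 (.node (.node (.leaf 191478778568928)
 (.leaf 2315458751921))
 (.node (.leaf 101558136332998)
 (.leaf 16463646623098))))))

def keyTB186 : RT := .node (.node (.node (.node (.node (.node (.leaf 253506210411277)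
 (.leaf 9592363515055))
 (.node (.leaf 209675199455813)
 (.leaf 160154824537727)))
 (.node (.node (.leaf 198321316370274)
 (.leaf 99046615303604))
 (.node (.leaf 4765576379981)
 (.leaf 175322468132125))))
 (.node (.node (.node (.leaf 41600140565867)
 (.leaf 195376503335842))
 (.node (.leaf 56749062874181)
 (.leaf 66043922689538)))
 (.node (.node (.leaf 26971086612853)
 (.leaf 106610498813536))
 (.node (.leaf 158874103053337)
 (.leaf 44334843808215)))))
 (.node (.node (.node (.node (.leaf 193669135140977)
 (.leaf 220361337246520))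
 (.node (.leaf 204317966267117)
 (.leaf 20306099241851)))
 (.node (.node (.leaf 148352406940835)
 (.leaf 189618684385653))
 (.node (.leaf 52415742678081)
 (.leaf 13378425100080))))
 (.node (.node (.node (.leaf 7319383526652)
 (.leaf 11899564495672))
 (.node (.leaf 163911642323224)
 (.leaf 48415097184524)))
 (.node (.node (.leaf 19410448827623)
 (.leaf 160118398000686))
 (.node (.leaf 223805104581649)
 (.leaf 206592054249804))))))
 (.node (.node (.node (.node (.node (.leaf 108357077391136)
 (.leaf 24806893579916))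
 (.node (.leaf 125687974287447)
 (.leaf 44561847134500)))
 (.node (.node (.leaf 181225154840173)
 (.leaf 2505104323854))
 (.node (.leaf 83481333149327)
 (.leaf 197409979874239))))
 (.node (.node (.node (.leaf 112134508802081)
 (.leaf 185498708944308))
 (.node (.leaf 80683285077068)
 (.leaf 2098330524383)))
 (.node (.node (.leaf 79068666987011)
 (.leaf 153278816917859))
 (.node (.leaf 134540419324009)
 (.leaf 72570914098533)))))
 (.node (.node (.node (.node (.leaf 23909741848009)
 (.leaf 91644888185984))
 (.node (.leaf 98450478842424)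
 (.leaf 217575399188494)))
 (.node (.node (.leaf 255425502655841)
 (.leaf 143071426219724))
 (.node (.leaf 34990781076370)
 (.leaf 122894082366647))))
 (.node (.node (.node (.leaf 159954029396677)
 (.leaf 31303177741765))
 (.node (.leaf 257804441322781)
 (.leaf 203923539105199)))
 (.node (.node (.leaf 191643715402238)
 (.leaf 104069227234541))
 (.node (.leaf 174873625882681)
 (.leaf 242321896317063))))))

def keyTB187 : RT := .node (.node (.node (.node (.node (.node (.leaf 24828770354210)
 (.leaf 196560811596550))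
 (.node (.leaf 119843183562396)
 (.leaf 103862728589423)))
 (.node (.node (.leaf 261916585547821)
 (.leaf 33661720879394))
 (.node (.leaf 111451406434439)
 (.leaf 75525217757288))))
 (.node (.node (.node (.leaf 207390057180941)
 (.leaf 69097911792357))
 (.node (.leaf 227620668602472)
 (.leaf 103185032824595)))
 (.node (.node (.leaf 256424487173767)
 (.leaf 102833628069723))
 (.node (.leaf 187684929478979)
 (.leaf 233766507185968)))))
 (.node (.node (.node (.node (.leaf 8693260866366)
 (.leaf 269512627595195))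
 (.node (.leaf 176774410101215)
 (.leaf 203957781438710)))
 (.node (.node (.leaf 15979043072763)
 (.leaf 72594376892963))
 (.node (.leaf 194522688223676)
 (.leaf 183483090788794))))
 (.node (.node (.node (.leaf 174831983049845)
 (.leaf 193881532961925))
 (.node (.leaf 224805355359430)
 (.leaf 60087109573387)))
 (.node (.node (.leaf 191634079502749)
 (.leaf 36006783022183))
 (.node (.leaf 268224851782126)
 (.leaf 32856720204281))))))
 (.node (.node (.node (.node (.node (.leaf 93523142037946)
 (.leaf 6185861677456))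
 (.node (.leaf 262624061704972)
 (.leaf 243506858773058)))
 (.node (.node (.leaf 148376376044953)
 (.leaf 151204704883345))
 (.node (.leaf 169642136343621)
 (.leaf 9603256545283))))
 (.node (.node (.node (.leaf 88391000974739)
 (.leaf 95917956973778))
 (.node (.leaf 155166361418446)
 (.leaf 9165770788587)))
 (.node (.node (.leaf 85734616590507)
 (.leaf 148209268639694))
 (.node (.leaf 220365896093324)
 (.leaf 84137790075203)))))
 (.node (.node (.node (.node (.leaf 23852391617804)
 (.leaf 257818723333110))
 (.node (.leaf 45824896132326)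
 (.leaf 929613868887)))
 (.node (.node (.leaf 265504016732022)
 (.leaf 250514641801726))
 (.node (.leaf 218359616159988)
 (.leaf 196674317774081))))
 (.node (.node (.node (.leaf 195461083529591)
 (.leaf 246053575035544))
 (.node (.leaf 255568132940246)
 (.leaf 44884629616243)))
 (.node (.node (.leaf 84851499410053)
 (.leaf 237653410531649))
 (.node (.leaf 109344821825662)
 (.leaf 33422034869056))))))

def keyTB188 : RT := .node (.node (.node (.node (.node (.node (.leaf 181516161181871)
 (.leaf 85542046391410))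
 (.node (.leaf 192436963910386)
 (.leaf 37160263538406)))
 (.node (.node (.leaf 176712298078154)
 (.leaf 239219252380898))
 (.node (.leaf 42409896881502)
 (.leaf 125408277178668))))
 (.node (.node (.node (.leaf 146754199137226)
 (.leaf 21226227978413))
 (.node (.leaf 31646866943404)
 (.leaf 227322749439517)))
 (.node (.node (.leaf 162529984796764)
 (.leaf 274866613669494))
 (.node (.leaf 148004125188457)
 (.leaf 23712658352161)))))
 (.node (.node (.node (.node (.leaf 128426463496527)
 (.leaf 106233560183293))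
 (.node (.leaf 138621460312513)
 (.leaf 63869601041199)))
 (.node (.node (.leaf 44176140851341)
 (.leaf 88942702998853))
 (.node (.leaf 191911080544459)
 (.leaf 154509106125047))))
 (.node (.node (.node (.leaf 246672399501368)
 (.leaf 162009074066767))
 (.node (.leaf 123372745810275)
 (.leaf 98022983266896)))
 (.node (.node (.leaf 96354778788485)
 (.leaf 73869644501873))
 (.node (.leaf 271119928457066)
 (.leaf 12049404927410))))))
 (.node (.node (.node (.node (.node (.leaf 242202973107026)
 (.leaf 102645663583127))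
 (.node (.leaf 51079897960680)
 (.leaf 39043536773764)))
 (.node (.node (.leaf 261829981879538)
 (.leaf 96962342081848))
 (.node (.leaf 86470008029639)
 (.leaf 194122020651021))))
 (.node (.node (.node (.leaf 120452699376586)
 (.leaf 98026216927245))
 (.node (.leaf 238852203228951)
 (.leaf 47131577840036)))
 (.node (.node (.leaf 35415934031562)
 (.leaf 96653166830667))
 (.node (.leaf 32167795863776)
 (.leaf 165171958824444)))))
 (.node (.node (.node (.node (.leaf 148568565005120)
 (.leaf 166612711565487))
 (.node (.leaf 96909095134834)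
 (.leaf 74011150172870)))
 (.node (.node (.leaf 229178552436160)
 (.leaf 54398430534609))
 (.node (.leaf 175121451512200)
 (.leaf 74198963201551))))
 (.node (.node (.node (.leaf 107650769506312)
 (.leaf 219545130780765))
 (.node (.leaf 108899692716350)
 (.leaf 186438498783826)))
 (.node (.node (.leaf 219924167967462)
 (.leaf 204082661128087))
 (.node (.leaf 173171060919698)
 (.leaf 37648361027641))))))

def keyTB189 : RT := .node (.node (.node (.node (.node (.node (.leaf 48760376550787)
 (.leaf 74888763419246))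
 (.node (.leaf 154406872643479)
 (.leaf 236019723991138)))
 (.node (.node (.leaf 171294254215738)
 (.leaf 232453513102943))
 (.node (.leaf 48661281957313)
 (.leaf 2216795468395))))
 (.node (.node (.node (.leaf 271106160236778)
 (.leaf 29238014210343))
 (.node (.leaf 244456760983288)
 (.leaf 42838552250328)))
 (.node (.node (.leaf 163593684764720)
 (.leaf 210999818330148))
 (.node (.leaf 222546278189787)
 (.leaf 193058215173253)))))
 (.node (.node (.node (.node (.leaf 5484479088970)
 (.leaf 134807096272262))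
 (.node (.leaf 270142431405446)
 (.leaf 236071779819887)))
 (.node (.node (.leaf 204668072133855)
 (.leaf 155071615232447))
 (.node (.leaf 212879858947767)
 (.leaf 236431034333357))))
 (.node (.node (.node (.leaf 209931391213867)
 (.leaf 54779823494969))
 (.node (.leaf 226049380512565)
 (.leaf 198175594142621)))
 (.node (.node (.leaf 1538914271181)
 (.leaf 166583374898661))
 (.node (.leaf 58616438022972)
 (.leaf 233611753241770))))))
 (.node (.node (.node (.node (.node (.leaf 57058148797946)
 (.leaf 157951610595046))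
 (.node (.leaf 147479723757734)
 (.leaf 242345201446198)))
 (.node (.node (.leaf 209721529210300)
 (.leaf 160155362031469))
 (.node (.leaf 223761652605643)
 (.leaf 260866164067067))))
 (.node (.node (.node (.leaf 181415838346887)
 (.leaf 103232344098208))
 (.node (.leaf 48424042915182)
 (.leaf 93398254786323)))
 (.node (.node (.leaf 87957835944510)
 (.leaf 122136355380068))
 (.node (.leaf 72829488973027)
 (.leaf 163264718970118)))))
 (.node (.node (.node (.node (.leaf 139779636642477)
 (.leaf 276202492801428))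
 (.node (.leaf 34506939514425)
 (.leaf 64394622738387)))
 (.node (.node (.leaf 225396257377231)
 (.leaf 173507624571461))
 (.node (.leaf 84174386449848)
 (.leaf 34504493793805))))
 (.node (.node (.node (.leaf 159518978973212)
 (.leaf 132061079828322))
 (.node (.leaf 213066936739252)
 (.leaf 15979847912151)))
 (.node (.node (.leaf 234234413864039)
 (.leaf 148366463954267))
 (.node (.leaf 64390773208521)
 (.leaf 173536106361007))))))

def keyTB190 : RT := .node (.node (.node (.node (.node (.node (.leaf 112087418820371)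
 (.leaf 49707706425519))
 (.node (.leaf 156454464027342)
 (.leaf 83436537860220)))
 (.node (.node (.leaf 44278948354298)
 (.leaf 181619316554050))
 (.node (.leaf 209252944128664)
 (.leaf 89450970880785))))
 (.node (.node (.node (.leaf 121106605726270)
 (.leaf 204508422450439))
 (.node (.leaf 31291530849824)
 (.leaf 161397507240415)))
 (.node (.node (.leaf 219006743412982)
 (.leaf 197417212616461))
 (.node (.leaf 163802162535676)
 (.leaf 150301532007682)))))
 (.node (.node (.node (.node (.leaf 113471456086937)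
 (.leaf 119605098616795))
 (.node (.leaf 193452048241777)
 (.leaf 157768572757763)))
 (.node (.node (.leaf 275476590474290)
 (.leaf 187706635859077))
 (.node (.leaf 39177046547779)
 (.leaf 51826552357277))))
 (.node (.node (.node (.leaf 30104309147998)
 (.leaf 141390367320437))
 (.node (.leaf 144086969269856)
 (.leaf 147561708726552)))
 (.node (.node (.leaf 96847455830795)
 (.leaf 194325087760209))
 (.node (.leaf 88682300415899)
 (.leaf 216367082341328))))))
 (.node (.node (.node (.node (.node (.leaf 266581060320457)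
 (.leaf 2543006605348))
 (.node (.leaf 137409179988789)
 (.leaf 19961378636518)))
 (.node (.node (.leaf 95578303735233)
 (.leaf 251049767550302))
 (.node (.leaf 205381575269894)
 (.leaf 104829048371851))))
 (.node (.node (.node (.leaf 207358380023236)
 (.leaf 243940984283049))
 (.node (.leaf 254657673548025)
 (.leaf 88755021784243)))
 (.node (.node (.leaf 216596937095682)
 (.leaf 47060062709608))
 (.node (.leaf 189984271696008)
 (.leaf 2131271719772)))))
 (.node (.node (.node (.node (.leaf 26145676260848)
 (.leaf 133100828175317))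
 (.node (.leaf 220695505277427)
 (.leaf 47369559115582)))
 (.node (.node (.leaf 129842896468877)
 (.leaf 213460212054188))
 (.node (.leaf 105237207459409)
 (.leaf 217314659768300))))
 (.node (.node (.node (.leaf 78096522466206)
 (.leaf 102881698977198))
 (.node (.leaf 97318786906242)
 (.leaf 264335733926899)))
 (.node (.node (.leaf 264081979259065)
 (.leaf 14386543204608))
 (.node (.leaf 203186740488246)
 (.leaf 235558468795960))))))

def keyTB191 : RT := .node (.node (.node (.node (.node (.node (.leaf 232405691473034)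
 (.leaf 220581714906443))
 (.node (.leaf 253976092031784)
 (.leaf 119571135043583)))
 (.node (.node (.leaf 56577292555176)
 (.leaf 83850199733144))
 (.node (.leaf 57348161925610)
 (.leaf 218867732191397))))
 (.node (.node (.node (.leaf 136842075531184)
 (.leaf 138404919334893))
 (.node (.leaf 118283942052624)
 (.leaf 104611582149630)))
 (.node (.node (.leaf 195851017197770)
 (.leaf 91746566921467))
 (.node (.leaf 95060010345033)
 (.leaf 91179441335490)))))
 (.node (.node (.node (.node (.leaf 206714142568388)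
 (.leaf 263705239333078))
 (.node (.leaf 92678185523721)
 (.leaf 98659742237404)))
 (.node (.node (.leaf 52852638571064)
 (.leaf 220689254112790))
 (.node (.leaf 177950795537540)
 (.leaf 82999524132653))))
 (.node (.node (.node (.leaf 176948720520979)
 (.leaf 60812841432627))
 (.node (.leaf 123861758942075)
 (.leaf 3009865126300)))
 (.node (.node (.leaf 261304176077642)
 (.leaf 163731101909302))
 (.node (.leaf 34916574204153)
 (.leaf 277455845716899))))))
 (.node (.node (.node (.node (.node (.leaf 154000623038820)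
 (.leaf 183250924827759))
 (.node (.leaf 116294427414600)
 (.leaf 7574488893305)))
 (.node (.node (.leaf 55301412883011)
 (.leaf 63533356281786))
 (.node (.leaf 138595829211939)
 (.leaf 253636304875222))))
 (.node (.node (.node (.leaf 29409410106280)
 (.leaf 27741583272637))
 (.node (.leaf 192825237744941)
 (.leaf 220564985949344)))
 (.node (.node (.leaf 111258068720491)
 (.leaf 183987089305544))
 (.node (.leaf 177515681225458)
 (.leaf 181150486920513)))))
 (.node (.node (.node (.node (.leaf 87726721511135)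
 (.leaf 9011076013292))
 (.node (.leaf 273973720856245)
 (.leaf 78328616876927)))
 (.node (.node (.leaf 38784486645094)
 (.leaf 123516667288717))
 (.node (.leaf 229421445875839)
 (.leaf 124215369464823))))
 (.node (.node (.node (.leaf 248771443217369)
 (.leaf 224044416111858))
 (.node (.leaf 264297376979307)
 (.leaf 264037981153028)))
 (.node (.node (.leaf 253444468617989)
 (.leaf 29424674456078))
 (.node (.leaf 149242811541639)
 (.leaf 262393847569066))))))

def keyTB192 : RT := .node (.node (.node (.node (.node (.node (.leaf 241118862311500)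
 (.leaf 138549660196494))
 (.node (.leaf 158571324410408)
 (.leaf 28601607989422)))
 (.node (.node (.leaf 222700225437323)
 (.leaf 33380218248984))
 (.node (.leaf 64788073580713)
 (.leaf 6601935892848))))
 (.node (.node (.node (.leaf 25388821411238)
 (.leaf 18858459408898))
 (.node (.leaf 33531036206144)
 (.leaf 185467597209747)))
 (.node (.node (.leaf 110846650470995)
 (.leaf 62446049079862))
 (.node (.leaf 130828932875814)
 (.leaf 263632501076552)))))
 (.node (.node (.node (.node (.leaf 212666464813719)
 (.leaf 115332917123724))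
 (.node (.leaf 161429112108464)
 (.leaf 135843943633761)))
 (.node (.node (.leaf 210291668691511)
 (.leaf 153389407087321))
 (.node (.leaf 38660192405419)
 (.leaf 98815656884389))))
 (.node (.node (.node (.leaf 55938364330349)
 (.leaf 255707297026949))
 (.node (.leaf 214574442258742)
 (.leaf 61082724415463)))
 (.node (.node (.leaf 134659232902928)
 (.leaf 122083096496126))
 (.node (.leaf 69493171916083)
 (.leaf 176925259608966))))))
 (.node (.node (.node (.node (.node (.leaf 26171628963341)
 (.leaf 37433349584252))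
 (.node (.leaf 109677810333615)
 (.leaf 265046414575186)))
 (.node (.node (.leaf 270745476713935)
 (.leaf 15022705957300))
 (.node (.leaf 233466207227732)
 (.leaf 37219609653807))))
 (.node (.node (.node (.leaf 129865625353329)
 (.leaf 38561192555248))
 (.node (.leaf 38893941683451)
 (.leaf 115489201160307)))
 (.node (.node (.leaf 213272765750190)
 (.leaf 198988704367785))
 (.node (.leaf 58264857581560)
 (.leaf 163114130561855)))))
 (.node (.node (.node (.node (.leaf 29952143319479)
 (.leaf 41736876047785))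
 (.node (.leaf 80892986829301)
 (.leaf 76006079836876)))
 (.node (.node (.leaf 156497052092213)
 (.leaf 265954323366542))
 (.node (.leaf 100159455998284)
 (.leaf 122574834977854))))
 (.node (.node (.node (.leaf 171112113112657)
 (.leaf 91752427764344))
 (.node (.leaf 95068866625350)
 (.leaf 91146730350431)))
 (.node (.node (.leaf 206758941848684)
 (.leaf 41489591220007))
 (.node (.leaf 238972131632830)
 (.leaf 69253768780767))))))

def keyTB193 : RT := .node (.node (.node (.node (.node (.node (.leaf 203466722922267)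
 (.leaf 215131949752278))
 (.node (.leaf 146475393408020)
 (.leaf 262061068064764)))
 (.node (.node (.leaf 113889764662563)
 (.leaf 177936004974904))
 (.node (.leaf 133051797227657)
 (.leaf 98767515696880))))
 (.node (.node (.node (.leaf 114274368174717)
 (.leaf 87436280719288))
 (.node (.leaf 142560225610268)
 (.leaf 228172317934360)))
 (.node (.node (.leaf 222946738239342)
 (.leaf 152215432402267))
 (.node (.leaf 81859542244167)
 (.leaf 93189756436844)))))
 (.node (.node (.node (.node (.leaf 9419589457237)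
 (.leaf 269581735586411))
 (.node (.leaf 248708241345657)
 (.leaf 124076552887257)))
 (.node (.node (.leaf 231109010481936)
 (.leaf 231334955177456))
 (.node (.leaf 88364173671381)
 (.leaf 129500103047840))))
 (.node (.node (.node (.leaf 103412391618192)
 (.leaf 241854883896862))
 (.node (.leaf 190059267560191)
 (.leaf 134828773583424)))
 (.node (.node (.leaf 15831934691213)
 (.leaf 147373649121814))
 (.node (.leaf 221057726165892)
 (.leaf 181636536212486))))))
 (.node (.node (.node (.node (.node (.leaf 54583970476132)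
 (.leaf 67014595682747))
 (.node (.leaf 228295646199846)
 (.leaf 234173672451776)))
 (.node (.node (.leaf 256258071189450)
 (.leaf 144924744882229))
 (.node (.leaf 18935085967515)
 (.leaf 181452951445429))))
 (.node (.node (.node (.leaf 101024416070435)
 (.leaf 105682933105640))
 (.node (.leaf 84546274003514)
 (.leaf 36896130519180)))
 (.node (.node (.leaf 194574242685000)
 (.leaf 196157811967865))
 (.node (.leaf 77319109207741)
 (.leaf 167108613091164)))))
 (.node (.node (.node (.node (.leaf 55582091658010)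
 (.leaf 257306827056961))
 (.node (.leaf 162412991518118)
 (.leaf 127566870564408)))
 (.node (.node (.leaf 132938976426048)
 (.leaf 27037650509877))
 (.node (.leaf 115230231508962)
 (.leaf 159391745098462))))
 (.node (.node (.node (.leaf 172884967220806)
 (.leaf 146259544087410))
 (.node (.leaf 241105779097937)
 (.leaf 243932967373592)))
 (.node (.node (.leaf 78084741358658)
 (.leaf 162150237910565))
 (.node (.leaf 95728037853749)
 (.leaf 238272394592321))))))

def keyTB194 : RT := .node (.node (.node (.node (.node (.node (.leaf 263918251723922)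
 (.leaf 138723045456321))
 (.node (.leaf 50441437055456)
 (.leaf 147638666406415)))
 (.node (.node (.leaf 120841753897980)
 (.leaf 234375680288099))
 (.node (.leaf 159455473476144)
 (.leaf 252642080145464))))
 (.node (.node (.node (.leaf 259864600732263)
 (.leaf 77415976481082))
 (.node (.leaf 86117981675075)
 (.leaf 235501698538249)))
 (.node (.node (.leaf 232372189325816)
 (.leaf 215815906161197))
 (.node (.leaf 207828693995873)
 (.leaf 224253366386177)))))
 (.node (.node (.node (.node (.leaf 42047829045605)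
 (.leaf 264498513260229))
 (.node (.leaf 157830330235246)
 (.leaf 213833045142518)))
 (.node (.node (.leaf 19868089353605)
 (.leaf 44093503902321))
 (.node (.leaf 31697748190853)
 (.leaf 223213992244177))))
 (.node (.node (.node (.leaf 40497810251278)
 (.leaf 167215363676699))
 (.node (.leaf 7743558097639)
 (.leaf 26720872832823)))
 (.node (.node (.leaf 47987843109406)
 (.leaf 139353307390040))
 (.node (.leaf 48559262700021)
 (.leaf 56225903677508))))))
 (.node (.node (.node (.node (.node (.leaf 189039856950137)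
 (.leaf 17416148409995))
 (.node (.leaf 157881441633931)
 (.leaf 77127128387803)))
 (.node (.node (.leaf 6340224255999)
 (.leaf 47043884279866))
 (.node (.leaf 177547924528961)
 (.leaf 224390276572737))))
 (.node (.node (.node (.leaf 87742076231064)
 (.leaf 9039410902002))
 (.node (.leaf 273916944861794)
 (.leaf 32985384853554)))
 (.node (.node (.leaf 46819003302646)
 (.leaf 23343355512970))
 (.node (.leaf 5895766916920)
 (.leaf 27389338842234)))))
 (.node (.node (.node (.node (.leaf 139014246816291)
 (.leaf 27050752069849))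
 (.node (.leaf 228305183178235)
 (.leaf 118771738227511)))
 (.node (.node (.leaf 253444746305409)
 (.leaf 29445077629992))
 (.node (.leaf 102909307388545)
 (.leaf 97327721874716))))
 (.node (.node (.node (.leaf 236340046958659)
 (.leaf 241727664295569))
 (.node (.leaf 180567882819644)
 (.leaf 120293483231041)))
 (.node (.node (.leaf 124191781391562)
 (.leaf 257242589198898))
 (.node (.leaf 259493956136222)
 (.leaf 90772471035416))))))

def keyTB195 : RT := .node (.node (.node (.node (.node (.node (.leaf 21442501582480)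
 (.leaf 103639332917191))
 (.node (.leaf 16359703393497)
 (.leaf 78368142210688)))
 (.node (.node (.leaf 225297276552863)
 (.leaf 65923745602164))
 (.node (.leaf 92890089453216)
 (.leaf 58313185657303))))
 (.node (.node (.node (.leaf 32508809503071)
 (.leaf 148960626120101))
 (.node (.leaf 252123716585741)
 (.leaf 158209247935776)))
 (.node (.node (.leaf 276823744926962)
 (.leaf 181743941719015))
 (.node (.leaf 111308658236093)
 (.leaf 22781952397225)))))
 (.node (.node (.node (.node (.leaf 115142813123486)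
 (.leaf 187637025777070))
 (.node (.leaf 165599039682690)
 (.leaf 157625005641341)))
 (.node (.node (.leaf 84031077392721)
 (.leaf 107004270173175))
 (.node (.leaf 216470494138979)
 (.leaf 35880049322451))))
 (.node (.node (.node (.leaf 45534955095368)
 (.leaf 143935173447064))
 (.node (.leaf 128621575262549)
 (.leaf 252675206684480)))
 (.node (.node (.leaf 109642729250988)
 (.leaf 55853941591997))
 (.node (.leaf 146543235115070)
 (.leaf 140503909070829))))))
 (.node (.node (.node (.node (.node (.leaf 224178576154238)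
 (.leaf 264732782645253))
 (.node (.leaf 171207310549629)
 (.leaf 226224737320605)))
 (.node (.node (.leaf 22021255087882)
 (.leaf 222939763555870))
 (.node (.leaf 83659835267970)
 (.leaf 93714541290604))))
 (.node (.node (.node (.leaf 69405819809390)
 (.leaf 260296831612347))
 (.node (.leaf 117280745447278)
 (.leaf 47339625227746)))
 (.node (.node (.leaf 202503890360618)
 (.leaf 186769467741931))
 (.node (.leaf 49847034624037)
 (.leaf 72897278861122)))))
 (.node (.node (.node (.node (.leaf 170126994337935)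
 (.leaf 59470066337107))
 (.node (.leaf 26771776637974)
 (.leaf 104619954721813)))
 (.node (.node (.leaf 215415025619528)
 (.leaf 222060001780375))
 (.node (.leaf 33544762407564)
 (.leaf 58268038727088))))
 (.node (.node (.node (.leaf 177649370084007)
 (.leaf 102715782174151))
 (.node (.leaf 146402492012324)
 (.leaf 15191318602453)))
 (.node (.node (.leaf 4341458452710)
 (.leaf 102076129228117))
 (.node (.leaf 124903044880491)
 (.leaf 257941625002152))))))

def keyTB196 : RT := .node (.node (.node (.node (.node (.node (.leaf 121226986758509)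
 (.leaf 182626696475827))
 (.node (.leaf 116835907513878)
 (.leaf 102433410272203)))
 (.node (.node (.leaf 193440847170442)
 (.leaf 7986130307946))
 (.node (.leaf 256507865765033)
 (.leaf 52510463131003))))
 (.node (.node (.node (.leaf 274307143781348)
 (.leaf 198458618849632))
 (.node (.leaf 146444462283296)
 (.leaf 225834834090245)))
 (.node (.node (.leaf 243762257040703)
 (.leaf 213509389128482))
 (.node (.leaf 254619358395194)
 (.leaf 88745690428982)))))
 (.node (.node (.node (.node (.leaf 218867104694932)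
 (.leaf 136841805461718))
 (.node (.leaf 218203638308194)
 (.leaf 251749068306891)))
 (.node (.node (.leaf 198991216069840)
 (.leaf 265755415402521))
 (.node (.leaf 237189022550776)
 (.leaf 164970997799657))))
 (.node (.node (.node (.leaf 204913781588235)
 (.leaf 57290556517397))
 (.node (.leaf 58038641042230)
 (.leaf 180304641815497)))
 (.node (.node (.leaf 167052020404687)
 (.leaf 29951786685928))
 (.node (.leaf 111037527927966)
 (.leaf 98525645322097))))))
 (.node (.node (.node (.node (.node (.leaf 51700547071751)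
 (.leaf 105724797849023))
 (.node (.leaf 82973427206306)
 (.leaf 258776317278784)))
 (.node (.node (.leaf 259215208616896)
 (.leaf 64887565673721))
 (.node (.leaf 197033536119969)
 (.leaf 306726899072))))
 (.node (.node (.node (.leaf 65698773541765)
 (.leaf 212211786009439))
 (.node (.leaf 163744994132661)
 (.leaf 20251242564661)))
 (.node (.node (.leaf 191709817907394)
 (.leaf 132679023375358))
 (.node (.leaf 145805098821213)
 (.leaf 164281712366089)))))
 (.node (.node (.node (.node (.leaf 250435864761209)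
 (.leaf 230381167947326))
 (.node (.leaf 99100050198853)
 (.leaf 190953475576749)))
 (.node (.node (.leaf 202837194774422)
 (.leaf 132323247255696))
 (.node (.leaf 210000125107033)
 (.leaf 124088334767357))))
 (.node (.node (.node (.leaf 196900248415965)
 (.leaf 275388769831091))
 (.node (.leaf 239824220972835)
 (.leaf 265705501828687)))
 (.node (.node (.leaf 25572075919214)
 (.leaf 270621736351067))
 (.node (.leaf 168962506809883)
 (.leaf 152252582306204))))))

def keyTB197 : RT := .node (.node (.node (.node (.node (.node (.leaf 59585048460106)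
 (.leaf 47365926879861))
 (.node (.leaf 15040878778536)
 (.leaf 233469698403624)))
 (.node (.node (.leaf 32629244941255)
 (.leaf 91891796790365))
 (.node (.leaf 38594142612091)
 (.leaf 38869103020212))))
 (.node (.node (.node (.leaf 213236685378148)
 (.leaf 264743605047122))
 (.node (.leaf 270564462757193)
 (.leaf 218527034848835)))
 (.node (.node (.leaf 271358280846335)
 (.leaf 199202845830982))
 (.node (.leaf 204881923988552)
 (.leaf 243173791567019)))))
 (.node (.node (.node (.node (.leaf 49013970174573)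
 (.leaf 18126545594710))
 (.node (.leaf 193402926667013)
 (.leaf 171204581431012)))
 (.node (.node (.leaf 226252550771644)
 (.leaf 200072854417916))
 (.node (.leaf 41471974886109)
 (.leaf 238950473537367))))
 (.node (.node (.node (.leaf 69228007296865)
 (.leaf 203436408640466))
 (.node (.leaf 138448707322916)
 (.leaf 118319521937290)))
 (.node (.node (.leaf 195895582813131)
 (.leaf 189261471818633))
 (.node (.leaf 71339037444103)
 (.leaf 19788317365441))))))
 (.node (.node (.node (.node (.node (.leaf 179718303482865)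
 (.leaf 196883854354539))
 (.node (.leaf 10612005005720)
 (.leaf 266002624867640)))
 (.node (.node (.leaf 16680738034691)
 (.leaf 277465405618780))
 (.node (.leaf 85385513765154)
 (.leaf 171114020170784))))
 (.node (.node (.node (.leaf 102089905899025)
 (.leaf 40989549535357))
 (.node (.leaf 17968315090717)
 (.leaf 32233202407506)))
 (.node (.node (.leaf 5589102001536)
 (.leaf 276461370163879))
 (.node (.leaf 143121996228340)
 (.leaf 18384841963194)))))
 (.node (.node (.node (.node (.leaf 48117529256265)
 (.leaf 1724578134835))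
 (.node (.leaf 116229967769276)
 (.leaf 105753624710216)))
 (.node (.node (.leaf 206088189219783)
 (.leaf 37394577668071))
 (.node (.leaf 49239838853040)
 (.leaf 73191725394122))))
 (.node (.node (.node (.leaf 224905776549597)
 (.leaf 214248927408930))
 (.node (.leaf 48370022591620)
 (.leaf 153063002661518)))
 (.node (.node (.leaf 60758405227427)
 (.leaf 107180288777430))
 (.node (.leaf 278631456340453)
 (.leaf 134916035254907))))))

def keyTB198 : RT := .node (.node (.node (.node (.node (.node (.leaf 104262167132340)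
 (.leaf 117301214718992))
 (.node (.leaf 137851818041858)
 (.leaf 37467193838277)))
 (.node (.node (.leaf 96301022737431)
 (.leaf 108465996141250))
 (.node (.leaf 9636682912863)
 (.leaf 14931942322979))))
 (.node (.node (.node (.leaf 246007185907414)
 (.leaf 251683775260027))
 (.node (.leaf 120216955154265)
 (.leaf 231211998250100)))
 (.node (.node (.leaf 27356149758582)
 (.leaf 108938480079806))
 (.node (.leaf 209322474758267)
 (.leaf 2385385176232)))))
 (.node (.node (.node (.node (.leaf 115680802583013)
 (.leaf 90768843879158))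
 (.node (.leaf 196486125581212)
 (.leaf 138795606546588)))
 (.node (.node (.leaf 268079853351922)
 (.leaf 107003956611682))
 (.node (.leaf 273091829057009)
 (.leaf 276841755299081))))
 (.node (.node (.node (.leaf 123706945876137)
 (.leaf 128483398394313))
 (.node (.leaf 241014165051085)
 (.leaf 151463498450788)))
 (.node (.node (.leaf 197700457912394)
 (.leaf 193584641999331))
 (.node (.leaf 38313681013525)
 (.leaf 256073925406368))))))
 (.node (.node (.node (.node (.node (.leaf 121872682860151)
 (.leaf 175545675892782))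
 (.node (.leaf 115200466521434)
 (.leaf 137086305304381)))
 (.node (.node (.leaf 7064254708307)
 (.leaf 192775784450235))
 (.node (.leaf 15103462212484)
 (.leaf 171023874981988))))
 (.node (.node (.node (.leaf 108294758744507)
 (.leaf 213842143731750))
 (.node (.leaf 226887444086433)
 (.leaf 157811822889055)))
 (.node (.node (.leaf 145700117348386)
 (.leaf 243994465005925))
 (.node (.leaf 269781480220320)
 (.leaf 164333130916311)))))
 (.node (.node (.node (.node (.leaf 42989219055790)
 (.leaf 170615438376172))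
 (.node (.leaf 236751176566461)
 (.leaf 78776188051292)))
 (.node (.node (.leaf 53429639819400)
 (.leaf 21464073108316))
 (.node (.leaf 179938941200132)
 (.leaf 277129978576121))))
 (.node (.node (.node (.leaf 262426879859715)
 (.leaf 150245615817704))
 (.node (.leaf 193314503288718)
 (.leaf 203999350332021)))
 (.node (.node (.leaf 95175637776750)
 (.leaf 178966582994204))
 (.node (.leaf 77979395524994)
 (.leaf 227676697641339))))))

def keyTB199 : RT := .node (.node (.node (.node (.node (.node (.leaf 135626670475575)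
 (.leaf 85299143729172))
 (.node (.leaf 114380088579195)
 (.leaf 139001233896613)))
 (.node (.node (.leaf 3446753683749)
 (.leaf 270352173135972))
 (.node (.leaf 253984959435672)
 (.leaf 216568277635084))))
 (.node (.node (.node (.leaf 190004028915307)
 (.leaf 2170538929972))
 (.node (.leaf 7603210933575)
 (.leaf 173926389835648)))
 (.node (.node (.leaf 105664920140915)
 (.leaf 131387337968461))
 (.node (.leaf 28474493449267)
 (.leaf 267752778918657)))))
 (.node (.node (.node (.node (.leaf 93137998337231)
 (.leaf 78836839001115))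
 (.node (.leaf 36050430146784)
 (.leaf 47764142083531)))
 (.node (.node (.leaf 19530895606807)
 (.leaf 79394328100801))
 (.node (.leaf 12355061279788)
 (.leaf 31739688010029))))
 (.node (.node (.node (.leaf 226511301547139)
 (.leaf 192307488746834))
 (.node (.leaf 143196261159007)
 (.leaf 211495366869673)))
 (.node (.node (.leaf 149223496722277)
 (.leaf 43663326827848))
 (.node (.leaf 108748052438689)
 (.leaf 122033035298832))))))
 (.node (.node (.node (.node (.node (.leaf 252192370289187)
 (.leaf 103660684081321))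
 (.node (.leaf 141036308475185)
 (.leaf 91191055785268)))
 (.node (.node (.leaf 117763310284077)
 (.leaf 225162730146976))
 (.node (.leaf 273717541950075)
 (.leaf 75618951073287))))
 (.node (.node (.node (.leaf 5923702927422)
 (.leaf 192548972560525))
 (.node (.leaf 5658850822672)
 (.leaf 255501516725261)))
 (.node (.node (.leaf 181744908503690)
 (.leaf 28629777196096))
 (.node (.leaf 198532653070045)
 (.leaf 254546580730967)))))
 (.node (.node (.node (.node (.leaf 252135977805595)
 (.leaf 121202408426720))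
 (.node (.leaf 61652870974750)
 (.leaf 48045943363096)))
 (.node (.node (.leaf 177440387915408)
 (.leaf 252428874502087))
 (.node (.leaf 111326110568732)
 (.leaf 91215535536553))))
 (.node (.node (.node (.leaf 153942728130928)
 (.leaf 104038196978769))
 (.node (.leaf 117996763448531)
 (.leaf 21811682238125)))
 (.node (.node (.leaf 215793093780575)
 (.leaf 224279004787892))
 (.node (.leaf 264479722462027)
 (.leaf 151398188425094))))))

def keyTB200 : RT := .node (.node (.node (.node (.node (.node (.leaf 251658154181081)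
 (.leaf 120243869845623))
 (.node (.leaf 253646674694236)
 (.leaf 34475390916081)))
 (.node (.node (.leaf 49914752357953)
 (.leaf 36055566433509))
 (.node (.leaf 99719956676097)
 (.leaf 162390836590953))))
 (.node (.node (.node (.leaf 231230735097205)
 (.leaf 209337878828758))
 (.node (.leaf 97140974873128)
 (.leaf 33036758153639)))
 (.node (.node (.leaf 5890454836048)
 (.leaf 108111714579275))
 (.node (.leaf 253579754915565)
 (.leaf 29381820106417)))))
 (.node (.node (.node (.node (.leaf 27750975466700)
 (.leaf 216529917864747))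
 (.node (.leaf 141686102087651)
 (.leaf 56277612664967)))
 (.node (.node (.leaf 33684620508648)
 (.leaf 33504833393750))
 (.node (.leaf 269789846577027)
 (.leaf 164374685845316))))
 (.node (.node (.node (.leaf 91360371037544)
 (.leaf 177785855292396))
 (.node (.leaf 148892456619263)
 (.leaf 67142548764761)))
 (.node (.node (.leaf 136070856578893)
 (.leaf 868545936242))
 (.node (.leaf 156165779430986)
 (.leaf 220983843313755))))))
 (.node (.node (.node (.node (.node (.leaf 53133228421975)
 (.leaf 234184222438958))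
 (.node (.leaf 211455324521658)
 (.leaf 56781839688915)))
 (.node (.node (.leaf 95758390947893)
 (.leaf 267712504053690))
 (.node (.leaf 232681023585131)
 (.leaf 5402875478542))))
 (.node (.node (.node (.leaf 76381091303492)
 (.leaf 158557678005535))
 (.node (.leaf 24151143422839)
 (.leaf 201836248662185)))
 (.node (.node (.leaf 3515154929736)
 (.leaf 53422602986676))
 (.node (.leaf 210402363347444)
 (.leaf 4832303991140)))))
 (.node (.node (.node (.node (.leaf 22853166667195)
 (.leaf 145804852212097))
 (.node (.leaf 71836045290316)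
 (.leaf 107141001093812)))
 (.node (.node (.leaf 278732947962405)
 (.leaf 24955149204402))
 (.node (.leaf 102177213505757)
 (.leaf 1722939339943))))
 (.node (.node (.node (.leaf 42113506125379)
 (.leaf 85391943054214))
 (.node (.leaf 257126899353784)
 (.leaf 109088506901042)))
 (.node (.node (.leaf 24931337573846)
 (.leaf 29149715525090))
 (.node (.leaf 79667336279288)
 (.leaf 248067317855562))))))

def keyTB201 : RT := .node (.node (.node (.node (.node (.node (.leaf 22920499080884)
 (.leaf 105226239068210))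
 (.node (.leaf 51582761834981)
 (.leaf 216722300636017)))
 (.node (.node (.leaf 168055025537033)
 (.leaf 276044447007562))
 (.node (.leaf 211114786611258)
 (.leaf 6854892483307))))
 (.node (.node (.node (.leaf 251770024315754)
 (.leaf 150159742826265))
 (.node (.leaf 262799472909993)
 (.leaf 168962245475150)))
 (.node (.node (.leaf 47244435252753)
 (.leaf 114679699338733))
 (.node (.leaf 256468906023798)
 (.leaf 52551529892896)))))
 (.node (.node (.node (.node (.leaf 174953995995220)
 (.leaf 69527570958730))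
 (.node (.leaf 113901019758764)
 (.leaf 37044005289917)))
 (.node (.node (.leaf 29116108347277)
 (.leaf 145902722651273))
 (.node (.leaf 39129059024510)
 (.leaf 227951880548357))))
 (.node (.node (.node (.leaf 20253518451325)
 (.leaf 177289473840379))
 (.node (.leaf 250599205787653)
 (.leaf 212586372727130)))
 (.node (.node (.leaf 232901125681663)
 (.leaf 93032466790132))
 (.node (.leaf 48126049564346)
 (.leaf 268440641755676))))))
 (.node (.node (.node (.node (.node (.leaf 198744375775347)
 (.leaf 9133904001966))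
 (.node (.leaf 126253402904356)
 (.leaf 198895070345388)))
 (.node (.node (.leaf 114232146012140)
 (.leaf 9881280059231))
 (.node (.leaf 211073060603941)
 (.leaf 74687833101778))))
 (.node (.node (.node (.leaf 50051806918012)
 (.leaf 247978386341731))
 (.node (.leaf 105477579346613)
 (.leaf 239829509413908)))
 (.node (.node (.leaf 205799236916429)
 (.leaf 165263974677607))
 (.node (.leaf 69304156857835)
 (.leaf 49033208759384)))))
 (.node (.node (.node (.node (.leaf 217293228091023)
 (.leaf 115319171702865))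
 (.node (.leaf 161445776822199)
 (.leaf 147788292294682)))
 (.node (.node (.leaf 86954355021722)
 (.leaf 230363997441243))
 (.node (.leaf 24880389799337)
 (.leaf 106407002716692))))
 (.node (.node (.node (.leaf 80488953522074)
 (.leaf 31167455447233))
 (.node (.leaf 180693077344014)
 (.leaf 71353388135535)))
 (.node (.node (.leaf 210705739551341)
 (.leaf 40967640693355))
 (.node (.leaf 8614627666001)
 (.leaf 197560236469555))))))

def keyTB202 : RT := .node (.node (.node (.node (.node (.node (.leaf 242780380329485)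
 (.leaf 273255846793966))
 (.node (.leaf 42942653163090)
 (.leaf 190040195605453)))
 (.node (.node (.leaf 206078320259115)
 (.leaf 65252657657492))
 (.node (.leaf 210698657465854)
 (.leaf 30615475867921))))
 (.node (.node (.node (.leaf 133189224385403)
 (.leaf 165995729753873))
 (.node (.leaf 237363231063593)
 (.leaf 9435502864674)))
 (.node (.node (.leaf 154107849128573)
 (.leaf 219823718111063))
 (.node (.leaf 300910762483)
 (.leaf 235456346920579)))))
 (.node (.node (.node (.node (.leaf 87779978069322)
 (.leaf 199182342035490))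
 (.node (.leaf 255714298770095)
 (.leaf 214590415906595)))
 (.node (.node (.leaf 134686039412172)
 (.leaf 139974018030474))
 (.node (.leaf 103354481484615)
 (.leaf 18764534531755))))
 (.node (.node (.node (.leaf 38155446974320)
 (.leaf 61092088086738))
 (.node (.leaf 169064645356625)
 (.leaf 123643176707467)))
 (.node (.node (.leaf 125865388863100)
 (.leaf 118655105383129))
 (.node (.leaf 191986513960415)
 (.leaf 235427329455752))))))
 (.node (.node (.node (.node (.node (.leaf 17075983455439)
 (.leaf 153650569768373))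
 (.node (.leaf 233910409993694)
 (.leaf 246535326711229)))
 (.node (.node (.leaf 65892947813822)
 (.leaf 133648308819976))
 (.node (.leaf 119529244811795)
 (.leaf 221194460578890))))
 (.node (.node (.node (.leaf 204396608216823)
 (.leaf 101337995589444))
 (.node (.leaf 95482909089843)
 (.leaf 203990396937715)))
 (.node (.node (.leaf 178997015052057)
 (.leaf 168168599728694))
 (.node (.leaf 146272151041993)
 (.leaf 215942601304513)))))
 (.node (.node (.node (.node (.leaf 118790187909634)
 (.leaf 187049632934597))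
 (.node (.leaf 179332936232793)
 (.leaf 141066857273974)))
 (.node (.node (.leaf 242706780976959)
 (.leaf 50577904165698))
 (.node (.leaf 254510051262540)
 (.leaf 232306218347304))))
 (.node (.node (.node (.leaf 234949840718616)
 (.leaf 72684860624832))
 (.node (.leaf 109929822480949)
 (.leaf 140146919519966)))
 (.node (.node (.leaf 265555986139963)
 (.leaf 67004275418030))
 (.node (.leaf 167370786735693)
 (.leaf 21288377948640))))))

def keyTB203 : RT := .node (.node (.node (.node (.node (.node (.leaf 35923606426228)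
 (.leaf 127562613536539))
 (.node (.leaf 159367196707343)
 (.leaf 229280298551119)))
 (.node (.node (.leaf 202369172396128)
 (.leaf 155958066090219))
 (.node (.leaf 36768944589584)
 (.leaf 130554742985537))))
 (.node (.node (.node (.leaf 223007692294904)
 (.leaf 115731661012558))
 (.node (.leaf 4737557452311)
 (.leaf 70159922724824)))
 (.node (.node (.leaf 125579840749919)
 (.leaf 124375926236894))
 (.node (.leaf 265112959265994)
 (.leaf 165551311583493)))))
 (.node (.node (.node (.node (.leaf 125013612286573)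
 (.leaf 230952661881665))
 (.node (.leaf 17088832902798)
 (.leaf 195285478521240)))
 (.node (.node (.leaf 31349544324408)
 (.leaf 132668712143141))
 (.node (.leaf 73248123260080)
 (.leaf 105457873751553))))
 (.node (.node (.node (.leaf 18762037373115)
 (.leaf 121479531635383))
 (.node (.leaf 259214931607836)
 (.leaf 80479267644367)))
 (.node (.node (.leaf 70577914326095)
 (.leaf 103538934651795))
 (.node (.leaf 28149088665838)
 (.leaf 79837547336377))))))
 (.node (.node (.node (.node (.node (.leaf 165354503030919)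
 (.leaf 117739172616811))
 (.node (.leaf 225136754845428)
 (.leaf 232625551792470)))
 (.node (.node (.leaf 228688046386748)
 (.leaf 82774010872993))
 (.node (.leaf 256241351048576)
 (.leaf 258239807335803))))
 (.node (.node (.node (.leaf 177051662698890)
 (.leaf 63581924700303))
 (.node (.leaf 108736970524503)
 (.leaf 121983537656170)))
 (.node (.node (.leaf 37506558942398)
 (.leaf 89086415155580))
 (.node (.leaf 47200638089104)
 (.leaf 8341734208280)))))
 (.node (.node (.node (.node (.leaf 119648982480113)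
 (.leaf 104012176642677))
 (.node (.leaf 230865804697861)
 (.leaf 220948253940697)))
 (.node (.node (.leaf 201786372884587)
 (.leaf 11972819513302))
 (.node (.leaf 57799063350292)
 (.leaf 197501330245029))))
 (.node (.node (.node (.leaf 85357504944247)
 (.leaf 242730163501055))
 (.node (.leaf 50084507580165)
 (.leaf 42892392254608)))
 (.node (.node (.leaf 130847574806415)
 (.leaf 244032849918499))
 (.node (.leaf 175062434911933)
 (.leaf 213306101479593))))))

def keyTB204 : RT := .node (.node (.node (.node (.node (.node (.leaf 184561047157618)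
 (.leaf 41018358338844))
 (.node (.leaf 143112579758466)
 (.leaf 18140807067593)))
 (.node (.node (.leaf 50347019381185)
 (.leaf 36366845077550))
 (.node (.leaf 125839506787674)
 (.leaf 38881510814572))))
 (.node (.node (.node (.leaf 130720548659724)
 (.leaf 126839065439307))
 (.node (.leaf 219459413618739)
 (.leaf 4837430251630)))
 (.node (.node (.leaf 22869860798549)
 (.leaf 83120771775965))
 (.node (.leaf 268900916507760)
 (.leaf 164032135517657)))))
 (.node (.node (.node (.node (.leaf 35671337776520)
 (.leaf 167053640571442))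
 (.node (.leaf 47330325138081)
 (.leaf 655946838430)))
 (.node (.node (.leaf 35182257861093)
 (.leaf 139394865617014))
 (.node (.leaf 78597965132753)
 (.leaf 123632004011250))))
 (.node (.node (.node (.leaf 214693129282535)
 (.leaf 209642061539502))
 (.node (.leaf 274277725629676)
 (.leaf 79183102684025)))
 (.node (.node (.leaf 861802860873)
 (.leaf 144737764166451))
 (.node (.leaf 14941021814809)
 (.leaf 176981610392394))))))
 (.node (.node (.node (.node (.node (.leaf 96731754672735)
 (.leaf 109902696694937))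
 (.node (.leaf 215969937167931)
 (.leaf 21277515342636)))
 (.node (.node (.leaf 159426712453060)
 (.leaf 128590383026056))
 (.node (.leaf 277569944969895)
 (.leaf 265666583233877))))
 (.node (.node (.node (.leaf 196270298776895)
 (.leaf 4656302782233))
 (.node (.leaf 91391983236117)
 (.leaf 177784655612875)))
 (.node (.node (.leaf 119531540889761)
 (.leaf 183958256352501))
 (.node (.leaf 249065069750356)
 (.leaf 149490681565340)))))
 (.node (.node (.node (.node (.leaf 210538068839160)
 (.leaf 25293250061805))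
 (.node (.leaf 220643991079798)
 (.leaf 207833072665115)))
 (.node (.node (.leaf 224276624224019)
 (.leaf 230792307629923))
 (.node (.leaf 107219293592856)
 (.leaf 37313567527412))))
 (.node (.node (.node (.leaf 6090614932312)
 (.leaf 159282351012421))
 (.node (.leaf 116297172560173)
 (.leaf 255863990201253)))
 (.node (.node (.leaf 80340366976267)
 (.leaf 147028572261488))
 (.node (.leaf 75656085432263)
 (.leaf 34219854538718))))))

def keyTB205 : RT := .node (.node (.node (.node (.node (.node (.leaf 173876390675954)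
 (.leaf 197658577529634))
 (.node (.leaf 264323279276636)
 (.leaf 191851818182675)))
 (.node (.node (.leaf 241009021198027)
 (.leaf 217895542507068))
 (.node (.leaf 57358715696295)
 (.leaf 33716041327147))))
 (.node (.node (.node (.leaf 161347582607881)
 (.leaf 19794100081529))
 (.node (.leaf 104713529964113)
 (.leaf 261253564308552)))
 (.node (.node (.leaf 10001465951175)
 (.leaf 227678714523763))
 (.node (.leaf 135621491751854)
 (.leaf 167377570236984)))))
 (.node (.node (.node (.node (.leaf 43184020088399)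
 (.leaf 150177365787479))
 (.node (.leaf 247840023170645)
 (.leaf 88365915199046)))
 (.node (.node (.leaf 263713309447249)
 (.leaf 258461147501133))
 (.node (.leaf 153143425599873)
 (.leaf 38478255439984))))
 (.node (.node (.node (.leaf 125144677873622)
 (.leaf 245318673032569))
 (.node (.leaf 271956793185834)
 (.leaf 198449136895669)))
 (.node (.node (.leaf 64898155522473)
 (.leaf 33592093671489))
 (.node (.leaf 106745705897686)
 (.leaf 8636996050593))))))
 (.node (.node (.node (.node (.node (.leaf 94222340736672)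
 (.leaf 109063135689916))
 (.node (.leaf 201967922497636)
 (.leaf 62207822492273)))
 (.node (.node (.leaf 141277407791538)
 (.leaf 210734372797771))
 (.node (.leaf 64693037324989)
 (.leaf 261597984730361))))
 (.node (.node (.node (.leaf 3012110148186)
 (.leaf 9907453306504))
 (.node (.leaf 208852214835761)
 (.leaf 76429867196982)))
 (.node (.node (.leaf 49238096256968)
 (.leaf 206722057917600))
 (.node (.leaf 340393176718)
 (.leaf 160712511529421)))))
 (.node (.node (.node (.node (.leaf 34239880996835)
 (.leaf 199639489192155))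
 (.node (.leaf 58018450575709)
 (.leaf 242906109252542)))
 (.node (.node (.leaf 263654920158458)
 (.leaf 22034583715871))
 (.node (.leaf 209206764184476)
 (.leaf 98139090038378))))
 (.node (.node (.node (.leaf 147781515615369)
 (.leaf 182201750304339))
 (.node (.leaf 211117946575477)
 (.leaf 91758248115688)))
 (.node (.node (.leaf 95039810901078)
 (.leaf 133485039527243))
 (.node (.leaf 94398857071375)
 (.leaf 153576247650056))))))

def keyTB206 : RT := .node (.node (.node (.node (.node (.node (.leaf 168022627535436)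
 (.leaf 232954192809355))
 (.node (.leaf 51400712113920)
 (.leaf 183247585395828)))
 (.node (.node (.leaf 217319229866592)
 (.leaf 78016567983368))
 (.node (.leaf 43569051946125)
 (.leaf 237357718218107))))
 (.node (.node (.node (.leaf 1451737572228)
 (.leaf 59557334438523))
 (.node (.leaf 36773748757416)
 (.leaf 135951521873125)))
 (.node (.node (.leaf 16666667934906)
 (.leaf 162660221187283))
 (.node (.leaf 25595748098491)
 (.leaf 205768786747749)))))
 (.node (.node (.node (.node (.leaf 176401062571717)
 (.leaf 165251001671978))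
 (.node (.leaf 99155724272601)
 (.leaf 47564131390102)))
 (.node (.node (.leaf 44074108055164)
 (.leaf 87119104470483))
 (.node (.leaf 78278015471715)
 (.leaf 145737818643162))))
 (.node (.node (.node (.leaf 21641888349063)
 (.leaf 250922620223951))
 (.node (.leaf 146908207176693)
 (.leaf 131787358677065)))
 (.node (.node (.leaf 200891153687350)
 (.leaf 85299440638952))
 (.node (.leaf 114387421770921)
 (.leaf 130826992706005))))))
 (.node (.node (.node (.node (.node (.leaf 108239290170576)
 (.leaf 18858193319934))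
 (.node (.leaf 272890509885805)
 (.leaf 127819598955397)))
 (.node (.node (.leaf 95137560102139)
 (.leaf 69011324798981))
 (.node (.leaf 178716740783411)
 (.leaf 265556144300506))))
 (.node (.node (.node (.leaf 22770037965822)
 (.leaf 47875562004612))
 (.node (.leaf 177499289826800)
 (.leaf 246814753249255)))
 (.node (.node (.leaf 4287945813776)
 (.leaf 181867150707682))
 (.node (.leaf 219386625882643)
 (.leaf 64788175629072)))))
 (.node (.node (.node (.node (.leaf 212047660566624)
 (.leaf 247319909525141))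
 (.node (.leaf 9404399452395)
 (.leaf 140158983993920)))
 (.node (.node (.leaf 231799322081165)
 (.leaf 144455951640146))
 (.node (.leaf 9043538461645)
 (.leaf 146291560107760))))
 (.node (.node (.node (.leaf 193339581457732)
 (.leaf 193297852320650))
 (.node (.leaf 177510007448999)
 (.leaf 79418303464225)))
 (.node (.node (.leaf 5961778193601)
 (.leaf 61686670155390))
 (.node (.leaf 26094110369976)
 (.leaf 162154830713394))))))

def keyTB207 : RT := .node (.node (.node (.node (.node (.node (.leaf 124562195170094)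
 (.leaf 60934602292873))
 (.node (.leaf 176205707846176)
 (.leaf 224386015085383)))
 (.node (.node (.leaf 9720567694745)
 (.leaf 10899358374974))
 (.node (.leaf 146988085763231)
 (.leaf 50590163503951))))
 (.node (.node (.node (.leaf 75458173652763)
 (.leaf 263284503014285))
 (.node (.leaf 62397371626928)
 (.leaf 235756836882933)))
 (.node (.node (.leaf 248827278563877)
 (.leaf 201029095461614))
 (.node (.leaf 198543727668798)
 (.leaf 94801914018195)))))
 (.node (.node (.node (.node (.leaf 135043575471185)
 (.leaf 84627911406323))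
 (.node (.leaf 72908512363643)
 (.leaf 58207115500690)))
 (.node (.node (.leaf 163084875807646)
 (.leaf 213265534331948))
 (.node (.leaf 14454402010465)
 (.leaf 135219103080385))))
 (.node (.node (.node (.leaf 146406503577966)
 (.leaf 91166637665120))
 (.node (.leaf 39129820275763)
 (.leaf 219783767830364)))
 (.node (.node (.leaf 154095934378910)
 (.leaf 217546611165154))
 (.node (.leaf 9477920026457)
 (.leaf 130504489174344))))))
 (.node (.node (.node (.node (.node (.leaf 74686855389748)
 (.leaf 243813489067377))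
 (.node (.leaf 174954729544743)
 (.leaf 133779488987403)))
 (.node (.node (.leaf 91937183898411)
 (.leaf 166000535678776))
 (.node (.leaf 84493223724545)
 (.leaf 218231601259032))))
 (.node (.node (.node (.leaf 48175197264255)
 (.leaf 145930119576397))
 (.node (.leaf 149328369774715)
 (.leaf 41929209067960)))
 (.node (.node (.leaf 104119366945016)
 (.leaf 130964073903815))
 (.node (.leaf 121883012536100)
 (.leaf 19860993571037)))))
 (.node (.node (.node (.node (.leaf 151437853383663)
 (.leaf 87718194651216))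
 (.node (.leaf 64552653898453)
 (.leaf 270394241302095)))
 (.node (.node (.leaf 90351592247517)
 (.leaf 104552115704419))
 (.node (.leaf 93077136180156)
 (.leaf 258713686700963))))
 (.node (.node (.node (.leaf 76356435940027)
 (.leaf 10103244662486))
 (.node (.leaf 141326130482463)
 (.leaf 121208811643968)))
 (.node (.node (.leaf 253858103479678)
 (.leaf 214544635125897))
 (.node (.leaf 248400940600113)
 (.leaf 28326591008986))))))

def keyTB208 : RT := .node (.node (.node (.node (.node (.node (.leaf 180299687548908)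
 (.leaf 244288315798647))
 (.node (.leaf 123587275434656)
 (.leaf 110220621473424)))
 (.node (.node (.leaf 229364086652452)
 (.leaf 162427348497735))
 (.node (.leaf 127595107431248)
 (.leaf 158236530151840))))
 (.node (.node (.node (.leaf 52140106608771)
 (.leaf 199879582285138))
 (.node (.leaf 152370461444368)
 (.leaf 131947584406424)))
 (.node (.node (.leaf 145841283944938)
 (.leaf 144381065697579))
 (.node (.leaf 255445351387424)
 (.leaf 263968626626173)))))
 (.node (.node (.node (.node (.leaf 264448073199953)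
 (.leaf 267688908139511))
 (.node (.leaf 44996954088881)
 (.leaf 144201737418487)))
 (.node (.node (.leaf 118270637756497)
 (.leaf 121233440821175))
 (.node (.leaf 182603896821794)
 (.leaf 116839436890379))))
 (.node (.node (.node (.leaf 24492768073754)
 (.leaf 116216186715384))
 (.node (.leaf 62000818375711)
 (.leaf 93867920812414)))
 (.node (.node (.leaf 183307493937587)
 (.leaf 59639166770266))
 (.node (.leaf 3987393676399)
 (.leaf 77812879090298))))))
 (.node (.node (.node (.node (.node (.leaf 258486473146389)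
 (.leaf 45257946071906))
 (.node (.leaf 265699855085277)
 (.leaf 66172847286708)))
 (.node (.node (.leaf 235441811227426)
 (.leaf 38582350965892))
 (.node (.leaf 118619303500736)
 (.leaf 34452295248574))))
 (.node (.node (.node (.leaf 4693818441981)
 (.leaf 36514787035385))
 (.node (.leaf 75039587988578)
 (.leaf 29388123993006)))
 (.node (.node (.leaf 27754761445388)
 (.leaf 236775096413691))
 (.node (.leaf 53422001488713)
 (.leaf 21497463314123)))))
 (.node (.node (.node (.node (.leaf 184041295956192)
 (.leaf 179959878032527))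
 (.node (.leaf 40919449370036)
 (.leaf 234174091552527)))
 (.node (.node (.leaf 195978079424159)
 (.leaf 55205255329947))
 (.node (.leaf 116549177991347)
 (.leaf 32377206443782))))
 (.node (.node (.node (.leaf 24166801613261)
 (.leaf 99317687159379))
 (.node (.leaf 153932411491524)
 (.leaf 104039369859906)))
 (.node (.node (.leaf 58809150837302)
 (.leaf 133365682591270))
 (.node (.leaf 69444404481324)
 (.leaf 182661694475622))))))

def keyTB209 : RT := .node (.node (.node (.node (.node (.node (.leaf 20761387364650)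
 (.leaf 197013806504813))
 (.node (.leaf 130064915518819)
 (.leaf 136072222925360)))
 (.node (.node (.leaf 250935652973728)
 (.leaf 264074089710341))
 (.node (.leaf 215780010349070)
 (.leaf 150275531386770))))
 (.node (.node (.node (.leaf 87814175175425)
 (.leaf 153059059732852))
 (.node (.leaf 125602922377058)
 (.leaf 21105867885315)))
 (.node (.node (.leaf 171196014908498)
 (.leaf 47665335312245))
 (.node (.leaf 117357800839578)
 (.leaf 254656660504402)))))
 (.node (.node (.node (.node (.leaf 61025598473741)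
 (.leaf 134640114661513))
 (.node (.leaf 191987323339730)
 (.leaf 198934055484895)))
 (.node (.node (.leaf 171117612445739)
 (.leaf 114240827211482))
 (.node (.leaf 151917161709007)
 (.leaf 199160654900443))))
 (.node (.node (.node (.leaf 9870172313351)
 (.leaf 93715907275828))
 (.node (.leaf 52720434449442)
 (.leaf 41490746997277)))
 (.node (.node (.leaf 22022824509594)
 (.leaf 222949020897054))
 (.node (.leaf 161253373194482)
 (.leaf 121743225843653))))))
 (.node (.node (.node (.node (.node (.leaf 208186882053563)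
 (.leaf 152086395576904))
 (.node (.leaf 237548705220108)
 (.leaf 46726796205505)))
 (.node (.node (.leaf 122352634115383)
 (.leaf 118399495660903))
 (.node (.leaf 158713610437956)
 (.leaf 22641710676052))))
 (.node (.node (.node (.leaf 197070270228476)
 (.leaf 92307176978625))
 (.node (.leaf 35131913183641)
 (.leaf 254846612286016)))
 (.node (.node (.leaf 190883512993677)
 (.leaf 114662169702934))
 (.node (.leaf 42092780863399)
 (.leaf 87457277133239)))))
 (.node (.node (.node (.node (.leaf 225451066879227)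
 (.leaf 136489421095667))
 (.node (.leaf 79675424377151)
 (.leaf 147780062053053)))
 (.node (.node (.leaf 101661376271158)
 (.leaf 273248125891023))
 (.node (.leaf 169090284967400)
 (.leaf 258751534776091))))
 (.node (.node (.node (.leaf 26731957336911)
 (.leaf 185440597544124))
 (.node (.leaf 165594606328342)
 (.leaf 125057392696921)))
 (.node (.node (.leaf 267499991046709)
 (.leaf 9801860586486))
 (.node (.leaf 231232578423692)
 (.leaf 27351392203140))))))

def keyTB210 : RT := .node (.node (.node (.node (.node (.node (.leaf 194165966392171)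
 (.leaf 141042117936724))
 (.node (.leaf 84540714304815)
 (.leaf 216595436122585)))
 (.node (.node (.leaf 47006413981815)
 (.leaf 132913574345496))
 (.node (.leaf 27029052400706)
 (.leaf 115208064496257))))
 (.node (.node (.node (.leaf 159417057387804)
 (.leaf 213006270452555))
 (.node (.leaf 232295442701625)
 (.leaf 6350634790943)))
 (.node (.node (.leaf 253938774343776)
 (.leaf 236387662350699))
 (.node (.leaf 130105837275663)
 (.leaf 211321150819324)))))
 (.node (.node (.node (.node (.leaf 173764306582568)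
 (.leaf 49893259555117))
 (.node (.leaf 234902393325043)
 (.leaf 107029207199889)))
 (.node (.node (.leaf 172870282927241)
 (.leaf 232367416229480))
 (.node (.leaf 32993974137260)
 (.leaf 2365678952385))))
 (.node (.node (.node (.leaf 115657245246707)
 (.leaf 259487408366274))
 (.node (.leaf 90745589670706)
 (.leaf 276666508701796)))
 (.node (.node (.leaf 99952762032297)
 (.leaf 149726612405569))
 (.node (.leaf 5002302083998)
 (.leaf 131470255776644))))))
 (.node (.node (.node (.node (.node (.leaf 201368898621535)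
 (.leaf 261023054159797))
 (.node (.leaf 257362123669857)
 (.leaf 147038565059777)))
 (.node (.node (.leaf 160892964213300)
 (.leaf 201761486745740))
 (.node (.leaf 252150392291545)
 (.leaf 147668676597325))))
 (.node (.node (.node (.leaf 78868516828488)
 (.leaf 68766476754328))
 (.node (.leaf 95463036424533)
 (.leaf 197611520229184)))
 (.node (.node (.leaf 198690057816905)
 (.leaf 273099541638776))
 (.node (.leaf 241735645464197)
 (.leaf 180566897527814)))))
 (.node (.node (.node (.node (.leaf 147267871943410)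
 (.leaf 80351499081995))
 (.node (.leaf 244705615701703)
 (.leaf 55299931431907)))
 (.node (.node (.leaf 209373087647723)
 (.leaf 43666222403384))
 (.node (.leaf 7034690040222)
 (.leaf 55561045752056))))
 (.node (.node (.node (.leaf 241874500877619)
 (.leaf 132662820070140))
 (.node (.leaf 73234547312834)
 (.leaf 105451408462511)))
 (.node (.node (.leaf 18807630941478)
 (.leaf 115383956855243))
 (.node (.leaf 150658102829625)
 (.leaf 161464822478235))))))

def keyTB211 : RT := .node (.node (.node (.node (.node (.node (.leaf 82997512019349)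
 (.leaf 243166963858619))
 (.node (.leaf 109319629636988)
 (.leaf 170141252782405)))
 (.node (.node (.leaf 59488961017918)
 (.leaf 26174571797718))
 (.node (.leaf 133046367806153)
 (.leaf 220707851760316))))
 (.node (.node (.node (.leaf 47384973586457)
 (.leaf 8022903511254))
 (.node (.leaf 256492948317220)
 (.leaf 274293760234517)))
 (.node (.node (.leaf 48341926444206)
 (.leaf 65235070359171))
 (.node (.leaf 152255270426107)
 (.leaf 60771920727587)))))
 (.node (.node (.node (.node (.leaf 123873628096269)
 (.leaf 189262752504440))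
 (.node (.leaf 71336914722630)
 (.leaf 178163949846269)))
 (.node (.node (.leaf 257958654393365)
 (.leaf 11845919410828))
 (.node (.leaf 203409737076577)
 (.leaf 206025380877644))))
 (.node (.node (.node (.leaf 43793637446017)
 (.leaf 201630528376268))
 (.node (.leaf 146476950960654)
 (.leaf 264722354529263)))
 (.node (.node (.leaf 23777099024149)
 (.leaf 191136020005020))
 (.node (.leaf 85359835073953)
 (.leaf 139445446253111))))))
 (.node (.node (.node (.node (.node (.leaf 70263263179311)
 (.leaf 154669063646321))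
 (.node (.leaf 45622154074032)
 (.leaf 100079767490493)))
 (.node (.node (.leaf 124893856337678)
 (.leaf 87659837014976))
 (.node (.leaf 141130229175545)
 (.leaf 97561968243162))))
 (.node (.node (.node (.leaf 30594253757552)
 (.leaf 204896342682317))
 (.node (.leaf 143345770728059)
 (.leaf 268428750002356)))
 (.node (.node (.leaf 164972328403154)
 (.leaf 4388838050832))
 (.node (.leaf 248012174861297)
 (.leaf 22907545745034)))))
 (.node (.node (.node (.node (.leaf 19774591235677)
 (.leaf 135827901239006))
 (.node (.leaf 174915992217148)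
 (.leaf 262037366099820)))
 (.node (.node (.leaf 46853687609467)
 (.leaf 225178479105134))
 (.node (.leaf 228640191412194)
 (.leaf 82778751458935))))
 (.node (.node (.node (.leaf 258243130896715)
 (.leaf 41849096217702))
 (.node (.leaf 228329515027722)
 (.leaf 50464768600153)))
 (.node (.node (.leaf 253671656232485)
 (.leaf 175575550857505))
 (.node (.leaf 137045099766879)
 (.leaf 102906988463531))))))

def keyTB212 : RT := .node (.node (.node (.node (.node (.node (.leaf 97325668543221)
 (.leaf 14419471586886))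
 (.node (.leaf 203979359731342)
 (.leaf 5415118284918)))
 (.node (.node (.leaf 158553131269716)
 (.leaf 222709803466684))
 (.node (.leaf 33363894135380)
 (.leaf 50633508806465))))
 (.node (.node (.node (.leaf 168196687937280)
 (.leaf 2666326254615))
 (.node (.leaf 5864702230150)
 (.leaf 67017885082559)))
 (.node (.node (.leaf 78381058849797)
 (.leaf 127527822421714))
 (.node (.leaf 175414013599688)
 (.leaf 108964778414778)))))
 (.node (.node (.node (.node (.leaf 5682976313454)
 (.leaf 257338445879368))
 (.node (.leaf 1422644439040)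
 (.leaf 244011614042268)))
 (.node (.node (.leaf 133621073455785)
 (.leaf 141689716588923))
 (.node (.leaf 36899491618187)
 (.leaf 218510265420858))))
 (.node (.node (.node (.leaf 81852499449346)
 (.leaf 209231524711413))
 (.node (.leaf 38640973466341)
 (.leaf 104634416031472)))
 (.node (.node (.leaf 195875589100531)
 (.leaf 104154485177640))
 (.node (.leaf 257100943519145)
 (.leaf 224171679029125))))))
 (.node (.node (.node (.node (.node (.leaf 202367013948519)
 (.leaf 178978931435448))
 (.node (.leaf 270630791401105)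
 (.leaf 102407531669564)))
 (.node (.node (.leaf 252457980978369)
 (.leaf 27731409716563))
 (.node (.leaf 277086367261681)
 (.leaf 47214908545835))))
 (.node (.node (.node (.leaf 231354062563299)
 (.leaf 61047569645373))
 (.node (.leaf 134647249446421)
 (.leaf 264384467869574)))
 (.node (.node (.leaf 31138929688508)
 (.leaf 254531773365917))
 (.node (.leaf 101356881139251)
 (.leaf 22774774968682)))))
 (.node (.node (.node (.node (.leaf 115116674014090)
 (.leaf 132952899473832))
 (.node (.leaf 27052340615466)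
 (.leaf 115186007528583)))
 (.node (.node (.leaf 159378254121139)
 (.leaf 236367815073305))
 (.node (.leaf 194971677679949)
 (.leaf 181700828188446))))
 (.node (.node (.node (.leaf 167357470746107)
 (.leaf 198904365626302))
 (.node (.leaf 106765585408123)
 (.leaf 36783991532072)))
 (.node (.node (.leaf 64718984960174)
 (.leaf 34910985047115))
 (.node (.leaf 182619008495667)
 (.leaf 98796720245763))))))

def keyTB213 : RT := .node (.node (.node (.node (.node (.node (.leaf 49261993657766)
 (.leaf 96519122410315))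
 (.node (.leaf 193424874811322)
 (.leaf 8018724906852)))
 (.node (.node (.leaf 256470433615363)
 (.leaf 274321951598301))
 (.node (.leaf 198422876283991)
 (.leaf 189296303738488))))
 (.node (.node (.node (.leaf 71358951603368)
 (.leaf 200831776716696))
 (.node (.leaf 43603400022016)
 (.leaf 105692270777026)))
 (.node (.node (.leaf 206034559611698)
 (.leaf 99140558210763))
 (.node (.leaf 123680177394487)
 (.leaf 232313045388926)))))
 (.node (.node (.node (.node (.leaf 272894131286237)
 (.leaf 127849927763934))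
 (.node (.leaf 179342546827901)
 (.leaf 246798401919516)))
 (.node (.node (.leaf 4274230993688)
 (.leaf 18877888438772))
 (.node (.leaf 178684810031960)
 (.leaf 53407627024965))))
 (.node (.node (.node (.leaf 21493385970497)
 (.leaf 194577430965929))
 (.node (.leaf 196148432445612)
 (.leaf 144485827293968)))
 (.node (.node (.leaf 267703387050349)
 (.leaf 108120807167619))
 (.node (.leaf 179631385746043)
 (.leaf 262415453915865))))))
 (.node (.node (.node (.node (.node (.leaf 162435678304171)
 (.leaf 150222450906567))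
 (.node (.leaf 193324007424842)
 (.leaf 204020865570272)))
 (.node (.node (.leaf 95151782084137)
 (.leaf 227704287356564))
 (.node (.leaf 135647692889288)
 (.leaf 85322110492270))))
 (.node (.node (.node (.leaf 114360743816242)
 (.leaf 50605522282122))
 (.node (.leaf 168219180944556)
 (.leaf 84881378764967)))
 (.node (.node (.leaf 68752508129799)
 (.leaf 231741071961384))
 (.node (.leaf 235769791814763)
 (.leaf 143185377212173)))))
 (.node (.node (.node (.node (.leaf 211513815382833)
 (.leaf 56763356012455))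
 (.node (.leaf 67026417589665)
 (.leaf 225223525388331)))
 (.node (.node (.leaf 10874649722586)
 (.leaf 31379268413774))
 (.node (.leaf 104666143855100)
 (.leaf 197893091669881))))
 (.node (.node (.node (.leaf 133182344396600)
 (.leaf 175047401274436))
 (.node (.leaf 219785912343997)
 (.leaf 194671063492576)))
 (.node (.node (.leaf 22665433890410)
 (.leaf 115820717095720))
 (.node (.leaf 16150922543171)
 (.leaf 175199612548929))))))

def keyTB214 : RT := .node (.node (.node (.node (.node (.node (.leaf 243276103721036)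
 (.leaf 217520653970634))
 (.node (.leaf 153408352401970)
 (.leaf 88355274622600)))
 (.node (.node (.leaf 184555131678939)
 (.leaf 135809079431517))
 (.node (.leaf 191974290837582)
 (.leaf 171138373526199))))
 (.node (.node (.node (.leaf 114220399927580)
 (.leaf 215396058275893))
 (.node (.leaf 222035006791718)
 (.leaf 33537756033538)))
 (.node (.node (.leaf 58241272068805)
 (.leaf 50304536122280))
 (.node (.leaf 179817826605757)
 (.leaf 118628360226493)))))
 (.node (.node (.node (.node (.leaf 100129354465116)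
 (.leaf 154657348216104))
 (.node (.leaf 235468507797749)
 (.leaf 122592357885700)))
 (.node (.node (.leaf 172325517141087)
 (.leaf 262070389021475))
 (.node (.leaf 113921372099560)
 (.leaf 118267271506490))))
 (.node (.node (.node (.leaf 121277501214860)
 (.leaf 211091510519903))
 (.node (.leaf 26781785731106)
 (.leaf 74692186107789)))
 (.node (.node (.leaf 50062413585632)
 (.leaf 247971943218254))
 (.node (.leaf 117326843735685)
 (.leaf 105425140224985))))))
 (.node (.node (.node (.node (.node (.leaf 130852648820804)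
 (.leaf 205768074552316))
 (.node (.leaf 176357562442215)
 (.leaf 165253824896829)))
 (.node (.node (.leaf 69296415331825)
 (.leaf 125160432598281))
 (.node (.leaf 146397221279552)
 (.leaf 641791314601))))
 (.node (.node (.node (.leaf 104158251581460)
 (.leaf 258778636902080))
 (.node (.leaf 29091560269096)
 (.leaf 62210158683620)))
 (.node (.node (.leaf 143324191463906)
 (.leaf 78563323109184))
 (.node (.leaf 275403547193042)
 (.leaf 30193374945668)))))
 (.node (.node (.node (.node (.leaf 228410808807925)
 (.leaf 180704568191572))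
 (.node (.leaf 276877381022112)
 (.leaf 177351990116483)))
 (.node (.node (.leaf 169109480176457)
 (.leaf 224228796149495))
 (.node (.leaf 264747549277781)
 (.leaf 79188595904543))))
 (.node (.node (.node (.leaf 87590815560622)
 (.leaf 168467141939296))
 (.node (.leaf 199682803722603)
 (.leaf 79842175943025)))
 (.node (.node (.leaf 242776735289618)
 (.leaf 97113916877452))
 (.node (.leaf 42970898118064)
 (.leaf 17396593839942))))))

def keyTB215 : RT := .node (.node (.node (.node (.node (.node (.leaf 62401672531016)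
 (.leaf 277581172882591))
 (.node (.leaf 136983720816309)
 (.leaf 121870052696903)))
 (.node (.node (.leaf 64533817499935)
 (.leaf 270020484196240))
 (.node (.leaf 265654652671389)
 (.leaf 201803822400302))))
 (.node (.node (.node (.leaf 58775416376969)
 (.leaf 272936964938619))
 (.node (.leaf 153971046287367)
 (.leaf 177838434515051)))
 (.node (.node (.leaf 191847424596136)
 (.leaf 193240348907692))
 (.node (.leaf 145141105400120)
 (.leaf 114384797694360)))))
 (.node (.node (.node (.node (.leaf 258189259808056)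
 (.leaf 101076717052931))
 (.node (.leaf 105635634018908)
 (.leaf 187667470981514)))
 (.node (.node (.leaf 165561064167520)
 (.leaf 196266492298873))
 (.node (.leaf 4661210313243)
 (.leaf 256320767735207))))
 (.node (.node (.node (.leaf 144893310087969)
 (.leaf 6338426007512))
 (.node (.leaf 29396331499663)
 (.leaf 253933383137111)))
 (.node (.node (.leaf 236334685618538)
 (.leaf 15049728998250))
 (.node (.leaf 8488124023421)
 (.leaf 171001206632093))))))
 (.node (.node (.node (.node (.node (.leaf 108274305393529)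
 (.leaf 21588156175803))
 (.node (.leaf 149514378043702)
 (.leaf 210495538872569)))
 (.node (.node (.leaf 67713961527271)
 (.leaf 87005729554192))
 (.node (.leaf 52148746285735)
 (.leaf 189011891037988))))
 (.node (.node (.node (.leaf 200918839722596)
 (.leaf 277666651563226))
 (.node (.leaf 250959481011400)
 (.leaf 131993301096988)))
 (.node (.node (.leaf 157885823596383)
 (.leaf 219032937972375))
 (.node (.leaf 198838639643468)
 (.leaf 228345620670187)))))
 (.node (.node (.node (.node (.leaf 118804114004005)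
 (.leaf 186998228938562))
 (.node (.leaf 78782877942805)
 (.leaf 76313407267778)))
 (.node (.node (.leaf 7047466133147)
 (.leaf 55587556012378))
 (.node (.leaf 9779558028233)
 (.leaf 72670933825286))))
 (.node (.node (.node (.leaf 96701938502981)
 (.leaf 109908418897043))
 (.node (.leaf 270344638053596)
 (.leaf 140128155439988)))
 (.node (.node (.leaf 141031410908849)
 (.leaf 84567467901586))
 (.node (.leaf 82745553613132)
 (.leaf 256208610331710))))))

def keyTB216 : RT := .node (.node (.node (.node (.node (.node (.leaf 128606528796451)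
 (.leaf 272798265614097))
 (.node (.leaf 9723604985692)
 (.leaf 84598613746088)))
 (.node (.node (.leaf 4982029883690)
 (.leaf 265585714898250))
 (.node (.leaf 242684198657716)
 (.leaf 228669514850958))))
 (.node (.node (.node (.leaf 146888930134066)
 (.leaf 102888847218340))
 (.node (.leaf 217875186431380)
 (.leaf 158567702427578)))
 (.node (.node (.leaf 127475691011130)
 (.leaf 43669736441610))
 (.node (.leaf 116540052213278)
 (.leaf 42291123933796)))))
 (.node (.node (.node (.node (.leaf 87711795016922)
 (.leaf 22795384058452))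
 (.node (.leaf 137070518442086)
 (.leaf 161344242594002)))
 (.node (.node (.leaf 198551915547751)
 (.leaf 254591976534771))
 (.node (.leaf 114715538144661)
 (.leaf 211581714779323))))
 (.node (.node (.node (.leaf 130303112721661)
 (.leaf 192587181563613))
 (.node (.leaf 65840365706166)
 (.leaf 71996503541786)))
 (.node (.node (.leaf 48517911997688)
 (.leaf 38524715439760))
 (.node (.leaf 78739035253791)
 (.leaf 49952776782773))))))
 (.node (.node (.node (.node (.node (.leaf 5884530445486)
 (.leaf 251673427475450))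
 (.node (.leaf 120202114806205)
 (.leaf 43203647966298)))
 (.node (.node (.leaf 65937743585417)
 (.leaf 32559442636626))
 (.node (.leaf 240440253095459)
 (.leaf 181449977256568))))
 (.node (.node (.node (.leaf 207862154719046)
 (.leaf 220985242586403))
 (.node (.leaf 234945346460966)
 (.leaf 176974322533637)))
 (.node (.node (.leaf 154123998998971)
 (.leaf 1486897785346))
 (.node (.leaf 70238258208448)
 (.leaf 25571796139776)))))
 (.node (.node (.node (.node (.leaf 134863965019365)
 (.leaf 15821872932026))
 (.node (.leaf 8644719032760)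
 (.leaf 227977457488507)))
 (.node (.node (.leaf 146561550112415)
 (.leaf 190940798609421))
 (.node (.leaf 205792486643161)
 (.leaf 94278931786511))))
 (.node (.node (.node (.leaf 214263081597734)
 (.leaf 209656285471845))
 (.node (.leaf 274266617182591)
 (.leaf 175072865910411)))
 (.node (.node (.leaf 92347427656376)
 (.leaf 261613164829932))
 (.node (.leaf 94409308380756)
 (.leaf 222861425155403))))))

def keyTB217 : RT := .node (.node (.node (.node (.node (.node (.leaf 142105629944872)
 (.leaf 211140868594579))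
 (.node (.leaf 146428072489198)
 (.leaf 41011313992377)))
 (.node (.node (.leaf 143083835267207)
 (.leaf 202515044181264))
 (.node (.leaf 186716749976238)
 (.leaf 49868631027176))))
 (.node (.node (.node (.leaf 72910323704918)
 (.leaf 140489157621705))
 (.node (.leaf 231133392591297)
 (.leaf 73209759379036)))
 (.node (.node (.leaf 109115034367680)
 (.leaf 202005478750881))
 (.node (.leaf 62252806861084)
 (.leaf 141281972144553)))))
 (.node (.node (.node (.node (.leaf 136821420530275)
 (.leaf 83641921815354))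
 (.node (.leaf 69355997255947)
 (.leaf 60763120567148)))
 (.node (.node (.leaf 189287327890507)
 (.leaf 71358870212659))
 (.node (.leaf 37078503704462)
 (.leaf 15220117931124))))
 (.node (.node (.node (.leaf 138461284571766)
 (.leaf 39160077005700))
 (.node (.leaf 40230007107753)
 (.leaf 241862502464833)))
 (.node (.node (.leaf 126834437021240)
 (.leaf 206760473451010))
 (.node (.leaf 232572093224930)
 (.leaf 111175761691358))))))
 (.node (.node (.node (.node (.node (.leaf 110158100741846)
 (.leaf 52864892477897))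
 (.node (.leaf 265729230783918)
 (.leaf 135176062906246)))
 (.node (.node (.leaf 111194306192582)
 (.leaf 242980846371033))
 (.node (.leaf 213263371436519)
 (.leaf 193758296567192))))
 (.node (.node (.node (.leaf 76065286667032)
 (.leaf 41949287185414))
 (.node (.leaf 5512426201188)
 (.leaf 205524804603317)))
 (.node (.node (.leaf 171237690361930)
 (.leaf 58836232219413))
 (.node (.leaf 142061582409376)
 (.leaf 126294061811899)))))
 (.node (.node (.node (.node (.leaf 57676302952380)
 (.leaf 102087707145223))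
 (.node (.leaf 160672062253806)
 (.leaf 150693252450573)))
 (.node (.node (.leaf 182276612513537)
 (.leaf 31087804440328))
 (.node (.leaf 258480432967365)
 (.leaf 153145920012833))))
 (.node (.node (.node (.leaf 38415790597853)
 (.leaf 84471104583217))
 (.node (.leaf 155988370791398)
 (.leaf 74652723388832)))
 (.node (.node (.leaf 8599434413592)
 (.leaf 209002339909245))
 (.node (.leaf 59445190032178)
 (.leaf 244030596520825))))))

def keyTB218 : RT := .node (.node (.node (.node (.node (.node (.leaf 213316739933835)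
 (.leaf 33590072239899))
 (.node (.leaf 129179620536776)
 (.leaf 145908298914037)))
 (.node (.node (.leaf 130945042516811)
 (.leaf 40183547125690))
 (.node (.leaf 25029648928915)
 (.leaf 178504990111752))))
 (.node (.node (.node (.leaf 42885803774453)
 (.leaf 210369102737939))
 (.node (.leaf 232922868950804)
 (.leaf 114231730121848)))
 (.node (.node (.leaf 202369698865550)
 (.leaf 51578527646181))
 (.node (.leaf 170559037507838)
 (.leaf 38571828548806)))))
 (.node (.node (.node (.node (.leaf 38889063403737)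
 (.leaf 182619416889883))
 (.node (.leaf 135276901972966)
 (.leaf 115072366274247)))
 (.node (.node (.leaf 176558988268201)
 (.leaf 111946497139027))
 (.node (.leaf 139461403407725)
 (.leaf 127407053118090))))
 (.node (.node (.node (.leaf 170708102292544)
 (.leaf 269673547187186))
 (.node (.leaf 254970677920719)
 (.leaf 26521063048918)))
 (.node (.node (.leaf 240351664377268)
 (.leaf 124075339454223))
 (.node (.leaf 196928510824095)
 (.leaf 103910531084899))))))
 (.node (.node (.node (.node (.node (.leaf 199210966010907)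
 (.leaf 107163020463295))
 (.node (.leaf 24953073455421)
 (.leaf 52720807776338)))
 (.node (.node (.leaf 192991466067140)
 (.leaf 47598802932546))
 (.node (.leaf 132294988285255)
 (.leaf 69234444129104))))
 (.node (.node (.node (.leaf 49046233585783)
 (.leaf 117291247597626))
 (.node (.leaf 47314857729857)
 (.leaf 259236934287104)))
 (.node (.node (.leaf 64926181590593)
 (.leaf 214741641692755))
 (.node (.leaf 18394473593514)
 (.leaf 263677155330409)))))
 (.node (.node (.node (.node (.leaf 85572982240752)
 (.leaf 231817572062986))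
 (.node (.leaf 222167597338142)
 (.leaf 61661364301595)))
 (.node (.node (.leaf 48057673038733)
 (.leaf 45532661729811))
 (.node (.leaf 154559421484606)
 (.leaf 24541601158544))))
 (.node (.node (.node (.leaf 9688326760881)
 (.leaf 38938514185683))
 (.node (.leaf 75658808843451)
 (.leaf 272799717201593)))
 (.node (.node (.leaf 83888241349455)
 (.leaf 99309775530521))
 (.node (.leaf 8373399827926)
 (.leaf 277593750222702))))))

def keyTB219 : RT := .node (.node (.node (.node (.node (.node (.leaf 224030865066865)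
 (.leaf 181899452362867))
 (.node (.leaf 146971640451511)
 (.leaf 97601315114771)))
 (.node (.node (.leaf 93146801979233)
 (.leaf 230785989240049))
 (.node (.leaf 128468648252021)
 (.leaf 91368282336217))))
 (.node (.node (.node (.leaf 57849323110358)
 (.leaf 63563078616249))
 (.node (.leaf 151482994806601)
 (.leaf 197653324081490)))
 (.node (.node (.leaf 193604131664391)
 (.leaf 38318439667343))
 (.node (.leaf 56587096735900)
 (.leaf 232651013277263)))))
 (.node (.node (.node (.node (.leaf 152738696514399)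
 (.leaf 265539357433547))
 (.node (.leaf 170585798578645)
 (.leaf 47841372870094)))
 (.node (.node (.leaf 55304650561403)
 (.leaf 196500961135004))
 (.node (.leaf 276853577748634)
 (.leaf 84904534094657))))
 (.node (.node (.node (.leaf 169964617880956)
 (.leaf 215822207636912))
 (.node (.leaf 241726738551253)
 (.leaf 138581237827746)))
 (.node (.node (.leaf 233207259740727)
 (.leaf 37311615227059))
 (.node (.leaf 6057796242966)
 (.leaf 273967102622677))))))
 (.node (.node (.node (.node (.node (.leaf 47906054190249)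
 (.leaf 150044279151995))
 (.node (.leaf 140702805711844)
 (.leaf 64340617476448)))
 (.node (.node (.leaf 231746363962128)
 (.leaf 4513558867481))
 (.node (.leaf 221148247150925)
 (.leaf 173736505361087))))
 (.node (.node (.node (.leaf 210885238905968)
 (.leaf 264469938661212))
 (.node (.leaf 151398398768608)
 (.leaf 203198576163642)))
 (.node (.node (.leaf 158341435369453)
 (.leaf 78690041517965))
 (.node (.leaf 60249311413385)
 (.leaf 231189295879011)))))
 (.node (.node (.node (.node (.leaf 24008520786554)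
 (.leaf 93155412625177))
 (.node (.leaf 182689029603208)
 (.leaf 269768693462723)))
 (.node (.node (.leaf 164338140605115)
 (.leaf 131756598069920))
 (.node (.leaf 249059267861322)
 (.leaf 41839426072014))))
 (.node (.node (.node (.leaf 200115931614562)
 (.leaf 81418595570225))
 (.node (.leaf 107261471405465)
 (.leaf 254894346027760)))
 (.node (.node (.leaf 145726060703814)
 (.leaf 21615529764500))
 (.node (.leaf 176218141376725)
 (.leaf 9792324519962))))))

def keyTB220 : RT := .node (.node (.node (.node (.node (.node (.leaf 72697947503864)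
 (.leaf 69026792171810))
 (.node (.leaf 21243291107037)
 (.leaf 144433815625843)))
 (.node (.node (.leaf 125023347731000)
 (.leaf 117728030274252))
 (.node (.leaf 234384443402875)
 (.leaf 63686667070169))))
 (.node (.node (.node (.leaf 183939928781212)
 (.leaf 3859930861026))
 (.node (.leaf 215963393758461)
 (.leaf 141641972711731)))
 (.node (.node (.leaf 133625443340989)
 (.leaf 123743495837004))
 (.node (.leaf 233391971275108)
 (.leaf 21483969089246)))))
 (.node (.node (.node (.node (.leaf 180550688265678)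
 (.leaf 1379600086907))
 (.node (.leaf 220848067676686)
 (.leaf 26051597665224)))
 (.node (.node (.leaf 144478992928811)
 (.leaf 94769324620448))
 (.node (.leaf 267740562632460)
 (.leaf 247282285054493))))
 (.node (.node (.node (.leaf 9014478012357)
 (.leaf 20704813155260))
 (.node (.leaf 110491568817059)
 (.leaf 32991452486451)))
 (.node (.node (.leaf 24133409415172)
 (.leaf 6626027292059))
 (.node (.leaf 81372996755397)
 (.leaf 35898357057729))))))
 (.node (.node (.node (.node (.node (.leaf 12023278500458)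
 (.leaf 255509133324215))
 (.node (.leaf 192810225877017)
 (.leaf 241002728590632)))
 (.node (.node (.leaf 108760603168539)
 (.leaf 122000879516557))
 (.node (.leaf 130792498783175)
 (.leaf 156162354268156))))
 (.node (.node (.node (.leaf 87093271852938)
 (.leaf 78324546106409))
 (.node (.leaf 85096470663081)
 (.leaf 140658225708200)))
 (.node (.node (.leaf 62003264510206)
 (.leaf 106502486635254))
 (.node (.leaf 237412081184312)
 (.leaf 149383394522757)))))
 (.node (.node (.node (.node (.leaf 61970166219783)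
 (.leaf 212635632434500))
 (.node (.leaf 180329309622318)
 (.leaf 191162705023403)))
 (.node (.node (.leaf 265062452869368)
 (.leaf 171139739363926))
 (.node (.leaf 124315138576798)
 (.leaf 216703906226871))))
 (.node (.node (.node (.leaf 18790581871858)
 (.leaf 67214830228602))
 (.node (.leaf 182238170173937)
 (.leaf 6829648050658)))
 (.node (.node (.leaf 25058233293388)
 (.leaf 9117914573664))
 (.node (.leaf 201316820581170)
 (.leaf 210302424861902))))))

def keyTB221 : RT := .node (.node (.node (.node (.node (.node (.leaf 218920084742069)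
 (.leaf 34258196803720))
 (.node (.leaf 9914066881372)
 (.leaf 58004437452548)))
 (.node (.node (.leaf 127454984537518)
 (.leaf 198975865669762))
 (.node (.leaf 212496143161730)
 (.leaf 198607512590647))))
 (.node (.node (.node (.leaf 17115986498683)
 (.leaf 202856683251712))
 (.node (.leaf 203428538790731)
 (.leaf 212613870683804)))
 (.node (.node (.leaf 185607049236590)
 (.leaf 40193428360270))
 (.node (.leaf 52885733447738)
 (.leaf 155477470720803)))))
 (.node (.node (.node (.node (.leaf 176562382417622)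
 (.leaf 31093268717215))
 (.node (.leaf 55075424099686)
 (.leaf 225417927258177)))
 (.node (.node (.leaf 48137977756033)
 (.leaf 45366566601041))
 (.node (.leaf 11107380130160)
 (.leaf 118372146475094))))
 (.node (.node (.node (.leaf 264847882633464)
 (.leaf 241850912142332))
 (.node (.leaf 109665951000445)
 (.leaf 245265541809216)))
 (.node (.node (.leaf 77809841561487)
 (.leaf 152125587139363))
 (.node (.leaf 271489340993157)
 (.leaf 223052875856522))))))
 (.node (.node (.node (.node (.node (.leaf 250609025818216)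
 (.leaf 115472327664106))
 (.node (.leaf 158715472315876)
 (.leaf 226212534156795)))
 (.node (.node (.leaf 122062493087302)
 (.leaf 168041805315794))
 (.node (.leaf 219431391648906)
 (.leaf 91132569117115))))
 (.node (.node (.node (.leaf 248809479990806)
 (.leaf 54621947827907))
 (.node (.leaf 38783153157104)
 (.leaf 169812208107129)))
 (.node (.node (.leaf 195285379652624)
 (.leaf 177041127732817))
 (.node (.leaf 204426526251110)
 (.leaf 177562299467615)))))
 (.node (.node (.node (.node (.leaf 75954076699751)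
 (.leaf 130306661750564))
 (.node (.leaf 242670876524284)
 (.leaf 159118924303611)))
 (.node (.node (.leaf 251398761538873)
 (.leaf 31413173920402))
 (.node (.leaf 20795791192819)
 (.leaf 243897045676037))))
 (.node (.node (.node (.leaf 220471150924460)
 (.leaf 110716101667512))
 (.node (.leaf 139757910945585)
 (.leaf 110756027610606)))
 (.node (.node (.leaf 62122644444532)
 (.leaf 139773871425576))
 (.node (.leaf 139748818472332)
 (.leaf 110717666129575))))))

def keyTB222 : RT := .node (.node (.node (.node (.node (.node (.leaf 177187013597920)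
 (.leaf 177190812608986))
 (.node (.leaf 62139662432385)
 (.leaf 139738292766387)))
 (.node (.node (.leaf 62143881999010)
 (.leaf 139725465972943))
 (.node (.leaf 139744481484844)
 (.leaf 110754942970098))))
 (.node (.node (.node (.leaf 62154761765675)
 (.leaf 110732832563746))
 (.node (.leaf 62189806050267)
 (.leaf 177189607606102)))
 (.node (.node (.leaf 177226266230642)
 (.leaf 62129041534898))
 (.node (.leaf 139736158978364)
 (.leaf 177225142386450)))))
 (.node (.node (.node (.node (.leaf 177185194235138)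
 (.leaf 62134707794903))
 (.node (.leaf 139708887884507)
 (.leaf 62168274870400)))
 (.node (.node (.leaf 110728574338552)
 (.leaf 177178660679186))
 (.node (.leaf 110741775047648)
 (.leaf 177191128671594))))
 (.node (.node (.node (.leaf 177187114535788)
 (.leaf 110712050904078))
 (.node (.leaf 110742919567392)
 (.leaf 62160756793512)))
 (.node (.node (.leaf 177166199397704)
 (.leaf 177171057497788))
 (.node (.leaf 62145429366180)
 (.leaf 139752154630497))))))
 (.node (.node (.node (.node (.node (.leaf 62158604801278)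
 (.leaf 110753550924955))
 (.node (.leaf 62150156004398)
 (.leaf 177184476758183)))
 (.node (.node (.leaf 62144574514216)
 (.leaf 139715986527778))
 (.node (.leaf 177186861441540)
 (.leaf 139755428866170))))
 (.node (.node (.node (.leaf 110726583545253)
 (.leaf 139758862778886))
 (.node (.leaf 110723765693784)
 (.leaf 110735158848657)))
 (.node (.node (.leaf 62178094980071)
 (.leaf 110727300236452))
 (.node (.leaf 139739652077103)
 (.leaf 177168020342363)))))
 (.node (.node (.node (.node (.leaf 177174824736408)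
 (.leaf 110762499263613))
 (.node (.leaf 110766311821766)
 (.leaf 177169192567846)))
 (.node (.node (.leaf 62166347333251)
 (.leaf 139769480024510))
 (.node (.leaf 177191182252744)
 (.leaf 177183991546191))))
 (.node (.node (.node (.leaf 110773380658938)
 (.leaf 110710867707983))
 (.node (.leaf 62180067861647)
 (.leaf 177197997710547)))
 (.node (.node (.leaf 62164698665643)
 (.leaf 139763719604287))
 (.node (.leaf 62128246842247)
 (.leaf 139717944951090))))))

def keyTB223 : RT := .node (.node (.node (.node (.node (.node (.leaf 110766778507519)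
 (.leaf 62142732356268))
 (.node (.leaf 139716536537739)
 (.leaf 110734949328228)))
 (.node (.node (.leaf 139724582526368)
 (.leaf 110738525718216))
 (.node (.leaf 177203244640028)
 (.leaf 177185539088345))))
 (.node (.node (.node (.leaf 139736810155418)
 (.leaf 62141213101899))
 (.node (.leaf 139755798669342)
 (.leaf 110751927548065)))
 (.node (.node (.leaf 62177506261343)
 (.leaf 139768530533467))
 (.node (.leaf 62142448105444)
 (.leaf 62142752444057)))))
 (.node (.node (.node (.node (.leaf 139757187836672)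
 (.leaf 177190597019408))
 (.node (.leaf 110730017416857)
 (.leaf 177162373143395)))
 (.node (.node (.leaf 139710071646947)
 (.leaf 110762610951933))
 (.node (.leaf 139727145758985)
 (.leaf 110764654749082))))
 (.node (.node (.node (.leaf 177190463731588)
 (.leaf 62140539468885))
 (.node (.leaf 177210751035123)
 (.leaf 62157176750831)))
 (.node (.node (.leaf 139720218684597)
 (.leaf 198558372691516))
 (.node (.leaf 65243789585552)
 (.leaf 143325772590991))))))
 (.node (.node (.node (.node (.node (.leaf 56226899498555)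
 (.leaf 75502837601068))
 (.node (.leaf 194991843688388)
 (.leaf 137090179534728)))
 (.node (.node (.leaf 275362623039446)
 (.leaf 239768124998177))
 (.node (.leaf 166014195656057)
 (.leaf 133476938622506))))
 (.node (.node (.node (.leaf 200821051202796)
 (.leaf 43615651776181))
 (.node (.leaf 135270140090793)
 (.leaf 202491810168897)))
 (.node (.node (.leaf 254545985354741)
 (.leaf 263288600428614))
 (.node (.leaf 252145205915980)
 (.leaf 33227228010569)))))
 (.node (.node (.node (.node (.leaf 261249942438495)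
 (.leaf 119678225694145))
 (.node (.leaf 9689803010870)
 (.leaf 68740701663347)))
 (.node (.node (.leaf 132927511411630)
 (.leaf 231774669462504))
 (.node (.leaf 235762017084585)
 (.leaf 180577406849493))))
 (.node (.node (.node (.leaf 276705819461070)
 (.leaf 63505883950288))
 (.node (.leaf 151489429612542)
 (.leaf 69342731560973)))
 (.node (.node (.leaf 115077895802209)
 (.leaf 16193698394360))
 (.node (.leaf 223077294024348)
 (.leaf 210729792727929))))))

def keyTB224 : RT := .node (.node (.node (.node (.node (.node (.leaf 30619012972171)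
 (.leaf 51373954553872))
 (.node (.leaf 121053551385841)
 (.leaf 135991189519536)))
 (.node (.node (.leaf 16669765415501)
 (.leaf 47335708245941))
 (.node (.leaf 652341916001)
 (.leaf 145912339585778))))
 (.node (.node (.node (.leaf 111252561641409)
 (.leaf 268425237074277))
 (.node (.leaf 102440560463557)
 (.leaf 96529096012074)))
 (.node (.node (.leaf 78574480227521)
 (.leaf 30169921411701))
 (.node (.leaf 228396576192878)
 (.leaf 59446972553148)))))
 (.node (.node (.node (.node (.leaf 179745735371616)
 (.leaf 190883707988786))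
 (.node (.leaf 134900332621315)
 (.leaf 153400772273203)))
 (.node (.node (.leaf 38641379649631)
 (.leaf 102724394350722))
 (.node (.leaf 276034147923526)
 (.leaf 273122734369979))))
 (.node (.node (.node (.leaf 276808128751604)
 (.leaf 187543332439027))
 (.node (.leaf 1399329561472)
 (.leaf 77960022852755)))
 (.node (.node (.leaf 153951920235523)
 (.leaf 213002938965756))
 (.node (.leaf 148892606290966)
 (.leaf 224268125215288))))))
 (.node (.node (.node (.node (.node (.leaf 177443938797135)
 (.leaf 21798619150190))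
 (.node (.leaf 5637587015003)
 (.leaf 263275953038860)))
 (.node (.node (.leaf 10011623556976)
 (.leaf 202603577158578))
 (.node (.leaf 219416548464982)
 (.leaf 6900831132952))))
 (.node (.node (.node (.leaf 94793760880034)
 (.leaf 191844377120622))
 (.node (.leaf 241031719740898)
 (.leaf 217860770251712)))
 (.node (.node (.leaf 158593732633849)
 (.leaf 135604302391732))
 (.node (.leaf 246824081334100)
 (.leaf 171657402535160)))))
 (.node (.node (.node (.node (.leaf 173738981910293)
 (.leaf 257312510243717))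
 (.node (.leaf 254534461604351)
 (.leaf 277110872118000)))
 (.node (.node (.leaf 108109870187251)
 (.leaf 179609636239679))
 (.node (.leaf 161308735418842)
 (.leaf 19803228267833))))
 (.node (.node (.node (.leaf 114696523382544)
 (.leaf 211552349892451))
 (.node (.leaf 130299230473055)
 (.leaf 151417644224592)))
 (.node (.node (.leaf 195932516108390)
 (.leaf 179918158099936))
 (.node (.leaf 9625119686185)
 (.leaf 101040841447343))))))

def keyTB225 : RT := .node (.node (.node (.node (.node (.node (.leaf 105647651699711)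
 (.leaf 36839866851638))
 (.node (.leaf 157801586549758)
 (.leaf 145739176323274)))
 (.node (.node (.leaf 268393008847392)
 (.leaf 187555708492037))
 (.node (.leaf 248023289841753)
 (.leaf 22892383941997))))
 (.node (.node (.node (.leaf 265997179433964)
 (.leaf 105210378215793))
 (.node (.leaf 98164638292048)
 (.leaf 135975988546630)))
 (.node (.node (.leaf 104158096350472)
 (.leaf 215152152983316))
 (.node (.leaf 201677948954333)
 (.leaf 121745985385744)))))
 (.node (.node (.node (.node (.leaf 92309870060206)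
 (.leaf 48321977042032))
 (.node (.leaf 165406722169427)
 (.leaf 38151660315418)))
 (.node (.node (.leaf 197040800900057)
 (.leaf 283220124914))
 (.node (.leaf 52530802732256)
 (.leaf 154107723846294))))
 (.node (.node (.node (.leaf 188777409277214)
 (.leaf 209643483371032))
 (.node (.leaf 87616281423504)
 (.leaf 98633721270215)))
 (.node (.node (.leaf 16167915485456)
 (.leaf 223110817296479))
 (.node (.leaf 25615024064335)
 (.leaf 156523856537412))))))
 (.node (.node (.node (.node (.node (.leaf 248702298378113)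
 (.leaf 214686245668613))
 (.node (.leaf 248064338857550)
 (.leaf 132841920307628)))
 (.node (.node (.leaf 79790078071245)
 (.leaf 56545213672653))
 (.node (.leaf 66608400765086)
 (.leaf 94362334196169))))
 (.node (.node (.node (.leaf 153523565240441)
 (.leaf 168034363311821))
 (.node (.leaf 232935228890785)
 (.leaf 114233719879206)))
 (.node (.node (.leaf 87452024644282)
 (.leaf 176339025352035))
 (.node (.leaf 165210725392944)
 (.leaf 175215328059448)))))
 (.node (.node (.node (.node (.leaf 243323606348391)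
 (.leaf 10749817116431))
 (.node (.leaf 193020875906719)
 (.leaf 203441403772626)))
 (.node (.node (.leaf 124921457394458)
 (.leaf 257968628631361))
 (.node (.leaf 198892465992514)
 (.leaf 106777352542216))))
 (.node (.node (.node (.leaf 264399272011961)
 (.leaf 31130812629549))
 (.node (.leaf 154685628041483)
 (.leaf 122589070063533)))
 (.node (.node (.leaf 172285393925091)
 (.leaf 237404958737959))
 (.node (.leaf 1478377035977)
 (.leaf 176593032800226))))))

def keyTB226 : RT := .node (.node (.node (.node (.node (.node (.leaf 112003045737182)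
 (.leaf 145031927154788))
 (.node (.leaf 139493740000990)
 (.leaf 127427325633925)))
 (.node (.node (.leaf 100812951581817)
 (.leaf 40163544818540))
 (.node (.leaf 161270830103526)
 (.leaf 9835025745429))))
 (.node (.node (.node (.leaf 93676314340430)
 (.leaf 71828248781785))
 (.node (.leaf 186765606522002)
 (.leaf 49856582947926)))
 (.node (.node (.leaf 72894269540479)
 (.leaf 26763949991334))
 (.node (.leaf 104629130485304)
 (.leaf 212252124429613)))))
 (.node (.node (.node (.node (.leaf 163690319895712)
 (.leaf 264909400533867))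
 (.node (.leaf 212613812326344)
 (.leaf 152344236557971)))
 (.node (.node (.leaf 231454387905701)
 (.leaf 98167840864549))
 (.node (.leaf 222715850338514)
 (.leaf 133656762185733))))
 (.node (.node (.node (.leaf 140793737262955)
 (.leaf 48524355141360))
 (.node (.leaf 119547278728483)
 (.leaf 56570108064558)))
 (.node (.node (.leaf 124586406444507)
 (.leaf 60926732175857))
 (.node (.leaf 219353915688733)
 (.leaf 198535720905901))))))
 (.node (.node (.node (.node (.node (.leaf 197604573577562)
 (.leaf 127476560656987))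
 (.node (.leaf 27375586113162)
 (.leaf 189039384351421)))
 (.node (.node (.leaf 104685137389204)
 (.leaf 130130946772168))
 (.node (.leaf 33236006641481)
 (.leaf 224036537071954))))
 (.node (.node (.node (.leaf 147614812684807)
 (.leaf 57980821122160))
 (.node (.leaf 5370817161159)
 (.leaf 12021737293908)))
 (.node (.node (.leaf 57800695207932)
 (.leaf 41781594087654))
 (.node (.leaf 103632552217912)
 (.leaf 178987592858949)))))
 (.node (.node (.node (.node (.leaf 232309797169770)
 (.leaf 201704334125947))
 (.node (.leaf 167234207524625)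
 (.leaf 65957683100704)))
 (.node (.node (.leaf 32534730193533)
 (.leaf 77994274453886))
 (.node (.leaf 153972869075379)
 (.leaf 212988334307521))))
 (.node (.node (.node (.leaf 148854762303246)
 (.leaf 61693811979184))
 (.node (.leaf 48044462977512)
 (.leaf 47990278675216)))
 (.node (.node (.leaf 139307296248137)
 (.leaf 252121386891997))
 (.node (.leaf 9966274462873)
 (.leaf 254578735871511))))))

def keyTB227 : RT := .node (.node (.node (.node (.node (.node (.leaf 222706351202264)
 (.leaf 257269386908655))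
 (.node (.leaf 239205952048016)
 (.leaf 220948029740356)))
 (.node (.node (.leaf 201793263892553)
 (.leaf 192619473486976))
 (.node (.leaf 192307931044243)
 (.leaf 159277446663001))))
 (.node (.node (.node (.leaf 10923213461989)
 (.leaf 146939387767665))
 (.node (.leaf 7702834044689)
 (.leaf 195298109938046)))
 (.node (.node (.leaf 75967953535664)
 (.leaf 50642241430779))
 (.node (.leaf 253936007623190)
 (.leaf 236376946552002)))))
 (.node (.node (.node (.node (.leaf 180528767915909)
 (.leaf 203973947995081))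
 (.node (.leaf 84602037551567)
 (.leaf 4950223681000)))
 (.node (.node (.leaf 177811526958238)
 (.leaf 193274899806065))
 (.node (.leaf 277656857116826)
 (.leaf 81383038079218))))
 (.node (.node (.node (.leaf 35938795339717)
 (.leaf 5865979489383))
 (.node (.leaf 42998257537254)
 (.leaf 170591542248789)))
 (.node (.node (.leaf 3707015895147)
 (.leaf 2660956145832))
 (.node (.leaf 252417726767513)
 (.leaf 272903598578239))))))
 (.node (.node (.node (.node (.node (.leaf 181743865343567)
 (.leaf 167380960401984))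
 (.node (.leaf 219022432771806)
 (.leaf 198859207214480)))
 (.node (.node (.leaf 248778723257589)
 (.leaf 85568041848270))
 (.node (.leaf 220858857004411)
 (.leaf 202599097293796))))
 (.node (.node (.node (.leaf 26049507375456)
 (.leaf 76929576049573))
 (.node (.leaf 261059007297166)
 (.leaf 11662344548804)))
 (.node (.node (.leaf 233179350575875)
 (.leaf 63646819725851))
 (.node (.leaf 61900434489107)
 (.leaf 143918575400071)))))
 (.node (.node (.node (.node (.leaf 234905923094707)
 (.leaf 153596781457740))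
 (.node (.leaf 233867299339326)
 (.leaf 197645174388761)))
 (.node (.node (.leaf 193605201976199)
 (.leaf 256299036205895))
 (.node (.leaf 256116367827660)
 (.leaf 121882928764725))))
 (.node (.node (.node (.leaf 7011604603664)
 (.leaf 55534468002157))
 (.node (.leaf 192825514214579)
 (.leaf 220552420093462)))
 (.node (.node (.leaf 19912039386419)
 (.leaf 235554699515405))
 (.node (.leaf 109904847123836)
 (.leaf 242670734775890))))))

def keyTB228 : RT := .node (.node (.node (.node (.node (.node (.leaf 71999765028303)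
 (.leaf 156003337486361))
 (.node (.leaf 268297748325464)
 (.leaf 60921211930356)))
 (.node (.node (.leaf 222927260743680)
 (.leaf 152276155348296))
 (.node (.leaf 29166565770801)
 (.leaf 218466958095956))))
 (.node (.node (.node (.leaf 124072535778673)
 (.leaf 196909358324775))
 (.node (.leaf 2956249408311)
 (.leaf 261287536248403)))
 (.node (.node (.leaf 163701466158181)
 (.leaf 34914267978111))
 (.node (.leaf 48173455552350)
 (.leaf 209073640282511)))))
 (.node (.node (.node (.node (.leaf 214698859052287)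
 (.leaf 65280093300301))
 (.node (.leaf 143282496011469)
 (.leaf 164977861723967)))
 (.node (.node (.leaf 4351073088519)
 (.leaf 202376970455556))
 (.node (.leaf 136482877320290)
 (.leaf 243182359466004))))
 (.node (.node (.node (.leaf 242722253508676)
 (.leaf 36791881933820))
 (.node (.leaf 116858455990759)
 (.leaf 51393178105947)))
 (.node (.node (.leaf 121033628480588)
 (.leaf 232208193798641))
 (.node (.leaf 204853337410018)
 (.leaf 114571728011374))))))
 (.node (.node (.node (.node (.node (.leaf 104266577445668)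
 (.leaf 79212443738678))
 (.node (.leaf 67252022792409)
 (.leaf 244063724588539)))
 (.node (.node (.leaf 102059938181817)
 (.leaf 41015498287239))
 (.node (.leaf 270670781087324)
 (.leaf 197910252938124))))
 (.node (.node (.node (.leaf 133227733583727)
 (.leaf 213403087433496))
 (.node (.leaf 190935686184224)
 (.leaf 81449274855672)))
 (.node (.node (.leaf 132315324280601)
 (.leaf 225875868117800))
 (.node (.leaf 49001602334787)
 (.leaf 239780567453875)))))
 (.node (.node (.node (.node (.leaf 92312531167827)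
 (.leaf 48371723123338))
 (.node (.leaf 165390383093311)
 (.leaf 38176789177790)))
 (.node (.node (.leaf 9433463271698)
 (.leaf 112000034590553))
 (.node (.leaf 209998750358392)
 (.leaf 261282882664952))))
 (.node (.node (.node (.leaf 30173548755367)
 (.leaf 69394398298592))
 (.node (.leaf 277451677870796)
 (.leaf 184427226177621)))
 (.node (.node (.leaf 153118484252197)
 (.leaf 123658788766260))
 (.node (.leaf 209622525216784)
 (.leaf 274298345819377))))))

def keyTB229 : RT := .node (.node (.node (.node (.node (.node (.leaf 269681778700916)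
 (.leaf 186962787051555))
 (.node (.leaf 198623112493648)
 (.leaf 168494262243164)))
 (.node (.node (.leaf 149384022514590)
 (.leaf 41973108902486))
 (.node (.leaf 202806229461785)
 (.leaf 31828847985096))))
 (.node (.node (.node (.leaf 103534863192243)
 (.leaf 243209335347943))
 (.node (.leaf 6840964713907)
 (.leaf 104122335219201)))
 (.node (.node (.leaf 60785527333205)
 (.leaf 123889598676800))
 (.node (.leaf 189299575119583)
 (.leaf 71386540777385)))))
 (.node (.node (.node (.node (.leaf 59452452474962)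
 (.leaf 179723729792646))
 (.node (.leaf 247988953479437)
 (.leaf 133757894388780)))
 (.node (.node (.leaf 40175402242349)
 (.leaf 45612779431495))
 (.node (.leaf 64716412490883)
 (.leaf 115830857964882))))
 (.node (.node (.node (.leaf 242987915273459)
 (.leaf 66903441608804))
 (.node (.leaf 198760496301728)
 (.leaf 9113173782999)))
 (.node (.node (.leaf 203062706563246)
 (.leaf 257133429010004))
 (.node (.leaf 47215973463529)
 (.leaf 231332430380319))))))
 (.node (.node (.node (.node (.node (.leaf 175078116415360)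
 (.leaf 219771401685066))
 (.node (.leaf 99110267118920)
 (.leaf 205484216812551)))
 (.node (.node (.leaf 139028334977721)
 (.leaf 122532095961649))
 (.node (.leaf 85111218094166)
 (.leaf 240322674394396))))
 (.node (.node (.node (.leaf 175194390198658)
 (.leaf 156518844535163))
 (.node (.leaf 248743759870263)
 (.leaf 84490824541307)))
 (.node (.node (.leaf 45586133832204)
 (.leaf 222014650520736))
 (.node (.leaf 38457525238325)
 (.leaf 11846616207436)))))
 (.node (.node (.node (.node (.leaf 167836502359691)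
 (.leaf 104464261877979))
 (.node (.leaf 182204139412225)
 (.leaf 211132668040399)))
 (.node (.node (.leaf 65976026184433)
 (.leaf 83647691086635))
 (.node (.leaf 150169626056758)
 (.leaf 4368917849789))))
 (.node (.node (.node (.leaf 102071809396572)
 (.leaf 122111311675528))
 (.node (.leaf 176922412329323)
 (.leaf 26133914789636)))
 (.node (.node (.leaf 191712471378802)
 (.leaf 88737324112664))
 (.node (.leaf 178485894429121)
 (.leaf 129733207710176))))))

def keyTB230 : RT := .node (.node (.node (.node (.node (.node (.leaf 26459203844623)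
 (.leaf 240378895903740))
 (.node (.leaf 14440983271415)
 (.leaf 25504916408439)))
 (.node (.node (.leaf 209078584297471)
 (.leaf 259521999879464))
 (.node (.leaf 90749303917675)
 (.leaf 21477148808303))))
 (.node (.node (.node (.leaf 103693128960485)
 (.leaf 144874647847199))
 (.node (.leaf 198696164822206)
 (.leaf 28628283547942)))
 (.node (.node (.leaf 9038222841848)
 (.leaf 64742827327996))
 (.node (.leaf 6617490805280)
 (.leaf 165744904037948)))))
 (.node (.node (.node (.node (.leaf 25425541261849)
 (.leaf 18860661311570))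
 (.node (.leaf 178676720701661)
 (.leaf 139349410120909)))
 (.node (.node (.leaf 90331723143389)
 (.leaf 4618576735925))
 (.node (.leaf 261210328134256)
 (.leaf 56247735569101))))
 (.node (.node (.node (.leaf 75482157819275)
 (.leaf 137063418717434))
 (.node (.leaf 78824825366466)
 (.leaf 243974441625283)))
 (.node (.node (.leaf 175575208172219)
 (.leaf 229315896113821))
 (.node (.leaf 80348199562557)
 (.leaf 179342950082321))))))
 (.node (.node (.node (.node (.node (.leaf 179005404811025)
 (.leaf 157638402271533))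
 (.node (.leaf 3529135347640)
 (.leaf 43166475999117)))
 (.node (.node (.leaf 58299924088069)
 (.leaf 232645613257660))
 (.node (.leaf 269763985406937)
 (.leaf 164316976392299))))
 (.node (.node (.node (.leaf 91351236009942)
 (.leaf 177818924092436))
 (.node (.leaf 241168775524716)
 (.leaf 178390896632979)))
 (.node (.node (.leaf 118564991435779)
 (.leaf 255563956001837))
 (.node (.leaf 3489250928179)
 (.leaf 99775507973001)))))
 (.node (.node (.node (.node (.leaf 192822498727943)
 (.leaf 252160405462465))
 (.node (.leaf 224065320863828)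
 (.leaf 57983961447871)))
 (.node (.node (.leaf 12012945176756)
 (.leaf 57802898080303))
 (.node (.leaf 41836238183298)
 (.leaf 114759050477573))))
 (.node (.node (.node (.leaf 211534794325128)
 (.leaf 276823481806689))
 (.node (.leaf 33717120714593)
 (.leaf 82749820042594)))
 (.node (.node (.leaf 31361085206963)
 (.leaf 99362269324076))
 (.node (.leaf 8327875745292)
 (.leaf 135631971089330))))))

def keyTB231 : RT := .node (.node (.node (.node (.node (.node (.leaf 3857786370808)
 (.leaf 42294396621492))
 (.node (.leaf 25348169746090)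
 (.leaf 240411228407588)))
 (.node (.node (.leaf 158355676770825)
 (.leaf 192523775644057))
 (.node (.leaf 214187843777673)
 (.leaf 3205826455446))))
 (.node (.node (.node (.leaf 221198575171770)
 (.leaf 197619571954849))
 (.node (.leaf 33354455870480)
 (.leaf 84911833355443)))
 (.node (.node (.leaf 151393592098011)
 (.leaf 276372463307469))
 (.node (.leaf 73927010991087)
 (.leaf 63638649050444)))))
 (.node (.node (.node (.node (.leaf 61859812610433)
 (.leaf 4270164248474))
 (.node (.leaf 210840781914268)
 (.leaf 241162185723264)))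
 (.node (.node (.leaf 244001957929639)
 (.leaf 261670181652154))
 (.node (.leaf 211377998137884)
 (.leaf 99421126042392))))
 (.node (.node (.node (.leaf 101308759635687)
 (.leaf 22747516553196))
 (.node (.leaf 136970823481370)
 (.leaf 121897968943971)))
 (.node (.node (.leaf 64582272962618)
 (.leaf 259859060876995))
 (.node (.leaf 145186528484313)
 (.leaf 37276917625330))))))
 (.node (.node (.node (.node (.node (.leaf 247265265396683)
 (.leaf 269758119601956))
 (.node (.leaf 79434295555021)
 (.leaf 85296715942406)))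
 (.node (.node (.leaf 35338046208172)
 (.leaf 189512708942136))
 (.node (.leaf 176247881883747)
 (.leaf 230815663028081))))
 (.node (.node (.node (.leaf 138806867506739)
 (.leaf 164369730982613))
 (.node (.leaf 211478025507083)
 (.leaf 156182718299901)))
 (.node (.node (.leaf 67170033781781)
 (.leaf 247301255965324))
 (.node (.leaf 131335803441852)
 (.leaf 85401808196085)))))
 (.node (.node (.node (.node (.leaf 171122261873206)
 (.leaf 41009018179753))
 (.node (.leaf 269538811071016)
 (.leaf 184200304917899)))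
 (.node (.node (.leaf 268758533914368)
 (.leaf 55992585882853))
 (.node (.leaf 184564603997252)
 (.leaf 55080856138424))))
 (.node (.node (.node (.leaf 141224392349343)
 (.leaf 135300733035455))
 (.node (.leaf 255748962964666)
 (.leaf 38656237615991)))
 (.node (.node (.leaf 114642550544769)
 (.leaf 23832440851260))
 (.node (.leaf 22021389334424)
 (.leaf 115844079471904))))))

def keyTB232 : RT := .node (.node (.node (.node (.node (.node (.leaf 177875350510927)
 (.leaf 47611426459032))
 (.node (.leaf 177689559524327)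
 (.leaf 93019905308846)))
 (.node (.node (.leaf 64722016949149)
 (.leaf 191713625397876))
 (.node (.leaf 42719197991457)
 (.leaf 226167645334732))))
 (.node (.node (.node (.leaf 22364035554553)
 (.leaf 69529357431480))
 (.node (.leaf 30600808935777)
 (.leaf 17967593363528)))
 (.node (.node (.leaf 67264581869882)
 (.leaf 244026369424963))
 (.node (.leaf 81912159574172)
 (.leaf 176558630630779)))))
 (.node (.node (.node (.node (.leaf 139488805571171)
 (.leaf 22658510083449))
 (.node (.leaf 197041972762154)
 (.leaf 165229541363585)))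
 (.node (.node (.leaf 271496677675530)
 (.leaf 219468467339352))
 (.node (.leaf 170534668760494)
 (.leaf 155491114310797))))
 (.node (.node (.node (.leaf 177306505223311)
 (.leaf 69301171191949))
 (.node (.leaf 142456925892720)
 (.leaf 216689279053960)))
 (.node (.node (.leaf 100874507844648)
 (.leaf 276922168289504))
 (.node (.leaf 51677894512202)
 (.leaf 247975727461207))))))
 (.node (.node (.node (.node (.node (.leaf 190926014748564)
 (.leaf 98528877991098))
 (.node (.leaf 250592011455165)
 (.leaf 291728617929)))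
 (.node (.node (.leaf 34367183911720)
 (.leaf 243781648538526))
 (.node (.leaf 201994593655224)
 (.leaf 93003240092205))))
 (.node (.node (.node (.leaf 250558172717499)
 (.leaf 22372353006082))
 (.node (.leaf 6339990817344)
 (.leaf 110072635374477)))
 (.node (.node (.leaf 77350620006931)
 (.leaf 36834828622881))
 (.node (.leaf 226864230794183)
 (.leaf 246777762923025)))))
 (.node (.node (.node (.node (.leaf 146261807594353)
 (.leaf 16359418934742))
 (.node (.leaf 265568044554315)
 (.leaf 270393789845116)))
 (.node (.node (.leaf 235425353586909)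
 (.leaf 70710782494507))
 (.node (.leaf 276283892912256)
 (.leaf 146791436657156))))
 (.node (.node (.node (.leaf 157053478678290)
 (.leaf 134972447737511))
 (.node (.leaf 36914591998635)
 (.leaf 37681293399534)))
 (.node (.node (.leaf 65603838477566)
 (.leaf 77021236813868))
 (.node (.leaf 201084501502194)
 (.leaf 209791080647891))))))

def keyTB233 : RT := .node (.node (.node (.node (.node (.node (.leaf 200471337371227)
 (.leaf 183697534639500))
 (.node (.leaf 244547852663496)
 (.leaf 23564856484175)))
 (.node (.node (.leaf 54035021534712)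
 (.leaf 1023904474777))
 (.node (.leaf 172540055894177)
 (.leaf 43419037776223))))
 (.node (.node (.node (.leaf 105504429129935)
 (.leaf 89711272261245))
 (.node (.leaf 125118180044441)
 (.leaf 192743560390778)))
 (.node (.node (.leaf 739508084133)
 (.leaf 115535563859490))
 (.node (.leaf 131084859525199)
 (.leaf 88008801299394)))))
 (.node (.node (.node (.node (.leaf 76865816936994)
 (.leaf 154809914017668))
 (.node (.leaf 178585128784855)
 (.leaf 142171372901083)))
 (.node (.node (.leaf 95696129585353)
 (.leaf 123989786225902))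
 (.node (.leaf 235782364982788)
 (.leaf 73169699800569))))
 (.node (.node (.node (.leaf 103093464834951)
 (.leaf 224330341585414))
 (.node (.leaf 142395789267250)
 (.leaf 83733003120895)))
 (.node (.node (.leaf 276093051495627)
 (.leaf 271656224886952))
 (.node (.leaf 108048521525987)
 (.leaf 8963381771232))))))
 (.node (.node (.node (.node (.node (.leaf 187839113639516)
 (.leaf 50194287034187))
 (.node (.leaf 81226746478759)
 (.leaf 210129122814688)))
 (.node (.node (.leaf 195030029796540)
 (.leaf 191244330570534))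
 (.node (.leaf 278814419016885)
 (.leaf 124255446873514))))
 (.node (.node (.node (.leaf 233512347043172)
 (.leaf 173330849861857))
 (.node (.leaf 89761257360227)
 (.leaf 265304432274092)))
 (.node (.node (.leaf 241251359260465)
 (.leaf 166874316110287))
 (.node (.leaf 157330330999137)
 (.leaf 239312204425248)))))
 (.node (.node (.node (.node (.leaf 132354501273630)
 (.leaf 115982362100326))
 (.node (.leaf 148264559871640)
 (.leaf 38054836378968)))
 (.node (.node (.leaf 114897662893798)
 (.leaf 184929427383945))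
 (.node (.leaf 264590726942578)
 (.leaf 199362829542543))))
 (.node (.node (.node (.leaf 220036099185336)
 (.leaf 134475729371887))
 (.node (.leaf 136784122786057)
 (.leaf 129087230277672)))
 (.node (.node (.leaf 48885739877935)
 (.leaf 173202020573835))
 (.node (.leaf 192095179179050)
 (.leaf 149654091368936))))))

def keyT : RT := .node (.node (.node (.node (.node (.node (.node (.node (keyTB0)
 (keyTB1))
 (.node (keyTB2)
 (keyTB3)))
 (.node (.node (keyTB4)
 (keyTB5))
 (.node (keyTB6)
 (keyTB7))))
 (.node (.node (.node (keyTB8)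
 (keyTB9))
 (.node (keyTB10)
 (keyTB11)))
 (.node (.node (keyTB12)
 (keyTB13))
 (.node (keyTB14)
 (keyTB15)))))
 (.node (.node (.node (.node (keyTB16)
 (keyTB17))
 (.node (keyTB18)
 (keyTB19)))
 (.node (.node (keyTB20)
 (keyTB21))
 (.node (keyTB22)
 (keyTB23))))
 (.node (.node (.node (keyTB24)
 (keyTB25))
 (.node (keyTB26)
 (keyTB27)))
 (.node (.node (keyTB28)
 (keyTB29))
 (.node (keyTB30)
 (keyTB31))))))
 (.node (.node (.node (.node (.node (keyTB32)
 (keyTB33))
 (.node (keyTB34)
 (keyTB35)))
 (.node (.node (keyTB36)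
 (keyTB37))
 (.node (keyTB38)
 (keyTB39))))
 (.node (.node (.node (keyTB40)
 (keyTB41))
 (.node (keyTB42)
 (keyTB43)))
 (.node (.node (keyTB44)
 (keyTB45))
 (.node (keyTB46)
 (keyTB47)))))
 (.node (.node (.node (.node (keyTB48)
 (keyTB49))
 (.node (keyTB50)
 (keyTB51)))
 (.node (.node (keyTB52)
 (keyTB53))
 (.node (keyTB54)
 (keyTB55))))
 (.node (.node (.node (keyTB56)
 (keyTB57))
 (.node (keyTB58)
 (keyTB59)))
 (.node (.node (keyTB60)
 (keyTB61))
 (.node (keyTB62)
 (keyTB63)))))))
 (.node (.node (.node (.node (.node (.node (keyTB64)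
 (keyTB65))
 (.node (keyTB66)
 (keyTB67)))
 (.node (.node (keyTB68)
 (keyTB69))
 (.node (keyTB70)
 (keyTB71))))
 (.node (.node (.node (keyTB72)
 (keyTB73))
 (.node (keyTB74)
 (keyTB75)))
 (.node (.node (keyTB76)
 (keyTB77))
 (.node (keyTB78)
 (keyTB79)))))
 (.node (.node (.node (.node (keyTB80)
 (keyTB81))
 (.node (keyTB82)
 (keyTB83)))
 (.node (.node (keyTB84)
 (keyTB85))
 (.node (keyTB86)
 (keyTB87))))
 (.node (.node (.node (keyTB88)
 (keyTB89))
 (.node (keyTB90)
 (keyTB91)))
 (.node (.node (keyTB92)
 (keyTB93))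
 (.node (keyTB94)
 (keyTB95))))))
 (.node (.node (.node (.node (.node (keyTB96)
 (keyTB97))
 (.node (keyTB98)
 (keyTB99)))
 (.node (.node (keyTB100)
 (keyTB101))
 (.node (keyTB102)
 (keyTB103))))
 (.node (.node (.node (keyTB104)
 (keyTB105))
 (.node (keyTB106)
 (keyTB107)))
 (.node (.node (keyTB108)
 (keyTB109))
 (.node (keyTB110)
 (keyTB111)))))
 (.node (.node (.node (.node (keyTB112)
 (keyTB113))
 (.node (keyTB114)
 (keyTB115)))
 (.node (.node (keyTB116)
 (keyTB117))
 (.node (keyTB118)
 (keyTB119))))
 (.node (.node (.node (keyTB120)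
 (keyTB121))
 (.node (keyTB122)
 (keyTB123)))
 (.node (.node (keyTB124)
 (keyTB125))
 (.node (keyTB126)
 (keyTB127))))))))
 (.node (.node (.node (.node (.node (.node (.node (keyTB128)
 (keyTB129))
 (.node (keyTB130)
 (keyTB131)))
 (.node (.node (keyTB132)
 (keyTB133))
 (.node (keyTB134)
 (keyTB135))))
 (.node (.node (.node (keyTB136)
 (keyTB137))
 (.node (keyTB138)
 (keyTB139)))
 (.node (.node (keyTB140)
 (keyTB141))
 (.node (keyTB142)
 (keyTB143)))))
 (.node (.node (.node (.node (keyTB144)
 (keyTB145))
 (.node (keyTB146)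
 (keyTB147)))
 (.node (.node (keyTB148)
 (keyTB149))
 (.node (keyTB150)
 (keyTB151))))
 (.node (.node (.node (keyTB152)
 (keyTB153))
 (.node (keyTB154)
 (keyTB155)))
 (.node (.node (keyTB156)
 (keyTB157))
 (.node (keyTB158)
 (keyTB159))))))
 (.node (.node (.node (.node (.node (keyTB160)
 (keyTB161))
 (.node (keyTB162)
 (keyTB163)))
 (.node (.node (keyTB164)
 (keyTB165))
 (.node (keyTB166)
 (keyTB167))))
 (.node (.node (.node (keyTB168)
 (keyTB169))
 (.node (keyTB170)
 (keyTB171)))
 (.node (.node (keyTB172)
 (keyTB173))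
 (.node (keyTB174)
 (keyTB175)))))
 (.node (.node (.node (.node (keyTB176)
 (keyTB177))
 (.node (keyTB178)
 (keyTB179)))
 (.node (.node (keyTB180)
 (keyTB181))
 (.node (keyTB182)
 (keyTB183))))
 (.node (.node (.node (keyTB184)
 (keyTB185))
 (.node (keyTB186)
 (keyTB187)))
 (.node (.node (keyTB188)
 (keyTB189))
 (.node (keyTB190)
 (keyTB191)))))))
 (.node (.node (.node (.node (.node (.node (keyTB192)
 (keyTB193))
 (.node (keyTB194)
 (keyTB195)))
 (.node (.node (keyTB196)
 (keyTB197))
 (.node (keyTB198)
 (keyTB199))))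
 (.node (.node (.node (keyTB200)
 (keyTB201))
 (.node (keyTB202)
 (keyTB203)))
 (.node (.node (keyTB204)
 (keyTB205))
 (.node (keyTB206)
 (keyTB207)))))
 (.node (.node (.node (.node (keyTB208)
 (keyTB209))
 (.node (keyTB210)
 (keyTB211)))
 (.node (.node (keyTB212)
 (keyTB213))
 (.node (keyTB214)
 (keyTB215))))
 (.node (.node (.node (keyTB216)
 (keyTB217))
 (.node (keyTB218)
 (keyTB219)))
 (.node (.node (keyTB220)
 (keyTB221))
 (.node (keyTB222)
 (keyTB223))))))
 (.node (.node (.node (.node (.node (keyTB224)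
 (keyTB225))
 (.node (keyTB226)
 (keyTB227)))
 (.node (.node (keyTB228)
 (keyTB229))
 (.node (keyTB230)
 (keyTB231))))
 (.node (.node (.node (keyTB232)
 (keyTB233))
 (.node (.leaf 0)
 (.leaf 0)))
 (.node (.node (.leaf 0)
 (.leaf 0))
 (.node (.leaf 0)
 (.leaf 0)))))
 (.node (.node (.node (.node (.leaf 0)
 (.leaf 0))
 (.node (.leaf 0)
 (.leaf 0)))
 (.node (.node (.leaf 0)
 (.leaf 0))
 (.node (.leaf 0)
 (.leaf 0))))
 (.node (.node (.node (.leaf 0)
 (.leaf 0))
 (.node (.leaf 0)
 (.leaf 0)))
 (.node (.node (.leaf 0)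
 (.leaf 0))
 (.node (.leaf 0)
 (.leaf 0))))))))

def srtTB0 : RT := .node (.node (.node (.node (.node (.node (.leaf 12193)
 (.leaf 540))
 (.node (.leaf 2508)
 (.leaf 1074)))
 (.node (.node (.leaf 8323)
 (.leaf 1257))
 (.node (.leaf 13694)
 (.leaf 5577))))
 (.node (.node (.node (.leaf 5466)
 (.leaf 11760))
 (.node (.leaf 3)
 (.leaf 2334)))
 (.node (.node (.leaf 3556)
 (.leaf 1212))
 (.node (.leaf 6435)
 (.leaf 12295)))))
 (.node (.node (.node (.node (.leaf 13439)
 (.leaf 12001))
 (.node (.leaf 11645)
 (.leaf 1807)))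
 (.node (.node (.leaf 10692)
 (.leaf 10267))
 (.node (.leaf 11661)
 (.leaf 2995))))
 (.node (.node (.node (.leaf 4939)
 (.leaf 3398))
 (.node (.leaf 7492)
 (.leaf 3464)))
 (.node (.node (.leaf 1313)
 (.leaf 1018))
 (.node (.leaf 9066)
 (.leaf 8350))))))
 (.node (.node (.node (.node (.node (.leaf 12078)
 (.leaf 4389))
 (.node (.leaf 13986)
 (.leaf 12488)))
 (.node (.node (.leaf 10179)
 (.leaf 3207))
 (.node (.leaf 1673)
 (.leaf 9490))))
 (.node (.node (.node (.leaf 13376)
 (.leaf 10503))
 (.node (.leaf 3492)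
 (.leaf 2827)))
 (.node (.node (.leaf 11231)
 (.leaf 12254))
 (.node (.leaf 13462)
 (.leaf 13707)))))
 (.node (.node (.node (.node (.leaf 822)
 (.leaf 9238))
 (.node (.leaf 3812)
 (.leaf 8822)))
 (.node (.node (.leaf 12151)
 (.leaf 10496))
 (.node (.leaf 2863)
 (.leaf 10072))))
 (.node (.node (.node (.leaf 9934)
 (.leaf 8186))
 (.node (.leaf 3419)
 (.leaf 1474)))
 (.node (.node (.leaf 5206)
 (.leaf 14457))
 (.node (.leaf 11999)
 (.leaf 11059))))))

def srtTB1 : RT := .node (.node (.node (.node (.node (.node (.leaf 1597)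
 (.leaf 9808))
 (.node (.leaf 1327)
 (.leaf 5160)))
 (.node (.node (.leaf 11407)
 (.leaf 4914))
 (.node (.leaf 3996)
 (.leaf 3731))))
 (.node (.node (.node (.leaf 1112)
 (.leaf 3650))
 (.node (.leaf 3827)
 (.leaf 5926)))
 (.node (.node (.leaf 5178)
 (.leaf 8452))
 (.node (.leaf 10102)
 (.leaf 12459)))))
 (.node (.node (.node (.node (.leaf 4335)
 (.leaf 14509))
 (.node (.leaf 9358)
 (.leaf 1572)))
 (.node (.node (.leaf 8023)
 (.leaf 7688))
 (.node (.leaf 795)
 (.leaf 13960))))
 (.node (.node (.node (.leaf 1820)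
 (.leaf 7320))
 (.node (.leaf 5683)
 (.leaf 11303)))
 (.node (.node (.leaf 8372)
 (.leaf 3755))
 (.node (.leaf 8999)
 (.leaf 4177))))))
 (.node (.node (.node (.node (.node (.leaf 12067)
 (.leaf 1043))
 (.node (.leaf 6595)
 (.leaf 6717)))
 (.node (.node (.leaf 6816)
 (.leaf 7667))
 (.node (.leaf 1699)
 (.leaf 7545))))
 (.node (.node (.node (.leaf 4376)
 (.leaf 14197))
 (.node (.leaf 3500)
 (.leaf 9308)))
 (.node (.node (.leaf 9526)
 (.leaf 3872))
 (.node (.leaf 5435)
 (.leaf 11636)))))
 (.node (.node (.node (.node (.leaf 5142)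
 (.leaf 7724))
 (.node (.leaf 869)
 (.leaf 10851)))
 (.node (.node (.leaf 1726)
 (.leaf 2316))
 (.node (.leaf 7074)
 (.leaf 1037))))
 (.node (.node (.node (.leaf 7392)
 (.leaf 7663))
 (.node (.leaf 2977)
 (.leaf 7383)))
 (.node (.node (.leaf 9468)
 (.leaf 13203))
 (.node (.leaf 11238)
 (.leaf 2128))))))

def srtTB2 : RT := .node (.node (.node (.node (.node (.node (.leaf 8399)
 (.leaf 552))
 (.node (.leaf 11401)
 (.leaf 8017)))
 (.node (.node (.leaf 1370)
 (.leaf 14165))
 (.node (.leaf 14522)
 (.leaf 10454))))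
 (.node (.node (.node (.leaf 10170)
 (.leaf 9627))
 (.node (.leaf 8517)
 (.leaf 3693)))
 (.node (.node (.leaf 7139)
 (.leaf 1381))
 (.node (.leaf 5535)
 (.leaf 14638)))))
 (.node (.node (.node (.node (.leaf 5806)
 (.leaf 8410))
 (.node (.leaf 4050)
 (.leaf 3229)))
 (.node (.node (.leaf 12540)
 (.leaf 8848))
 (.node (.leaf 2911)
 (.leaf 12539))))
 (.node (.node (.node (.leaf 13457)
 (.leaf 14401))
 (.node (.leaf 6145)
 (.leaf 14663)))
 (.node (.node (.leaf 7566)
 (.leaf 14906))
 (.node (.leaf 8130)
 (.leaf 6656))))))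
 (.node (.node (.node (.node (.node (.leaf 12329)
 (.leaf 2917))
 (.node (.leaf 11446)
 (.leaf 13987)))
 (.node (.node (.leaf 6570)
 (.leaf 8949))
 (.node (.leaf 9663)
 (.leaf 8966))))
 (.node (.node (.node (.leaf 14419)
 (.leaf 11761))
 (.node (.leaf 4736)
 (.leaf 9395)))
 (.node (.node (.leaf 7297)
 (.leaf 13652))
 (.node (.leaf 10700)
 (.leaf 12447)))))
 (.node (.node (.node (.node (.leaf 1049)
 (.leaf 14602))
 (.node (.leaf 608)
 (.leaf 14584)))
 (.node (.node (.leaf 10548)
 (.leaf 8623))
 (.node (.leaf 14491)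
 (.leaf 12981))))
 (.node (.node (.node (.leaf 1326)
 (.leaf 195))
 (.node (.leaf 3196)
 (.leaf 7072)))
 (.node (.node (.leaf 10481)
 (.leaf 968))
 (.node (.leaf 851)
 (.leaf 14773))))))

def srtTB3 : RT := .node (.node (.node (.node (.node (.node (.leaf 7138)
 (.leaf 2879))
 (.node (.leaf 1841)
 (.leaf 4276)))
 (.node (.node (.leaf 2426)
 (.leaf 12776))
 (.node (.leaf 12832)
 (.leaf 10000))))
 (.node (.node (.node (.leaf 4254)
 (.leaf 920))
 (.node (.leaf 13930)
 (.leaf 7219)))
 (.node (.node (.leaf 12953)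
 (.leaf 5465))
 (.node (.leaf 751)
 (.leaf 14800)))))
 (.node (.node (.node (.node (.leaf 13907)
 (.leaf 14270))
 (.node (.leaf 11958)
 (.leaf 14573)))
 (.node (.node (.leaf 9641)
 (.leaf 12668))
 (.node (.leaf 2826)
 (.leaf 13709))))
 (.node (.node (.node (.leaf 3127)
 (.leaf 14733))
 (.node (.leaf 9255)
 (.leaf 9302)))
 (.node (.node (.leaf 13194)
 (.leaf 4828))
 (.node (.leaf 9002)
 (.leaf 8321))))))
 (.node (.node (.node (.node (.node (.leaf 9640)
 (.leaf 12584))
 (.node (.leaf 6849)
 (.leaf 777)))
 (.node (.node (.leaf 3806)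
 (.leaf 8868))
 (.node (.leaf 9773)
 (.leaf 3821))))
 (.node (.node (.node (.leaf 2824)
 (.leaf 14099))
 (.node (.leaf 13418)
 (.leaf 9205)))
 (.node (.node (.leaf 12385)
 (.leaf 14585))
 (.node (.leaf 12989)
 (.leaf 13579)))))
 (.node (.node (.node (.node (.leaf 12656)
 (.leaf 13033))
 (.node (.leaf 2795)
 (.leaf 14225)))
 (.node (.node (.leaf 6391)
 (.leaf 11047))
 (.node (.leaf 6873)
 (.leaf 2725))))
 (.node (.node (.node (.leaf 11492)
 (.leaf 13155))
 (.node (.leaf 12183)
 (.leaf 7693)))
 (.node (.node (.leaf 1354)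
 (.leaf 11474))
 (.node (.leaf 8739)
 (.leaf 6559))))))

def srtTB4 : RT := .node (.node (.node (.node (.node (.node (.leaf 2104)
 (.leaf 7449))
 (.node (.leaf 7780)
 (.leaf 1177)))
 (.node (.node (.leaf 6304)
 (.leaf 4354))
 (.node (.leaf 6195)
 (.leaf 4987))))
 (.node (.node (.node (.leaf 9876)
 (.leaf 6766))
 (.node (.leaf 467)
 (.leaf 173)))
 (.node (.node (.leaf 2245)
 (.leaf 10903))
 (.node (.leaf 2733)
 (.leaf 8493)))))
 (.node (.node (.node (.node (.leaf 10723)
 (.leaf 7326))
 (.node (.leaf 14473)
 (.leaf 12756)))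
 (.node (.node (.leaf 8324)
 (.leaf 1044))
 (.node (.leaf 8809)
 (.leaf 11170))))
 (.node (.node (.node (.leaf 9510)
 (.leaf 8938))
 (.node (.leaf 1140)
 (.leaf 9057)))
 (.node (.node (.leaf 8510)
 (.leaf 8468))
 (.node (.leaf 4380)
 (.leaf 6091))))))
 (.node (.node (.node (.node (.node (.leaf 5904)
 (.leaf 5156))
 (.node (.leaf 9261)
 (.leaf 7106)))
 (.node (.node (.leaf 2041)
 (.leaf 2428))
 (.node (.leaf 10637)
 (.leaf 5905))))
 (.node (.node (.node (.leaf 2660)
 (.leaf 5035))
 (.node (.leaf 7338)
 (.leaf 5981)))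
 (.node (.node (.leaf 12609)
 (.leaf 2240))
 (.node (.leaf 5063)
 (.leaf 11284)))))
 (.node (.node (.node (.node (.leaf 3300)
 (.leaf 14322))
 (.node (.leaf 10339)
 (.leaf 13764)))
 (.node (.node (.leaf 8280)
 (.leaf 3865))
 (.node (.leaf 12285)
 (.leaf 4611))))
 (.node (.node (.node (.leaf 9602)
 (.leaf 2566))
 (.node (.leaf 13304)
 (.leaf 13163)))
 (.node (.node (.leaf 9289)
 (.leaf 14))
 (.node (.leaf 7026)
 (.leaf 12678))))))

def srtTB5 : RT := .node (.node (.node (.node (.node (.node (.leaf 1059)
 (.leaf 7298))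
 (.node (.leaf 2936)
 (.leaf 6203)))
 (.node (.node (.leaf 6263)
 (.leaf 15))
 (.node (.leaf 14644)
 (.leaf 1695))))
 (.node (.node (.node (.leaf 7564)
 (.leaf 4368))
 (.node (.leaf 453)
 (.leaf 6006)))
 (.node (.node (.leaf 6257)
 (.leaf 13342))
 (.node (.leaf 4303)
 (.leaf 9481)))))
 (.node (.node (.node (.node (.leaf 14417)
 (.leaf 8373))
 (.node (.leaf 11241)
 (.leaf 956)))
 (.node (.node (.leaf 1245)
 (.leaf 3360))
 (.node (.leaf 10379)
 (.leaf 13170))))
 (.node (.node (.node (.leaf 9242)
 (.leaf 7993))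
 (.node (.leaf 2528)
 (.leaf 3597)))
 (.node (.node (.leaf 14438)
 (.leaf 14137))
 (.node (.leaf 3216)
 (.leaf 11371))))))
 (.node (.node (.node (.node (.node (.leaf 7494)
 (.leaf 10611))
 (.node (.leaf 10630)
 (.leaf 5533)))
 (.node (.node (.leaf 1946)
 (.leaf 10223))
 (.node (.leaf 11768)
 (.leaf 13528))))
 (.node (.node (.node (.leaf 10842)
 (.leaf 12624))
 (.node (.leaf 5823)
 (.leaf 7007)))
 (.node (.node (.leaf 9414)
 (.leaf 2302))
 (.node (.leaf 4752)
 (.leaf 12412)))))
 (.node (.node (.node (.node (.leaf 10397)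
 (.leaf 14436))
 (.node (.leaf 3474)
 (.leaf 4904)))
 (.node (.node (.leaf 2983)
 (.leaf 2451))
 (.node (.leaf 2297)
 (.leaf 6416))))
 (.node (.node (.node (.leaf 6690)
 (.leaf 13921))
 (.node (.leaf 4131)
 (.leaf 283)))
 (.node (.node (.leaf 766)
 (.leaf 13019))
 (.node (.leaf 2199)
 (.leaf 9999))))))

def srtTB6 : RT := .node (.node (.node (.node (.node (.node (.leaf 259)
 (.leaf 6012))
 (.node (.leaf 14526)
 (.leaf 12679)))
 (.node (.node (.leaf 4147)
 (.leaf 5247))
 (.node (.leaf 8284)
 (.leaf 9301))))
 (.node (.node (.node (.leaf 14551)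
 (.leaf 7718))
 (.node (.leaf 14635)
 (.leaf 1878)))
 (.node (.node (.leaf 4866)
 (.leaf 10779))
 (.node (.leaf 4772)
 (.leaf 12855)))))
 (.node (.node (.node (.node (.leaf 4360)
 (.leaf 9265))
 (.node (.leaf 6150)
 (.leaf 8245)))
 (.node (.node (.leaf 5589)
 (.leaf 7979))
 (.node (.leaf 14105)
 (.leaf 14152))))
 (.node (.node (.node (.leaf 2001)
 (.leaf 14108))
 (.node (.leaf 13873)
 (.leaf 1300)))
 (.node (.node (.leaf 5510)
 (.leaf 8011))
 (.node (.leaf 12163)
 (.leaf 302))))))
 (.node (.node (.node (.node (.node (.leaf 14734)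
 (.leaf 13905))
 (.node (.leaf 7300)
 (.leaf 6356)))
 (.node (.node (.leaf 5285)
 (.leaf 3075))
 (.node (.leaf 3156)
 (.leaf 13967))))
 (.node (.node (.node (.leaf 8078)
 (.leaf 6375))
 (.node (.leaf 7376)
 (.leaf 10156)))
 (.node (.node (.leaf 1124)
 (.leaf 10385))
 (.node (.leaf 6729)
 (.leaf 9187)))))
 (.node (.node (.node (.node (.leaf 12384)
 (.leaf 6672))
 (.node (.leaf 6863)
 (.leaf 2105)))
 (.node (.node (.leaf 7059)
 (.leaf 7198))
 (.node (.leaf 13192)
 (.leaf 2219))))
 (.node (.node (.node (.leaf 9779)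
 (.leaf 12737))
 (.node (.leaf 533)
 (.leaf 10681)))
 (.node (.node (.leaf 6957)
 (.leaf 13129))
 (.node (.leaf 9718)
 (.leaf 723))))))

def srtTB7 : RT := .node (.node (.node (.node (.node (.node (.leaf 9904)
 (.leaf 4652))
 (.node (.leaf 8897)
 (.leaf 2820)))
 (.node (.node (.leaf 201)
 (.leaf 1375))
 (.node (.leaf 13206)
 (.leaf 12460))))
 (.node (.node (.node (.leaf 11968)
 (.leaf 9016))
 (.node (.leaf 3968)
 (.leaf 12103)))
 (.node (.node (.leaf 6774)
 (.leaf 12070))
 (.node (.leaf 3774)
 (.leaf 9600)))))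
 (.node (.node (.node (.node (.leaf 14323)
 (.leaf 14421))
 (.node (.leaf 11105)
 (.leaf 7961)))
 (.node (.node (.leaf 1063)
 (.leaf 12482))
 (.node (.leaf 5381)
 (.leaf 12066))))
 (.node (.node (.node (.leaf 5736)
 (.leaf 3915))
 (.node (.leaf 14672)
 (.leaf 1290)))
 (.node (.node (.leaf 12581)
 (.leaf 13814))
 (.node (.leaf 1934)
 (.leaf 11277))))))
 (.node (.node (.node (.node (.node (.leaf 2957)
 (.leaf 9570))
 (.node (.leaf 5368)
 (.leaf 1545)))
 (.node (.node (.leaf 8850)
 (.leaf 2120))
 (.node (.leaf 12862)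
 (.leaf 3473))))
 (.node (.node (.node (.leaf 14212)
 (.leaf 3363))
 (.node (.leaf 5122)
 (.leaf 6533)))
 (.node (.node (.leaf 4965)
 (.leaf 1682))
 (.node (.leaf 8056)
 (.leaf 1751)))))
 (.node (.node (.node (.node (.leaf 3902)
 (.leaf 7048))
 (.node (.leaf 9042)
 (.leaf 11929)))
 (.node (.node (.leaf 5605)
 (.leaf 8454))
 (.node (.leaf 1859)
 (.leaf 9324))))
 (.node (.node (.node (.leaf 4996)
 (.leaf 2112))
 (.node (.leaf 6273)
 (.leaf 13116)))
 (.node (.node (.leaf 865)
 (.leaf 12083))
 (.node (.leaf 8955)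
 (.leaf 14612))))))

def srtTB8 : RT := .node (.node (.node (.node (.node (.node (.leaf 2403)
 (.leaf 5120))
 (.node (.leaf 10333)
 (.leaf 3769)))
 (.node (.node (.leaf 2014)
 (.leaf 6174))
 (.node (.leaf 6491)
 (.leaf 4897))))
 (.node (.node (.node (.leaf 1670)
 (.leaf 6142))
 (.node (.leaf 6156)
 (.leaf 512)))
 (.node (.node (.leaf 9087)
 (.leaf 8925))
 (.node (.leaf 3326)
 (.leaf 4874)))))
 (.node (.node (.node (.node (.leaf 5832)
 (.leaf 4899))
 (.node (.leaf 480)
 (.leaf 10490)))
 (.node (.node (.leaf 1665)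
 (.leaf 13827))
 (.node (.leaf 10438)
 (.leaf 310))))
 (.node (.node (.node (.leaf 6527)
 (.leaf 8481))
 (.node (.leaf 9826)
 (.leaf 4595)))
 (.node (.node (.leaf 10538)
 (.leaf 7453))
 (.node (.leaf 14244)
 (.leaf 2603))))))
 (.node (.node (.node (.node (.node (.leaf 1372)
 (.leaf 7771))
 (.node (.leaf 11283)
 (.leaf 10751)))
 (.node (.node (.leaf 6482)
 (.leaf 13442))
 (.node (.leaf 4096)
 (.leaf 2625))))
 (.node (.node (.node (.leaf 13446)
 (.leaf 6207))
 (.node (.leaf 5782)
 (.leaf 9794)))
 (.node (.node (.leaf 1874)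
 (.leaf 7285))
 (.node (.leaf 13343)
 (.leaf 2764)))))
 (.node (.node (.node (.node (.leaf 7567)
 (.leaf 10890))
 (.node (.leaf 14416)
 (.leaf 1873)))
 (.node (.node (.leaf 177)
 (.leaf 707))
 (.node (.leaf 6550)
 (.leaf 2935))))
 (.node (.node (.node (.leaf 12016)
 (.leaf 12053))
 (.node (.leaf 10277)
 (.leaf 1064)))
 (.node (.node (.leaf 13822)
 (.leaf 57))
 (.node (.leaf 3591)
 (.leaf 1007))))))

def srtTB9 : RT := .node (.node (.node (.node (.node (.node (.leaf 10756)
 (.leaf 3318))
 (.node (.leaf 7773)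
 (.leaf 10198)))
 (.node (.node (.leaf 2769)
 (.leaf 2440))
 (.node (.leaf 14799)
 (.leaf 3845))))
 (.node (.node (.node (.leaf 12367)
 (.leaf 7353))
 (.node (.leaf 8235)
 (.leaf 3659)))
 (.node (.node (.leaf 4186)
 (.leaf 8744))
 (.node (.leaf 8107)
 (.leaf 1891)))))
 (.node (.node (.node (.node (.leaf 8111)
 (.leaf 11106))
 (.node (.leaf 4579)
 (.leaf 1809)))
 (.node (.node (.leaf 4425)
 (.leaf 8359))
 (.node (.leaf 13958)
 (.leaf 2948))))
 (.node (.node (.node (.leaf 12368)
 (.leaf 5893))
 (.node (.leaf 7022)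
 (.leaf 10571)))
 (.node (.node (.leaf 161)
 (.leaf 11530))
 (.node (.leaf 7516)
 (.leaf 6678))))))
 (.node (.node (.node (.node (.node (.leaf 12312)
 (.leaf 3520))
 (.node (.leaf 1974)
 (.leaf 4412)))
 (.node (.node (.leaf 471)
 (.leaf 12752))
 (.node (.leaf 4057)
 (.leaf 7053))))
 (.node (.node (.node (.leaf 10725)
 (.leaf 1234))
 (.node (.leaf 5650)
 (.leaf 7147)))
 (.node (.node (.leaf 3027)
 (.leaf 10036))
 (.node (.leaf 13180)
 (.leaf 12238)))))
 (.node (.node (.node (.node (.leaf 10395)
 (.leaf 2523))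
 (.node (.leaf 13738)
 (.leaf 11580)))
 (.node (.node (.leaf 2953)
 (.leaf 7082))
 (.node (.leaf 11436)
 (.leaf 11113))))
 (.node (.node (.node (.leaf 7755)
 (.leaf 3946))
 (.node (.leaf 6025)
 (.leaf 5281)))
 (.node (.node (.leaf 11009)
 (.leaf 3943))
 (.node (.leaf 13947)
 (.leaf 595))))))

def srtTB10 : RT := .node (.node (.node (.node (.node (.node (.leaf 4377)
 (.leaf 14204))
 (.node (.leaf 2691)
 (.leaf 5066)))
 (.node (.node (.leaf 6218)
 (.leaf 3531))
 (.node (.leaf 7202)
 (.leaf 10605))))
 (.node (.node (.node (.leaf 12444)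
 (.leaf 12161))
 (.node (.leaf 764)
 (.leaf 9427)))
 (.node (.node (.leaf 14048)
 (.leaf 7512))
 (.node (.leaf 2476)
 (.leaf 10275)))))
 (.node (.node (.node (.node (.leaf 1913)
 (.leaf 6700))
 (.node (.leaf 2130)
 (.leaf 5828)))
 (.node (.node (.leaf 172)
 (.leaf 5909))
 (.node (.leaf 8815)
 (.leaf 9713))))
 (.node (.node (.node (.leaf 8172)
 (.leaf 5754))
 (.node (.leaf 12188)
 (.leaf 10365)))
 (.node (.node (.leaf 8906)
 (.leaf 2629))
 (.node (.leaf 3896)
 (.leaf 11683))))))
 (.node (.node (.node (.node (.node (.leaf 11852)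
 (.leaf 91))
 (.node (.leaf 9809)
 (.leaf 5210)))
 (.node (.node (.leaf 11795)
 (.leaf 3688))
 (.node (.leaf 13751)
 (.leaf 11374))))
 (.node (.node (.node (.leaf 12471)
 (.leaf 11002))
 (.node (.leaf 7853)
 (.leaf 14858)))
 (.node (.node (.leaf 7166)
 (.leaf 6107))
 (.node (.leaf 11564)
 (.leaf 3960)))))
 (.node (.node (.node (.node (.leaf 8988)
 (.leaf 11730))
 (.node (.leaf 388)
 (.leaf 4463)))
 (.node (.node (.leaf 12451)
 (.leaf 401))
 (.node (.leaf 1689)
 (.leaf 5856))))
 (.node (.node (.node (.leaf 13224)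
 (.leaf 928))
 (.node (.leaf 7792)
 (.leaf 127)))
 (.node (.node (.leaf 8644)
 (.leaf 12008))
 (.node (.leaf 4152)
 (.leaf 760))))))

def srtTB11 : RT := .node (.node (.node (.node (.node (.node (.leaf 12904)
 (.leaf 11524))
 (.node (.leaf 8183)
 (.leaf 10321)))
 (.node (.node (.leaf 5053)
 (.leaf 6581))
 (.node (.leaf 7634)
 (.leaf 9687))))
 (.node (.node (.node (.leaf 983)
 (.leaf 6530))
 (.node (.leaf 8967)
 (.leaf 6900)))
 (.node (.node (.leaf 3639)
 (.leaf 3195))
 (.node (.leaf 7403)
 (.leaf 9462)))))
 (.node (.node (.node (.node (.leaf 3070)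
 (.leaf 490))
 (.node (.leaf 10657)
 (.leaf 12594)))
 (.node (.node (.leaf 14690)
 (.leaf 9270))
 (.node (.leaf 8173)
 (.leaf 6536))))
 (.node (.node (.node (.leaf 11085)
 (.leaf 8273))
 (.node (.leaf 4818)
 (.leaf 7282)))
 (.node (.node (.leaf 14238)
 (.leaf 3382))
 (.node (.leaf 4775)
 (.leaf 635))))))
 (.node (.node (.node (.node (.node (.leaf 6881)
 (.leaf 3712))
 (.node (.leaf 466)
 (.leaf 9463)))
 (.node (.node (.leaf 12923)
 (.leaf 5473))
 (.node (.leaf 7858)
 (.leaf 2480))))
 (.node (.node (.node (.leaf 9910)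
 (.leaf 8128))
 (.node (.leaf 972)
 (.leaf 3885)))
 (.node (.node (.leaf 4991)
 (.leaf 4409))
 (.node (.leaf 6685)
 (.leaf 11370)))))
 (.node (.node (.node (.node (.leaf 5911)
 (.leaf 439))
 (.node (.leaf 2966)
 (.leaf 13258)))
 (.node (.node (.leaf 13758)
 (.leaf 470))
 (.node (.leaf 9204)
 (.leaf 8147))))
 (.node (.node (.node (.leaf 2951)
 (.leaf 11193))
 (.node (.leaf 826)
 (.leaf 4908)))
 (.node (.node (.leaf 1690)
 (.leaf 409))
 (.node (.leaf 11909)
 (.leaf 3117))))))

def srtTB12 : RT := .node (.node (.node (.node (.node (.node (.leaf 9027)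
 (.leaf 2102))
 (.node (.leaf 11826)
 (.leaf 10220)))
 (.node (.node (.leaf 14468)
 (.leaf 9643))
 (.node (.leaf 9232)
 (.leaf 12750))))
 (.node (.node (.node (.leaf 8491)
 (.leaf 4400))
 (.node (.leaf 5805)
 (.leaf 10761)))
 (.node (.node (.leaf 11439)
 (.leaf 2897))
 (.node (.leaf 4383)
 (.leaf 9056)))))
 (.node (.node (.node (.node (.leaf 4639)
 (.leaf 1436))
 (.node (.leaf 9501)
 (.leaf 11706)))
 (.node (.node (.leaf 10987)
 (.leaf 300))
 (.node (.leaf 193)
 (.leaf 6260))))
 (.node (.node (.node (.leaf 10521)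
 (.leaf 7656))
 (.node (.leaf 938)
 (.leaf 8518)))
 (.node (.node (.leaf 2443)
 (.leaf 8497))
 (.node (.leaf 2106)
 (.leaf 1191))))))
 (.node (.node (.node (.node (.node (.leaf 3080)
 (.leaf 2583))
 (.node (.leaf 4494)
 (.leaf 8683)))
 (.node (.node (.leaf 6349)
 (.leaf 3956))
 (.node (.leaf 8608)
 (.leaf 12158))))
 (.node (.node (.node (.leaf 7807)
 (.leaf 2535))
 (.node (.leaf 11815)
 (.leaf 5010)))
 (.node (.node (.leaf 4014)
 (.leaf 12060))
 (.node (.leaf 6899)
 (.leaf 3624)))))
 (.node (.node (.node (.node (.leaf 14628)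
 (.leaf 14035))
 (.node (.leaf 3137)
 (.leaf 2923)))
 (.node (.node (.leaf 14780)
 (.leaf 10167))
 (.node (.leaf 4867)
 (.leaf 8634))))
 (.node (.node (.node (.leaf 11749)
 (.leaf 12676))
 (.node (.leaf 1362)
 (.leaf 8899)))
 (.node (.node (.leaf 10526)
 (.leaf 13298))
 (.node (.leaf 29)
 (.leaf 6021))))))

def srtTB13 : RT := .node (.node (.node (.node (.node (.node (.leaf 14897)
 (.leaf 8592))
 (.node (.leaf 8521)
 (.leaf 14700)))
 (.node (.node (.leaf 11593)
 (.leaf 12217))
 (.node (.leaf 7256)
 (.leaf 7272))))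
 (.node (.node (.node (.leaf 12015)
 (.leaf 3973))
 (.node (.leaf 873)
 (.leaf 5112)))
 (.node (.node (.leaf 5289)
 (.leaf 2889))
 (.node (.leaf 14936)
 (.leaf 11639)))))
 (.node (.node (.node (.node (.leaf 8755)
 (.leaf 2856))
 (.node (.leaf 5207)
 (.leaf 254)))
 (.node (.node (.leaf 1973)
 (.leaf 10042))
 (.node (.leaf 12137)
 (.leaf 12950))))
 (.node (.node (.node (.leaf 951)
 (.leaf 937))
 (.node (.leaf 10536)
 (.leaf 2216)))
 (.node (.node (.leaf 6532)
 (.leaf 13428))
 (.node (.leaf 4087)
 (.leaf 13494))))))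
 (.node (.node (.node (.node (.node (.leaf 1777)
 (.leaf 6543))
 (.node (.leaf 2038)
 (.leaf 59)))
 (.node (.node (.leaf 587)
 (.leaf 10762))
 (.node (.leaf 14186)
 (.leaf 13983))))
 (.node (.node (.node (.leaf 14547)
 (.leaf 1467))
 (.node (.leaf 10935)
 (.leaf 12229)))
 (.node (.node (.leaf 14686)
 (.leaf 6403))
 (.node (.leaf 662)
 (.leaf 9071)))))
 (.node (.node (.node (.node (.leaf 3830)
 (.leaf 1869))
 (.node (.leaf 3628)
 (.leaf 11312)))
 (.node (.node (.leaf 10879)
 (.leaf 4318))
 (.node (.leaf 14064)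
 (.leaf 2149))))
 (.node (.node (.node (.leaf 14946)
 (.leaf 6508))
 (.node (.leaf 13105)
 (.leaf 9933)))
 (.node (.node (.leaf 9545)
 (.leaf 811))
 (.node (.leaf 14624)
 (.leaf 7078))))))

def srtTB14 : RT := .node (.node (.node (.node (.node (.node (.leaf 6653)
 (.leaf 5954))
 (.node (.leaf 14907)
 (.leaf 14705)))
 (.node (.node (.leaf 14000)
 (.leaf 374))
 (.node (.leaf 2378)
 (.leaf 14370))))
 (.node (.node (.node (.leaf 9872)
 (.leaf 12235))
 (.node (.leaf 952)
 (.leaf 7789)))
 (.node (.node (.leaf 6453)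
 (.leaf 1603))
 (.node (.leaf 13686)
 (.leaf 918)))))
 (.node (.node (.node (.node (.leaf 5412)
 (.leaf 1720))
 (.node (.leaf 4398)
 (.leaf 4845)))
 (.node (.node (.leaf 5586)
 (.leaf 14916))
 (.node (.leaf 5271)
 (.leaf 6706))))
 (.node (.node (.node (.leaf 5277)
 (.leaf 5685))
 (.node (.leaf 1678)
 (.leaf 6868)))
 (.node (.node (.leaf 2293)
 (.leaf 14409))
 (.node (.leaf 10108)
 (.leaf 13727))))))
 (.node (.node (.node (.node (.node (.leaf 4707)
 (.leaf 2140))
 (.node (.leaf 1876)
 (.leaf 14920)))
 (.node (.node (.leaf 3091)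
 (.leaf 14887))
 (.node (.leaf 13482)
 (.leaf 13643))))
 (.node (.node (.node (.leaf 13592)
 (.leaf 4795))
 (.node (.leaf 14756)
 (.leaf 883)))
 (.node (.node (.leaf 342)
 (.leaf 5995))
 (.node (.leaf 4783)
 (.leaf 8440)))))
 (.node (.node (.node (.node (.leaf 3174)
 (.leaf 14782))
 (.node (.leaf 13037)
 (.leaf 13392)))
 (.node (.node (.leaf 2751)
 (.leaf 9854))
 (.node (.leaf 494)
 (.leaf 11235))))
 (.node (.node (.node (.leaf 5337)
 (.leaf 3252))
 (.node (.leaf 9021)
 (.leaf 11211)))
 (.node (.node (.leaf 609)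
 (.leaf 5201))
 (.node (.leaf 10586)
 (.leaf 2835))))))

def srtTB15 : RT := .node (.node (.node (.node (.node (.node (.leaf 3893)
 (.leaf 7130))
 (.node (.leaf 10254)
 (.leaf 8652)))
 (.node (.node (.leaf 14471)
 (.leaf 10881))
 (.node (.leaf 13793)
 (.leaf 11045))))
 (.node (.node (.node (.leaf 1289)
 (.leaf 10061))
 (.node (.leaf 11803)
 (.leaf 8156)))
 (.node (.node (.leaf 14883)
 (.leaf 12851))
 (.node (.leaf 6525)
 (.leaf 13948)))))
 (.node (.node (.node (.node (.leaf 13352)
 (.leaf 515))
 (.node (.leaf 10398)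
 (.leaf 4820)))
 (.node (.node (.leaf 6092)
 (.leaf 2517))
 (.node (.leaf 5085)
 (.leaf 6291))))
 (.node (.node (.node (.leaf 8310)
 (.leaf 1792))
 (.node (.leaf 3587)
 (.leaf 4748)))
 (.node (.node (.leaf 9326)
 (.leaf 1953))
 (.node (.leaf 4681)
 (.leaf 4173))))))
 (.node (.node (.node (.node (.node (.leaf 5107)
 (.leaf 6437))
 (.node (.leaf 1506)
 (.leaf 8225)))
 (.node (.node (.leaf 4975)
 (.leaf 1348))
 (.node (.leaf 7727)
 (.leaf 6059))))
 (.node (.node (.node (.leaf 12813)
 (.leaf 11423))
 (.node (.leaf 2521)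
 (.leaf 12835)))
 (.node (.node (.leaf 10166)
 (.leaf 10274))
 (.node (.leaf 13840)
 (.leaf 7717)))))
 (.node (.node (.node (.node (.leaf 10011)
 (.leaf 9464))
 (.node (.leaf 1075)
 (.leaf 10592)))
 (.node (.node (.leaf 8760)
 (.leaf 11693))
 (.node (.leaf 12765)
 (.leaf 11352))))
 (.node (.node (.node (.leaf 11438)
 (.leaf 2552))
 (.node (.leaf 7203)
 (.leaf 9583)))
 (.node (.node (.leaf 14391)
 (.leaf 6360))
 (.node (.leaf 11233)
 (.leaf 5050))))))

def srtTB16 : RT := .node (.node (.node (.node (.node (.node (.leaf 8075)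
 (.leaf 1243))
 (.node (.leaf 14972)
 (.leaf 9807)))
 (.node (.node (.leaf 3780)
 (.leaf 8799))
 (.node (.leaf 8707)
 (.leaf 4071))))
 (.node (.node (.node (.leaf 13945)
 (.leaf 12787))
 (.node (.leaf 7767)
 (.leaf 1589)))
 (.node (.node (.leaf 11989)
 (.leaf 2589))
 (.node (.leaf 10632)
 (.leaf 2875)))))
 (.node (.node (.node (.node (.leaf 3155)
 (.leaf 3018))
 (.node (.leaf 963)
 (.leaf 6298)))
 (.node (.node (.leaf 8495)
 (.leaf 1607))
 (.node (.leaf 2542)
 (.leaf 139))))
 (.node (.node (.node (.leaf 12677)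
 (.leaf 13039))
 (.node (.leaf 4690)
 (.leaf 10041)))
 (.node (.node (.leaf 13743)
 (.leaf 9594))
 (.node (.leaf 12030)
 (.leaf 4805))))))
 (.node (.node (.node (.node (.node (.leaf 9339)
 (.leaf 144))
 (.node (.leaf 9153)
 (.leaf 3058)))
 (.node (.node (.leaf 5478)
 (.leaf 5812))
 (.node (.leaf 1406)
 (.leaf 8446))))
 (.node (.node (.node (.leaf 11772)
 (.leaf 8578))
 (.node (.leaf 11696)
 (.leaf 183)))
 (.node (.node (.leaf 6921)
 (.leaf 12339))
 (.node (.leaf 4227)
 (.leaf 7395)))))
 (.node (.node (.node (.node (.leaf 14304)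
 (.leaf 3927))
 (.node (.leaf 3095)
 (.leaf 11481)))
 (.node (.node (.leaf 8390)
 (.leaf 3048))
 (.node (.leaf 13089)
 (.leaf 7488))))
 (.node (.node (.node (.leaf 14590)
 (.leaf 13817))
 (.node (.leaf 3648)
 (.leaf 3775)))
 (.node (.node (.leaf 7293)
 (.leaf 14703))
 (.node (.leaf 12804)
 (.leaf 7541))))))

def srtTB17 : RT := .node (.node (.node (.node (.node (.node (.leaf 9946)
 (.leaf 446))
 (.node (.leaf 9269)
 (.leaf 808)))
 (.node (.node (.leaf 9338)
 (.leaf 11541))
 (.node (.leaf 9363)
 (.leaf 7591))))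
 (.node (.node (.node (.leaf 14617)
 (.leaf 8008))
 (.node (.leaf 9208)
 (.leaf 6824)))
 (.node (.node (.leaf 14228)
 (.leaf 14217))
 (.node (.leaf 708)
 (.leaf 12300)))))
 (.node (.node (.node (.node (.leaf 13067)
 (.leaf 1360))
 (.node (.leaf 7252)
 (.leaf 678)))
 (.node (.node (.leaf 6611)
 (.leaf 8975))
 (.node (.leaf 8580)
 (.leaf 2736))))
 (.node (.node (.node (.leaf 9257)
 (.leaf 7490))
 (.node (.leaf 3808)
 (.leaf 10759)))
 (.node (.node (.leaf 13311)
 (.leaf 6339))
 (.node (.leaf 445)
 (.leaf 11532))))))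
 (.node (.node (.node (.node (.node (.leaf 4741)
 (.leaf 13924))
 (.node (.leaf 9388)
 (.leaf 1227)))
 (.node (.node (.leaf 8222)
 (.leaf 66))
 (.node (.leaf 2390)
 (.leaf 8294))))
 (.node (.node (.node (.leaf 3414)
 (.leaf 1826))
 (.node (.leaf 12790)
 (.leaf 14546)))
 (.node (.node (.leaf 11280)
 (.leaf 13732))
 (.node (.leaf 3536)
 (.leaf 8780)))))
 (.node (.node (.node (.node (.leaf 4155)
 (.leaf 3689))
 (.node (.leaf 1882)
 (.leaf 5608)))
 (.node (.node (.leaf 6220)
 (.leaf 6408))
 (.node (.leaf 3244)
 (.leaf 5416))))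
 (.node (.node (.node (.leaf 1979)
 (.leaf 14253))
 (.node (.leaf 5677)
 (.leaf 13973)))
 (.node (.node (.leaf 3035)
 (.leaf 8138))
 (.node (.leaf 10730)
 (.leaf 323))))))

def srtTB18 : RT := .node (.node (.node (.node (.node (.node (.leaf 9949)
 (.leaf 5269))
 (.node (.leaf 1900)
 (.leaf 5726)))
 (.node (.node (.leaf 11801)
 (.leaf 5674))
 (.node (.leaf 3918)
 (.leaf 10763))))
 (.node (.node (.node (.leaf 9019)
 (.leaf 10434))
 (.node (.leaf 749)
 (.leaf 5922)))
 (.node (.node (.leaf 2495)
 (.leaf 4495))
 (.node (.leaf 12845)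
 (.leaf 6931)))))
 (.node (.node (.node (.node (.leaf 2)
 (.leaf 8987))
 (.node (.leaf 8347)
 (.leaf 11971)))
 (.node (.node (.leaf 3959)
 (.leaf 557))
 (.node (.leaf 1462)
 (.leaf 3124))))
 (.node (.node (.node (.leaf 11653)
 (.leaf 1116))
 (.node (.leaf 1433)
 (.leaf 12082)))
 (.node (.node (.leaf 4256)
 (.leaf 4337))
 (.node (.leaf 12214)
 (.leaf 9447))))))
 (.node (.node (.node (.node (.node (.leaf 10196)
 (.leaf 8894))
 (.node (.leaf 8778)
 (.leaf 10188)))
 (.node (.node (.leaf 12529)
 (.leaf 11064))
 (.node (.leaf 5319)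
 (.leaf 3297))))
 (.node (.node (.node (.leaf 8116)
 (.leaf 1502))
 (.node (.leaf 3599)
 (.leaf 6135)))
 (.node (.node (.leaf 8466)
 (.leaf 11343))
 (.node (.leaf 7852)
 (.leaf 12027)))))
 (.node (.node (.node (.node (.leaf 2969)
 (.leaf 1307))
 (.node (.leaf 4698)
 (.leaf 3121)))
 (.node (.node (.leaf 6413)
 (.leaf 7959))
 (.node (.leaf 14275)
 (.leaf 8108))))
 (.node (.node (.node (.leaf 13704)
 (.leaf 14443))
 (.node (.leaf 3521)
 (.leaf 393)))
 (.node (.node (.leaf 3458)
 (.leaf 4099))
 (.node (.leaf 8661)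
 (.leaf 5839))))))

def srtTB19 : RT := .node (.node (.node (.node (.node (.node (.leaf 7190)
 (.leaf 11468))
 (.node (.leaf 10239)
 (.leaf 3273)))
 (.node (.node (.leaf 5858)
 (.leaf 11786))
 (.node (.leaf 8602)
 (.leaf 3315))))
 (.node (.node (.node (.leaf 11965)
 (.leaf 12483))
 (.node (.leaf 14623)
 (.leaf 13517)))
 (.node (.node (.leaf 10303)
 (.leaf 791))
 (.node (.leaf 3707)
 (.leaf 13661)))))
 (.node (.node (.node (.node (.leaf 11180)
 (.leaf 11563))
 (.node (.leaf 7087)
 (.leaf 6258)))
 (.node (.node (.leaf 12438)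
 (.leaf 11236))
 (.node (.leaf 7696)
 (.leaf 12685))))
 (.node (.node (.node (.leaf 185)
 (.leaf 9074))
 (.node (.leaf 11875)
 (.leaf 1455)))
 (.node (.node (.leaf 4972)
 (.leaf 9101))
 (.node (.leaf 1879)
 (.leaf 2667))))))
 (.node (.node (.node (.node (.node (.leaf 2468)
 (.leaf 1226))
 (.node (.leaf 1256)
 (.leaf 13161)))
 (.node (.node (.leaf 13909)
 (.leaf 7637))
 (.node (.leaf 12436)
 (.leaf 6696))))
 (.node (.node (.node (.leaf 6703)
 (.leaf 3507))
 (.node (.leaf 5965)
 (.leaf 8251)))
 (.node (.node (.leaf 13551)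
 (.leaf 10783))
 (.node (.leaf 14498)
 (.leaf 13673)))))
 (.node (.node (.node (.node (.leaf 2602)
 (.leaf 10001))
 (.node (.leaf 7324)
 (.leaf 4431)))
 (.node (.node (.leaf 13619)
 (.leaf 9370))
 (.node (.leaf 6140)
 (.leaf 10026))))
 (.node (.node (.node (.leaf 11092)
 (.leaf 14388))
 (.node (.leaf 12913)
 (.leaf 6569)))
 (.node (.node (.leaf 14183)
 (.leaf 13739))
 (.node (.leaf 857)
 (.leaf 2918))))))

def srtTB20 : RT := .node (.node (.node (.node (.node (.node (.leaf 9551)
 (.leaf 11257))
 (.node (.leaf 14439)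
 (.leaf 14744)))
 (.node (.node (.leaf 2724)
 (.leaf 10889))
 (.node (.leaf 923)
 (.leaf 14177))))
 (.node (.node (.node (.leaf 13136)
 (.leaf 1459))
 (.node (.leaf 6819)
 (.leaf 2722)))
 (.node (.node (.leaf 5328)
 (.leaf 2393))
 (.node (.leaf 14925)
 (.leaf 10984)))))
 (.node (.node (.node (.node (.leaf 5688)
 (.leaf 4676))
 (.node (.leaf 2811)
 (.leaf 11268)))
 (.node (.node (.leaf 13464)
 (.leaf 4122))
 (.node (.leaf 12688)
 (.leaf 7146))))
 (.node (.node (.node (.leaf 6733)
 (.leaf 12944))
 (.node (.leaf 4653)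
 (.leaf 4238)))
 (.node (.node (.leaf 7129)
 (.leaf 11))
 (.node (.leaf 2195)
 (.leaf 2144))))))
 (.node (.node (.node (.node (.node (.leaf 2844)
 (.leaf 8067))
 (.node (.leaf 1233)
 (.leaf 2543)))
 (.node (.node (.leaf 8393)
 (.leaf 5766))
 (.node (.leaf 6576)
 (.leaf 7128))))
 (.node (.node (.node (.leaf 1702)
 (.leaf 3293))
 (.node (.leaf 1225)
 (.leaf 3292)))
 (.node (.node (.leaf 7127)
 (.leaf 14290))
 (.node (.leaf 3019)
 (.leaf 3097)))))
 (.node (.node (.node (.node (.leaf 10211)
 (.leaf 14407))
 (.node (.leaf 8046)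
 (.leaf 4369)))
 (.node (.node (.leaf 10360)
 (.leaf 2224))
 (.node (.leaf 12258)
 (.leaf 4517))))
 (.node (.node (.node (.leaf 606)
 (.leaf 13274))
 (.node (.leaf 10598)
 (.leaf 13451)))
 (.node (.node (.leaf 7452)
 (.leaf 9586))
 (.node (.leaf 7236)
 (.leaf 9383))))))

def srtTB21 : RT := .node (.node (.node (.node (.node (.node (.leaf 13152)
 (.leaf 13366))
 (.node (.leaf 8254)
 (.leaf 6436)))
 (.node (.node (.leaf 13335)
 (.leaf 2945))
 (.node (.leaf 6724)
 (.leaf 13833))))
 (.node (.node (.node (.leaf 10552)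
 (.leaf 5591))
 (.node (.leaf 1358)
 (.leaf 14207)))
 (.node (.node (.leaf 7569)
 (.leaf 5448))
 (.node (.leaf 7038)
 (.leaf 3837)))))
 (.node (.node (.node (.node (.leaf 8632)
 (.leaf 5597))
 (.node (.leaf 7177)
 (.leaf 8828)))
 (.node (.node (.leaf 3666)
 (.leaf 1469))
 (.node (.leaf 8242)
 (.leaf 9353))))
 (.node (.node (.node (.leaf 13615)
 (.leaf 13072))
 (.node (.leaf 10107)
 (.leaf 3669)))
 (.node (.node (.leaf 11591)
 (.leaf 12951))
 (.node (.leaf 11385)
 (.leaf 3268))))))
 (.node (.node (.node (.node (.node (.leaf 706)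
 (.leaf 9726))
 (.node (.leaf 10972)
 (.leaf 1489)))
 (.node (.node (.leaf 4802)
 (.leaf 8139))
 (.node (.leaf 6128)
 (.leaf 2037))))
 (.node (.node (.node (.leaf 7913)
 (.leaf 12794))
 (.node (.leaf 14007)
 (.leaf 1195)))
 (.node (.node (.leaf 10776)
 (.leaf 13839))
 (.node (.leaf 4245)
 (.leaf 7988)))))
 (.node (.node (.node (.node (.leaf 12559)
 (.leaf 11860))
 (.node (.leaf 565)
 (.leaf 4008)))
 (.node (.node (.leaf 6348)
 (.leaf 1779))
 (.node (.leaf 4484)
 (.leaf 3391))))
 (.node (.node (.node (.leaf 9871)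
 (.leaf 3697))
 (.node (.leaf 12234)
 (.leaf 13332)))
 (.node (.node (.leaf 7056)
 (.leaf 10433))
 (.node (.leaf 11157)
 (.leaf 13086))))))

def srtTB22 : RT := .node (.node (.node (.node (.node (.node (.leaf 2186)
 (.leaf 12894))
 (.node (.leaf 7318)
 (.leaf 10058)))
 (.node (.node (.leaf 8734)
 (.leaf 1122))
 (.node (.leaf 12531)
 (.leaf 4740))))
 (.node (.node (.node (.leaf 8397)
 (.leaf 6822))
 (.node (.leaf 7972)
 (.leaf 5367)))
 (.node (.node (.leaf 3235)
 (.leaf 12398))
 (.node (.leaf 14764)
 (.leaf 10342)))))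
 (.node (.node (.node (.node (.leaf 10232)
 (.leaf 9753))
 (.node (.leaf 14109)
 (.leaf 4669)))
 (.node (.node (.leaf 6930)
 (.leaf 13711))
 (.node (.leaf 9240)
 (.leaf 11043))))
 (.node (.node (.node (.leaf 12467)
 (.leaf 13358))
 (.node (.leaf 4047)
 (.leaf 6844)))
 (.node (.node (.leaf 3139)
 (.leaf 8413))
 (.node (.leaf 58)
 (.leaf 12059))))))
 (.node (.node (.node (.node (.node (.leaf 10896)
 (.leaf 6058))
 (.node (.leaf 2978)
 (.leaf 9566)))
 (.node (.node (.leaf 7981)
 (.leaf 891))
 (.node (.leaf 3876)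
 (.leaf 12541))))
 (.node (.node (.node (.leaf 5461)
 (.leaf 8277))
 (.node (.leaf 4869)
 (.leaf 3041)))
 (.node (.node (.leaf 7662)
 (.leaf 1454))
 (.node (.leaf 630)
 (.leaf 13914)))))
 (.node (.node (.node (.node (.leaf 626)
 (.leaf 3438))
 (.node (.leaf 9740)
 (.leaf 6511)))
 (.node (.node (.leaf 5660)
 (.leaf 6488))
 (.node (.leaf 5530)
 (.leaf 5253))))
 (.node (.node (.node (.leaf 8239)
 (.leaf 5868))
 (.node (.leaf 5992)
 (.leaf 3000)))
 (.node (.node (.leaf 11657)
 (.leaf 12076))
 (.node (.leaf 8221)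
 (.leaf 7117))))))

def srtTB23 : RT := .node (.node (.node (.node (.node (.node (.leaf 7482)
 (.leaf 1573))
 (.node (.leaf 7655)
 (.leaf 12966)))
 (.node (.node (.leaf 13100)
 (.leaf 14085))
 (.node (.leaf 4617)
 (.leaf 559))))
 (.node (.node (.node (.leaf 9885)
 (.leaf 2145))
 (.node (.leaf 6975)
 (.leaf 10626)))
 (.node (.node (.leaf 12228)
 (.leaf 13040))
 (.node (.leaf 9709)
 (.leaf 2298)))))
 (.node (.node (.node (.node (.leaf 117)
 (.leaf 6749))
 (.node (.leaf 8662)
 (.leaf 12102)))
 (.node (.node (.leaf 11382)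
 (.leaf 3352))
 (.node (.leaf 563)
 (.leaf 4614))))
 (.node (.node (.node (.leaf 3705)
 (.leaf 598))
 (.node (.leaf 257)
 (.leaf 3860)))
 (.node (.node (.leaf 9137)
 (.leaf 4341))
 (.node (.leaf 1556)
 (.leaf 1034))))))
 (.node (.node (.node (.node (.node (.leaf 9060)
 (.leaf 5718))
 (.node (.leaf 10516)
 (.leaf 2330)))
 (.node (.node (.leaf 970)
 (.leaf 3643))
 (.node (.leaf 6950)
 (.leaf 5339))))
 (.node (.node (.node (.leaf 1382)
 (.leaf 11743))
 (.node (.leaf 7580)
 (.leaf 10469)))
 (.node (.node (.leaf 1138)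
 (.leaf 8718))
 (.node (.leaf 2233)
 (.leaf 9398)))))
 (.node (.node (.node (.node (.leaf 7908)
 (.leaf 13858))
 (.node (.leaf 556)
 (.leaf 8184)))
 (.node (.node (.leaf 13305)
 (.leaf 11240))
 (.node (.leaf 8368)
 (.leaf 7470))))
 (.node (.node (.node (.leaf 14500)
 (.leaf 9438))
 (.node (.leaf 8590)
 (.leaf 9639)))
 (.node (.node (.leaf 1610)
 (.leaf 9362))
 (.node (.leaf 4871)
 (.leaf 8682))))))

def srtTB24 : RT := .node (.node (.node (.node (.node (.node (.leaf 4704)
 (.leaf 14620))
 (.node (.leaf 13035)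
 (.leaf 1309)))
 (.node (.node (.leaf 3498)
 (.leaf 572))
 (.node (.leaf 7997)
 (.leaf 4251))))
 (.node (.node (.node (.leaf 3911)
 (.leaf 14449))
 (.node (.leaf 10329)
 (.leaf 11373)))
 (.node (.node (.leaf 13763)
 (.leaf 14376))
 (.node (.leaf 10891)
 (.leaf 2999)))))
 (.node (.node (.node (.node (.leaf 10424)
 (.leaf 5552))
 (.node (.leaf 7135)
 (.leaf 9950)))
 (.node (.node (.leaf 8126)
 (.leaf 12898))
 (.node (.leaf 11675)
 (.leaf 2651))))
 (.node (.node (.node (.leaf 1470)
 (.leaf 6606))
 (.node (.leaf 5817)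
 (.leaf 14815)))
 (.node (.node (.leaf 6962)
 (.leaf 8913))
 (.node (.leaf 8109)
 (.leaf 12516))))))
 (.node (.node (.node (.node (.node (.leaf 6609)
 (.leaf 11843))
 (.node (.leaf 2321)
 (.leaf 11208)))
 (.node (.node (.leaf 12993)
 (.leaf 13810))
 (.node (.leaf 11624)
 (.leaf 11358))))
 (.node (.node (.node (.leaf 5848)
 (.leaf 10674))
 (.node (.leaf 10609)
 (.leaf 9277)))
 (.node (.node (.leaf 7478)
 (.leaf 8185))
 (.node (.leaf 1272)
 (.leaf 2429)))))
 (.node (.node (.node (.node (.leaf 8228)
 (.leaf 2868))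
 (.node (.leaf 4613)
 (.leaf 8423)))
 (.node (.node (.leaf 7223)
 (.leaf 11142))
 (.node (.leaf 10114)
 (.leaf 8627))))
 (.node (.node (.node (.leaf 7806)
 (.leaf 4565))
 (.node (.leaf 9882)
 (.leaf 9212)))
 (.node (.node (.leaf 5211)
 (.leaf 4803))
 (.node (.leaf 3549)
 (.leaf 14193))))))

def srtTB25 : RT := .node (.node (.node (.node (.node (.node (.leaf 10780)
 (.leaf 3573))
 (.node (.leaf 9504)
 (.leaf 10753)))
 (.node (.node (.leaf 7758)
 (.leaf 14118))
 (.node (.leaf 14022)
 (.leaf 6997))))
 (.node (.node (.node (.leaf 2212)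
 (.leaf 10990))
 (.node (.leaf 13412)
 (.leaf 7380)))
 (.node (.node (.leaf 7125)
 (.leaf 10487))
 (.node (.leaf 2394)
 (.leaf 6949)))))
 (.node (.node (.node (.node (.leaf 319)
 (.leaf 10265))
 (.node (.leaf 4682)
 (.leaf 11606)))
 (.node (.node (.leaf 3256)
 (.leaf 4433))
 (.node (.leaf 2265)
 (.leaf 12824))))
 (.node (.node (.node (.leaf 14363)
 (.leaf 12105))
 (.node (.leaf 2026)
 (.leaf 6225)))
 (.node (.node (.leaf 5546)
 (.leaf 3036))
 (.node (.leaf 440)
 (.leaf 6995))))))
 (.node (.node (.node (.node (.node (.leaf 2656)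
 (.leaf 5777))
 (.node (.leaf 3188)
 (.leaf 6542)))
 (.node (.node (.leaf 5419)
 (.leaf 13824))
 (.node (.leaf 3460)
 (.leaf 11642))))
 (.node (.node (.node (.leaf 4168)
 (.leaf 6894))
 (.node (.leaf 3495)
 (.leaf 14755)))
 (.node (.node (.leaf 14435)
 (.leaf 14653))
 (.node (.leaf 3046)
 (.leaf 2146)))))
 (.node (.node (.node (.node (.leaf 10801)
 (.leaf 13198))
 (.node (.leaf 12650)
 (.leaf 10880)))
 (.node (.node (.leaf 13181)
 (.leaf 315))
 (.node (.leaf 9932)
 (.leaf 4205))))
 (.node (.node (.node (.leaf 13220)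
 (.leaf 14846))
 (.node (.leaf 10672)
 (.leaf 12916)))
 (.node (.node (.leaf 7140)
 (.leaf 5776))
 (.node (.leaf 1081)
 (.leaf 11781))))))

def srtTB26 : RT := .node (.node (.node (.node (.node (.node (.leaf 6789)
 (.leaf 1783))
 (.node (.leaf 10757)
 (.leaf 13837)))
 (.node (.node (.leaf 13610)
 (.leaf 7011))
 (.node (.leaf 14467)
 (.leaf 2902))))
 (.node (.node (.node (.leaf 10980)
 (.leaf 10813))
 (.node (.leaf 862)
 (.leaf 2855)))
 (.node (.node (.leaf 3149)
 (.leaf 8332))
 (.node (.leaf 3541)
 (.leaf 5451)))))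
 (.node (.node (.node (.node (.leaf 11057)
 (.leaf 12216))
 (.node (.leaf 14399)
 (.leaf 10250)))
 (.node (.node (.leaf 1923)
 (.leaf 2488))
 (.node (.leaf 7638)
 (.leaf 5395))))
 (.node (.node (.node (.leaf 11809)
 (.leaf 10613))
 (.node (.leaf 2632)
 (.leaf 8034)))
 (.node (.node (.leaf 351)
 (.leaf 119))
 (.node (.leaf 859)
 (.leaf 12361))))))
 (.node (.node (.node (.node (.node (.leaf 6731)
 (.leaf 10081))
 (.node (.leaf 12544)
 (.leaf 11146)))
 (.node (.node (.leaf 12920)
 (.leaf 10560))
 (.node (.leaf 8591)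
 (.leaf 12828))))
 (.node (.node (.node (.leaf 4566)
 (.leaf 10117))
 (.node (.leaf 11165)
 (.leaf 8877)))
 (.node (.node (.leaf 11651)
 (.leaf 3084))
 (.node (.leaf 6535)
 (.leaf 13425)))))
 (.node (.node (.node (.node (.leaf 12347)
 (.leaf 14970))
 (.node (.leaf 12232)
 (.leaf 11131)))
 (.node (.node (.leaf 9766)
 (.leaf 14785))
 (.node (.leaf 1051)
 (.leaf 6708))))
 (.node (.node (.node (.leaf 1109)
 (.leaf 5947))
 (.node (.leaf 8763)
 (.leaf 4980)))
 (.node (.node (.leaf 5095)
 (.leaf 6503))
 (.node (.leaf 6713)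
 (.leaf 5181))))))

def srtTB27 : RT := .node (.node (.node (.node (.node (.node (.leaf 7687)
 (.leaf 8425))
 (.node (.leaf 4479)
 (.leaf 118)))
 (.node (.node (.leaf 5883)
 (.leaf 5747))
 (.node (.leaf 14277)
 (.leaf 222))))
 (.node (.node (.node (.leaf 13144)
 (.leaf 4419))
 (.node (.leaf 2275)
 (.leaf 13566)))
 (.node (.node (.leaf 1355)
 (.leaf 8735))
 (.node (.leaf 2185)
 (.leaf 4743)))))
 (.node (.node (.node (.node (.leaf 7733)
 (.leaf 9136))
 (.node (.leaf 12177)
 (.leaf 2433)))
 (.node (.node (.leaf 5320)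
 (.leaf 1827))
 (.node (.leaf 6954)
 (.leaf 5391))))
 (.node (.node (.node (.leaf 7302)
 (.leaf 2718))
 (.node (.leaf 13510)
 (.leaf 9471)))
 (.node (.node (.leaf 4117)
 (.leaf 11453))
 (.node (.leaf 7735)
 (.leaf 1715))))))
 (.node (.node (.node (.node (.node (.leaf 10535)
 (.leaf 6320))
 (.node (.leaf 2247)
 (.leaf 14600)))
 (.node (.node (.leaf 9312)
 (.leaf 1996))
 (.node (.leaf 4868)
 (.leaf 2854))))
 (.node (.node (.node (.leaf 7903)
 (.leaf 5278))
 (.node (.leaf 5560)
 (.leaf 6674)))
 (.node (.node (.leaf 3739)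
 (.leaf 13991))
 (.node (.leaf 11177)
 (.leaf 13567)))))
 (.node (.node (.node (.node (.leaf 7683)
 (.leaf 4709))
 (.node (.leaf 9376)
 (.leaf 6745)))
 (.node (.node (.leaf 6897)
 (.leaf 3463))
 (.node (.leaf 4638)
 (.leaf 969))))
 (.node (.node (.node (.leaf 2947)
 (.leaf 12900))
 (.node (.leaf 13974)
 (.leaf 1927)))
 (.node (.node (.leaf 12233)
 (.leaf 14216))
 (.node (.leaf 14222)
 (.leaf 14211))))))

def srtTB28 : RT := .node (.node (.node (.node (.node (.node (.leaf 14271)
 (.leaf 14254))
 (.node (.leaf 1035)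
 (.leaf 11493)))
 (.node (.node (.leaf 9169)
 (.leaf 9139))
 (.node (.leaf 13826)
 (.leaf 2775))))
 (.node (.node (.node (.leaf 4253)
 (.leaf 9144))
 (.node (.leaf 9475)
 (.leaf 8504)))
 (.node (.node (.leaf 4362)
 (.leaf 10715))
 (.node (.leaf 18)
 (.leaf 12987)))))
 (.node (.node (.node (.node (.leaf 9650)
 (.leaf 10174))
 (.node (.leaf 2961)
 (.leaf 13497)))
 (.node (.node (.leaf 827)
 (.leaf 4386))
 (.node (.leaf 5943)
 (.leaf 10726))))
 (.node (.node (.node (.leaf 202)
 (.leaf 9519))
 (.node (.leaf 1230)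
 (.leaf 8392)))
 (.node (.node (.leaf 11570)
 (.leaf 13897))
 (.node (.leaf 10838)
 (.leaf 886))))))
 (.node (.node (.node (.node (.node (.leaf 9273)
 (.leaf 6317))
 (.node (.leaf 3594)
 (.leaf 10344)))
 (.node (.node (.leaf 9788)
 (.leaf 11464))
 (.node (.leaf 4078)
 (.leaf 3215))))
 (.node (.node (.node (.leaf 489)
 (.leaf 12475))
 (.node (.leaf 13441)
 (.leaf 1121)))
 (.node (.node (.leaf 6228)
 (.leaf 4009))
 (.node (.leaf 3470)
 (.leaf 13815)))))
 (.node (.node (.node (.node (.leaf 12604)
 (.leaf 6783))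
 (.node (.leaf 4174)
 (.leaf 3024)))
 (.node (.node (.leaf 13221)
 (.leaf 6404))
 (.node (.leaf 3071)
 (.leaf 7976))))
 (.node (.node (.node (.leaf 1040)
 (.leaf 13034))
 (.node (.leaf 1279)
 (.leaf 14091)))
 (.node (.node (.leaf 11243)
 (.leaf 326))
 (.node (.leaf 11304)
 (.leaf 10163))))))

def srtTB29 : RT := .node (.node (.node (.node (.node (.node (.leaf 9715)
 (.leaf 11150))
 (.node (.leaf 5960)
 (.leaf 5627)))
 (.node (.node (.leaf 5785)
 (.leaf 5128))
 (.node (.leaf 7047)
 (.leaf 1983))))
 (.node (.node (.node (.leaf 5865)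
 (.leaf 6084))
 (.node (.leaf 14938)
 (.leaf 14299)))
 (.node (.node (.leaf 5196)
 (.leaf 2294))
 (.node (.leaf 10794)
 (.leaf 14874)))))
 (.node (.node (.node (.node (.leaf 14092)
 (.leaf 4191))
 (.node (.leaf 9967)
 (.leaf 2727)))
 (.node (.node (.leaf 14810)
 (.leaf 14079))
 (.node (.leaf 11100)
 (.leaf 7721))))
 (.node (.node (.node (.leaf 11977)
 (.leaf 7661))
 (.node (.leaf 5491)
 (.leaf 5514)))
 (.node (.node (.leaf 8005)
 (.leaf 14960))
 (.node (.leaf 3014)
 (.leaf 2538))))))
 (.node (.node (.node (.node (.node (.leaf 2096)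
 (.leaf 9102))
 (.node (.leaf 3104)
 (.leaf 3519)))
 (.node (.node (.leaf 10463)
 (.leaf 10803))
 (.node (.leaf 7557)
 (.leaf 2749))))
 (.node (.node (.node (.leaf 7438)
 (.leaf 11583))
 (.node (.leaf 8325)
 (.leaf 1413)))
 (.node (.node (.leaf 1143)
 (.leaf 7699))
 (.node (.leaf 14971)
 (.leaf 8697)))))
 (.node (.node (.node (.node (.leaf 6880)
 (.leaf 9589))
 (.node (.leaf 1808)
 (.leaf 4145)))
 (.node (.node (.leaf 7804)
 (.leaf 13379))
 (.node (.leaf 10312)
 (.leaf 9505))))
 (.node (.node (.node (.leaf 4778)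
 (.leaf 3686))
 (.node (.leaf 6161)
 (.leaf 9090)))
 (.node (.node (.leaf 5666)
 (.leaf 10013))
 (.node (.leaf 8205)
 (.leaf 9155))))))

def srtTB30 : RT := .node (.node (.node (.node (.node (.node (.leaf 10145)
 (.leaf 13331))
 (.node (.leaf 6515)
 (.leaf 11256)))
 (.node (.node (.leaf 14311)
 (.leaf 3574))
 (.node (.leaf 6768)
 (.leaf 2502))))
 (.node (.node (.node (.leaf 13642)
 (.leaf 10314))
 (.node (.leaf 14100)
 (.leaf 506)))
 (.node (.node (.leaf 8806)
 (.leaf 5148))
 (.node (.leaf 4813)
 (.leaf 8068)))))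
 (.node (.node (.node (.node (.leaf 654)
 (.leaf 6440))
 (.node (.leaf 11851)
 (.leaf 26)))
 (.node (.node (.leaf 8698)
 (.leaf 7811))
 (.node (.leaf 10006)
 (.leaf 1652))))
 (.node (.node (.node (.leaf 13784)
 (.leaf 6946))
 (.node (.leaf 10144)
 (.leaf 8180)))
 (.node (.node (.leaf 1926)
 (.leaf 1288))
 (.node (.leaf 1259)
 (.leaf 2674))))))
 (.node (.node (.node (.node (.node (.leaf 14921)
 (.leaf 5365))
 (.node (.leaf 6746)
 (.leaf 2673)))
 (.node (.node (.leaf 416)
 (.leaf 3773))
 (.node (.leaf 744)
 (.leaf 7648))))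
 (.node (.node (.node (.leaf 4451)
 (.leaf 2347))
 (.node (.leaf 8494)
 (.leaf 5826)))
 (.node (.node (.leaf 6101)
 (.leaf 2326))
 (.node (.leaf 1791)
 (.leaf 2572)))))
 (.node (.node (.node (.node (.leaf 12404)
 (.leaf 1510))
 (.node (.leaf 6456)
 (.leaf 8796)))
 (.node (.node (.leaf 11034)
 (.leaf 5714))
 (.node (.leaf 205)
 (.leaf 14859))))
 (.node (.node (.node (.leaf 1727)
 (.leaf 7153))
 (.node (.leaf 1499)
 (.leaf 9576)))
 (.node (.node (.leaf 7835)
 (.leaf 1919))
 (.node (.leaf 12661)
 (.leaf 1247))))))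

def srtTB31 : RT := .node (.node (.node (.node (.node (.node (.leaf 6742)
 (.leaf 5721))
 (.node (.leaf 3123)
 (.leaf 2048)))
 (.node (.node (.leaf 10834)
 (.leaf 7239))
 (.node (.leaf 3262)
 (.leaf 14410))))
 (.node (.node (.node (.leaf 290)
 (.leaf 6060))
 (.node (.leaf 10073)
 (.leaf 3113)))
 (.node (.node (.leaf 14319)
 (.leaf 13734))
 (.node (.leaf 14737)
 (.leaf 14692)))))
 (.node (.node (.node (.node (.leaf 10710)
 (.leaf 14595))
 (.node (.leaf 6450)
 (.leaf 13029)))
 (.node (.node (.leaf 7641)
 (.leaf 840))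
 (.node (.leaf 11496)
 (.leaf 13415))))
 (.node (.node (.node (.leaf 7132)
 (.leaf 12510))
 (.node (.leaf 11402)
 (.leaf 5113)))
 (.node (.node (.leaf 6683)
 (.leaf 8465))
 (.node (.leaf 11938)
 (.leaf 9313))))))
 (.node (.node (.node (.node (.node (.leaf 7928)
 (.leaf 8952))
 (.node (.leaf 1211)
 (.leaf 6138)))
 (.node (.node (.leaf 14903)
 (.leaf 7200))
 (.node (.leaf 2816)
 (.leaf 14234))))
 (.node (.node (.node (.leaf 2135)
 (.leaf 1601))
 (.node (.leaf 7028)
 (.leaf 10264)))
 (.node (.node (.leaf 1101)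
 (.leaf 76))
 (.node (.leaf 9870)
 (.leaf 2509)))))
 (.node (.node (.node (.node (.leaf 13832)
 (.leaf 4464))
 (.node (.leaf 2564)
 (.leaf 11024)))
 (.node (.node (.leaf 7346)
 (.leaf 1660))
 (.node (.leaf 9425)
 (.leaf 5668))))
 (.node (.node (.node (.leaf 11792)
 (.leaf 9171))
 (.node (.leaf 6170)
 (.leaf 1069)))
 (.node (.node (.leaf 9080)
 (.leaf 2114))
 (.node (.leaf 1200)
 (.leaf 3413))))))

def srtTB32 : RT := .node (.node (.node (.node (.node (.node (.leaf 13971)
 (.leaf 1306))
 (.node (.leaf 10419)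
 (.leaf 14732)))
 (.node (.node (.leaf 4272)
 (.leaf 9511))
 (.node (.leaf 4912)
 (.leaf 244))))
 (.node (.node (.node (.leaf 11699)
 (.leaf 7497))
 (.node (.leaf 4437)
 (.leaf 11042)))
 (.node (.node (.leaf 10478)
 (.leaf 14504))
 (.node (.leaf 14465)
 (.leaf 3078)))))
 (.node (.node (.node (.node (.leaf 11869)
 (.leaf 1273))
 (.node (.leaf 13427)
 (.leaf 6297)))
 (.node (.node (.leaf 1626)
 (.leaf 483))
 (.node (.leaf 4443)
 (.leaf 10734))))
 (.node (.node (.node (.leaf 6890)
 (.leaf 68))
 (.node (.leaf 8724)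
 (.leaf 9845)))
 (.node (.node (.leaf 614)
 (.leaf 4626))
 (.node (.leaf 3055)
 (.leaf 2375))))))
 (.node (.node (.node (.node (.node (.leaf 2580)
 (.leaf 228))
 (.node (.leaf 5287)
 (.leaf 1414)))
 (.node (.node (.leaf 605)
 (.leaf 5612))
 (.node (.leaf 2802)
 (.leaf 2013))))
 (.node (.node (.node (.leaf 9828)
 (.leaf 7543))
 (.node (.leaf 10698)
 (.leaf 4083)))
 (.node (.node (.leaf 4452)
 (.leaf 2666))
 (.node (.leaf 11652)
 (.leaf 10429)))))
 (.node (.node (.node (.node (.leaf 1368)
 (.leaf 5802))
 (.node (.leaf 10363)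
 (.leaf 3796)))
 (.node (.node (.leaf 13649)
 (.leaf 13077))
 (.node (.leaf 4111)
 (.leaf 14723))))
 (.node (.node (.node (.leaf 3974)
 (.leaf 7614))
 (.node (.leaf 2628)
 (.leaf 5699)))
 (.node (.node (.leaf 5888)
 (.leaf 14274))
 (.node (.leaf 7473)
 (.leaf 5406))))))

def srtTB33 : RT := .node (.node (.node (.node (.node (.node (.leaf 3034)
 (.leaf 5394))
 (.node (.leaf 4844)
 (.leaf 8357)))
 (.node (.node (.leaf 1280)
 (.leaf 11010))
 (.node (.leaf 6631)
 (.leaf 12764))))
 (.node (.node (.node (.leaf 13290)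
 (.leaf 9997))
 (.node (.leaf 6052)
 (.leaf 9287)))
 (.node (.node (.leaf 12538)
 (.leaf 2708))
 (.node (.leaf 4679)
 (.leaf 7454)))))
 (.node (.node (.node (.node (.leaf 14120)
 (.leaf 9844))
 (.node (.leaf 11337)
 (.leaf 9611)))
 (.node (.node (.leaf 7445)
 (.leaf 5937))
 (.node (.leaf 5474)
 (.leaf 14210))))
 (.node (.node (.node (.leaf 1269)
 (.leaf 1379))
 (.node (.leaf 95)
 (.leaf 1633)))
 (.node (.node (.leaf 4776)
 (.leaf 7983))
 (.node (.leaf 9741)
 (.leaf 13811))))))
 (.node (.node (.node (.node (.node (.leaf 9337)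
 (.leaf 4093))
 (.node (.leaf 6767)
 (.leaf 9185)))
 (.node (.node (.leaf 3313)
 (.leaf 2431))
 (.node (.leaf 8678)
 (.leaf 5425))))
 (.node (.node (.node (.leaf 5441)
 (.leaf 2682))
 (.node (.leaf 6321)
 (.leaf 11552)))
 (.node (.node (.leaf 544)
 (.leaf 10678))
 (.node (.leaf 1836)
 (.leaf 2486)))))
 (.node (.node (.node (.node (.leaf 13892)
 (.leaf 7409))
 (.node (.leaf 2808)
 (.leaf 4941)))
 (.node (.node (.leaf 2369)
 (.leaf 14962))
 (.node (.leaf 10445)
 (.leaf 12873))))
 (.node (.node (.node (.leaf 12358)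
 (.leaf 13393))
 (.node (.leaf 14710)
 (.leaf 2192)))
 (.node (.node (.leaf 9389)
 (.leaf 10381))
 (.node (.leaf 6601)
 (.leaf 3294))))))

def srtTB34 : RT := .node (.node (.node (.node (.node (.node (.leaf 9632)
 (.leaf 13981))
 (.node (.leaf 5180)
 (.leaf 12662)))
 (.node (.node (.leaf 5648)
 (.leaf 4647))
 (.node (.leaf 7311)
 (.leaf 5599))))
 (.node (.node (.node (.leaf 10962)
 (.leaf 1391))
 (.node (.leaf 8768)
 (.leaf 9756)))
 (.node (.node (.leaf 5003)
 (.leaf 4225))
 (.node (.leaf 9970)
 (.leaf 14745)))))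
 (.node (.node (.node (.node (.leaf 6042)
 (.leaf 2851))
 (.node (.leaf 5503)
 (.leaf 2213)))
 (.node (.node (.leaf 5214)
 (.leaf 14926))
 (.node (.leaf 9114)
 (.leaf 6597))))
 (.node (.node (.node (.leaf 9118)
 (.leaf 11797))
 (.node (.leaf 5711)
 (.leaf 5235)))
 (.node (.node (.leaf 6710)
 (.leaf 1743))
 (.node (.leaf 3999)
 (.leaf 268))))))
 (.node (.node (.node (.node (.node (.leaf 3723)
 (.leaf 1583))
 (.node (.leaf 6031)
 (.leaf 2576)))
 (.node (.node (.leaf 682)
 (.leaf 6011))
 (.node (.leaf 12699)
 (.leaf 9778))))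
 (.node (.node (.node (.leaf 10593)
 (.leaf 5574))
 (.node (.leaf 1085)
 (.leaf 3696)))
 (.node (.node (.leaf 5637)
 (.leaf 5833))
 (.node (.leaf 4983)
 (.leaf 6398)))))
 (.node (.node (.node (.node (.leaf 3257)
 (.leaf 7626))
 (.node (.leaf 12649)
 (.leaf 11979)))
 (.node (.node (.leaf 9706)
 (.leaf 2525))
 (.node (.leaf 8052)
 (.leaf 2194))))
 (.node (.node (.node (.leaf 8253)
 (.leaf 10249))
 (.node (.leaf 5564)
 (.leaf 1405)))
 (.node (.node (.leaf 13675)
 (.leaf 14180))
 (.node (.leaf 13084)
 (.leaf 802))))))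

def srtTB35 : RT := .node (.node (.node (.node (.node (.node (.leaf 10208)
 (.leaf 1998))
 (.node (.leaf 13532)
 (.leaf 7894)))
 (.node (.node (.leaf 13137)
 (.leaf 12769))
 (.node (.leaf 4454)
 (.leaf 3962))))
 (.node (.node (.node (.leaf 3343)
 (.leaf 2421))
 (.node (.leaf 5810)
 (.leaf 4019)))
 (.node (.node (.leaf 5076)
 (.leaf 12390))
 (.node (.leaf 2620)
 (.leaf 4266)))))
 (.node (.node (.node (.node (.leaf 13512)
 (.leaf 10575))
 (.node (.leaf 2821)
 (.leaf 9141)))
 (.node (.node (.leaf 4680)
 (.leaf 1103))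
 (.node (.leaf 2381)
 (.leaf 9806))))
 (.node (.node (.node (.leaf 10030)
 (.leaf 6852))
 (.node (.leaf 4347)
 (.leaf 619)))
 (.node (.node (.leaf 11126)
 (.leaf 9848))
 (.node (.leaf 9862)
 (.leaf 1443))))))
 (.node (.node (.node (.node (.node (.leaf 11156)
 (.leaf 6237))
 (.node (.leaf 12672)
 (.leaf 1421)))
 (.node (.node (.leaf 6484)
 (.leaf 4209))
 (.node (.leaf 10244)
 (.leaf 2148))))
 (.node (.node (.node (.leaf 8887)
 (.leaf 6600))
 (.node (.leaf 7898)
 (.leaf 2478)))
 (.node (.node (.leaf 14286)
 (.leaf 6268))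
 (.node (.leaf 3930)
 (.leaf 10809)))))
 (.node (.node (.node (.node (.leaf 1484)
 (.leaf 14355))
 (.node (.leaf 9880)
 (.leaf 13075)))
 (.node (.node (.leaf 6800)
 (.leaf 1120))
 (.node (.leaf 4657)
 (.leaf 178))))
 (.node (.node (.node (.leaf 7714)
 (.leaf 13659))
 (.node (.leaf 7467)
 (.leaf 10967)))
 (.node (.node (.leaf 2491)
 (.leaf 9537))
 (.node (.leaf 12130)
 (.leaf 7018))))))

def srtTB36 : RT := .node (.node (.node (.node (.node (.node (.leaf 14364)
 (.leaf 10376))
 (.node (.leaf 10788)
 (.leaf 12256)))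
 (.node (.node (.leaf 1432)
 (.leaf 10927))
 (.node (.leaf 13417)
 (.leaf 1285))))
 (.node (.node (.node (.leaf 909)
 (.leaf 12921))
 (.node (.leaf 13276)
 (.leaf 7919)))
 (.node (.node (.leaf 4685)
 (.leaf 13603))
 (.node (.leaf 12496)
 (.leaf 4580)))))
 (.node (.node (.node (.node (.leaf 4000)
 (.leaf 6019))
 (.node (.leaf 8655)
 (.leaf 3970)))
 (.node (.node (.leaf 3726)
 (.leaf 138))
 (.node (.leaf 199)
 (.leaf 12738))))
 (.node (.node (.node (.leaf 10495)
 (.leaf 8032))
 (.node (.leaf 14462)
 (.leaf 10553)))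
 (.node (.node (.leaf 13936)
 (.leaf 2837))
 (.node (.leaf 11529)
 (.leaf 4327))))))
 (.node (.node (.node (.node (.node (.leaf 5619)
 (.leaf 312))
 (.node (.leaf 8549)
 (.leaf 11136)))
 (.node (.node (.leaf 5653)
 (.leaf 6024))
 (.node (.leaf 2470)
 (.leaf 14214))))
 (.node (.node (.node (.leaf 5239)
 (.leaf 7423))
 (.node (.leaf 5088)
 (.leaf 9375)))
 (.node (.node (.leaf 111)
 (.leaf 8618))
 (.node (.leaf 6027)
 (.leaf 5462)))))
 (.node (.node (.node (.node (.leaf 4554)
 (.leaf 1167))
 (.node (.leaf 1575)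
 (.leaf 6430)))
 (.node (.node (.leaf 12933)
 (.leaf 3934))
 (.node (.leaf 5262)
 (.leaf 6551))))
 (.node (.node (.node (.leaf 8573)
 (.leaf 8509))
 (.node (.leaf 3105)
 (.leaf 13944)))
 (.node (.node (.leaf 116)
 (.leaf 9502))
 (.node (.leaf 12561)
 (.leaf 14159))))))

def srtTB37 : RT := .node (.node (.node (.node (.node (.node (.leaf 10517)
 (.leaf 13295))
 (.node (.leaf 12997)
 (.leaf 14740)))
 (.node (.node (.leaf 2838)
 (.leaf 12405))
 (.node (.leaf 3462)
 (.leaf 14593))))
 (.node (.node (.node (.leaf 1853)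
 (.leaf 2900))
 (.node (.leaf 10766)
 (.leaf 241)))
 (.node (.node (.leaf 2455)
 (.leaf 7042))
 (.node (.leaf 8297)
 (.leaf 1030)))))
 (.node (.node (.node (.node (.leaf 10320)
 (.leaf 4812))
 (.node (.leaf 1062)
 (.leaf 1229)))
 (.node (.node (.leaf 12203)
 (.leaf 659))
 (.node (.leaf 10704)
 (.leaf 9902))))
 (.node (.node (.node (.leaf 1107)
 (.leaf 5322))
 (.node (.leaf 9104)
 (.leaf 11489)))
 (.node (.node (.leaf 12340)
 (.leaf 3502))
 (.node (.leaf 2016)
 (.leaf 5217))))))
 (.node (.node (.node (.node (.node (.leaf 12597)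
 (.leaf 11751))
 (.node (.leaf 225)
 (.leaf 7103)))
 (.node (.node (.leaf 9431)
 (.leaf 3859))
 (.node (.leaf 513)
 (.leaf 8261))))
 (.node (.node (.node (.leaf 10048)
 (.leaf 6429))
 (.node (.leaf 2222)
 (.leaf 5529)))
 (.node (.node (.leaf 5288)
 (.leaf 5681))
 (.node (.leaf 2182)
 (.leaf 7216)))))
 (.node (.node (.node (.node (.leaf 5299)
 (.leaf 3337))
 (.node (.leaf 4954)
 (.leaf 2283)))
 (.node (.node (.leaf 14240)
 (.leaf 5136))
 (.node (.leaf 5797)
 (.leaf 1265))))
 (.node (.node (.node (.leaf 8244)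
 (.leaf 6392))
 (.node (.leaf 3051)
 (.leaf 2522)))
 (.node (.node (.leaf 1329)
 (.leaf 13955))
 (.node (.leaf 12729)
 (.leaf 3372))))))

def srtTB38 : RT := .node (.node (.node (.node (.node (.node (.leaf 4183)
 (.leaf 5946))
 (.node (.leaf 9309)
 (.leaf 5636)))
 (.node (.node (.leaf 12055)
 (.leaf 3185))
 (.node (.leaf 9916)
 (.leaf 14402))))
 (.node (.node (.node (.leaf 13495)
 (.leaf 13713))
 (.node (.leaf 10885)
 (.leaf 2514)))
 (.node (.node (.leaf 237)
 (.leaf 12450))
 (.node (.leaf 12844)
 (.leaf 13804)))))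
 (.node (.node (.node (.node (.leaf 4034)
 (.leaf 3280))
 (.node (.leaf 8624)
 (.leaf 8693)))
 (.node (.node (.leaf 5411)
 (.leaf 8754))
 (.node (.leaf 4085)
 (.leaf 4553))))
 (.node (.node (.node (.leaf 4751)
 (.leaf 4481))
 (.node (.leaf 7745)
 (.leaf 10616)))
 (.node (.node (.leaf 1753)
 (.leaf 8114))
 (.node (.leaf 5297)
 (.leaf 5710))))))
 (.node (.node (.node (.node (.node (.leaf 2896)
 (.leaf 6275))
 (.node (.leaf 5763)
 (.leaf 6316)))
 (.node (.node (.leaf 9235)
 (.leaf 10617))
 (.node (.leaf 2419)
 (.leaf 9829))))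
 (.node (.node (.node (.leaf 7579)
 (.leaf 4525))
 (.node (.leaf 6184)
 (.leaf 14124)))
 (.node (.node (.leaf 3344)
 (.leaf 4607))
 (.node (.leaf 6959)
 (.leaf 2588)))))
 (.node (.node (.node (.node (.leaf 14060)
 (.leaf 14423))
 (.node (.leaf 1087)
 (.leaf 3652)))
 (.node (.node (.leaf 13910)
 (.leaf 976))
 (.node (.leaf 14575)
 (.leaf 10033))))
 (.node (.node (.node (.leaf 7816)
 (.leaf 12935))
 (.node (.leaf 356)
 (.leaf 11169)))
 (.node (.node (.leaf 8031)
 (.leaf 9536))
 (.node (.leaf 615)
 (.leaf 12696))))))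

def srtTB39 : RT := .node (.node (.node (.node (.node (.node (.leaf 9247)
 (.leaf 4597))
 (.node (.leaf 9673)
 (.leaf 9498)))
 (.node (.node (.leaf 13489)
 (.leaf 8646))
 (.node (.leaf 11820)
 (.leaf 3430))))
 (.node (.node (.node (.leaf 8842)
 (.leaf 8599))
 (.node (.leaf 6336)
 (.leaf 2484)))
 (.node (.node (.leaf 11396)
 (.leaf 10944))
 (.node (.leaf 16)
 (.leaf 9965)))))
 (.node (.node (.node (.node (.leaf 4575)
 (.leaf 12407))
 (.node (.leaf 6773)
 (.leaf 10752)))
 (.node (.node (.leaf 13620)
 (.leaf 2554))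
 (.node (.leaf 11301)
 (.leaf 1203))))
 (.node (.node (.node (.leaf 9937)
 (.leaf 2553))
 (.node (.leaf 13322)
 (.leaf 13943)))
 (.node (.node (.leaf 8003)
 (.leaf 988))
 (.node (.leaf 5708)
 (.leaf 12194))))))
 (.node (.node (.node (.node (.node (.leaf 3922)
 (.leaf 12607))
 (.node (.leaf 8274)
 (.leaf 2227)))
 (.node (.node (.leaf 850)
 (.leaf 5556))
 (.node (.leaf 2475)
 (.leaf 11364))))
 (.node (.node (.node (.leaf 5975)
 (.leaf 2721))
 (.node (.leaf 1196)
 (.leaf 4196)))
 (.node (.node (.leaf 11733)
 (.leaf 7749))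
 (.node (.leaf 5443)
 (.leaf 11219)))))
 (.node (.node (.node (.node (.leaf 8475)
 (.leaf 12187))
 (.node (.leaf 7834)
 (.leaf 3713)))
 (.node (.node (.leaf 8060)
 (.leaf 5268))
 (.node (.leaf 12381)
 (.leaf 3856))))
 (.node (.node (.node (.leaf 6467)
 (.leaf 11907))
 (.node (.leaf 12133)
 (.leaf 5779)))
 (.node (.node (.leaf 7944)
 (.leaf 6640))
 (.node (.leaf 2898)
 (.leaf 2249))))))

def srtTB40 : RT := .node (.node (.node (.node (.node (.node (.leaf 14081)
 (.leaf 12646))
 (.node (.leaf 3571)
 (.leaf 14440)))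
 (.node (.node (.leaf 6293)
 (.leaf 8953))
 (.node (.leaf 11939)
 (.leaf 954))))
 (.node (.node (.node (.leaf 5434)
 (.leaf 405))
 (.node (.leaf 1352)
 (.leaf 13937)))
 (.node (.node (.leaf 12740)
 (.leaf 14485))
 (.node (.leaf 6221)
 (.leaf 8257)))))
 (.node (.node (.node (.node (.leaf 9563)
 (.leaf 13828))
 (.node (.leaf 939)
 (.leaf 13406)))
 (.node (.node (.leaf 13016)
 (.leaf 11033))
 (.node (.leaf 7221)
 (.leaf 2346))))
 (.node (.node (.node (.leaf 14097)
 (.leaf 13325))
 (.node (.leaf 6786)
 (.leaf 8262)))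
 (.node (.node (.leaf 3799)
 (.leaf 10832))
 (.node (.leaf 1284)
 (.leaf 5703))))))
 (.node (.node (.node (.node (.node (.leaf 6397)
 (.leaf 8530))
 (.node (.leaf 7673)
 (.leaf 1567)))
 (.node (.node (.leaf 10354)
 (.leaf 6365))
 (.node (.leaf 3553)
 (.leaf 8063))))
 (.node (.node (.node (.leaf 13770)
 (.leaf 10789))
 (.node (.leaf 10491)
 (.leaf 4529)))
 (.node (.node (.leaf 7738)
 (.leaf 4519))
 (.node (.leaf 11738)
 (.leaf 10642)))))
 (.node (.node (.node (.node (.leaf 6670)
 (.leaf 12057))
 (.node (.leaf 12720)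
 (.leaf 8731)))
 (.node (.node (.leaf 11890)
 (.leaf 8902))
 (.node (.leaf 11357)
 (.leaf 7268))))
 (.node (.node (.node (.leaf 13835)
 (.leaf 6892))
 (.node (.leaf 9596)
 (.leaf 13774)))
 (.node (.node (.leaf 10943)
 (.leaf 7313))
 (.node (.leaf 14340)
 (.leaf 6182))))))

def srtTB41 : RT := .node (.node (.node (.node (.node (.node (.leaf 9677)
 (.leaf 10023))
 (.node (.leaf 7158)
 (.leaf 2411)))
 (.node (.node (.leaf 5855)
 (.leaf 12044))
 (.node (.leaf 8405)
 (.leaf 11887))))
 (.node (.node (.node (.leaf 8709)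
 (.leaf 7671))
 (.node (.leaf 2251)
 (.leaf 11432)))
 (.node (.node (.leaf 12047)
 (.leaf 9006))
 (.node (.leaf 5539)
 (.leaf 13426)))))
 (.node (.node (.node (.node (.leaf 7819)
 (.leaf 10861))
 (.node (.leaf 4641)
 (.leaf 7370)))
 (.node (.node (.leaf 11200)
 (.leaf 10549))
 (.node (.leaf 638)
 (.leaf 4351))))
 (.node (.node (.node (.leaf 6500)
 (.leaf 5952))
 (.node (.leaf 1091)
 (.leaf 11832)))
 (.node (.node (.leaf 2919)
 (.leaf 9335))
 (.node (.leaf 6925)
 (.leaf 8612))))))
 (.node (.node (.node (.node (.node (.leaf 12453)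
 (.leaf 1627))
 (.node (.leaf 44)
 (.leaf 3975)))
 (.node (.node (.leaf 10561)
 (.leaf 4531))
 (.node (.leaf 12651)
 (.leaf 8179))))
 (.node (.node (.node (.leaf 3619)
 (.leaf 6778))
 (.node (.leaf 6462)
 (.leaf 13906)))
 (.node (.node (.leaf 8772)
 (.leaf 5778))
 (.node (.leaf 12310)
 (.leaf 3547)))))
 (.node (.node (.node (.node (.leaf 10175)
 (.leaf 8642))
 (.node (.leaf 4979)
 (.leaf 4630)))
 (.node (.node (.leaf 4293)
 (.leaf 1073))
 (.node (.leaf 8589)
 (.leaf 8733))))
 (.node (.node (.node (.leaf 1941)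
 (.leaf 7585))
 (.node (.leaf 2287)
 (.leaf 5841)))
 (.node (.node (.leaf 5917)
 (.leaf 9161))
 (.node (.leaf 4080)
 (.leaf 6227))))))

def srtTB42 : RT := .node (.node (.node (.node (.node (.node (.leaf 2204)
 (.leaf 3482))
 (.node (.leaf 6078)
 (.leaf 10714)))
 (.node (.node (.leaf 7973)
 (.leaf 8503))
 (.node (.leaf 4855)
 (.leaf 1843))))
 (.node (.node (.node (.leaf 8803)
 (.leaf 11716))
 (.node (.leaf 7382)
 (.leaf 11930)))
 (.node (.node (.leaf 8994)
 (.leaf 2993))
 (.node (.leaf 6592)
 (.leaf 9298)))))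
 (.node (.node (.node (.node (.leaf 4290)
 (.leaf 12570))
 (.node (.leaf 9978)
 (.leaf 4181)))
 (.node (.node (.leaf 14699)
 (.leaf 13409))
 (.node (.leaf 755)
 (.leaf 7689))))
 (.node (.node (.node (.leaf 3595)
 (.leaf 3237))
 (.node (.leaf 9821)
 (.leaf 14759)))
 (.node (.node (.leaf 7520)
 (.leaf 9607))
 (.node (.leaf 13013)
 (.leaf 10563))))))
 (.node (.node (.node (.node (.node (.leaf 6958)
 (.leaf 450))
 (.node (.leaf 1838)
 (.leaf 8774)))
 (.node (.node (.leaf 6399)
 (.leaf 7104))
 (.node (.leaf 4984)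
 (.leaf 3033))))
 (.node (.node (.node (.leaf 3880)
 (.leaf 1488))
 (.node (.leaf 13286)
 (.leaf 10713)))
 (.node (.node (.leaf 1445)
 (.leaf 3236))
 (.node (.leaf 6431)
 (.leaf 2575)))))
 (.node (.node (.node (.node (.leaf 4992)
 (.leaf 2062))
 (.node (.leaf 14958)
 (.leaf 8900)))
 (.node (.node (.leaf 11949)
 (.leaf 174))
 (.node (.leaf 5405)
 (.leaf 1898))))
 (.node (.node (.node (.leaf 9231)
 (.leaf 9295))
 (.node (.leaf 13414)
 (.leaf 8163)))
 (.node (.node (.leaf 4762)
 (.leaf 6990))
 (.node (.leaf 4571)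
 (.leaf 5129))))))

def srtTB43 : RT := .node (.node (.node (.node (.node (.node (.leaf 6603)
 (.leaf 13024))
 (.node (.leaf 364)
 (.leaf 10748)))
 (.node (.node (.leaf 2652)
 (.leaf 13780))
 (.node (.leaf 13007)
 (.leaf 12807))))
 (.node (.node (.node (.leaf 8339)
 (.leaf 9925))
 (.node (.leaf 8049)
 (.leaf 14158)))
 (.node (.node (.leaf 11526)
 (.leaf 3421))
 (.node (.leaf 2801)
 (.leaf 7099)))))
 (.node (.node (.node (.node (.leaf 6479)
 (.leaf 12144))
 (.node (.leaf 8730)
 (.leaf 2684)))
 (.node (.node (.leaf 14337)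
 (.leaf 10129))
 (.node (.leaf 10484)
 (.leaf 296))))
 (.node (.node (.node (.leaf 14065)
 (.leaf 6692))
 (.node (.leaf 12937)
 (.leaf 10802)))
 (.node (.node (.leaf 11167)
 (.leaf 11916))
 (.node (.leaf 4877)
 (.leaf 6306))))))
 (.node (.node (.node (.node (.node (.leaf 4600)
 (.leaf 8605))
 (.node (.leaf 11584)
 (.leaf 6358)))
 (.node (.node (.leaf 12081)
 (.leaf 9162))
 (.node (.leaf 7808)
 (.leaf 5380))))
 (.node (.node (.node (.leaf 6989)
 (.leaf 7704))
 (.node (.leaf 2445)
 (.leaf 2790)))
 (.node (.node (.leaf 6040)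
 (.leaf 5989))
 (.node (.leaf 6192)
 (.leaf 14076)))))
 (.node (.node (.node (.node (.leaf 10666)
 (.leaf 2094))
 (.node (.leaf 4219)
 (.leaf 4650)))
 (.node (.node (.leaf 2461)
 (.leaf 180))
 (.node (.leaf 3614)
 (.leaf 13288))))
 (.node (.node (.node (.leaf 14605)
 (.leaf 2594))
 (.node (.leaf 14164)
 (.leaf 14844)))
 (.node (.node (.leaf 1369)
 (.leaf 13142))
 (.node (.leaf 11155)
 (.leaf 14514))))))

def srtTB44 : RT := .node (.node (.node (.node (.node (.node (.leaf 10566)
 (.leaf 8318))
 (.node (.leaf 1811)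
 (.leaf 10458)))
 (.node (.node (.leaf 13058)
 (.leaf 10178))
 (.node (.leaf 14039)
 (.leaf 12990))))
 (.node (.node (.node (.leaf 13624)
 (.leaf 2142))
 (.node (.leaf 6523)
 (.leaf 1554)))
 (.node (.node (.leaf 8059)
 (.leaf 7940))
 (.node (.leaf 11829)
 (.leaf 922)))))
 (.node (.node (.node (.node (.leaf 11631)
 (.leaf 9024))
 (.node (.leaf 12413)
 (.leaf 12868)))
 (.node (.node (.leaf 14441)
 (.leaf 1944))
 (.node (.leaf 10442)
 (.leaf 6737))))
 (.node (.node (.node (.leaf 13265)
 (.leaf 14577))
 (.node (.leaf 3241)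
 (.leaf 8377)))
 (.node (.node (.leaf 13792)
 (.leaf 13753))
 (.node (.leaf 11281)
 (.leaf 10843))))))
 (.node (.node (.node (.node (.node (.leaf 13263)
 (.leaf 9244))
 (.node (.leaf 13775)
 (.leaf 1182)))
 (.node (.node (.leaf 7895)
 (.leaf 738))
 (.node (.leaf 12317)
 (.leaf 7336))))
 (.node (.node (.node (.leaf 13520)
 (.leaf 2081))
 (.node (.leaf 1522)
 (.leaf 10040)))
 (.node (.node (.leaf 11473)
 (.leaf 14518))
 (.node (.leaf 4745)
 (.leaf 14446)))))
 (.node (.node (.node (.node (.leaf 7642)
 (.leaf 11702))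
 (.node (.leaf 5433)
 (.leaf 5488)))
 (.node (.node (.leaf 158)
 (.leaf 10574))
 (.node (.leaf 934)
 (.leaf 1569))))
 (.node (.node (.node (.leaf 12865)
 (.leaf 4738))
 (.node (.leaf 6505)
 (.leaf 6326)))
 (.node (.node (.leaf 13430)
 (.leaf 249))
 (.node (.leaf 4919)
 (.leaf 7317))))))

def srtTB45 : RT := .node (.node (.node (.node (.node (.node (.leaf 11553)
 (.leaf 9176))
 (.node (.leaf 12511)
 (.leaf 1207)))
 (.node (.node (.leaf 8873)
 (.leaf 1924))
 (.node (.leaf 253)
 (.leaf 12253))))
 (.node (.node (.node (.leaf 8418)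
 (.leaf 9148))
 (.node (.leaf 8469)
 (.leaf 10716)))
 (.node (.node (.leaf 11775)
 (.leaf 12108))
 (.node (.leaf 4656)
 (.leaf 4336)))))
 (.node (.node (.node (.node (.leaf 10867)
 (.leaf 5233))
 (.node (.leaf 8391)
 (.leaf 8548)))
 (.node (.node (.leaf 9093)
 (.leaf 11137))
 (.node (.leaf 1197)
 (.leaf 11168))))
 (.node (.node (.node (.leaf 8891)
 (.leaf 8122))
 (.node (.leaf 8791)
 (.leaf 2095)))
 (.node (.node (.leaf 2938)
 (.leaf 8960))
 (.node (.leaf 8649)
 (.leaf 5119))))))
 (.node (.node (.node (.node (.node (.leaf 11644)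
 (.leaf 12012))
 (.node (.leaf 6364)
 (.leaf 8670)))
 (.node (.node (.leaf 12754)
 (.leaf 1166))
 (.node (.leaf 7975)
 (.leaf 93))))
 (.node (.node (.node (.leaf 7708)
 (.leaf 12974))
 (.node (.leaf 8021)
 (.leaf 9901)))
 (.node (.node (.leaf 726)
 (.leaf 10043))
 (.node (.leaf 971)
 (.leaf 5639)))))
 (.node (.node (.node (.node (.leaf 9166)
 (.leaf 7459))
 (.node (.leaf 12648)
 (.leaf 9108)))
 (.node (.node (.leaf 2946)
 (.leaf 11540))
 (.node (.leaf 9303)
 (.leaf 9819))))
 (.node (.node (.node (.leaf 13148)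
 (.leaf 1093))
 (.node (.leaf 6573)
 (.leaf 6856)))
 (.node (.node (.leaf 4588)
 (.leaf 2409))
 (.node (.leaf 12791)
 (.leaf 9290))))))

def srtTB46 : RT := .node (.node (.node (.node (.node (.node (.leaf 2049)
 (.leaf 6415))
 (.node (.leaf 6038)
 (.leaf 9864)))
 (.node (.node (.leaf 4328)
 (.leaf 871))
 (.node (.leaf 10902)
 (.leaf 13518))))
 (.node (.node (.node (.leaf 3684)
 (.leaf 14555))
 (.node (.leaf 9992)
 (.leaf 8018)))
 (.node (.node (.leaf 13563)
 (.leaf 3251))
 (.node (.leaf 7837)
 (.leaf 4789)))))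
 (.node (.node (.node (.node (.leaf 14870)
 (.leaf 6662))
 (.node (.leaf 14381)
 (.leaf 11248)))
 (.node (.node (.leaf 11207)
 (.leaf 13444))
 (.node (.leaf 9771)
 (.leaf 4797))))
 (.node (.node (.node (.leaf 13396)
 (.leaf 2763))
 (.node (.leaf 9680)
 (.leaf 12627)))
 (.node (.node (.leaf 10393)
 (.leaf 2912))
 (.node (.leaf 6108)
 (.leaf 14342))))))
 (.node (.node (.node (.node (.node (.leaf 7023)
 (.leaf 2043))
 (.node (.leaf 2214)
 (.leaf 5094)))
 (.node (.node (.leaf 8936)
 (.leaf 11355))
 (.node (.leaf 8285)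
 (.leaf 4490))))
 (.node (.node (.node (.leaf 4763)
 (.leaf 4780))
 (.node (.leaf 11671)
 (.leaf 3170)))
 (.node (.node (.leaf 8777)
 (.leaf 1490))
 (.node (.leaf 11802)
 (.leaf 9197)))))
 (.node (.node (.node (.node (.leaf 12117)
 (.leaf 12325))
 (.node (.leaf 2618)
 (.leaf 10995)))
 (.node (.node (.leaf 8219)
 (.leaf 3206))
 (.node (.leaf 657)
 (.leaf 879))))
 (.node (.node (.node (.leaf 7307)
 (.leaf 7615))
 (.node (.leaf 4348)
 (.leaf 499)))
 (.node (.node (.leaf 10295)
 (.leaf 13291))
 (.node (.leaf 1581)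
 (.leaf 2418))))))

def srtTB47 : RT := .node (.node (.node (.node (.node (.node (.leaf 7785)
 (.leaf 6642))
 (.node (.leaf 7381)
 (.leaf 2886)))
 (.node (.node (.leaf 5547)
 (.leaf 7290))
 (.node (.leaf 2716)
 (.leaf 7672))))
 (.node (.node (.node (.leaf 1220)
 (.leaf 5279))
 (.node (.leaf 7050)
 (.leaf 14957)))
 (.node (.node (.leaf 7876)
 (.leaf 8435))
 (.node (.leaf 656)
 (.leaf 3566)))))
 (.node (.node (.node (.node (.leaf 4255)
 (.leaf 12591))
 (.node (.leaf 5157)
 (.leaf 634)))
 (.node (.node (.leaf 13752)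
 (.leaf 9823))
 (.node (.leaf 14683)
 (.leaf 3644))))
 (.node (.node (.node (.leaf 14178)
 (.leaf 4561))
 (.node (.leaf 3180)
 (.leaf 12503)))
 (.node (.node (.leaf 7263)
 (.leaf 6475))
 (.node (.leaf 4059)
 (.leaf 1142))))))
 (.node (.node (.node (.node (.node (.leaf 6280)
 (.leaf 2574))
 (.node (.leaf 8961)
 (.leaf 5877)))
 (.node (.node (.leaf 7328)
 (.leaf 5446))
 (.node (.leaf 3535)
 (.leaf 5881))))
 (.node (.node (.node (.leaf 6164)
 (.leaf 1939))
 (.node (.leaf 5363)
 (.leaf 1268)))
 (.node (.node (.leaf 8047)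
 (.leaf 2301))
 (.node (.leaf 2035)
 (.leaf 5284)))))
 (.node (.node (.node (.node (.leaf 5526)
 (.leaf 12857))
 (.node (.leaf 8783)
 (.leaf 3825)))
 (.node (.node (.leaf 1010)
 (.leaf 8534))
 (.node (.leaf 5746)
 (.leaf 8124))))
 (.node (.node (.node (.leaf 11919)
 (.leaf 8680))
 (.node (.leaf 60)
 (.leaf 8525)))
 (.node (.node (.leaf 6014)
 (.leaf 3940))
 (.node (.leaf 1097)
 (.leaf 12327))))))

def srtTB48 : RT := .node (.node (.node (.node (.node (.node (.leaf 14384)
 (.leaf 7437))
 (.node (.leaf 13790)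
 (.leaf 3178)))
 (.node (.node (.leaf 8036)
 (.leaf 2459))
 (.node (.leaf 6096)
 (.leaf 13120))))
 (.node (.node (.node (.leaf 14851)
 (.leaf 4394))
 (.node (.leaf 11251)
 (.leaf 8720)))
 (.node (.node (.leaf 3319)
 (.leaf 4061))
 (.node (.leaf 363)
 (.leaf 7670)))))
 (.node (.node (.node (.node (.leaf 9110)
 (.leaf 12006))
 (.node (.leaf 13248)
 (.leaf 13541)))
 (.node (.node (.leaf 1500)
 (.leaf 433))
 (.node (.leaf 10255)
 (.leaf 2905))))
 (.node (.node (.node (.leaf 1016)
 (.leaf 11878))
 (.node (.leaf 8702)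
 (.leaf 5717)))
 (.node (.node (.leaf 12185)
 (.leaf 10047))
 (.node (.leaf 9160)
 (.leaf 2753))))))
 (.node (.node (.node (.node (.node (.leaf 3461)
 (.leaf 1730))
 (.node (.leaf 5843)
 (.leaf 5230)))
 (.node (.node (.leaf 5565)
 (.leaf 674))
 (.node (.leaf 9281)
 (.leaf 4968))))
 (.node (.node (.node (.leaf 12615)
 (.leaf 10358))
 (.node (.leaf 4488)
 (.leaf 8291)))
 (.node (.node (.leaf 11842)
 (.leaf 11864))
 (.node (.leaf 3720)
 (.leaf 2467)))))
 (.node (.node (.node (.node (.leaf 9175)
 (.leaf 5697))
 (.node (.leaf 1130)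
 (.leaf 3817)))
 (.node (.node (.leaf 3839)
 (.leaf 250))
 (.node (.leaf 6114)
 (.leaf 7763))))
 (.node (.node (.node (.leaf 3577)
 (.leaf 13679))
 (.node (.leaf 12542)
 (.leaf 13554)))
 (.node (.node (.leaf 14493)
 (.leaf 11028))
 (.node (.leaf 40)
 (.leaf 9783))))))

def srtTB49 : RT := .node (.node (.node (.node (.node (.node (.leaf 1183)
 (.leaf 13054))
 (.node (.leaf 6205)
 (.leaf 3832)))
 (.node (.node (.leaf 11197)
 (.leaf 8406))
 (.node (.leaf 12839)
 (.leaf 11435))))
 (.node (.node (.node (.leaf 3190)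
 (.leaf 434))
 (.node (.leaf 159)
 (.leaf 14043)))
 (.node (.node (.leaf 13503)
 (.leaf 14696))
 (.node (.leaf 1903)
 (.leaf 9957)))))
 (.node (.node (.node (.node (.leaf 11911)
 (.leaf 11727))
 (.node (.leaf 9089)
 (.leaf 20)))
 (.node (.node (.leaf 5135)
 (.leaf 642))
 (.node (.leaf 11111)
 (.leaf 13022))))
 (.node (.node (.node (.leaf 4556)
 (.leaf 10899))
 (.node (.leaf 14801)
 (.leaf 13796)))
 (.node (.node (.leaf 7707)
 (.leaf 6908))
 (.node (.leaf 576)
 (.leaf 9365))))))
 (.node (.node (.node (.node (.node (.leaf 10417)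
 (.leaf 9405))
 (.node (.leaf 11542)
 (.leaf 3645)))
 (.node (.node (.leaf 2500)
 (.leaf 6139))
 (.node (.leaf 6072)
 (.leaf 4593))))
 (.node (.node (.node (.leaf 3210)
 (.leaf 8930))
 (.node (.leaf 346)
 (.leaf 8520)))
 (.node (.node (.leaf 5894)
 (.leaf 6074))
 (.node (.leaf 11176)
 (.leaf 9518)))))
 (.node (.node (.node (.node (.leaf 3468)
 (.leaf 14889))
 (.node (.leaf 2269)
 (.leaf 7609)))
 (.node (.node (.leaf 8303)
 (.leaf 11122))
 (.node (.leaf 3717)
 (.leaf 9636))))
 (.node (.node (.node (.leaf 6444)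
 (.leaf 12792))
 (.node (.leaf 7375)
 (.leaf 2548)))
 (.node (.node (.leaf 2305)
 (.leaf 6245))
 (.node (.leaf 13250)
 (.leaf 12955))))))

def srtTB50 : RT := .node (.node (.node (.node (.node (.node (.leaf 14819)
 (.leaf 9271))
 (.node (.leaf 9470)
 (.leaf 4321)))
 (.node (.node (.leaf 168)
 (.leaf 493))
 (.node (.leaf 4171)
 (.leaf 4473))))
 (.node (.node (.node (.leaf 461)
 (.leaf 11629))
 (.node (.leaf 4774)
 (.leaf 4509)))
 (.node (.node (.leaf 8729)
 (.leaf 1176))
 (.node (.leaf 14863)
 (.leaf 3094)))))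
 (.node (.node (.node (.node (.leaf 7441)
 (.leaf 322))
 (.node (.leaf 3849)
 (.leaf 9615)))
 (.node (.node (.leaf 2845)
 (.leaf 11817))
 (.node (.leaf 11835)
 (.leaf 858))))
 (.node (.node (.node (.leaf 12736)
 (.leaf 5814))
 (.node (.leaf 926)
 (.leaf 11594)))
 (.node (.node (.leaf 11770)
 (.leaf 5241))
 (.node (.leaf 8940)
 (.leaf 1032))))))
 (.node (.node (.node (.node (.node (.leaf 1088)
 (.leaf 5145))
 (.node (.leaf 5944)
 (.leaf 12866)))
 (.node (.node (.leaf 9420)
 (.leaf 11072))
 (.node (.leaf 10760)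
 (.leaf 13685))))
 (.node (.node (.node (.leaf 14714)
 (.leaf 12319))
 (.node (.leaf 4231)
 (.leaf 1158)))
 (.node (.node (.leaf 14720)
 (.leaf 8329))
 (.node (.leaf 13454)
 (.leaf 1253)))))
 (.node (.node (.node (.node (.leaf 12419)
 (.leaf 12994))
 (.node (.leaf 7284)
 (.leaf 2690)))
 (.node (.node (.leaf 7406)
 (.leaf 9322))
 (.node (.leaf 7632)
 (.leaf 14189))))
 (.node (.node (.node (.leaf 13317)
 (.leaf 14676))
 (.node (.leaf 10900)
 (.leaf 11360)))
 (.node (.node (.leaf 13032)
 (.leaf 13867))
 (.node (.leaf 14231)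
 (.leaf 14256))))))

def srtTB51 : RT := .node (.node (.node (.node (.node (.node (.leaf 0)
 (.leaf 14224))
 (.node (.leaf 14289)
 (.leaf 14209)))
 (.node (.node (.leaf 14219)
 (.leaf 3538))
 (.node (.leaf 2742)
 (.leaf 8380))))
 (.node (.node (.node (.leaf 4278)
 (.leaf 7685))
 (.node (.leaf 14005)
 (.leaf 14892)))
 (.node (.node (.leaf 13530)
 (.leaf 13400))
 (.node (.leaf 10308)
 (.leaf 2109)))))
 (.node (.node (.node (.node (.leaf 6832)
 (.leaf 9221))
 (.node (.leaf 12919)
 (.leaf 10014)))
 (.node (.node (.leaf 7465)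
 (.leaf 5870))
 (.node (.leaf 5934)
 (.leaf 7008))))
 (.node (.node (.node (.leaf 6076)
 (.leaf 12446))
 (.node (.leaf 6647)
 (.leaf 4471)))
 (.node (.node (.leaf 11345)
 (.leaf 10307))
 (.node (.leaf 4532)
 (.leaf 10850))))))
 (.node (.node (.node (.node (.node (.leaf 10583)
 (.leaf 7234))
 (.node (.leaf 14808)
 (.leaf 1208)))
 (.node (.node (.leaf 11463)
 (.leaf 1383))
 (.node (.leaf 7889)
 (.leaf 3972))))
 (.node (.node (.node (.leaf 13595)
 (.leaf 3853))
 (.node (.leaf 11486)
 (.leaf 10440)))
 (.node (.node (.leaf 12536)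
 (.leaf 10919))
 (.node (.leaf 6441)
 (.leaf 3555)))))
 (.node (.node (.node (.node (.leaf 246)
 (.leaf 3979))
 (.node (.leaf 8019)
 (.leaf 991)))
 (.node (.node (.leaf 12441)
 (.leaf 2317))
 (.node (.leaf 3311)
 (.leaf 11332))))
 (.node (.node (.node (.leaf 9843)
 (.leaf 13404))
 (.node (.leaf 10172)
 (.leaf 10480)))
 (.node (.node (.leaf 7304)
 (.leaf 12362))
 (.node (.leaf 1851)
 (.leaf 10169))))))

def srtTB52 : RT := .node (.node (.node (.node (.node (.node (.leaf 397)
 (.leaf 6808))
 (.node (.leaf 12357)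
 (.leaf 3867)))
 (.node (.node (.leaf 14832)
 (.leaf 1276))
 (.node (.leaf 9926)
 (.leaf 7513))))
 (.node (.node (.node (.leaf 12554)
 (.leaf 175))
 (.node (.leaf 3015)
 (.leaf 11597)))
 (.node (.node (.leaf 14166)
 (.leaf 3341))
 (.node (.leaf 13365)
 (.leaf 11443)))))
 (.node (.node (.node (.node (.leaf 14568)
 (.leaf 11023))
 (.node (.leaf 3001)
 (.leaf 10051)))
 (.node (.node (.leaf 10985)
 (.leaf 487))
 (.node (.leaf 10262)
 (.leaf 334))))
 (.node (.node (.node (.leaf 13959)
 (.leaf 14718))
 (.node (.leaf 3820)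
 (.leaf 2823)))
 (.node (.node (.leaf 5455)
 (.leaf 14226))
 (.node (.leaf 5784)
 (.leaf 6105))))))
 (.node (.node (.node (.node (.node (.leaf 6830)
 (.leaf 1804))
 (.node (.leaf 2595)
 (.leaf 276)))
 (.node (.node (.leaf 14738)
 (.leaf 9573))
 (.node (.leaf 4044)
 (.leaf 12290))))
 (.node (.node (.node (.leaf 9805)
 (.leaf 2380))
 (.node (.leaf 12810)
 (.leaf 6851)))
 (.node (.node (.leaf 6553)
 (.leaf 13654))
 (.node (.leaf 1255)
 (.leaf 8450)))))
 (.node (.node (.node (.node (.leaf 3336)
 (.leaf 4823))
 (.node (.leaf 4765)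
 (.leaf 8997)))
 (.node (.node (.leaf 390)
 (.leaf 3985))
 (.node (.leaf 3364)
 (.leaf 10152))))
 (.node (.node (.node (.leaf 6256)
 (.leaf 12733))
 (.node (.leaf 7145)
 (.leaf 10396)))
 (.node (.node (.leaf 13601)
 (.leaf 5182))
 (.node (.leaf 3158)
 (.leaf 5596))))))

def srtTB53 : RT := .node (.node (.node (.node (.node (.node (.leaf 5534)
 (.leaf 6504))
 (.node (.leaf 5096)
 (.leaf 14693)))
 (.node (.node (.leaf 4781)
 (.leaf 1775))
 (.node (.leaf 3432)
 (.leaf 14415))))
 (.node (.node (.node (.leaf 8214)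
 (.leaf 13466))
 (.node (.leaf 13698)
 (.leaf 1687)))
 (.node (.node (.leaf 9487)
 (.leaf 1658))
 (.node (.leaf 7345)
 (.leaf 13869)))))
 (.node (.node (.node (.node (.leaf 10387)
 (.leaf 7875))
 (.node (.leaf 8487)
 (.leaf 4116)))
 (.node (.node (.leaf 11259)
 (.leaf 9028))
 (.node (.leaf 11960)
 (.leaf 3208))))
 (.node (.node (.node (.leaf 9346)
 (.leaf 636))
 (.node (.leaf 8166)
 (.leaf 4011)))
 (.node (.node (.leaf 307)
 (.leaf 6265))
 (.node (.leaf 9887)
 (.leaf 14702))))))
 (.node (.node (.node (.node (.node (.leaf 2731)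
 (.leaf 9527))
 (.node (.leaf 13535)
 (.leaf 13842)))
 (.node (.node (.leaf 13272)
 (.leaf 10923))
 (.node (.leaf 14084)
 (.leaf 13302))))
 (.node (.node (.node (.leaf 6929)
 (.leaf 10602))
 (.node (.leaf 8333)
 (.leaf 7489)))
 (.node (.node (.leaf 12640)
 (.leaf 8919))
 (.node (.leaf 11662)
 (.leaf 7686)))))
 (.node (.node (.node (.node (.leaf 163)
 (.leaf 6932))
 (.node (.leaf 2300)
 (.leaf 6586)))
 (.node (.node (.leaf 14330)
 (.leaf 4461))
 (.node (.leaf 8331)
 (.leaf 9245))))
 (.node (.node (.node (.leaf 12394)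
 (.leaf 1611))
 (.node (.leaf 4814)
 (.leaf 8066)))
 (.node (.node (.leaf 6922)
 (.leaf 2352))
 (.node (.leaf 3074)
 (.leaf 12168))))))

def srtTB54 : RT := .node (.node (.node (.node (.node (.node (.leaf 12465)
 (.leaf 9022))
 (.node (.leaf 11767)
 (.leaf 1642)))
 (.node (.node (.leaf 2529)
 (.leaf 5402))
 (.node (.leaf 1646)
 (.leaf 8935))))
 (.node (.node (.node (.leaf 8586)
 (.leaf 9776))
 (.node (.leaf 3815)
 (.leaf 7998)))
 (.node (.node (.leaf 9653)
 (.leaf 1921))
 (.node (.leaf 3884)
 (.leaf 8102)))))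
 (.node (.node (.node (.node (.leaf 14130)
 (.leaf 12379))
 (.node (.leaf 432)
 (.leaf 13235)))
 (.node (.node (.leaf 1305)
 (.leaf 1435))
 (.node (.leaf 8986)
 (.leaf 11317))))
 (.node (.node (.node (.leaf 8895)
 (.leaf 12129))
 (.node (.leaf 5124)
 (.leaf 6213)))
 (.node (.node (.leaf 916)
 (.leaf 1238))
 (.node (.leaf 14544)
 (.leaf 3977))))))
 (.node (.node (.node (.node (.node (.leaf 9850)
 (.leaf 2388))
 (.node (.leaf 13214)
 (.leaf 6008)))
 (.node (.node (.leaf 12474)
 (.leaf 13740))
 (.node (.leaf 6847)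
 (.leaf 14096))))
 (.node (.node (.node (.leaf 9437)
 (.leaf 9246))
 (.node (.leaf 1551)
 (.leaf 8188)))
 (.node (.node (.leaf 9846)
 (.leaf 478))
 (.node (.leaf 13655)
 (.leaf 10251)))))
 (.node (.node (.node (.node (.leaf 12171)
 (.leaf 357))
 (.node (.leaf 4559)
 (.leaf 11311)))
 (.node (.node (.leaf 7556)
 (.leaf 5231))
 (.node (.leaf 7501)
 (.leaf 6933))))
 (.node (.node (.node (.leaf 2025)
 (.leaf 2931))
 (.node (.leaf 5629)
 (.leaf 6938)))
 (.node (.node (.leaf 8012)
 (.leaf 14809))
 (.node (.leaf 3785)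
 (.leaf 13184))))))

def srtTB55 : RT := .node (.node (.node (.node (.node (.node (.leaf 2631)
 (.leaf 9480))
 (.node (.leaf 11483)
 (.leaf 5957)))
 (.node (.node (.leaf 3128)
 (.leaf 4706))
 (.node (.leaf 8144)
 (.leaf 1855))))
 (.node (.node (.node (.leaf 526)
 (.leaf 5167))
 (.node (.leaf 2705)
 (.leaf 265)))
 (.node (.node (.leaf 1077)
 (.leaf 6519))
 (.node (.leaf 5689)
 (.leaf 9206)))))
 (.node (.node (.node (.node (.leaf 3906)
 (.leaf 3661))
 (.node (.leaf 11867)
 (.leaf 4933)))
 (.node (.node (.leaf 8712)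
 (.leaf 9816))
 (.node (.leaf 593)
 (.leaf 7874))))
 (.node (.node (.node (.leaf 9282)
 (.leaf 12715))
 (.node (.leaf 13319)
 (.leaf 1345)))
 (.node (.node (.leaf 1578)
 (.leaf 2377))
 (.node (.leaf 9568)
 (.leaf 10547))))))
 (.node (.node (.node (.node (.node (.leaf 9831)
 (.leaf 5131))
 (.node (.leaf 2630)
 (.leaf 12032)))
 (.node (.node (.leaf 11604)
 (.leaf 5333))
 (.node (.leaf 4483)
 (.leaf 39))))
 (.node (.node (.node (.leaf 3197)
 (.leaf 12437))
 (.node (.leaf 10126)
 (.leaf 3488)))
 (.node (.node (.leaf 2090)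
 (.leaf 6183))
 (.node (.leaf 5598)
 (.leaf 12242)))))
 (.node (.node (.node (.node (.leaf 242)
 (.leaf 7373))
 (.node (.leaf 13369)
 (.leaf 10523)))
 (.node (.node (.leaf 13173)
 (.leaf 2567))
 (.node (.leaf 2286)
 (.leaf 14640))))
 (.node (.node (.node (.leaf 14140)
 (.leaf 624))
 (.node (.leaf 7748)
 (.leaf 13574)))
 (.node (.node (.leaf 3642)
 (.leaf 11497))
 (.node (.leaf 9268)
 (.leaf 13060))))))

def srtTB56 : RT := .node (.node (.node (.node (.node (.node (.leaf 4782)
 (.leaf 13745))
 (.node (.leaf 1312)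
 (.leaf 8074)))
 (.node (.node (.leaf 12674)
 (.leaf 6648))
 (.node (.leaf 2427)
 (.leaf 6064))))
 (.node (.node (.node (.leaf 10744)
 (.leaf 14133))
 (.node (.leaf 10147)
 (.leaf 14854)))
 (.node (.node (.leaf 3120)
 (.leaf 6688))
 (.node (.leaf 7602)
 (.leaf 8327)))))
 (.node (.node (.node (.node (.leaf 8097)
 (.leaf 14278))
 (.node (.leaf 7458)
 (.leaf 5068)))
 (.node (.node (.leaf 4098)
 (.leaf 861))
 (.node (.leaf 944)
 (.leaf 4786))))
 (.node (.node (.node (.leaf 9648)
 (.leaf 11844))
 (.node (.leaf 8445)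
 (.leaf 14497)))
 (.node (.node (.leaf 1967)
 (.leaf 3526))
 (.node (.leaf 9995)
 (.leaf 13177))))))
 (.node (.node (.node (.node (.node (.leaf 2083)
 (.leaf 11568))
 (.node (.leaf 13778)
 (.leaf 3483)))
 (.node (.node (.leaf 7848)
 (.leaf 8127))
 (.node (.leaf 2888)
 (.leaf 171))))
 (.node (.node (.node (.leaf 2020)
 (.leaf 3935))
 (.node (.leaf 10539)
 (.leaf 941)))
 (.node (.node (.leaf 7227)
 (.leaf 7960))
 (.node (.leaf 2932)
 (.leaf 5979)))))
 (.node (.node (.node (.node (.leaf 1540)
 (.leaf 5931))
 (.node (.leaf 3323)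
 (.leaf 14296)))
 (.node (.node (.leaf 13630)
 (.leaf 14778))
 (.node (.leaf 940)
 (.leaf 13334))))
 (.node (.node (.node (.leaf 7633)
 (.leaf 12545))
 (.node (.leaf 14314)
 (.leaf 13969)))
 (.node (.node (.leaf 1640)
 (.leaf 681))
 (.node (.leaf 14506)
 (.leaf 9476))))))

def srtTB57 : RT := .node (.node (.node (.node (.node (.node (.leaf 14697)
 (.leaf 4114))
 (.node (.leaf 7472)
 (.leaf 7605)))
 (.node (.node (.leaf 4123)
 (.leaf 13904))
 (.node (.leaf 4467)
 (.leaf 14051))))
 (.node (.node (.node (.leaf 12973)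
 (.leaf 730))
 (.node (.leaf 14333)
 (.leaf 13728)))
 (.node (.node (.leaf 14791)
 (.leaf 12910))
 (.node (.leaf 1407)
 (.leaf 13187)))))
 (.node (.node (.node (.node (.leaf 9401)
 (.leaf 4726))
 (.node (.leaf 4160)
 (.leaf 123)))
 (.node (.node (.leaf 8340)
 (.leaf 10085))
 (.node (.leaf 13340)
 (.leaf 14145))))
 (.node (.node (.node (.leaf 3524)
 (.leaf 13025))
 (.node (.leaf 800)
 (.leaf 1481)))
 (.node (.node (.leaf 11991)
 (.leaf 1928))
 (.node (.leaf 9156)
 (.leaf 3897))))))
 (.node (.node (.node (.node (.node (.leaf 1561)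
 (.leaf 9196))
 (.node (.leaf 7144)
 (.leaf 4342)))
 (.node (.node (.leaf 12257)
 (.leaf 6029))
 (.node (.leaf 3162)
 (.leaf 8351))))
 (.node (.node (.node (.leaf 1593)
 (.leaf 2645))
 (.node (.leaf 14283)
 (.leaf 5915)))
 (.node (.node (.leaf 5429)
 (.leaf 2737))
 (.node (.leaf 1772)
 (.leaf 5978)))))
 (.node (.node (.node (.node (.leaf 6853)
 (.leaf 5255))
 (.node (.leaf 1135)
 (.leaf 4384)))
 (.node (.node (.leaf 6173)
 (.leaf 6614))
 (.node (.leaf 5663)
 (.leaf 11791))))
 (.node (.node (.node (.leaf 4268)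
 (.leaf 12184))
 (.node (.leaf 5987)
 (.leaf 3098)))
 (.node (.node (.leaf 12485)
 (.leaf 2621))
 (.node (.leaf 3408)
 (.leaf 14119))))))

def srtTB58 : RT := .node (.node (.node (.node (.node (.node (.leaf 11404)
 (.leaf 9956))
 (.node (.leaf 4065)
 (.leaf 8288)))
 (.node (.node (.leaf 12705)
 (.leaf 6))
 (.node (.leaf 6983)
 (.leaf 2391))))
 (.node (.node (.node (.leaf 14349)
 (.leaf 3242))
 (.node (.leaf 8153)
 (.leaf 10272)))
 (.node (.node (.leaf 2276)
 (.leaf 11324))
 (.node (.leaf 6585)
 (.leaf 1105)))))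
 (.node (.node (.node (.node (.leaf 13360)
 (.leaf 11061))
 (.node (.leaf 12684)
 (.leaf 1793)))
 (.node (.node (.leaf 3361)
 (.leaf 9203))
 (.node (.leaf 11161)
 (.leaf 2218))))
 (.node (.node (.node (.leaf 10018)
 (.leaf 12578))
 (.node (.leaf 8232)
 (.leaf 3496)))
 (.node (.node (.leaf 6841)
 (.leaf 13863))
 (.node (.leaf 4260)
 (.leaf 7291))))))
 (.node (.node (.node (.node (.node (.leaf 12671)
 (.leaf 1560))
 (.node (.leaf 1971)
 (.leaf 14648)))
 (.node (.node (.leaf 10243)
 (.leaf 12614))
 (.node (.leaf 1170)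
 (.leaf 781))))
 (.node (.node (.node (.leaf 14516)
 (.leaf 9841))
 (.node (.leaf 905)
 (.leaf 6913)))
 (.node (.node (.leaf 10845)
 (.leaf 7000))
 (.node (.leaf 2893)
 (.leaf 10182)))))
 (.node (.node (.node (.node (.leaf 12940)
 (.leaf 11087))
 (.node (.leaf 13388)
 (.leaf 13700)))
 (.node (.node (.leaf 613)
 (.leaf 8769))
 (.node (.leaf 7448)
 (.leaf 8685))))
 (.node (.node (.node (.leaf 9285)
 (.leaf 11700))
 (.node (.leaf 2963)
 (.leaf 4305)))
 (.node (.node (.leaf 11819)
 (.leaf 7237))
 (.node (.leaf 4875)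
 (.leaf 5375))))))

def srtTB59 : RT := .node (.node (.node (.node (.node (.node (.leaf 4929)
 (.leaf 1880))
 (.node (.leaf 5036)
 (.leaf 3552)))
 (.node (.node (.leaf 570)
 (.leaf 13975))
 (.node (.leaf 4482)
 (.leaf 2532))))
 (.node (.node (.node (.leaf 10887)
 (.leaf 13114))
 (.node (.leaf 4552)
 (.leaf 11261)))
 (.node (.node (.leaf 7669)
 (.leaf 10758))
 (.node (.leaf 7926)
 (.leaf 11051)))))
 (.node (.node (.node (.node (.leaf 12199)
 (.leaf 11001))
 (.node (.leaf 56)
 (.leaf 8804)))
 (.node (.node (.leaf 3088)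
 (.leaf 5244))
 (.node (.leaf 2761)
 (.leaf 11945))))
 (.node (.node (.node (.leaf 778)
 (.leaf 7108))
 (.node (.leaf 13757)
 (.leaf 8026)))
 (.node (.node (.leaf 3842)
 (.leaf 12305))
 (.node (.leaf 2852)
 (.leaf 12534))))))
 (.node (.node (.node (.node (.node (.leaf 10869)
 (.leaf 8438))
 (.node (.leaf 2817)
 (.leaf 5576)))
 (.node (.node (.leaf 8838)
 (.leaf 4151))
 (.node (.leaf 8914)
 (.leaf 12100))))
 (.node (.node (.node (.leaf 2078)
 (.leaf 1041))
 (.node (.leaf 4950)
 (.leaf 5151)))
 (.node (.node (.leaf 3342)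
 (.leaf 14908))
 (.node (.leaf 2850)
 (.leaf 7783)))))
 (.node (.node (.node (.node (.leaf 8169)
 (.leaf 7867))
 (.node (.leaf 8256)
 (.leaf 14239)))
 (.node (.node (.leaf 6607)
 (.leaf 3201))
 (.node (.leaf 4966)
 (.leaf 8356))))
 (.node (.node (.node (.leaf 12969)
 (.leaf 3715))
 (.node (.leaf 7639)
 (.leaf 122)))
 (.node (.node (.leaf 11659)
 (.leaf 10331))
 (.node (.leaf 5340)
 (.leaf 380))))))

def srtTB60 : RT := .node (.node (.node (.node (.node (.node (.leaf 6864)
 (.leaf 9214))
 (.node (.leaf 11788)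
 (.leaf 5338)))
 (.node (.node (.leaf 7729)
 (.leaf 4891))
 (.node (.leaf 456)
 (.leaf 6926))))
 (.node (.node (.node (.leaf 4881)
 (.leaf 3772))
 (.node (.leaf 8995)
 (.leaf 8542)))
 (.node (.node (.leaf 99)
 (.leaf 9692))
 (.node (.leaf 12091)
 (.leaf 4441)))))
 (.node (.node (.node (.node (.leaf 12489)
 (.leaf 10475))
 (.node (.leaf 3612)
 (.leaf 402)))
 (.node (.node (.leaf 5479)
 (.leaf 5008))
 (.node (.leaf 32)
 (.leaf 6099))))
 (.node (.node (.node (.leaf 6363)
 (.leaf 3199))
 (.node (.leaf 9125)
 (.leaf 11603)))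
 (.node (.node (.leaf 9764)
 (.leaf 1498))
 (.node (.leaf 3810)
 (.leaf 10921))))))
 (.node (.node (.node (.node (.node (.leaf 13894)
 (.leaf 13618))
 (.node (.leaf 13247)
 (.leaf 13548)))
 (.node (.node (.leaf 9943)
 (.leaf 14069))
 (.node (.leaf 10888)
 (.leaf 12915))))
 (.node (.node (.node (.leaf 14389)
 (.leaf 13135))
 (.node (.leaf 12375)
 (.leaf 6353)))
 (.node (.node (.leaf 13314)
 (.leaf 1688))
 (.node (.leaf 9668)
 (.leaf 3380)))))
 (.node (.node (.node (.node (.leaf 2609)
 (.leaf 641))
 (.node (.leaf 14795)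
 (.leaf 10489)))
 (.node (.node (.leaf 7965)
 (.leaf 4392))
 (.node (.leaf 1400)
 (.leaf 3945))))
 (.node (.node (.node (.leaf 524)
 (.leaf 14405))
 (.node (.leaf 6044)
 (.leaf 12402)))
 (.node (.node (.leaf 9770)
 (.leaf 11250))
 (.node (.leaf 13716)
 (.leaf 13588))))))

def srtTB61 : RT := .node (.node (.node (.node (.node (.node (.leaf 13294)
 (.leaf 8086))
 (.node (.leaf 10655)
 (.leaf 8309)))
 (.node (.node (.leaf 12497)
 (.leaf 4432))
 (.node (.leaf 7354)
 (.leaf 1399))))
 (.node (.node (.node (.leaf 13127)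
 (.leaf 271))
 (.node (.leaf 11194)
 (.leaf 14657)))
 (.node (.node (.leaf 8816)
 (.leaf 12181))
 (.node (.leaf 7100)
 (.leaf 11729)))))
 (.node (.node (.node (.node (.leaf 11982)
 (.leaf 5226))
 (.node (.leaf 9146)
 (.leaf 9091)))
 (.node (.node (.leaf 3818)
 (.leaf 10068))
 (.node (.leaf 1099)
 (.leaf 2261))))
 (.node (.node (.node (.leaf 8367)
 (.leaf 14273))
 (.node (.leaf 6923)
 (.leaf 6117)))
 (.node (.node (.leaf 1478)
 (.leaf 7183))
 (.node (.leaf 5862)
 (.leaf 2998))))))
 (.node (.node (.node (.node (.node (.leaf 3320)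
 (.leaf 2601))
 (.node (.leaf 6793)
 (.leaf 1595)))
 (.node (.node (.leaf 1439)
 (.leaf 14944))
 (.node (.leaf 7554)
 (.leaf 5092))))
 (.node (.node (.node (.leaf 8293)
 (.leaf 5057))
 (.node (.leaf 1339)
 (.leaf 7388)))
 (.node (.node (.leaf 7164)
 (.leaf 1456))
 (.node (.leaf 8308)
 (.leaf 64)))))
 (.node (.node (.node (.node (.leaf 5963)
 (.leaf 9003))
 (.node (.leaf 11931)
 (.leaf 5323)))
 (.node (.node (.leaf 6544)
 (.leaf 9422))
 (.node (.leaf 1076)
 (.leaf 1065))))
 (.node (.node (.node (.leaf 8784)
 (.leaf 7540))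
 (.node (.leaf 2143)
 (.leaf 5051)))
 (.node (.node (.leaf 6380)
 (.leaf 6981))
 (.node (.leaf 6018)
 (.leaf 8263))))))

def srtTB62 : RT := .node (.node (.node (.node (.node (.node (.leaf 1325)
 (.leaf 747))
 (.node (.leaf 6095)
 (.leaf 4408)))
 (.node (.node (.leaf 5838)
 (.leaf 7015))
 (.node (.leaf 10258)
 (.leaf 11799))))
 (.node (.node (.node (.leaf 8480)
 (.leaf 3989))
 (.node (.leaf 3471)
 (.leaf 5925)))
 (.node (.node (.leaf 11340)
 (.leaf 349))
 (.node (.leaf 1881)
 (.leaf 10732)))))
 (.node (.node (.node (.node (.leaf 14068)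
 (.leaf 6053))
 (.node (.leaf 13695)
 (.leaf 4201)))
 (.node (.node (.leaf 12925)
 (.leaf 10150))
 (.node (.leaf 13158)
 (.leaf 3948))))
 (.node (.node (.node (.leaf 11191)
 (.leaf 215))
 (.node (.leaf 11341)
 (.leaf 9294)))
 (.node (.node (.leaf 2490)
 (.leaf 7004))
 (.node (.leaf 6912)
 (.leaf 11285))))))
 (.node (.node (.node (.node (.node (.leaf 14731)
 (.leaf 13799))
 (.node (.leaf 12726)
 (.leaf 6602)))
 (.node (.node (.leaf 1656)
 (.leaf 1374))
 (.node (.leaf 8292)
 (.leaf 9304))))
 (.node (.node (.node (.leaf 11172)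
 (.leaf 3545))
 (.node (.leaf 9629)
 (.leaf 9458)))
 (.node (.node (.leaf 776)
 (.leaf 13521))
 (.node (.leaf 10186)
 (.leaf 6381)))))
 (.node (.node (.node (.node (.leaf 10439)
 (.leaf 13708))
 (.node (.leaf 7025)
 (.leaf 14040)))
 (.node (.node (.leaf 1813)
 (.leaf 13368))
 (.node (.leaf 14583)
 (.leaf 3609))))
 (.node (.node (.node (.leaf 8314)
 (.leaf 9838))
 (.node (.leaf 10055)
 (.leaf 11862)))
 (.node (.node (.leaf 7243)
 (.leaf 8432))
 (.node (.leaf 4188)
 (.leaf 11925))))))

def srtTB63 : RT := .node (.node (.node (.node (.node (.node (.leaf 12528)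
 (.leaf 5616))
 (.node (.leaf 55)
 (.leaf 3582)))
 (.node (.node (.leaf 8477)
 (.leaf 1415))
 (.node (.leaf 7325)
 (.leaf 8334))))
 (.node (.node (.node (.leaf 8349)
 (.leaf 8226))
 (.node (.leaf 2157)
 (.leaf 2891)))
 (.node (.node (.leaf 4865)
 (.leaf 14262))
 (.node (.leaf 6251)
 (.leaf 5569)))))
 (.node (.node (.node (.node (.leaf 2605)
 (.leaf 10633))
 (.node (.leaf 4539)
 (.leaf 10470)))
 (.node (.node (.leaf 13167)
 (.leaf 668))
 (.node (.leaf 10185)
 (.leaf 1679))))
 (.node (.node (.node (.leaf 12206)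
 (.leaf 13998))
 (.node (.leaf 14134)
 (.leaf 4646)))
 (.node (.node (.leaf 12931)
 (.leaf 14743))
 (.node (.leaf 2973)
 (.leaf 9450))))))
 (.node (.node (.node (.node (.node (.leaf 143)
 (.leaf 3203))
 (.node (.leaf 8420)
 (.leaf 12077)))
 (.node (.node (.leaf 3994)
 (.leaf 8792))
 (.node (.leaf 476)
 (.leaf 6870))))
 (.node (.node (.node (.leaf 10453)
 (.leaf 882))
 (.node (.leaf 3296)
 (.leaf 1676)))
 (.node (.node (.leaf 6866)
 (.leaf 5481))
 (.node (.leaf 4861)
 (.leaf 3132)))))
 (.node (.node (.node (.node (.leaf 3544)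
 (.leaf 6638))
 (.node (.leaf 7776)
 (.leaf 5109)))
 (.node (.node (.leaf 3377)
 (.leaf 2368))
 (.node (.leaf 2599)
 (.leaf 863))))
 (.node (.node (.node (.leaf 12155)
 (.leaf 8881))
 (.node (.leaf 149)
 (.leaf 8616)))
 (.node (.node (.leaf 4544)
 (.leaf 8505))
 (.node (.leaf 9258)
 (.leaf 3148))))))

def srtTB64 : RT := .node (.node (.node (.node (.node (.node (.leaf 14722)
 (.leaf 11480))
 (.node (.leaf 902)
 (.leaf 12309)))
 (.node (.node (.leaf 1282)
 (.leaf 2179))
 (.node (.leaf 12957)
 (.leaf 14880))))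
 (.node (.node (.node (.leaf 7742)
 (.leaf 11080))
 (.node (.leaf 7644)
 (.leaf 13508)))
 (.node (.node (.leaf 146)
 (.leaf 418))
 (.node (.leaf 13877)
 (.leaf 11295)))))
 (.node (.node (.node (.node (.leaf 11490)
 (.leaf 4661))
 (.node (.leaf 14088)
 (.leaf 1539)))
 (.node (.node (.leaf 2720)
 (.leaf 10031))
 (.node (.leaf 9159)
 (.leaf 227))))
 (.node (.node (.node (.leaf 10840)
 (.leaf 8079))
 (.node (.leaf 9407)
 (.leaf 19)))
 (.node (.node (.leaf 11672)
 (.leaf 1969))
 (.node (.leaf 2895)
 (.leaf 5308))))))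
 (.node (.node (.node (.node (.node (.leaf 472)
 (.leaf 7509))
 (.node (.leaf 12630)
 (.leaf 10671)))
 (.node (.node (.leaf 4240)
 (.leaf 13533))
 (.node (.leaf 9288)
 (.leaf 12942))))
 (.node (.node (.node (.leaf 4930)
 (.leaf 8299))
 (.node (.leaf 1960)
 (.leaf 3457)))
 (.node (.node (.leaf 2939)
 (.leaf 1402))
 (.node (.leaf 5115)
 (.leaf 7039)))))
 (.node (.node (.node (.node (.leaf 12697)
 (.leaf 1193))
 (.node (.leaf 11947)
 (.leaf 5803)))
 (.node (.node (.leaf 9319)
 (.leaf 8401))
 (.node (.leaf 3060)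
 (.leaf 5372))))
 (.node (.node (.node (.leaf 5788)
 (.leaf 2483))
 (.node (.leaf 8015)
 (.leaf 5155)))
 (.node (.node (.leaf 6673)
 (.leaf 14208))
 (.node (.leaf 7762)
 (.leaf 11900))))))

def srtTB65 : RT := .node (.node (.node (.node (.node (.node (.leaf 9374)
 (.leaf 2668))
 (.node (.leaf 7996)
 (.leaf 14292)))
 (.node (.node (.leaf 3578)
 (.leaf 2089))
 (.node (.leaf 5300)
 (.leaf 5656))))
 (.node (.node (.node (.leaf 3415)
 (.leaf 1541))
 (.node (.leaf 3165)
 (.leaf 5485)))
 (.node (.node (.leaf 8740)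
 (.leaf 2779))
 (.node (.leaf 10161)
 (.leaf 684)))))
 (.node (.node (.node (.node (.leaf 1883)
 (.leaf 11996))
 (.node (.leaf 9977)
 (.leaf 6269)))
 (.node (.node (.leaf 13594)
 (.leaf 11184))
 (.node (.leaf 10849)
 (.leaf 12296))))
 (.node (.node (.node (.leaf 9900)
 (.leaf 3334))
 (.node (.leaf 6987)
 (.leaf 9484)))
 (.node (.node (.leaf 10388)
 (.leaf 1684))
 (.node (.leaf 3789)
 (.leaf 7966))))))
 (.node (.node (.node (.node (.node (.leaf 11927)
 (.leaf 7825))
 (.node (.leaf 2267)
 (.leaf 9009)))
 (.node (.node (.leaf 13079)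
 (.leaf 14351))
 (.node (.leaf 8306)
 (.leaf 13702))))
 (.node (.node (.node (.leaf 6720)
 (.leaf 3527))
 (.node (.leaf 2661)
 (.leaf 7916)))
 (.node (.node (.leaf 6558)
 (.leaf 5867))
 (.node (.leaf 1516)
 (.leaf 5506)))))
 (.node (.node (.node (.node (.leaf 5910)
 (.leaf 1905))
 (.node (.leaf 6575)
 (.leaf 5813)))
 (.node (.node (.leaf 5751)
 (.leaf 2693))
 (.node (.leaf 7387)
 (.leaf 3150))))
 (.node (.node (.node (.leaf 12803)
 (.leaf 9200))
 (.node (.leaf 336)
 (.leaf 4082)))
 (.node (.node (.leaf 8879)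
 (.leaf 925))
 (.node (.leaf 4435)
 (.leaf 11415))))))

def srtTB66 : RT := .node (.node (.node (.node (.node (.node (.leaf 14347)
 (.leaf 13237))
 (.node (.leaf 4072)
 (.leaf 7092)))
 (.node (.node (.leaf 13938)
 (.leaf 4755))
 (.node (.leaf 6307)
 (.leaf 1713))))
 (.node (.node (.node (.leaf 9667)
 (.leaf 8969))
 (.node (.leaf 5834)
 (.leaf 11717)))
 (.node (.node (.leaf 12442)
 (.leaf 6904))
 (.node (.leaf 7197)
 (.leaf 4439)))))
 (.node (.node (.node (.node (.leaf 9781)
 (.leaf 14789))
 (.node (.leaf 1637)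
 (.leaf 14708)))
 (.node (.node (.leaf 6088)
 (.leaf 7675))
 (.node (.leaf 4608)
 (.leaf 989))))
 (.node (.node (.node (.leaf 14343)
 (.leaf 6385))
 (.node (.leaf 13488)
 (.leaf 4028)))
 (.node (.node (.leaf 12291)
 (.leaf 12270))
 (.node (.leaf 6308)
 (.leaf 5174))))))
 (.node (.node (.node (.node (.node (.leaf 6879)
 (.leaf 7226))
 (.node (.leaf 5515)
 (.leaf 5250)))
 (.node (.node (.leaf 1814)
 (.leaf 7881))
 (.node (.leaf 8330)
 (.leaf 3747))))
 (.node (.node (.node (.leaf 10576)
 (.leaf 11380))
 (.node (.leaf 12709)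
 (.leaf 6654)))
 (.node (.node (.leaf 8197)
 (.leaf 6770))
 (.node (.leaf 3115)
 (.leaf 1297)))))
 (.node (.node (.node (.node (.leaf 10012)
 (.leaf 9467))
 (.node (.leaf 8370)
 (.leaf 3497)))
 (.node (.node (.leaf 9722)
 (.leaf 9177))
 (.node (.leaf 6699)
 (.leaf 5373))))
 (.node (.node (.node (.leaf 413)
 (.leaf 9708))
 (.node (.leaf 8978)
 (.leaf 11988)))
 (.node (.node (.leaf 340)
 (.leaf 9189))
 (.node (.leaf 2577)
 (.leaf 9994))))))

def srtTB67 : RT := .node (.node (.node (.node (.node (.node (.leaf 7316)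
 (.leaf 9720))
 (.node (.leaf 13773)
 (.leaf 14055)))
 (.node (.node (.leaf 6859)
 (.leaf 13240))
 (.node (.leaf 12730)
 (.leaf 3367))))
 (.node (.node (.node (.leaf 9355)
 (.leaf 9390))
 (.node (.leaf 12746)
 (.leaf 6627)))
 (.node (.node (.leaf 3403)
 (.leaf 4315))
 (.node (.leaf 10392)
 (.leaf 6634)))))
 (.node (.node (.node (.node (.leaf 13851)
 (.leaf 10025))
 (.node (.leaf 7918)
 (.leaf 2862)))
 (.node (.node (.leaf 10968)
 (.leaf 4702))
 (.node (.leaf 10206)
 (.leaf 4856))))
 (.node (.node (.node (.leaf 10933)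
 (.leaf 6565))
 (.node (.leaf 2147)
 (.leaf 12178)))
 (.node (.node (.leaf 8766)
 (.leaf 4864))
 (.node (.leaf 5056)
 (.leaf 5267))))))
 (.node (.node (.node (.node (.node (.leaf 5032)
 (.leaf 6499))
 (.node (.leaf 8307)
 (.leaf 2344)))
 (.node (.node (.leaf 2804)
 (.leaf 7711))
 (.node (.leaf 5091)
 (.leaf 13635))))
 (.node (.node (.node (.leaf 10703)
 (.leaf 14028))
 (.node (.leaf 6755)
 (.leaf 6068)))
 (.node (.node (.leaf 11171)
 (.leaf 10367))
 (.node (.leaf 14706)
 (.leaf 9073)))))
 (.node (.node (.node (.node (.leaf 4179)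
 (.leaf 5212))
 (.node (.leaf 11920)
 (.leaf 8852)))
 (.node (.node (.leaf 236)
 (.leaf 5595))
 (.node (.leaf 408)
 (.leaf 10119))))
 (.node (.node (.node (.leaf 14372)
 (.leaf 3040))
 (.node (.leaf 11674)
 (.leaf 10217)))
 (.node (.node (.leaf 2180)
 (.leaf 2714))
 (.node (.leaf 12058)
 (.leaf 1659))))))

def srtTB68 : RT := .node (.node (.node (.node (.node (.node (.leaf 1721)
 (.leaf 313))
 (.node (.leaf 8283)
 (.leaf 11800)))
 (.node (.node (.leaf 5921)
 (.leaf 3758))
 (.node (.leaf 5857)
 (.leaf 12107))))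
 (.node (.node (.node (.leaf 8647)
 (.leaf 4902))
 (.node (.leaf 12986)
 (.leaf 10502)))
 (.node (.node (.leaf 5997)
 (.leaf 9032))
 (.node (.leaf 6264)
 (.leaf 6204)))))
 (.node (.node (.node (.node (.leaf 10224)
 (.leaf 2530))
 (.node (.leaf 3200)
 (.leaf 10413)))
 (.node (.node (.leaf 10898)
 (.leaf 12506))
 (.node (.leaf 8884)
 (.leaf 7863))))
 (.node (.node (.node (.leaf 5037)
 (.leaf 3714))
 (.node (.leaf 9163)
 (.leaf 2230)))
 (.node (.node (.leaf 4898)
 (.leaf 1237))
 (.node (.leaf 8932)
 (.leaf 12461))))))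
 (.node (.node (.node (.node (.node (.leaf 10460)
 (.leaf 10235))
 (.node (.leaf 1634)
 (.leaf 5043)))
 (.node (.node (.leaf 5744)
 (.leaf 2141))
 (.node (.leaf 7151)
 (.leaf 1046))))
 (.node (.node (.node (.leaf 5144)
 (.leaf 8951))
 (.node (.leaf 4631)
 (.leaf 9560)))
 (.node (.node (.leaf 6405)
 (.leaf 10781))
 (.node (.leaf 14313)
 (.leaf 8366)))))
 (.node (.node (.node (.node (.leaf 4404)
 (.leaf 602))
 (.node (.leaf 10436)
 (.leaf 14820)))
 (.node (.node (.leaf 10069)
 (.leaf 12396))
 (.node (.leaf 12414)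
 (.leaf 13355))))
 (.node (.node (.node (.leaf 2441)
 (.leaf 13182))
 (.node (.leaf 8098)
 (.leaf 14873)))
 (.node (.node (.leaf 14523)
 (.leaf 9987))
 (.node (.leaf 2075)
 (.leaf 4450))))))

def srtTB69 : RT := .node (.node (.node (.node (.node (.node (.leaf 3446)
 (.leaf 4792))
 (.node (.leaf 10405)
 (.leaf 817)))
 (.node (.node (.leaf 5913)
 (.leaf 8974))
 (.node (.leaf 9736)
 (.leaf 12167))))
 (.node (.node (.node (.leaf 5409)
 (.leaf 9453))
 (.node (.leaf 7969)
 (.leaf 1708)))
 (.node (.node (.leaf 10708)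
 (.leaf 12702))
 (.node (.leaf 12821)
 (.leaf 14625)))))
 (.node (.node (.node (.node (.leaf 13622)
 (.leaf 5121))
 (.node (.leaf 1401)
 (.leaf 5023)))
 (.node (.node (.leaf 2337)
 (.leaf 7646))
 (.node (.leaf 5222)
 (.leaf 14948))))
 (.node (.node (.node (.leaf 3529)
 (.leaf 11621))
 (.node (.leaf 930)
 (.leaf 906)))
 (.node (.node (.leaf 10650)
 (.leaf 4502))
 (.node (.leaf 11369)
 (.leaf 3384))))))
 (.node (.node (.node (.node (.node (.leaf 12265)
 (.leaf 5886))
 (.node (.leaf 3729)
 (.leaf 61)))
 (.node (.node (.leaf 13445)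
 (.leaf 4478))
 (.node (.leaf 11488)
 (.leaf 11299))))
 (.node (.node (.node (.leaf 10505)
 (.leaf 7701))
 (.node (.leaf 1798)
 (.leaf 14717)))
 (.node (.node (.leaf 10050)
 (.leaf 13378))
 (.node (.leaf 2464)
 (.leaf 2367)))))
 (.node (.node (.node (.node (.leaf 1667)
 (.leaf 11060))
 (.node (.leaf 13710)
 (.leaf 4331)))
 (.node (.node (.leaf 12634)
 (.leaf 2175))
 (.node (.leaf 5587)
 (.leaf 269))))
 (.node (.node (.node (.leaf 7063)
 (.leaf 11098))
 (.node (.leaf 8089)
 (.leaf 985)))
 (.node (.node (.leaf 11525)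
 (.leaf 11726))
 (.node (.leaf 9051)
 (.leaf 5197))))))

def srtTB70 : RT := .node (.node (.node (.node (.node (.node (.leaf 12024)
 (.leaf 11101))
 (.node (.leaf 11703)
 (.leaf 9226)))
 (.node (.node (.leaf 4911)
 (.leaf 3153))
 (.node (.leaf 3805)
 (.leaf 5730))))
 (.node (.node (.node (.leaf 6555)
 (.leaf 12884))
 (.node (.leaf 4632)
 (.leaf 8752)))
 (.node (.node (.leaf 8795)
 (.leaf 990))
 (.node (.leaf 9561)
 (.leaf 8886)))))
 (.node (.node (.node (.node (.leaf 11510)
 (.leaf 5753))
 (.node (.leaf 672)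
 (.leaf 7728)))
 (.node (.node (.leaf 12236)
 (.leaf 3049))
 (.node (.leaf 10606)
 (.leaf 6049))))
 (.node (.node (.node (.leaf 11513)
 (.leaf 12392))
 (.node (.leaf 3454)
 (.leaf 6589)))
 (.node (.node (.leaf 10143)
 (.leaf 4460))
 (.node (.leaf 14396)
 (.leaf 7892))))))
 (.node (.node (.node (.node (.node (.leaf 10519)
 (.leaf 2842))
 (.node (.leaf 5117)
 (.leaf 3330)))
 (.node (.node (.leaf 7424)
 (.leaf 3585))
 (.node (.leaf 14215)
 (.leaf 4890))))
 (.node (.node (.node (.leaf 6446)
 (.leaf 6299))
 (.node (.leaf 4429)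
 (.leaf 9593)))
 (.node (.node (.leaf 10020)
 (.leaf 13658))
 (.node (.leaf 4113)
 (.leaf 8099)))))
 (.node (.node (.node (.node (.leaf 13096)
 (.leaf 11335))
 (.node (.leaf 3228)
 (.leaf 84)))
 (.node (.node (.leaf 3171)
 (.leaf 2366))
 (.node (.leaf 13781)
 (.leaf 9620))))
 (.node (.node (.node (.leaf 10660)
 (.leaf 6716))
 (.node (.leaf 4106)
 (.leaf 10120)))
 (.node (.node (.leaf 9311)
 (.leaf 2498))
 (.node (.leaf 6285)
 (.leaf 10937))))))

def srtTB71 : RT := .node (.node (.node (.node (.node (.node (.leaf 8579)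
 (.leaf 4345))
 (.node (.leaf 11686)
 (.leaf 573)))
 (.node (.node (.leaf 9963)
 (.leaf 255))
 (.node (.leaf 5312)
 (.leaf 11969))))
 (.node (.node (.node (.leaf 3852)
 (.leaf 9083))
 (.node (.leaf 11701)
 (.leaf 2887)))
 (.node (.node (.leaf 4734)
 (.leaf 11551))
 (.node (.leaf 1472)
 (.leaf 9076)))))
 (.node (.node (.node (.node (.leaf 11769)
 (.leaf 617))
 (.node (.leaf 12090)
 (.leaf 4187)))
 (.node (.node (.leaf 1888)
 (.leaf 8212))
 (.node (.leaf 3622)
 (.leaf 3491))))
 (.node (.node (.node (.leaf 11178)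
 (.leaf 11533))
 (.node (.leaf 12641)
 (.leaf 1152)))
 (.node (.node (.leaf 788)
 (.leaf 1260))
 (.node (.leaf 4670)
 (.leaf 13950))))))
 (.node (.node (.node (.node (.node (.leaf 10268)
 (.leaf 7826))
 (.node (.leaf 9256)
 (.leaf 9333)))
 (.node (.node (.leaf 12781)
 (.leaf 1061))
 (.node (.leaf 4126)
 (.leaf 4194))))
 (.node (.node (.node (.leaf 1877)
 (.leaf 13085))
 (.node (.leaf 10806)
 (.leaf 3543)))
 (.node (.node (.leaf 164)
 (.leaf 6969))
 (.node (.leaf 2042)
 (.leaf 13693)))))
 (.node (.node (.node (.node (.leaf 4637)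
 (.leaf 6010))
 (.node (.leaf 10994)
 (.leaf 8860)))
 (.node (.node (.leaf 9497)
 (.leaf 9948))
 (.node (.leaf 8723)
 (.leaf 2223))))
 (.node (.node (.node (.leaf 4925)
 (.leaf 4358))
 (.node (.leaf 3002)
 (.leaf 10151)))
 (.node (.node (.leaf 12113)
 (.leaf 1019))
 (.node (.leaf 8812)
 (.leaf 5290))))))

def srtTB72 : RT := .node (.node (.node (.node (.node (.node (.leaf 7211)
 (.leaf 3814))
 (.node (.leaf 8131)
 (.leaf 721)))
 (.node (.node (.leaf 5280)
 (.leaf 113))
 (.node (.leaf 2208)
 (.leaf 3844))))
 (.node (.node (.node (.leaf 782)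
 (.leaf 6728))
 (.node (.leaf 13502)
 (.leaf 8030)))
 (.node (.node (.leaf 13047)
 (.leaf 4689))
 (.node (.leaf 11214)
 (.leaf 9731)))))
 (.node (.node (.node (.node (.leaf 11326)
 (.leaf 12724))
 (.node (.leaf 1356)
 (.leaf 7581)))
 (.node (.node (.leaf 14496)
 (.leaf 1086))
 (.node (.leaf 13736)
 (.leaf 6253))))
 (.node (.node (.node (.leaf 6754)
 (.leaf 3258))
 (.node (.leaf 6133)
 (.leaf 13586)))
 (.node (.node (.leaf 14579)
 (.leaf 14027))
 (.node (.leaf 11027)
 (.leaf 6067))))))
 (.node (.node (.node (.node (.node (.leaf 13121)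
 (.leaf 12397))
 (.node (.leaf 12859)
 (.leaf 10007)))
 (.node (.node (.leaf 4710)
 (.leaf 3539))
 (.node (.leaf 10457)
 (.leaf 3021))))
 (.node (.node (.node (.leaf 13498)
 (.leaf 13197))
 (.node (.leaf 130)
 (.leaf 2774)))
 (.node (.node (.leaf 4973)
 (.leaf 11048))
 (.node (.leaf 10930)
 (.leaf 12031)))))
 (.node (.node (.node (.node (.leaf 1936)
 (.leaf 8577))
 (.node (.leaf 4621)
 (.leaf 6111)))
 (.node (.node (.leaf 8801)
 (.leaf 3890))
 (.node (.leaf 10501)
 (.leaf 9112))))
 (.node (.node (.node (.leaf 965)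
 (.leaf 3220))
 (.node (.leaf 5516)
 (.leaf 5872)))
 (.node (.node (.leaf 8654)
 (.leaf 9387))
 (.node (.leaf 11882)
 (.leaf 8865))))))

def srtTB73 : RT := .node (.node (.node (.node (.node (.node (.leaf 6517)
 (.leaf 4645))
 (.node (.leaf 9461)
 (.leaf 3708)))
 (.node (.node (.leaf 4935)
 (.leaf 13638))
 (.node (.leaf 14093)
 (.leaf 3823))))
 (.node (.node (.node (.leaf 7504)
 (.leaf 427))
 (.node (.leaf 10993)
 (.leaf 14460)))
 (.node (.node (.leaf 7756)
 (.leaf 12782))
 (.node (.leaf 2263)
 (.leaf 11414)))))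
 (.node (.node (.node (.node (.leaf 4785)
 (.leaf 9918))
 (.node (.leaf 2406)
 (.leaf 6158)))
 (.node (.node (.leaf 6196)
 (.leaf 10949))
 (.node (.leaf 30)
 (.leaf 4198))))
 (.node (.node (.node (.leaf 14151)
 (.leaf 13087))
 (.node (.leaf 14658)
 (.leaf 12608)))
 (.node (.node (.leaf 7649)
 (.leaf 2385))
 (.node (.leaf 13633)
 (.leaf 4784))))))
 (.node (.node (.node (.node (.node (.leaf 3658)
 (.leaf 693))
 (.node (.leaf 9728)
 (.leaf 13484)))
 (.node (.node (.leaf 1885)
 (.leaf 7062))
 (.node (.leaf 10648)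
 (.leaf 3601))))
 (.node (.node (.node (.leaf 8220)
 (.leaf 10204))
 (.node (.leaf 10641)
 (.leaf 13370)))
 (.node (.node (.leaf 8062)
 (.leaf 4506))
 (.node (.leaf 529)
 (.leaf 671)))))
 (.node (.node (.node (.node (.leaf 1315)
 (.leaf 13806))
 (.node (.leaf 13625)
 (.leaf 9679)))
 (.node (.node (.leaf 2051)
 (.leaf 3053))
 (.node (.leaf 12899)
 (.leaf 9542))))
 (.node (.node (.node (.leaf 11107)
 (.leaf 13719))
 (.node (.leaf 831)
 (.leaf 10373)))
 (.node (.node (.leaf 153)
 (.leaf 8204))
 (.node (.leaf 11555)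
 (.leaf 7797))))))

def srtTB74 : RT := .node (.node (.node (.node (.node (.node (.leaf 12333)
 (.leaf 11431))
 (.node (.leaf 10093)
 (.leaf 14715)))
 (.node (.node (.leaf 14356)
 (.leaf 7627))
 (.node (.leaf 1184)
 (.leaf 9310))))
 (.node (.node (.node (.leaf 8020)
 (.leaf 4295))
 (.node (.leaf 3903)
 (.leaf 6956)))
 (.node (.node (.leaf 10070)
 (.leaf 3447))
 (.node (.leaf 7425)
 (.leaf 2581)))))
 (.node (.node (.node (.node (.leaf 5982)
 (.leaf 14967))
 (.node (.leaf 2706)
 (.leaf 5482)))
 (.node (.node (.leaf 6874)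
 (.leaf 5252))
 (.node (.leaf 5550)
 (.leaf 5141))))
 (.node (.node (.node (.leaf 3374)
 (.leaf 3379))
 (.node (.leaf 14247)
 (.leaf 5353)))
 (.node (.node (.leaf 6934)
 (.leaf 9403))
 (.node (.leaf 10844)
 (.leaf 10003))))))
 (.node (.node (.node (.node (.node (.leaf 9929)
 (.leaf 3929))
 (.node (.leaf 6194)
 (.leaf 7481)))
 (.node (.node (.leaf 2012)
 (.leaf 11845))
 (.node (.leaf 11321)
 (.leaf 11793))))
 (.node (.node (.node (.leaf 1823)
 (.leaf 7589))
 (.node (.leaf 12301)
 (.leaf 9342)))
 (.node (.node (.leaf 3634)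
 (.leaf 4097))
 (.node (.leaf 9178)
 (.leaf 14146)))))
 (.node (.node (.node (.node (.leaf 12725)
 (.leaf 266))
 (.node (.leaf 7593)
 (.leaf 4413)))
 (.node (.node (.leaf 14361)
 (.leaf 4574))
 (.node (.leaf 7899)
 (.leaf 12207))))
 (.node (.node (.node (.leaf 11366)
 (.leaf 12629))
 (.node (.leaf 14394)
 (.leaf 9721)))
 (.node (.node (.leaf 7296)
 (.leaf 6141))
 (.node (.leaf 9276)
 (.leaf 11425))))))

def srtTB75 : RT := .node (.node (.node (.node (.node (.node (.leaf 4644)
 (.leaf 12470))
 (.node (.leaf 4103)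
 (.leaf 301)))
 (.node (.node (.leaf 13273)
 (.leaf 14141))
 (.node (.leaf 8090)
 (.leaf 14352))))
 (.node (.node (.node (.leaf 2958)
 (.leaf 7206))
 (.node (.leaf 8727)
 (.leaf 8462)))
 (.node (.node (.leaf 10176)
 (.leaf 11758))
 (.node (.leaf 12537)
 (.leaf 3119)))))
 (.node (.node (.node (.node (.leaf 1476)
 (.leaf 1616))
 (.node (.leaf 5086)
 (.leaf 4960)))
 (.node (.node (.leaf 8096)
 (.leaf 7601))
 (.node (.leaf 14291)
 (.leaf 7035))))
 (.node (.node (.node (.leaf 1201)
 (.leaf 12141))
 (.node (.leaf 3173)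
 (.leaf 9111)))
 (.node (.node (.leaf 5536)
 (.leaf 823))
 (.node (.leaf 8628)
 (.leaf 3997))))))
 (.node (.node (.node (.node (.node (.leaf 11206)
 (.leaf 7737))
 (.node (.leaf 5958)
 (.leaf 7463)))
 (.node (.node (.leaf 3054)
 (.leaf 5100))
 (.node (.leaf 7195)
 (.leaf 5097))))
 (.node (.node (.node (.leaf 14203)
 (.leaf 5428))
 (.node (.leaf 4859)
 (.leaf 5742)))
 (.node (.node (.leaf 7303)
 (.leaf 12549))
 (.node (.leaf 13543)
 (.leaf 2000)))))
 (.node (.node (.node (.node (.leaf 4663)
 (.leaf 10077))
 (.node (.leaf 743)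
 (.leaf 14561)))
 (.node (.node (.leaf 848)
 (.leaf 13641))
 (.node (.leaf 6820)
 (.leaf 11104))))
 (.node (.node (.node (.leaf 652)
 (.leaf 11093))
 (.node (.leaf 11229)
 (.leaf 12268)))
 (.node (.node (.leaf 3259)
 (.leaf 13440))
 (.node (.leaf 2363)
 (.leaf 4485))))))

def srtTB76 : RT := .node (.node (.node (.node (.node (.node (.leaf 6426)
 (.leaf 7083))
 (.node (.leaf 1385)
 (.leaf 14928)))
 (.node (.node (.leaf 2990)
 (.leaf 14232))
 (.node (.leaf 2253)
 (.leaf 5830))))
 (.node (.node (.node (.leaf 5724)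
 (.leaf 6659))
 (.node (.leaf 1650)
 (.leaf 7677)))
 (.node (.node (.leaf 14148)
 (.leaf 7309))
 (.node (.leaf 7678)
 (.leaf 1340)))))
 (.node (.node (.node (.node (.leaf 4522)
 (.leaf 6055))
 (.node (.leaf 5680)
 (.leaf 5215)))
 (.node (.node (.leaf 5939)
 (.leaf 3450))
 (.node (.leaf 5852)
 (.leaf 14910))))
 (.node (.node (.node (.leaf 5625)
 (.leaf 2190))
 (.node (.leaf 7757)
 (.leaf 7306)))
 (.node (.node (.leaf 6764)
 (.leaf 1147))
 (.node (.leaf 9014)
 (.leaf 8866))))))
 (.node (.node (.node (.node (.node (.leaf 2341)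
 (.leaf 11654))
 (.node (.leaf 7803)
 (.leaf 2819)))
 (.node (.node (.leaf 10920)
 (.leaf 13542))
 (.node (.leaf 14896)
 (.leaf 14537))))
 (.node (.node (.node (.leaf 4634)
 (.leaf 6442))
 (.node (.leaf 3540)
 (.leaf 14142)))
 (.node (.node (.leaf 8088)
 (.leaf 14746))
 (.node (.leaf 10423)
 (.leaf 12409)))))
 (.node (.node (.node (.node (.leaf 13812)
 (.leaf 11133))
 (.node (.leaf 12829)
 (.leaf 13472)))
 (.node (.node (.leaf 11405)
 (.leaf 10814))
 (.node (.leaf 9494)
 (.leaf 3562))))
 (.node (.node (.node (.leaf 10134)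
 (.leaf 2988))
 (.node (.leaf 6461)
 (.leaf 9742)))
 (.node (.node (.leaf 12842)
 (.leaf 14843))
 (.node (.leaf 13992)
 (.leaf 1780))))))

def srtTB77 : RT := .node (.node (.node (.node (.node (.node (.leaf 200)
 (.leaf 4791))
 (.node (.leaf 3423)
 (.leaf 13056)))
 (.node (.node (.leaf 10877)
 (.leaf 13044))
 (.node (.leaf 11212)
 (.leaf 12487))))
 (.node (.node (.node (.leaf 580)
 (.leaf 13767))
 (.node (.leaf 3984)
 (.leaf 1031)))
 (.node (.node (.leaf 1321)
 (.leaf 11339))
 (.node (.leaf 7070)
 (.leaf 7367)))))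
 (.node (.node (.node (.node (.leaf 4549)
 (.leaf 13301))
 (.node (.leaf 7323)
 (.leaf 8218)))
 (.node (.node (.leaf 2225)
 (.leaf 1020))
 (.node (.leaf 9567)
 (.leaf 10269))))
 (.node (.node (.node (.leaf 1577)
 (.leaf 4766))
 (.node (.leaf 10209)
 (.leaf 3417)))
 (.node (.node (.leaf 13083)
 (.leaf 7010))
 (.node (.leaf 2604)
 (.leaf 6937))))))
 (.node (.node (.node (.node (.node (.leaf 12812)
 (.leaf 11710))
 (.node (.leaf 9059)
 (.leaf 11426)))
 (.node (.node (.leaf 3753)
 (.leaf 12250))
 (.node (.leaf 157)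
 (.leaf 12936))))
 (.node (.node (.node (.leaf 13154)
 (.leaf 3931))
 (.node (.leaf 2876)
 (.leaf 14886)))
 (.node (.node (.leaf 7872)
 (.leaf 11289))
 (.node (.leaf 11558)
 (.leaf 14513)))))
 (.node (.node (.node (.node (.leaf 731)
 (.leaf 8164))
 (.node (.leaf 69)
 (.leaf 3385)))
 (.node (.node (.leaf 11031)
 (.leaf 2436))
 (.node (.leaf 13201)
 (.leaf 14447))))
 (.node (.node (.node (.leaf 8264)
 (.leaf 13434))
 (.node (.leaf 14173)
 (.leaf 12690)))
 (.node (.node (.leaf 2526)
 (.leaf 6366))
 (.node (.leaf 2752)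
 (.leaf 13279))))))

def srtTB78 : RT := .node (.node (.node (.node (.node (.node (.leaf 3699)
 (.leaf 14018))
 (.node (.leaf 6130)
 (.leaf 14362)))
 (.node (.node (.leaf 12344)
 (.leaf 11220))
 (.node (.leaf 133)
 (.leaf 2058))))
 (.node (.node (.node (.leaf 13617)
 (.leaf 11016))
 (.node (.leaf 6005)
 (.leaf 13246)))
 (.node (.node (.leaf 4233)
 (.leaf 11144))
 (.node (.leaf 8381)
 (.leaf 14315)))))
 (.node (.node (.node (.node (.leaf 10585)
 (.leaf 10118))
 (.node (.leaf 7124)
 (.leaf 1865)))
 (.node (.node (.leaf 4430)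
 (.leaf 12259))
 (.node (.leaf 9356)
 (.leaf 3225))))
 (.node (.node (.node (.leaf 8354)
 (.leaf 10619))
 (.node (.leaf 14078)
 (.leaf 1755)))
 (.node (.node (.leaf 10226)
 (.leaf 13794))
 (.node (.leaf 1509)
 (.leaf 9483))))))
 (.node (.node (.node (.node (.node (.leaf 14580)
 (.leaf 14662))
 (.node (.leaf 6046)
 (.leaf 13616)))
 (.node (.node (.leaf 1864)
 (.leaf 7064))
 (.node (.leaf 10464)
 (.leaf 9291))))
 (.node (.node (.node (.leaf 11561)
 (.leaf 6707))
 (.node (.leaf 8271)
 (.leaf 13933)))
 (.node (.node (.leaf 3506)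
 (.leaf 10797))
 (.node (.leaf 11567)
 (.leaf 10466)))))
 (.node (.node (.node (.node (.leaf 3388)
 (.leaf 6267))
 (.node (.leaf 8161)
 (.leaf 14117)))
 (.node (.node (.leaf 3086)
 (.leaf 4265))
 (.node (.leaf 14004)
 (.leaf 14557))))
 (.node (.node (.node (.leaf 2869)
 (.leaf 7079))
 (.node (.leaf 3144)
 (.leaf 12567)))
 (.node (.node (.leaf 6951)
 (.leaf 387))
 (.node (.leaf 12212)
 (.leaf 2150))))))

def srtTB79 : RT := .node (.node (.node (.node (.node (.node (.leaf 2799)
 (.leaf 5364))
 (.node (.leaf 5890)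
 (.leaf 7469)))
 (.node (.node (.leaf 7786)
 (.leaf 6282))
 (.node (.leaf 6075)
 (.leaf 5449))))
 (.node (.node (.node (.leaf 5318)
 (.leaf 5684))
 (.node (.leaf 7113)
 (.leaf 2698)))
 (.node (.node (.leaf 1304)
 (.leaf 11680))
 (.node (.leaf 11871)
 (.leaf 3770)))))
 (.node (.node (.node (.node (.leaf 11409)
 (.leaf 8976))
 (.node (.leaf 8553)
 (.leaf 12493)))
 (.node (.node (.leaf 5501)
 (.leaf 4005))
 (.node (.leaf 880)
 (.leaf 13911))))
 (.node (.node (.node (.leaf 9227)
 (.leaf 4730))
 (.node (.leaf 11039)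
 (.leaf 9960)))
 (.node (.node (.leaf 10579)
 (.leaf 1468))
 (.node (.leaf 7321)
 (.leaf 7781))))))
 (.node (.node (.node (.node (.node (.leaf 849)
 (.leaf 12599))
 (.node (.leaf 5644)
 (.leaf 7487)))
 (.node (.node (.leaf 4367)
 (.leaf 12005))
 (.node (.leaf 1004)
 (.leaf 4269))))
 (.node (.node (.node (.leaf 5774)
 (.leaf 8823))
 (.node (.leaf 11557)
 (.leaf 6143)))
 (.node (.node (.leaf 2139)
 (.leaf 9702))
 (.node (.leaf 12218)
 (.leaf 4768)))))
 (.node (.node (.node (.node (.leaf 14850)
 (.leaf 13021))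
 (.node (.leaf 14353)
 (.leaf 13687)))
 (.node (.node (.leaf 6966)
 (.leaf 4658))
 (.node (.leaf 5949)
 (.leaf 601))))
 (.node (.node (.node (.leaf 10130)
 (.leaf 3580))
 (.node (.leaf 11709)
 (.leaf 12875)))
 (.node (.node (.leaf 9508)
 (.leaf 11963))
 (.node (.leaf 8092)
 (.leaf 5723))))))

def srtTB80 : RT := .node (.node (.node (.node (.node (.node (.leaf 8847)
 (.leaf 6166))
 (.node (.leaf 4910)
 (.leaf 9976)))
 (.node (.node (.leaf 12065)
 (.leaf 1128))
 (.node (.leaf 8403)
 (.leaf 1544))))
 (.node (.node (.node (.leaf 4616)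
 (.leaf 5242))
 (.node (.leaf 14865)
 (.leaf 12971)))
 (.node (.node (.leaf 2315)
 (.leaf 8136))
 (.node (.leaf 727)
 (.leaf 10926)))))
 (.node (.node (.node (.node (.leaf 3635)
 (.leaf 295))
 (.node (.leaf 9546)
 (.leaf 13255)))
 (.node (.node (.leaf 10455)
 (.leaf 14545))
 (.node (.leaf 10377)
 (.leaf 9635))))
 (.node (.node (.node (.leaf 8378)
 (.leaf 4058))
 (.node (.leaf 9030)
 (.leaf 12711)))
 (.node (.node (.leaf 1756)
 (.leaf 8637))
 (.node (.leaf 5031)
 (.leaf 11286))))))
 (.node (.node (.node (.node (.node (.leaf 10189)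
 (.leaf 11025))
 (.node (.leaf 7310)
 (.leaf 4175)))
 (.node (.node (.leaf 270)
 (.leaf 11731))
 (.node (.leaf 8826)
 (.leaf 9535))))
 (.node (.node (.node (.leaf 5968)
 (.leaf 4381))
 (.node (.leaf 3140)
 (.leaf 4852)))
 (.node (.node (.leaf 11984)
 (.leaf 1013))
 (.node (.leaf 11109)
 (.leaf 8563)))))
 (.node (.node (.node (.node (.leaf 10965)
 (.leaf 7161))
 (.node (.leaf 6459)
 (.leaf 4185)))
 (.node (.node (.leaf 4605)
 (.leaf 1735))
 (.node (.leaf 13373)
 (.leaf 6753))))
 (.node (.node (.node (.leaf 13268)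
 (.leaf 2332))
 (.node (.leaf 6388)
 (.leaf 649)))
 (.node (.node (.leaf 2746)
 (.leaf 11870))
 (.node (.leaf 8878)
 (.leaf 7180))))))

def srtTB81 : RT := .node (.node (.node (.node (.node (.node (.leaf 8714)
 (.leaf 12378))
 (.node (.leaf 607)
 (.leaf 11539)))
 (.node (.node (.leaf 5)
 (.leaf 97))
 (.node (.leaf 11794)
 (.leaf 4686))))
 (.node (.node (.node (.leaf 12321)
 (.leaf 5234))
 (.node (.leaf 4236)
 (.leaf 11649)))
 (.node (.node (.leaf 9058)
 (.leaf 4995))
 (.node (.leaf 2878)
 (.leaf 5168)))))
 (.node (.node (.node (.node (.leaf 10149)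
 (.leaf 715))
 (.node (.leaf 1409)
 (.leaf 4548)))
 (.node (.node (.leaf 4999)
 (.leaf 9751))
 (.node (.leaf 825)
 (.leaf 8971))))
 (.node (.node (.node (.leaf 2376)
 (.leaf 9179))
 (.node (.leaf 11913)
 (.leaf 2466)))
 (.node (.node (.leaf 420)
 (.leaf 9164))
 (.node (.leaf 5298)
 (.leaf 5571))))))
 (.node (.node (.node (.node (.node (.leaf 1026)
 (.leaf 11096))
 (.node (.leaf 5635)
 (.leaf 11790)))
 (.node (.node (.leaf 8515)
 (.leaf 1294))
 (.node (.leaf 391)
 (.leaf 9989))))
 (.node (.node (.node (.leaf 14569)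
 (.leaf 10356))
 (.node (.leaf 6566)
 (.leaf 1473)))
 (.node (.node (.leaf 10910)
 (.leaf 14622))
 (.node (.leaf 7897)
 (.leaf 13545)))))
 (.node (.node (.node (.node (.leaf 4715)
 (.leaf 5324))
 (.node (.leaf 8962)
 (.leaf 8014)))
 (.node (.node (.leaf 5676)
 (.leaf 11889))
 (.node (.leaf 12606)
 (.leaf 11783))))
 (.node (.node (.node (.leaf 11787)
 (.leaf 629))
 (.node (.leaf 4182)
 (.leaf 1999)))
 (.node (.node (.leaf 2675)
 (.leaf 5369))
 (.node (.leaf 2242)
 (.leaf 9010))))))

def srtTB82 : RT := .node (.node (.node (.node (.node (.node (.leaf 7013)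
 (.leaf 8671))
 (.node (.leaf 165)
 (.leaf 8474)))
 (.node (.node (.leaf 7690)
 (.leaf 10256))
 (.node (.leaf 6740)
 (.leaf 3304))))
 (.node (.node (.node (.leaf 8374)
 (.leaf 4070))
 (.node (.leaf 5469)
 (.leaf 5397)))
 (.node (.node (.leaf 8957)
 (.leaf 4421))
 (.node (.leaf 2584)
 (.leaf 11828)))))
 (.node (.node (.node (.node (.leaf 1463)
 (.leaf 767))
 (.node (.leaf 14324)
 (.leaf 917)))
 (.node (.node (.leaf 4166)
 (.leaf 4708))
 (.node (.leaf 11135)
 (.leaf 1412))))
 (.node (.node (.node (.leaf 13199)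
 (.leaf 10094))
 (.node (.leaf 10934)
 (.leaf 11132)))
 (.node (.node (.leaf 9813)
 (.leaf 7645))
 (.node (.leaf 1302)
 (.leaf 13878))))))
 (.node (.node (.node (.node (.node (.leaf 7278)
 (.leaf 10428))
 (.node (.leaf 14783)
 (.leaf 14373)))
 (.node (.node (.leaf 9229)
 (.leaf 2934))
 (.node (.leaf 14477)
 (.leaf 8229))))
 (.node (.node (.node (.leaf 9492)
 (.leaf 2158))
 (.node (.leaf 2822)
 (.leaf 13850)))
 (.node (.node (.leaf 13527)
 (.leaf 9274))
 (.node (.leaf 9328)
 (.leaf 900)))))
 (.node (.node (.node (.node (.leaf 1916)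
 (.leaf 10037))
 (.node (.leaf 11714)
 (.leaf 6131)))
 (.node (.node (.leaf 536)
 (.leaf 8811))
 (.node (.leaf 4274)
 (.leaf 4969))))
 (.node (.node (.node (.leaf 11990)
 (.leaf 4221))
 (.node (.leaf 8663)
 (.leaf 5452)))
 (.node (.node (.leaf 830)
 (.leaf 1154))
 (.node (.leaf 5387)
 (.leaf 2463))))))

def srtTB83 : RT := .node (.node (.node (.node (.node (.node (.leaf 11454)
 (.leaf 11891))
 (.node (.leaf 415)
 (.leaf 11739)))
 (.node (.node (.leaf 12589)
 (.leaf 2154))
 (.node (.leaf 8546)
 (.leaf 9522))))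
 (.node (.node (.node (.leaf 11609)
 (.leaf 11935))
 (.node (.leaf 208)
 (.leaf 74)))
 (.node (.node (.leaf 10002)
 (.leaf 9081))
 (.node (.leaf 10735)
 (.leaf 5553)))))
 (.node (.node (.node (.node (.leaf 7907)
 (.leaf 12739))
 (.node (.leaf 5532)
 (.leaf 3359)))
 (.node (.node (.leaf 762)
 (.leaf 4583))
 (.node (.leaf 3465)
 (.leaf 11943))))
 (.node (.node (.node (.leaf 13350)
 (.leaf 11494))
 (.node (.leaf 8248)
 (.leaf 10661)))
 (.node (.node (.leaf 7842)
 (.leaf 2030))
 (.node (.leaf 14632)
 (.leaf 43))))))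
 (.node (.node (.node (.node (.node (.leaf 8243)
 (.leaf 6651))
 (.node (.leaf 7709)
 (.leaf 4958)))
 (.node (.node (.leaf 2028)
 (.leaf 5498))
 (.node (.leaf 14953)
 (.leaf 1617))))
 (.node (.node (.node (.leaf 5004)
 (.leaf 14288))
 (.node (.leaf 7565)
 (.leaf 5305)))
 (.node (.node (.leaf 5520)
 (.leaf 7820))
 (.node (.leaf 1514)
 (.leaf 5964)))))
 (.node (.node (.node (.node (.leaf 7790)
 (.leaf 6516))
 (.node (.leaf 5111)
 (.leaf 14927)))
 (.node (.node (.leaf 6186)
 (.leaf 14282))
 (.node (.leaf 5505)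
 (.leaf 4213))))
 (.node (.node (.node (.leaf 3874)
 (.leaf 8687))
 (.node (.leaf 8751)
 (.leaf 294)))
 (.node (.node (.leaf 1090)
 (.leaf 8880))
 (.node (.leaf 3429)
 (.leaf 2252))))))

def srtTB84 : RT := .node (.node (.node (.node (.node (.node (.leaf 6335)
 (.leaf 362))
 (.node (.leaf 8422)
 (.leaf 9795)))
 (.node (.node (.leaf 5028)
 (.leaf 12780))
 (.node (.leaf 12116)
 (.leaf 754))))
 (.node (.node (.node (.leaf 5866)
 (.leaf 9440))
 (.node (.leaf 12644)
 (.leaf 2064)))
 (.node (.node (.leaf 5254)
 (.leaf 10100))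
 (.node (.leaf 5794)
 (.leaf 6151)))))
 (.node (.node (.node (.node (.leaf 10819)
 (.leaf 8536))
 (.node (.leaf 8394)
 (.leaf 8870)))
 (.node (.node (.leaf 8859)
 (.leaf 12575))
 (.node (.leaf 3682)
 (.leaf 9436))))
 (.node (.node (.node (.leaf 4811)
 (.leaf 8045))
 (.node (.leaf 8449)
 (.leaf 1000)))
 (.node (.node (.leaf 306)
 (.leaf 4390))
 (.node (.leaf 10955)
 (.leaf 4355))))))
 (.node (.node (.node (.node (.node (.leaf 4951)
 (.leaf 3050))
 (.node (.leaf 8033)
 (.leaf 6747)))
 (.node (.node (.leaf 10905)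
 (.leaf 12547))
 (.node (.leaf 13099)
 (.leaf 10034))))
 (.node (.node (.node (.leaf 12636)
 (.leaf 1862))
 (.node (.leaf 4158)
 (.leaf 13644)))
 (.node (.node (.leaf 11605)
 (.leaf 3953))
 (.node (.leaf 3282)
 (.leaf 834)))))
 (.node (.node (.node (.node (.leaf 8640)
 (.leaf 10299))
 (.node (.leaf 3788)
 (.leaf 2592)))
 (.node (.node (.leaf 3615)
 (.leaf 375))
 (.node (.leaf 6083)
 (.leaf 9134))))
 (.node (.node (.node (.leaf 11718)
 (.leaf 10245))
 (.node (.leaf 13107)
 (.leaf 12430)))
 (.node (.node (.leaf 3764)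
 (.leaf 12716))
 (.node (.leaf 13320)
 (.leaf 10046))))))

def srtTB85 : RT := .node (.node (.node (.node (.node (.node (.leaf 10449)
 (.leaf 4133))
 (.node (.leaf 8039)
 (.leaf 8498)))
 (.node (.node (.leaf 6452)
 (.leaf 11153))
 (.node (.leaf 3134)
 (.leaf 4678))))
 (.node (.node (.node (.leaf 12085)
 (.leaf 11873))
 (.node (.leaf 9070)
 (.leaf 275)))
 (.node (.node (.leaf 5793)
 (.leaf 12348))
 (.node (.leaf 8040)
 (.leaf 3807)))))
 (.node (.node (.node (.node (.leaf 3627)
 (.leaf 2770))
 (.node (.leaf 5150)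
 (.leaf 2791)))
 (.node (.node (.leaf 8566)
 (.leaf 11805))
 (.node (.leaf 4372)
 (.leaf 12595))))
 (.node (.node (.node (.leaf 9228)
 (.leaf 220))
 (.node (.leaf 603)
 (.leaf 9001)))
 (.node (.node (.leaf 11812)
 (.leaf 5962))
 (.node (.leaf 10952)
 (.leaf 2859))))))
 (.node (.node (.node (.node (.node (.leaf 14840)
 (.leaf 13408))
 (.node (.leaf 2759)
 (.leaf 10564)))
 (.node (.node (.leaf 14604)
 (.leaf 921))
 (.node (.leaf 1162)
 (.leaf 9763))))
 (.node (.node (.node (.leaf 8076)
 (.leaf 1892))
 (.node (.leaf 9415)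
 (.leaf 5755)))
 (.node (.node (.leaf 4729)
 (.leaf 12849))
 (.node (.leaf 4924)
 (.leaf 10771)))))
 (.node (.node (.node (.node (.leaf 5789)
 (.leaf 2944))
 (.node (.leaf 3862)
 (.leaf 11707)))
 (.node (.node (.leaf 11853)
 (.leaf 1497))
 (.node (.leaf 2955)
 (.leaf 11596))))
 (.node (.node (.node (.leaf 13336)
 (.leaf 14023))
 (.node (.leaf 13989)
 (.leaf 4202)))
 (.node (.node (.leaf 2034)
 (.leaf 11022))
 (.node (.leaf 5477)
 (.leaf 1449))))))

def srtTB86 : RT := .node (.node (.node (.node (.node (.node (.leaf 5606)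
 (.leaf 8313))
 (.node (.leaf 7770)
 (.leaf 6680)))
 (.node (.node (.leaf 3264)
 (.leaf 2745))
 (.node (.leaf 5173)
 (.leaf 8084))))
 (.node (.node (.node (.leaf 7167)
 (.leaf 1298))
 (.node (.leaf 5811)
 (.leaf 6241)))
 (.node (.node (.leaf 8660)
 (.leaf 11811))
 (.node (.leaf 11586)
 (.leaf 4121)))))
 (.node (.node (.node (.node (.leaf 1810)
 (.leaf 5064))
 (.node (.leaf 5087)
 (.leaf 8699)))
 (.node (.node (.leaf 10601)
 (.leaf 6818))
 (.node (.leaf 2450)
 (.leaf 9158))))
 (.node (.node (.node (.leaf 5486)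
 (.leaf 9029))
 (.node (.leaf 2671)
 (.leaf 11266)))
 (.node (.node (.leaf 12260)
 (.leaf 3312))
 (.node (.leaf 5116)
 (.leaf 3278))))))
 (.node (.node (.node (.node (.node (.leaf 8996)
 (.leaf 11189))
 (.node (.leaf 1380)
 (.leaf 8948)))
 (.node (.node (.leaf 7635)
 (.leaf 8606))
 (.node (.leaf 4023)
 (.leaf 11641))))
 (.node (.node (.node (.leaf 7953)
 (.leaf 3847))
 (.node (.leaf 7461)
 (.leaf 14167)))
 (.node (.node (.leaf 12)
 (.leaf 2830))
 (.node (.leaf 11505)
 (.leaf 13162)))))
 (.node (.node (.node (.node (.leaf 9613)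
 (.leaf 3118))
 (.node (.leaf 4312)
 (.leaf 14814)))
 (.node (.node (.leaf 14943)
 (.leaf 6862))
 (.node (.leaf 14230)
 (.leaf 6341))))
 (.node (.node (.node (.leaf 5907)
 (.leaf 8199))
 (.node (.leaf 2877)
 (.leaf 11470)))
 (.node (.node (.leaf 9875)
 (.leaf 10044))
 (.node (.leaf 6372)
 (.leaf 13499))))))

def srtTB87 : RT := .node (.node (.node (.node (.node (.node (.leaf 3517)
 (.leaf 2067))
 (.node (.leaf 14664)
 (.leaf 12626)))
 (.node (.node (.leaf 12945)
 (.leaf 9488))
 (.node (.leaf 160)
 (.leaf 7009))))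
 (.node (.node (.node (.leaf 376)
 (.leaf 11007))
 (.node (.leaf 2828)
 (.leaf 1956)))
 (.node (.node (.leaf 9341)
 (.leaf 6289))
 (.node (.leaf 10092)
 (.leaf 14607)))))
 (.node (.node (.node (.node (.leaf 2741)
 (.leaf 7417))
 (.node (.leaf 10162)
 (.leaf 3660)))
 (.node (.node (.leaf 7855)
 (.leaf 389))
 (.node (.leaf 1982)
 (.leaf 9534))))
 (.node (.node (.node (.leaf 4302)
 (.leaf 7175))
 (.node (.leaf 6013)
 (.leaf 13735)))
 (.node (.node (.leaf 9768)
 (.leaf 14793))
 (.node (.leaf 14567)
 (.leaf 2101))))))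
 (.node (.node (.node (.node (.node (.leaf 2061)
 (.leaf 7355))
 (.node (.leaf 10702)
 (.leaf 12590)))
 (.node (.node (.leaf 12046)
 (.leaf 11618))
 (.node (.leaf 3858)
 (.leaf 12166))))
 (.node (.node (.node (.leaf 5216)
 (.leaf 9430))
 (.node (.leaf 8598)
 (.leaf 6394)))
 (.node (.node (.leaf 9793)
 (.leaf 9644))
 (.node (.leaf 1084)
 (.leaf 13091)))))
 (.node (.node (.node (.node (.leaf 13970)
 (.leaf 2694))
 (.node (.leaf 4120)
 (.leaf 10558)))
 (.node (.node (.leaf 10032)
 (.leaf 6529))
 (.node (.leaf 1872)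
 (.leaf 2092))))
 (.node (.node (.node (.leaf 1965)
 (.leaf 7841))
 (.node (.leaf 14942)
 (.leaf 7091)))
 (.node (.node (.leaf 1802)
 (.leaf 6965))
 (.node (.leaf 6185)
 (.leaf 392))))))

def srtTB88 : RT := .node (.node (.node (.node (.node (.node (.leaf 12211)
 (.leaf 1523))
 (.node (.leaf 7171)
 (.leaf 9499)))
 (.node (.node (.leaf 14822)
 (.leaf 4167))
 (.node (.leaf 10907)
 (.leaf 13956))))
 (.node (.node (.node (.leaf 1875)
 (.leaf 801))
 (.node (.leaf 2178)
 (.leaf 11560)))
 (.node (.node (.leaf 14654)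
 (.leaf 407))
 (.node (.leaf 12338)
 (.leaf 7877)))))
 (.node (.node (.node (.node (.leaf 13081)
 (.leaf 12654))
 (.node (.leaf 10846)
 (.leaf 14425)))
 (.node (.node (.leaf 11119)
 (.leaf 9520))
 (.node (.leaf 7434)
 (.leaf 11534))))
 (.node (.node (.node (.leaf 6466)
 (.leaf 12588))
 (.node (.leaf 9113)
 (.leaf 3813)))
 (.node (.node (.leaf 8073)
 (.leaf 1863))
 (.node (.leaf 1558)
 (.leaf 5686))))))
 (.node (.node (.node (.node (.node (.leaf 5581)
 (.leaf 3277))
 (.node (.leaf 5099)
 (.leaf 5224)))
 (.node (.node (.leaf 6801)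
 (.leaf 2131))
 (.node (.leaf 8675)
 (.leaf 11397))))
 (.node (.node (.node (.leaf 170)
 (.leaf 7017))
 (.node (.leaf 1732)
 (.leaf 12007)))
 (.node (.node (.leaf 2687)
 (.leaf 8690))
 (.node (.leaf 844)
 (.leaf 4462)))))
 (.node (.node (.node (.node (.leaf 9222)
 (.leaf 7608))
 (.node (.leaf 6855)
 (.leaf 12208)))
 (.node (.node (.leaf 11536)
 (.leaf 9798))
 (.node (.leaf 14139)
 (.leaf 1515))))
 (.node (.node (.node (.leaf 10097)
 (.leaf 4289))
 (.node (.leaf 13296)
 (.leaf 1987)))
 (.node (.node (.leaf 881)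
 (.leaf 4108))
 (.node (.leaf 6093)
 (.leaf 2342))))))

def srtTB89 : RT := .node (.node (.node (.node (.node (.node (.leaf 5914)
 (.leaf 156))
 (.node (.leaf 11623)
 (.leaf 4455)))
 (.node (.node (.leaf 11966)
 (.leaf 9652))
 (.node (.leaf 1141)
 (.leaf 5072))))
 (.node (.node (.node (.leaf 8282)
 (.leaf 6155))
 (.node (.leaf 5829)
 (.leaf 7955)))
 (.node (.node (.leaf 5727)
 (.leaf 5228))
 (.node (.leaf 14245)
 (.leaf 1584)))))
 (.node (.node (.node (.node (.leaf 5563)
 (.leaf 6814))
 (.node (.leaf 3100)
 (.leaf 1055)))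
 (.node (.node (.leaf 13848)
 (.leaf 6090))
 (.node (.leaf 4007)
 (.leaf 14642))))
 (.node (.node (.node (.leaf 14198)
 (.leaf 9883))
 (.node (.leaf 13074)
 (.leaf 11379)))
 (.node (.node (.leaf 2355)
 (.leaf 14549))
 (.node (.leaf 13477)
 (.leaf 6799))))))
 (.node (.node (.node (.node (.node (.leaf 737)
 (.leaf 8312))
 (.node (.leaf 9556)
 (.leaf 1949)))
 (.node (.node (.leaf 10082)
 (.leaf 12308))
 (.node (.leaf 14327)
 (.leaf 3629))))
 (.node (.node (.node (.leaf 7411)
 (.leaf 1277))
 (.node (.leaf 2922)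
 (.leaf 6732)))
 (.node (.node (.leaf 10743)
 (.leaf 14724))
 (.node (.leaf 7506)
 (.leaf 1172)))))
 (.node (.node (.node (.node (.leaf 11127)
 (.leaf 4643))
 (.node (.leaf 12244)
 (.leaf 13961)))
 (.node (.node (.leaf 13772)
 (.leaf 7163))
 (.node (.leaf 2113)
 (.leaf 11428))))
 (.node (.node (.node (.leaf 13593)
 (.leaf 10565))
 (.node (.leaf 14430)
 (.leaf 4012)))
 (.node (.node (.leaf 11527)
 (.leaf 13437))
 (.node (.leaf 3592)
 (.leaf 232))))))

def srtTB90 : RT := .node (.node (.node (.node (.node (.node (.leaf 8167)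
 (.leaf 6266))
 (.node (.leaf 23)
 (.leaf 4527)))
 (.node (.node (.leaf 2382)
 (.leaf 12501))
 (.node (.leaf 1066)
 (.leaf 7885))))
 (.node (.node (.node (.leaf 6984)
 (.leaf 9612))
 (.node (.leaf 1580)
 (.leaf 8407)))
 (.node (.node (.leaf 7909)
 (.leaf 7679))
 (.node (.leaf 1586)
 (.leaf 1165)))))
 (.node (.node (.node (.node (.leaf 6362)
 (.leaf 12811))
 (.node (.leaf 2281)
 (.leaf 3782)))
 (.node (.node (.leaf 13513)
 (.leaf 12934))
 (.node (.leaf 10341)
 (.leaf 13627))))
 (.node (.node (.node (.leaf 14335)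
 (.leaf 3005))
 (.node (.leaf 48)
 (.leaf 9791)))
 (.node (.node (.leaf 3392)
 (.leaf 10472))
 (.node (.leaf 7994)
 (.leaf 14032))))))
 (.node (.node (.node (.node (.node (.leaf 9903)
 (.leaf 3958))
 (.node (.leaf 9252)
 (.leaf 5804)))
 (.node (.node (.leaf 8807)
 (.leaf 11222))
 (.node (.leaf 3402)
 (.leaf 3217))))
 (.node (.node (.node (.leaf 2266)
 (.leaf 11926))
 (.node (.leaf 12109)
 (.leaf 3969)))
 (.node (.node (.leaf 3995)
 (.leaf 5108))
 (.node (.leaf 9382)
 (.leaf 4134)))))
 (.node (.node (.node (.node (.leaf 12734)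
 (.leaf 7705))
 (.node (.leaf 10520)
 (.leaf 11668)))
 (.node (.node (.leaf 411)
 (.leaf 8917))
 (.node (.leaf 5427)
 (.leaf 6507))))
 (.node (.node (.node (.leaf 6976)
 (.leaf 2065))
 (.node (.leaf 6094)
 (.leaf 4667)))
 (.node (.node (.leaf 13416)
 (.leaf 9574))
 (.node (.leaf 3515)
 (.leaf 810))))))

def srtTB91 : RT := .node (.node (.node (.node (.node (.node (.leaf 10895)
 (.leaf 9664))
 (.node (.leaf 3518)
 (.leaf 10461)))
 (.node (.node (.leaf 13178)
 (.leaf 14707))
 (.node (.leaf 2084)
 (.leaf 13889))))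
 (.node (.node (.node (.leaf 14691)
 (.leaf 10680))
 (.node (.leaf 9744)
 (.leaf 8524)))
 (.node (.node (.leaf 4749)
 (.leaf 4056))
 (.node (.leaf 1774)
 (.leaf 1139)))))
 (.node (.node (.node (.node (.leaf 6785)
 (.leaf 6277))
 (.node (.leaf 9598)
 (.leaf 11736)))
 (.node (.node (.leaf 977)
 (.leaf 7887))
 (.node (.leaf 7122)
 (.leaf 12825))))
 (.node (.node (.node (.leaf 13631)
 (.leaf 2442))
 (.node (.leaf 2359)
 (.leaf 13789)))
 (.node (.node (.leaf 13455)
 (.leaf 14400))
 (.node (.leaf 3405)
 (.leaf 12834))))))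
 (.node (.node (.node (.node (.node (.leaf 13876)
 (.leaf 14476))
 (.node (.leaf 543)
 (.leaf 14826)))
 (.node (.node (.leaf 3637)
 (.leaf 9372))
 (.node (.leaf 13580)
 (.leaf 12763))))
 (.node (.node (.node (.leaf 13929)
 (.leaf 987))
 (.node (.leaf 12383)
 (.leaf 6506)))
 (.node (.node (.leaf 1625)
 (.leaf 7577))
 (.node (.leaf 11139)
 (.leaf 3286)))))
 (.node (.node (.node (.node (.leaf 12686)
 (.leaf 2289))
 (.node (.leaf 8762)
 (.leaf 12871)))
 (.node (.node (.leaf 12028)
 (.leaf 3926))
 (.node (.leaf 9491)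
 (.leaf 8849))))
 (.node (.node (.node (.leaf 7368)
 (.leaf 2767))
 (.node (.leaf 9000)
 (.leaf 5590)))
 (.node (.node (.leaf 12162)
 (.leaf 10098))
 (.node (.leaf 12153)
 (.leaf 3043))))))

def srtTB92 : RT := .node (.node (.node (.node (.node (.node (.leaf 9896)
 (.leaf 12035))
 (.node (.leaf 8151)
 (.leaf 12349)))
 (.node (.node (.leaf 8499)
 (.leaf 4344))
 (.node (.leaf 11688)
 (.leaf 10938))))
 (.node (.node (.node (.leaf 9069)
 (.leaf 98))
 (.node (.leaf 2197)
 (.leaf 11477)))
 (.node (.node (.leaf 9094)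
 (.leaf 8753))
 (.node (.leaf 7041)
 (.leaf 11361)))))
 (.node (.node (.node (.node (.leaf 3386)
 (.leaf 13318))
 (.node (.leaf 10784)
 (.leaf 4503)))
 (.node (.node (.leaf 14677)
 (.leaf 4466))
 (.node (.leaf 13232)
 (.leaf 8227))))
 (.node (.node (.node (.leaf 14050)
 (.leaf 5439))
 (.node (.leaf 14233)
 (.leaf 1840)))
 (.node (.node (.leaf 5074)
 (.leaf 8343))
 (.node (.leaf 7084)
 (.leaf 7900))))))
 (.node (.node (.node (.node (.node (.leaf 1773)
 (.leaf 4834))
 (.node (.leaf 8029)
 (.leaf 10828)))
 (.node (.node (.leaf 14794)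
 (.leaf 2915))
 (.node (.leaf 103)
 (.leaf 10829))))
 (.node (.node (.node (.leaf 7390)
 (.leaf 6077))
 (.node (.leaf 3838)
 (.leaf 2103)))
 (.node (.node (.leaf 12585)
 (.leaf 13800))
 (.node (.leaf 10770)
 (.leaf 11685)))))
 (.node (.node (.node (.node (.leaf 8705)
 (.leaf 7505))
 (.node (.leaf 9359)
 (.leaf 2322)))
 (.node (.node (.leaf 4016)
 (.leaf 5015))
 (.node (.leaf 12494)
 (.leaf 10446))))
 (.node (.node (.node (.leaf 11469)
 (.leaf 8522))
 (.node (.leaf 6226)
 (.leaf 454)))
 (.node (.node (.leaf 10853)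
 (.leaf 7327))
 (.node (.leaf 10508)
 (.leaf 4385))))))

def srtTB93 : RT := .node (.node (.node (.node (.node (.node (.leaf 10983)
 (.leaf 14150))
 (.node (.leaf 2996)
 (.leaf 13046)))
 (.node (.node (.leaf 13645)
 (.leaf 7931))
 (.node (.leaf 9990)
 (.leaf 2031))))
 (.node (.node (.node (.leaf 4725)
 (.leaf 2187))
 (.node (.leaf 3499)
 (.leaf 14828)))
 (.node (.node (.leaf 106)
 (.leaf 10773))
 (.node (.leaf 7052)
 (.leaf 2076)))))
 (.node (.node (.node (.node (.leaf 12891)
 (.leaf 13244))
 (.node (.leaf 12569)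
 (.leaf 4210)))
 (.node (.node (.leaf 1480)
 (.leaf 1303))
 (.node (.leaf 4165)
 (.leaf 10155))))
 (.node (.node (.node (.leaf 12530)
 (.leaf 2949))
 (.node (.leaf 10688)
 (.leaf 10870)))
 (.node (.node (.leaf 856)
 (.leaf 4714))
 (.node (.leaf 12304)
 (.leaf 9384))))))
 (.node (.node (.node (.node (.node (.leaf 8101)
 (.leaf 4931))
 (.node (.leaf 8258)
 (.leaf 2422)))
 (.node (.node (.leaf 14930)
 (.leaf 2231))
 (.node (.leaf 4846)
 (.leaf 4873))))
 (.node (.node (.node (.leaf 5792)
 (.leaf 1310))
 (.node (.leaf 7439)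
 (.leaf 3376)))
 (.node (.node (.leaf 6494)
 (.leaf 2728))
 (.node (.leaf 5538)
 (.leaf 8909)))))
 (.node (.node (.node (.node (.leaf 7001)
 (.leaf 131))
 (.node (.leaf 4021)
 (.leaf 9578)))
 (.node (.node (.leaf 12222)
 (.leaf 9774))
 (.node (.leaf 10086)
 (.leaf 11376))))
 (.node (.node (.node (.leaf 4107)
 (.leaf 3596))
 (.node (.leaf 14519)
 (.leaf 4515)))
 (.node (.node (.leaf 13449)
 (.leaf 7836))
 (.node (.leaf 9254)
 (.leaf 7651))))))

def srtTB94 : RT := .node (.node (.node (.node (.node (.node (.leaf 2462)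
 (.leaf 1387))
 (.node (.leaf 7102)
 (.leaf 9840)))
 (.node (.node (.leaf 5223)
 (.leaf 9040))
 (.node (.leaf 5248)
 (.leaf 4916))))
 (.node (.node (.node (.leaf 12154)
 (.leaf 724))
 (.node (.leaf 2847)
 (.leaf 3003)))
 (.node (.node (.leaf 11694)
 (.leaf 9908))
 (.node (.leaf 11078)
 (.leaf 8385)))))
 (.node (.node (.node (.node (.leaf 3841)
 (.leaf 6936))
 (.node (.leaf 9317)
 (.leaf 4135)))
 (.node (.node (.leaf 2501)
 (.leaf 7575))
 (.node (.leaf 11821)
 (.leaf 11712))))
 (.node (.node (.node (.leaf 5901)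
 (.leaf 5407))
 (.node (.leaf 6960)
 (.leaf 11684)))
 (.node (.node (.leaf 3882)
 (.leaf 2172))
 (.node (.leaf 6180)
 (.leaf 277))))))
 (.node (.node (.node (.node (.node (.leaf 5133)
 (.leaf 8575))
 (.node (.leaf 571)
 (.leaf 311)))
 (.node (.node (.leaf 10942)
 (.leaf 4635))
 (.node (.leaf 3023)
 (.leaf 12846))))
 (.node (.node (.node (.leaf 9005)
 (.leaf 1931))
 (.node (.leaf 13926)
 (.leaf 9539)))
 (.node (.node (.leaf 1460)
 (.leaf 3829))
 (.node (.leaf 10739)
 (.leaf 7941)))))
 (.node (.node (.node (.node (.leaf 12332)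
 (.leaf 9592))
 (.node (.leaf 13338)
 (.leaf 474)))
 (.node (.node (.leaf 3563)
 (.leaf 13952))
 (.node (.leaf 13055)
 (.leaf 3833))))
 (.node (.node (.node (.leaf 12647)
 (.leaf 13387))
 (.node (.leaf 9743)
 (.leaf 9495)))
 (.node (.node (.leaf 7759)
 (.leaf 12879))
 (.node (.leaf 13699)
 (.leaf 3161))))))

def srtTB95 : RT := .node (.node (.node (.node (.node (.node (.leaf 7214)
 (.leaf 904))
 (.node (.leaf 13097)
 (.leaf 13552)))
 (.node (.node (.leaf 6120)
 (.leaf 10855))
 (.node (.leaf 6669)
 (.leaf 10810))))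
 (.node (.node (.node (.leaf 1897)
 (.leaf 14114))
 (.node (.leaf 10215)
 (.leaf 350)))
 (.node (.node (.leaf 12924)
 (.leaf 2777))
 (.node (.leaf 10664)
 (.leaf 377)))))
 (.node (.node (.node (.node (.leaf 14618)
 (.leaf 10897))
 (.node (.leaf 12213)
 (.leaf 4294)))
 (.node (.node (.leaf 10115)
 (.leaf 9633))
 (.node (.leaf 1275)
 (.leaf 7951))))
 (.node (.node (.node (.leaf 13211)
 (.leaf 9917))
 (.node (.leaf 6474)
 (.leaf 14249)))
 (.node (.node (.leaf 3569)
 (.leaf 5342))
 (.node (.leaf 1585)
 (.leaf 2766))))))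
 (.node (.node (.node (.node (.node (.leaf 5436)
 (.leaf 1767))
 (.node (.leaf 4858)
 (.leaf 8042)))
 (.node (.node (.leaf 7335)
 (.leaf 5611))
 (.node (.leaf 3801)
 (.leaf 8557))))
 (.node (.node (.node (.leaf 10946)
 (.leaf 11765))
 (.node (.leaf 12881)
 (.leaf 5310)))
 (.node (.node (.leaf 4323)
 (.leaf 9557))
 (.node (.leaf 5138)
 (.leaf 8992)))))
 (.node (.node (.node (.node (.leaf 8867)
 (.leaf 2892))
 (.node (.leaf 10195)
 (.leaf 9701)))
 (.node (.node (.leaf 13447)
 (.leaf 10486))
 (.node (.leaf 582)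
 (.leaf 3239))))
 (.node (.node (.node (.leaf 10276)
 (.leaf 14601))
 (.node (.leaf 6457)
 (.leaf 689)))
 (.node (.node (.leaf 6920)
 (.leaf 12435))
 (.node (.leaf 686)
 (.leaf 13017))))))

def srtTB96 : RT := .node (.node (.node (.node (.node (.node (.leaf 14831)
 (.leaf 10330))
 (.node (.leaf 12469)
 (.leaf 3735)))
 (.node (.node (.leaf 9759)
 (.leaf 3348))
 (.node (.leaf 9697)
 (.leaf 10473))))
 (.node (.node (.node (.leaf 8361)
 (.leaf 9544))
 (.node (.leaf 11413)
 (.leaf 725)))
 (.node (.node (.leaf 10285)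
 (.leaf 4006))
 (.node (.leaf 1749)
 (.leaf 7334)))))
 (.node (.node (.node (.node (.leaf 8007)
 (.leaf 9211))
 (.node (.leaf 13917)
 (.leaf 11020)))
 (.node (.node (.leaf 13269)
 (.leaf 11531))
 (.node (.leaf 4154)
 (.leaf 10956))))
 (.node (.node (.node (.leaf 10139)
 (.leaf 6885))
 (.node (.leaf 13048)
 (.leaf 13501)))
 (.node (.node (.leaf 10572)
 (.leaf 11442))
 (.node (.leaf 12665)
 (.leaf 6378))))))
 (.node (.node (.node (.node (.node (.leaf 6719)
 (.leaf 2507))
 (.node (.leaf 2111)
 (.leaf 7289)))
 (.node (.node (.leaf 8328)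
 (.leaf 4895))
 (.node (.leaf 5713)
 (.leaf 8300))))
 (.node (.node (.node (.leaf 12314)
 (.leaf 9890))
 (.node (.leaf 13672)
 (.leaf 4733)))
 (.node (.node (.leaf 2021)
 (.leaf 7451))
 (.node (.leaf 12947)
 (.leaf 893)))))
 (.node (.node (.node (.node (.leaf 10917)
 (.leaf 1977))
 (.node (.leaf 1529)
 (.leaf 9690)))
 (.node (.node (.leaf 8194)
 (.leaf 7559))
 (.node (.leaf 14433)
 (.leaf 6290))))
 (.node (.node (.node (.leaf 2860)
 (.leaf 10974))
 (.node (.leaf 3493)
 (.leaf 12847)))
 (.node (.node (.leaf 3168)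
 (.leaf 4199))
 (.node (.leaf 815)
 (.leaf 1423))))))

def srtTB97 : RT := .node (.node (.node (.node (.node (.node (.leaf 13080)
 (.leaf 10298))
 (.node (.leaf 13401)
 (.leaf 3160)))
 (.node (.node (.leaf 6202)
 (.leaf 7932))
 (.node (.leaf 500)
 (.leaf 2220))))
 (.node (.node (.node (.leaf 10970)
 (.leaf 13193))
 (.node (.leaf 14087)
 (.leaf 4250)))
 (.node (.node (.leaf 10063)
 (.leaf 12587))
 (.node (.leaf 12518)
 (.leaf 14521)))))
 (.node (.node (.node (.node (.leaf 11056)
 (.leaf 13836))
 (.node (.leaf 1525)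
 (.leaf 10608)))
 (.node (.node (.leaf 10709)
 (.leaf 14668))
 (.node (.leaf 4319)
 (.leaf 2019))))
 (.node (.node (.node (.leaf 3914)
 (.leaf 1185))
 (.node (.leaf 10468)
 (.leaf 2209)))
 (.node (.node (.leaf 10527)
 (.leaf 13705))
 (.node (.leaf 2743)
 (.leaf 13253))))))
 (.node (.node (.node (.node (.node (.leaf 2885)
 (.leaf 9873))
 (.node (.leaf 12343)
 (.leaf 12532)))
 (.node (.node (.leaf 6867)
 (.leaf 4628))
 (.node (.leaf 13309)
 (.leaf 2121))))
 (.node (.node (.node (.leaf 5950)
 (.leaf 14961))
 (.node (.leaf 14213)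
 (.leaf 7552)))
 (.node (.node (.leaf 7703)
 (.leaf 5208))
 (.node (.leaf 1771)
 (.leaf 1549)))))
 (.node (.node (.node (.node (.leaf 6497)
 (.leaf 3164))
 (.node (.leaf 6945)
 (.leaf 5816)))
 (.node (.node (.leaf 6827)
 (.leaf 6599))
 (.node (.leaf 1654)
 (.leaf 7273))))
 (.node (.node (.node (.leaf 12429)
 (.leaf 13689))
 (.node (.leaf 14041)
 (.leaf 13243)))
 (.node (.node (.leaf 12796)
 (.leaf 507))
 (.node (.leaf 9279)
 (.leaf 3289))))))

def srtTB98 : RT := .node (.node (.node (.node (.node (.node (.leaf 8286)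
 (.leaf 11223))
 (.node (.leaf 6302)
 (.leaf 6239)))
 (.node (.node (.leaf 4052)
 (.leaf 12975))
 (.node (.leaf 3314)
 (.leaf 14090))))
 (.node (.node (.node (.leaf 4440)
 (.leaf 13754))
 (.node (.leaf 14411)
 (.leaf 2370)))
 (.node (.node (.leaf 11356)
 (.leaf 2513))
 (.node (.leaf 10750)
 (.leaf 3487)))))
 (.node (.node (.node (.node (.leaf 8028)
 (.leaf 13760))
 (.node (.leaf 10894)
 (.leaf 8335)))
 (.node (.node (.leaf 2834)
 (.leaf 318))
 (.node (.leaf 14891)
 (.leaf 12622))))
 (.node (.node (.node (.leaf 6390)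
 (.leaf 10426))
 (.node (.leaf 13402)
 (.leaf 2177)))
 (.node (.node (.leaf 443)
 (.leaf 2670))
 (.node (.leaf 3709)
 (.leaf 12827))))))
 (.node (.node (.node (.node (.node (.leaf 1111)
 (.leaf 9750))
 (.node (.leaf 9223)
 (.leaf 12434)))
 (.node (.node (.leaf 9765)
 (.leaf 7824))
 (.node (.leaf 13065)
 (.leaf 13456))))
 (.node (.node (.node (.leaf 14838)
 (.leaf 1574))
 (.node (.leaf 6658)
 (.leaf 8594)))
 (.node (.node (.leaf 4829)
 (.leaf 1691))
 (.node (.leaf 11946)
 (.leaf 12191)))))
 (.node (.node (.node (.node (.leaf 448)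
 (.leaf 7508))
 (.node (.leaf 9025)
 (.leaf 4586)))
 (.node (.node (.leaf 877)
 (.leaf 379))
 (.node (.leaf 11648)
 (.leaf 12286))))
 (.node (.node (.node (.leaf 14472)
 (.leaf 10676))
 (.node (.leaf 1332)
 (.leaf 9588)))
 (.node (.node (.leaf 2678)
 (.leaf 3783))
 (.node (.leaf 974)
 (.leaf 9811))))))

def srtTB99 : RT := .node (.node (.node (.node (.node (.node (.leaf 13491)
 (.leaf 2695))
 (.node (.leaf 6172)
 (.leaf 10542)))
 (.node (.node (.leaf 9478)
 (.leaf 2473))
 (.node (.leaf 12743)
 (.leaf 13020))))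
 (.node (.node (.node (.leaf 6935)
 (.leaf 11363))
 (.node (.leaf 14651)
 (.leaf 1704)))
 (.node (.node (.leaf 10024)
 (.leaf 13841))
 (.node (.leaf 7844)
 (.leaf 14135)))))
 (.node (.node (.node (.node (.leaf 13264)
 (.leaf 14875))
 (.node (.leaf 7054)
 (.leaf 12954)))
 (.node (.node (.leaf 9239)
 (.leaf 13403))
 (.node (.leaf 13656)
 (.leaf 3695))))
 (.node (.node (.node (.leaf 10125)
 (.leaf 10966))
 (.node (.leaf 12867)
 (.leaf 9345)))
 (.node (.node (.leaf 5557)
 (.leaf 6252))
 (.node (.leaf 2606)
 (.leaf 2221))))))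
 (.node (.node (.node (.node (.node (.leaf 1404)
 (.leaf 1464))
 (.node (.leaf 5762)
 (.leaf 4946)))
 (.node (.node (.leaf 8341)
 (.leaf 6498))
 (.node (.leaf 6552)
 (.leaf 2710))))
 (.node (.node (.node (.leaf 4)
 (.leaf 8829))
 (.node (.leaf 5988)
 (.leaf 4857)))
 (.node (.node (.leaf 11669)
 (.leaf 9182))
 (.node (.leaf 5980)
 (.leaf 7308)))))
 (.node (.node (.node (.node (.leaf 8820)
 (.leaf 11762))
 (.node (.leaf 986)
 (.leaf 10799)))
 (.node (.node (.leaf 7813)
 (.leaf 10353))
 (.node (.leaf 11944)
 (.leaf 2570))))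
 (.node (.node (.node (.leaf 8931)
 (.leaf 3295))
 (.node (.leaf 8910)
 (.leaf 5361)))
 (.node (.node (.leaf 1760)
 (.leaf 49))
 (.node (.leaf 4445)
 (.leaf 10400))))))

def srtTB100 : RT := .node (.node (.node (.node (.node (.node (.leaf 11622)
 (.leaf 6344))
 (.node (.leaf 5456)
 (.leaf 11084)))
 (.node (.node (.leaf 2069)
 (.leaf 2029))
 (.node (.leaf 12215)
 (.leaf 13188))))
 (.node (.node (.node (.leaf 12912)
 (.leaf 1267))
 (.node (.leaf 4282)
 (.leaf 13859)))
 (.node (.node (.leaf 8267)
 (.leaf 769))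
 (.node (.leaf 14121)
 (.leaf 11517)))))
 (.node (.node (.node (.node (.leaf 8237)
 (.leaf 14951))
 (.node (.leaf 5354)
 (.leaf 7682)))
 (.node (.node (.leaf 7029)
 (.leaf 5198))
 (.node (.leaf 5073)
 (.leaf 1839))))
 (.node (.node (.node (.leaf 8178)
 (.leaf 1950))
 (.node (.leaf 2573)
 (.leaf 7866)))
 (.node (.node (.leaf 2133)
 (.leaf 2825))
 (.node (.leaf 6759)
 (.leaf 6423))))))
 (.node (.node (.node (.node (.node (.leaf 1857)
 (.leaf 912))
 (.node (.leaf 14821)
 (.leaf 10123)))
 (.node (.node (.leaf 11537)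
 (.leaf 13277))
 (.node (.leaf 12888)
 (.leaf 6637))))
 (.node (.node (.node (.leaf 9683)
 (.leaf 8559))
 (.node (.leaf 8883)
 (.leaf 5140)))
 (.node (.node (.leaf 11955)
 (.leaf 3662))
 (.node (.leaf 3031)
 (.leaf 221)))))
 (.node (.node (.node (.node (.leaf 11667)
 (.leaf 8238))
 (.node (.leaf 9152)
 (.leaf 9207)))
 (.node (.node (.leaf 12908)
 (.leaf 8911))
 (.node (.leaf 604)
 (.leaf 3907))))
 (.node (.node (.node (.leaf 2405)
 (.leaf 3651))
 (.node (.leaf 14614)
 (.leaf 13834)))
 (.node (.node (.leaf 6445)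
 (.leaf 975))
 (.node (.leaf 10427)
 (.leaf 12297))))))

def srtTB101 : RT := .node (.node (.node (.node (.node (.node (.leaf 3233)
 (.leaf 7517))
 (.node (.leaf 2046)
 (.leaf 11601)))
 (.node (.node (.leaf 7043)
 (.leaf 12097))
 (.node (.leaf 226)
 (.leaf 4853))))
 (.node (.node (.node (.leaf 11508)
 (.leaf 4292))
 (.node (.leaf 9571)
 (.leaf 12351)))
 (.node (.node (.leaf 9098)
 (.leaf 8501))
 (.node (.leaf 1440)
 (.leaf 2124)))))
 (.node (.node (.node (.node (.leaf 10607)
 (.leaf 14766))
 (.node (.leaf 14553)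
 (.leaf 6284)))
 (.node (.node (.leaf 10559)
 (.leaf 6050))
 (.node (.leaf 13287)
 (.leaf 4149))))
 (.node (.node (.node (.leaf 3065)
 (.leaf 13844))
 (.node (.leaf 14192)
 (.leaf 3152)))
 (.node (.node (.leaf 12635)
 (.leaf 79))
 (.node (.leaf 4333)
 (.leaf 12022))))))
 (.node (.node (.node (.node (.node (.leaf 4192)
 (.leaf 711))
 (.node (.leaf 9133)
 (.leaf 11698)))
 (.node (.node (.leaf 11655)
 (.leaf 9529))
 (.node (.leaf 4988)
 (.leaf 5691))))
 (.node (.node (.node (.leaf 11872)
 (.leaf 11975))
 (.node (.leaf 12625)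
 (.leaf 8071)))
 (.node (.node (.leaf 8001)
 (.leaf 8437))
 (.node (.leaf 234)
 (.leaf 4148)))))
 (.node (.node (.node (.node (.leaf 8851)
 (.leaf 3692))
 (.node (.leaf 734)
 (.leaf 67)))
 (.node (.node (.leaf 9259)
 (.leaf 2797))
 (.node (.leaf 1952)
 (.leaf 8872))))
 (.node (.node (.node (.leaf 14599)
 (.leaf 10786))
 (.node (.leaf 2004)
 (.leaf 6310)))
 (.node (.node (.leaf 14726)
 (.leaf 4230))
 (.node (.leaf 6846)
 (.leaf 3924))))))

def srtTB102 : RT := .node (.node (.node (.node (.node (.node (.leaf 10271)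
 (.leaf 2074))
 (.node (.leaf 14188)
 (.leaf 13591)))
 (.node (.node (.leaf 13090)
 (.leaf 7259))
 (.node (.leaf 1308)
 (.leaf 3925))))
 (.node (.node (.node (.leaf 11130)
 (.leaf 10679))
 (.node (.leaf 9703)
 (.leaf 3103)))
 (.node (.node (.leaf 4261)
 (.leaf 13544))
 (.node (.leaf 6739)
 (.leaf 7991)))))
 (.node (.node (.node (.node (.leaf 11502)
 (.leaf 14682))
 (.node (.leaf 14505)
 (.leaf 382)))
 (.node (.node (.leaf 2734)
 (.leaf 783))
 (.node (.leaf 7524)
 (.leaf 10384))))
 (.node (.node (.node (.leaf 9974)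
 (.leaf 12365))
 (.node (.leaf 361)
 (.leaf 2072)))
 (.node (.node (.leaf 3670)
 (.leaf 13972))
 (.node (.leaf 13011)
 (.leaf 4310))))))
 (.node (.node (.node (.node (.node (.leaf 13537)
 (.leaf 14678))
 (.node (.leaf 4948)
 (.leaf 6557)))
 (.node (.node (.leaf 10953)
 (.leaf 10804))
 (.node (.leaf 4703)
 (.leaf 2940))))
 (.node (.node (.node (.leaf 12571)
 (.leaf 9432))
 (.node (.leaf 9116)
 (.leaf 9172)))
 (.node (.node (.leaf 2063)
 (.leaf 5769))
 (.node (.leaf 4304)
 (.leaf 7265)))))
 (.node (.node (.node (.node (.leaf 13805)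
 (.leaf 13293))
 (.node (.leaf 10791)
 (.leaf 4513)))
 (.node (.node (.leaf 11052)
 (.leaf 6802))
 (.node (.leaf 14058)
 (.leaf 12425))))
 (.node (.node (.node (.leaf 3302)
 (.leaf 12748))
 (.node (.leaf 233)
 (.leaf 7774)))
 (.node (.node (.leaf 7215)
 (.leaf 9688))
 (.node (.leaf 7542)
 (.leaf 12801))))))

def srtTB103 : RT := .node (.node (.node (.node (.node (.node (.leaf 3942)
 (.leaf 128))
 (.node (.leaf 4754)
 (.leaf 11992)))
 (.node (.node (.leaf 5827)
 (.leaf 4068))
 (.node (.leaf 1653)
 (.leaf 5098))))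
 (.node (.node (.node (.leaf 8896)
 (.leaf 328))
 (.node (.leaf 7778)
 (.leaf 8464)))
 (.node (.node (.leaf 14494)
 (.leaf 2262))
 (.node (.leaf 4568)
 (.leaf 10507)))))
 (.node (.node (.node (.node (.leaf 6649)
 (.leaf 11310))
 (.node (.leaf 6157)
 (.leaf 12675)))
 (.node (.node (.leaf 13963)
 (.leaf 3395))
 (.node (.leaf 11519)
 (.leaf 13492))))
 (.node (.node (.node (.leaf 3202)
 (.leaf 6056))
 (.node (.leaf 13066)
 (.leaf 2033)))
 (.node (.node (.leaf 9991)
 (.leaf 13988))
 (.node (.leaf 14869)
 (.leaf 11545))))))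
 (.node (.node (.node (.node (.node (.leaf 11347)
 (.leaf 2717))
 (.node (.leaf 14798)
 (.leaf 11566)))
 (.node (.node (.leaf 4332)
 (.leaf 10263))
 (.node (.leaf 4870)
 (.leaf 8560))))
 (.node (.node (.node (.leaf 12762)
 (.leaf 11602))
 (.node (.leaf 9595)
 (.leaf 809)))
 (.node (.node (.leaf 3792)
 (.leaf 438))
 (.node (.leaf 8461)
 (.leaf 5902)))))
 (.node (.node (.node (.node (.leaf 8711)
 (.leaf 353))
 (.node (.leaf 2544)
 (.leaf 10343)))
 (.node (.node (.leaf 6730)
 (.leaf 3328))
 (.node (.leaf 3362)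
 (.leaf 6314))))
 (.node (.node (.node (.leaf 8103)
 (.leaf 2205))
 (.node (.leaf 2373)
 (.leaf 4830)))
 (.node (.node (.leaf 4801)
 (.leaf 5186))
 (.node (.leaf 4909)
 (.leaf 2068))))))

def srtTB104 : RT := .node (.node (.node (.node (.node (.node (.leaf 2894)
 (.leaf 9784))
 (.node (.leaf 6039)
 (.leaf 12876)))
 (.node (.node (.leaf 14689)
 (.leaf 3533))
 (.node (.leaf 11408)
 (.leaf 13390))))
 (.node (.node (.node (.leaf 10096)
 (.leaf 8100))
 (.node (.leaf 828)
 (.leaf 3052)))
 (.node (.node (.leaf 14675)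
 (.leaf 2132))
 (.node (.leaf 6715)
 (.leaf 4887)))))
 (.node (.node (.node (.node (.leaf 8119)
 (.leaf 1239))
 (.node (.leaf 3109)
 (.leaf 7537)))
 (.node (.node (.leaf 1429)
 (.leaf 5836))
 (.node (.leaf 5519)
 (.leaf 5304))))
 (.node (.node (.node (.leaf 2658)
 (.leaf 5161))
 (.node (.leaf 2712)
 (.leaf 14947)))
 (.node (.node (.leaf 14297)
 (.leaf 11179))
 (.node (.leaf 3288)
 (.leaf 6684))))))
 (.node (.node (.node (.node (.node (.leaf 11262)
 (.leaf 2285))
 (.node (.leaf 11953)
 (.leaf 8901)))
 (.node (.node (.leaf 10355)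
 (.leaf 11839))
 (.node (.leaf 5798)
 (.leaf 5423))))
 (.node (.node (.node (.leaf 5638)
 (.leaf 1347))
 (.node (.leaf 3418)
 (.leaf 1860)))
 (.node (.node (.leaf 14268)
 (.leaf 3400))
 (.node (.leaf 3111)
 (.leaf 5562)))))
 (.node (.node (.node (.node (.leaf 7436)
 (.leaf 5712))
 (.node (.leaf 2384)
 (.leaf 4880)))
 (.node (.node (.leaf 5667)
 (.leaf 597))
 (.node (.leaf 8431)
 (.leaf 7036))))
 (.node (.node (.node (.leaf 8834)
 (.leaf 3939))
 (.node (.leaf 6162)
 (.leaf 4798)))
 (.node (.node (.leaf 1424)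
 (.leaf 11906))
 (.node (.leaf 3532)
 (.leaf 10859))))))

def srtTB105 : RT := .node (.node (.node (.node (.node (.node (.leaf 13349)
 (.leaf 13990))
 (.node (.leaf 3484)
 (.leaf 8038)))
 (.node (.node (.leaf 152)
 (.leaf 11163))
 (.node (.leaf 14563)
 (.leaf 1909))))
 (.node (.node (.node (.leaf 807)
 (.leaf 4280))
 (.node (.leaf 13130)
 (.leaf 1870)))
 (.node (.node (.leaf 7401)
 (.leaf 2709))
 (.node (.leaf 12160)
 (.leaf 8540)))))
 (.node (.node (.node (.node (.leaf 4281)
 (.leaf 8567))
 (.node (.leaf 4622)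
 (.leaf 4840)))
 (.node (.node (.leaf 10078)
 (.leaf 1940))
 (.node (.leaf 12111)
 (.leaf 8416))))
 (.node (.node (.node (.leaf 5316)
 (.leaf 8561))
 (.node (.leaf 4981)
 (.leaf 1114)))
 (.node (.node (.leaf 7468)
 (.leaf 547))
 (.node (.leaf 10221)
 (.leaf 11921))))))
 (.node (.node (.node (.node (.node (.leaf 8523)
 (.leaf 522))
 (.node (.leaf 8710)
 (.leaf 6635)))
 (.node (.node (.leaf 3894)
 (.leaf 10925))
 (.node (.leaf 3990)
 (.leaf 8639))))
 (.node (.node (.node (.leaf 5496)
 (.leaf 9675))
 (.node (.leaf 11798)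
 (.leaf 8918)))
 (.node (.node (.leaf 5044)
 (.leaf 5366))
 (.node (.leaf 11964)
 (.leaf 115)))))
 (.node (.node (.node (.node (.leaf 9106)
 (.leaf 7920))
 (.node (.leaf 423)
 (.leaf 2009)))
 (.node (.node (.leaf 13215)
 (.leaf 10290))
 (.node (.leaf 496)
 (.leaf 4246))))
 (.node (.node (.node (.leaf 7105)
 (.leaf 14200))
 (.node (.leaf 7846)
 (.leaf 13394)))
 (.node (.node (.leaf 7275)
 (.leaf 9201))
 (.node (.leaf 2181)
 (.leaf 14776))))))

def srtTB106 : RT := .node (.node (.node (.node (.node (.node (.leaf 9473)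
 (.leaf 10589))
 (.node (.leaf 13646)
 (.leaf 2505)))
 (.node (.node (.leaf 1117)
 (.leaf 2234))
 (.node (.leaf 6771)
 (.leaf 9938))))
 (.node (.node (.node (.leaf 10288)
 (.leaf 14131))
 (.node (.leaf 13176)
 (.leaf 65)))
 (.node (.node (.leaf 14716)
 (.leaf 8198))
 (.node (.leaf 11030)
 (.leaf 13860)))))
 (.node (.node (.node (.node (.leaf 1700)
 (.leaf 3291))
 (.node (.leaf 562)
 (.leaf 6927)))
 (.node (.node (.leaf 8129)
 (.leaf 12753))
 (.node (.leaf 7571)
 (.leaf 10822))))
 (.node (.node (.node (.leaf 14881)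
 (.leaf 14182))
 (.node (.leaf 11509)
 (.leaf 10798)))
 (.node (.node (.leaf 11535)
 (.leaf 1291))
 (.node (.leaf 6274)
 (.leaf 12210))))))
 (.node (.node (.node (.node (.node (.leaf 8004)
 (.leaf 11362))
 (.node (.leaf 329)
 (.leaf 3163)))
 (.node (.node (.leaf 14454)
 (.leaf 7460))
 (.node (.leaf 13511)
 (.leaf 853))))
 (.node (.node (.node (.leaf 14056)
 (.leaf 7943))
 (.node (.leaf 792)
 (.leaf 12710)))
 (.node (.node (.leaf 6020)
 (.leaf 11755))
 (.node (.leaf 9730)
 (.leaf 4594)))))
 (.node (.node (.node (.node (.leaf 4758)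
 (.leaf 5024))
 (.node (.leaf 12054)
 (.leaf 8657)))
 (.node (.node (.leaf 796)
 (.leaf 1378))
 (.node (.leaf 8706)
 (.leaf 6329))))
 (.node (.node (.node (.leaf 12277)
 (.leaf 2562))
 (.node (.leaf 7066)
 (.leaf 7995)))
 (.node (.node (.leaf 263)
 (.leaf 11055))
 (.node (.leaf 2309)
 (.leaf 14871))))))

def srtTB107 : RT := .node (.node (.node (.node (.node (.node (.leaf 2437)
 (.leaf 13584))
 (.node (.leaf 14128)
 (.leaf 10317)))
 (.node (.node (.leaf 14098)
 (.leaf 9671))
 (.node (.leaf 9858)
 (.leaf 10450))))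
 (.node (.node (.node (.leaf 9889)
 (.leaf 4013))
 (.node (.leaf 579)
 (.leaf 14872)))
 (.node (.node (.leaf 1320)
 (.leaf 7366))
 (.node (.leaf 10645)
 (.leaf 2350)))))
 (.node (.node (.node (.node (.leaf 198)
 (.leaf 12486))
 (.node (.leaf 12831)
 (.leaf 13043)))
 (.node (.node (.leaf 3983)
 (.leaf 13361))
 (.node (.leaf 7069)
 (.leaf 4760))))
 (.node (.node (.node (.leaf 10554)
 (.leaf 1788))
 (.node (.leaf 13628)
 (.leaf 14857)))
 (.node (.node (.leaf 8236)
 (.leaf 732))
 (.node (.leaf 10555)
 (.leaf 6963))))))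
 (.node (.node (.node (.node (.node (.leaf 10192)
 (.leaf 9482))
 (.node (.leaf 13487)
 (.leaf 8013)))
 (.node (.node (.leaf 5494)
 (.leaf 5998))
 (.node (.leaf 1937)
 (.leaf 3245))))
 (.node (.node (.node (.leaf 2280)
 (.leaf 1535))
 (.node (.leaf 6837)
 (.leaf 7090)))
 (.node (.node (.leaf 7115)
 (.leaf 5898))
 (.node (.leaf 2091)
 (.leaf 7870)))))
 (.node (.node (.node (.node (.leaf 5791)
 (.leaf 2701))
 (.node (.leaf 13267)
 (.leaf 6175)))
 (.node (.node (.leaf 6235)
 (.leaf 9842))
 (.node (.leaf 9651)
 (.leaf 13372))))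
 (.node (.node (.node (.leaf 3965)
 (.leaf 14054))
 (.node (.leaf 7697)
 (.leaf 6448)))
 (.node (.node (.leaf 13721)
 (.leaf 11375))
 (.node (.leaf 6324)
 (.leaf 8653))))))

def srtTB108 : RT := .node (.node (.node (.node (.node (.node (.leaf 11689)
 (.leaf 1768))
 (.node (.leaf 750)
 (.leaf 10300)))
 (.node (.node (.leaf 12991)
 (.leaf 2404))
 (.node (.leaf 5875)
 (.leaf 9100))))
 (.node (.node (.node (.leaf 8669)
 (.leaf 8964))
 (.node (.leaf 11670)
 (.leaf 3787)))
 (.node (.node (.leaf 2642)
 (.leaf 6563))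
 (.node (.leaf 6433)
 (.leaf 4894)))))
 (.node (.node (.node (.node (.leaf 7464)
 (.leaf 5370))
 (.node (.leaf 6718)
 (.leaf 14241)))
 (.node (.node (.leaf 5584)
 (.leaf 14923))
 (.node (.leaf 1959)
 (.leaf 5105))))
 (.node (.node (.node (.leaf 1453)
 (.leaf 8317))
 (.node (.leaf 4835)
 (.leaf 2814)))
 (.node (.node (.leaf 4994)
 (.leaf 4848))
 (.node (.leaf 5204)
 (.leaf 7740))))))
 (.node (.node (.node (.node (.node (.leaf 14259)
 (.leaf 5347))
 (.node (.leaf 3166)
 (.leaf 7391)))
 (.node (.node (.leaf 2335)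
 (.leaf 4986))
 (.node (.leaf 14918)
 (.leaf 3481))))
 (.node (.node (.node (.leaf 6247)
 (.leaf 6144))
 (.node (.leaf 7378)
 (.leaf 14036)))
 (.node (.node (.leaf 10989)
 (.leaf 14083))
 (.node (.leaf 13300)
 (.leaf 1894)))))
 (.node (.node (.node (.node (.leaf 12642)
 (.leaf 9985))
 (.node (.leaf 1901)
 (.leaf 10318)))
 (.node (.node (.leaf 779)
 (.leaf 7522))
 (.node (.leaf 330)
 (.leaf 14701))))
 (.node (.node (.node (.leaf 1263)
 (.leaf 9528))
 (.node (.leaf 11021)
 (.leaf 7057)))
 (.node (.node (.leaf 383)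
 (.leaf 12533))
 (.node (.leaf 9412)
 (.leaf 3698))))))

def srtTB109 : RT := .node (.node (.node (.node (.node (.node (.leaf 6973)
 (.leaf 1972))
 (.node (.leaf 14884)
 (.leaf 13706)))
 (.node (.node (.leaf 9348)
 (.leaf 3886))
 (.node (.leaf 739)
 (.leaf 7782))))
 (.node (.node (.node (.leaf 11503)
 (.leaf 7466))
 (.node (.leaf 10569)
 (.leaf 577)))
 (.node (.node (.leaf 2323)
 (.leaf 14480))
 (.node (.leaf 10768)
 (.leaf 14661)))))
 (.node (.node (.node (.node (.leaf 13023)
 (.leaf 13666))
 (.node (.leaf 7120)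
 (.leaf 2264)))
 (.node (.node (.leaf 9638)
 (.leaf 2614))
 (.node (.leaf 303)
 (.leaf 10414))))
 (.node (.node (.node (.leaf 12267)
 (.leaf 5295))
 (.node (.leaf 5734)
 (.leaf 12307)))
 (.node (.node (.leaf 8767)
 (.leaf 11961))
 (.node (.leaf 7266)
 (.leaf 2899))))))
 (.node (.node (.node (.node (.node (.leaf 5169)
 (.leaf 11521))
 (.node (.leaf 6524)
 (.leaf 8808)))
 (.node (.node (.leaf 231)
 (.leaf 8840))
 (.node (.leaf 10136)
 (.leaf 4259))))
 (.node (.node (.node (.leaf 10811)
 (.leaf 5025))
 (.node (.leaf 8666)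
 (.leaf 8839)))
 (.node (.node (.leaf 2304)
 (.leaf 838))
 (.node (.leaf 9623)
 (.leaf 2511)))))
 (.node (.node (.node (.node (.leaf 354)
 (.leaf 7576))
 (.node (.leaf 8595)
 (.leaf 6902)))
 (.node (.node (.leaf 3657)
 (.leaf 5413))
 (.node (.leaf 12009)
 (.leaf 12758))))
 (.node (.node (.node (.leaf 5884)
 (.leaf 5014))
 (.node (.leaf 8344)
 (.leaf 8689)))
 (.node (.node (.leaf 12294)
 (.leaf 10651))
 (.node (.leaf 8421)
 (.leaf 3608))))))

def srtTB110 : RT := .node (.node (.node (.node (.node (.node (.leaf 1817)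
 (.leaf 176))
 (.node (.leaf 2343)
 (.leaf 5067)))
 (.node (.node (.leaf 5504)
 (.leaf 9347))
 (.node (.leaf 385)
 (.leaf 10391))))
 (.node (.node (.node (.leaf 11848)
 (.leaf 13219))
 (.node (.leaf 3590)
 (.leaf 7474)))
 (.node (.node (.leaf 9233)
 (.leaf 1672))
 (.node (.leaf 2260)
 (.leaf 3394)))))
 (.node (.node (.node (.node (.leaf 10872)
 (.leaf 12687))
 (.node (.leaf 10684)
 (.leaf 11076)))
 (.node (.node (.leaf 11325)
 (.leaf 1072))
 (.node (.leaf 11646)
 (.leaf 12901))))
 (.node (.node (.node (.leaf 11160)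
 (.leaf 4184))
 (.node (.leaf 4352)
 (.leaf 2206)))
 (.node (.node (.leaf 558)
 (.leaf 5976))
 (.node (.leaf 9971)
 (.leaf 5970))))))
 (.node (.node (.node (.node (.node (.leaf 4207)
 (.leaf 3125))
 (.node (.leaf 8830)
 (.leaf 10)))
 (.node (.node (.leaf 4156)
 (.leaf 6057))
 (.node (.leaf 13330)
 (.leaf 10064))))
 (.node (.node (.node (.leaf 12526)
 (.leaf 7676))
 (.node (.leaf 1570)
 (.leaf 3072)))
 (.node (.node (.leaf 14535)
 (.leaf 14154))
 (.node (.leaf 13078)
 (.leaf 4739)))))
 (.node (.node (.node (.node (.leaf 2843)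
 (.leaf 786))
 (.node (.leaf 14598)
 (.leaf 12364)))
 (.node (.node (.leaf 14596)
 (.leaf 3475))
 (.node (.leaf 818)
 (.leaf 11032))))
 (.node (.node (.node (.leaf 7583)
 (.leaf 10207))
 (.node (.leaf 13231)
 (.leaf 14149)))
 (.node (.node (.leaf 1178)
 (.leaf 1997))
 (.node (.leaf 9263)
 (.leaf 4674))))))

def srtTB111 : RT := .node (.node (.node (.node (.node (.node (.leaf 4359)
 (.leaf 7980))
 (.node (.leaf 10618)
 (.leaf 6305)))
 (.node (.node (.leaf 6538)
 (.leaf 6806))
 (.node (.leaf 4172)
 (.leaf 9391))))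
 (.node (.node (.node (.leaf 2071)
 (.leaf 13000))
 (.node (.leaf 14866)
 (.leaf 14495)))
 (.node (.node (.leaf 964)
 (.leaf 4659))
 (.node (.leaf 12354)
 (.leaf 41)))))
 (.node (.node (.node (.node (.leaf 13516)
 (.leaf 11390))
 (.node (.leaf 790)
 (.leaf 12663)))
 (.node (.node (.leaf 13856)
 (.leaf 13626))
 (.node (.leaf 6694)
 (.leaf 14429))))
 (.node (.node (.node (.leaf 7706)
 (.leaf 9543))
 (.node (.leaf 10961)
 (.leaf 2015)))
 (.node (.node (.leaf 1943)
 (.leaf 13106))
 (.node (.leaf 10695)
 (.leaf 5541))))))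
 (.node (.node (.node (.node (.node (.leaf 11627)
 (.leaf 9026))
 (.node (.leaf 8758)
 (.leaf 8603)))
 (.node (.node (.leaf 11905)
 (.leaf 10634))
 (.node (.leaf 5123)
 (.leaf 150))))
 (.node (.node (.node (.leaf 28)
 (.leaf 6763))
 (.node (.leaf 5859)
 (.leaf 1169)))
 (.node (.node (.leaf 4604)
 (.leaf 13470))
 (.node (.leaf 9555)
 (.leaf 9661)))))
 (.node (.node (.node (.node (.leaf 1384)
 (.leaf 12778))
 (.node (.leaf 6871)
 (.leaf 2640)))
 (.node (.node (.leaf 9733)
 (.leaf 12439))
 (.node (.leaf 521)
 (.leaf 7397))))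
 (.node (.node (.node (.leaf 6761)
 (.leaf 4577))
 (.node (.leaf 3836)
 (.leaf 8681)))
 (.node (.node (.leaf 545)
 (.leaf 5220))
 (.node (.leaf 203)
 (.leaf 9860))))))

def srtTB112 : RT := .node (.node (.node (.node (.node (.node (.leaf 5274)
 (.leaf 7372))
 (.node (.leaf 3941)
 (.leaf 4365)))
 (.node (.node (.leaf 11823)
 (.leaf 12093))
 (.node (.leaf 8854)
 (.leaf 12328))))
 (.node (.node (.node (.leaf 4934)
 (.leaf 8456))
 (.node (.leaf 5929)
 (.leaf 14300)))
 (.node (.node (.leaf 7760)
 (.leaf 7002))
 (.node (.leaf 6972)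
 (.leaf 3441)))))
 (.node (.node (.node (.node (.leaf 6594)
 (.leaf 2119))
 (.node (.leaf 8249)
 (.leaf 5733)))
 (.node (.node (.leaf 5626)
 (.leaf 1796))
 (.node (.leaf 1301)
 (.leaf 7315))))
 (.node (.node (.node (.leaf 2747)
 (.leaf 11959))
 (.node (.leaf 8581)
 (.leaf 2662)))
 (.node (.node (.leaf 8467)
 (.leaf 11630))
 (.node (.leaf 5021)
 (.leaf 441))))))
 (.node (.node (.node (.node (.node (.leaf 9839)
 (.leaf 5938))
 (.node (.leaf 687)
 (.leaf 9550)))
 (.node (.node (.leaf 7435)
 (.leaf 10054))
 (.node (.leaf 7093)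
 (.leaf 3082))))
 (.node (.node (.node (.leaf 2829)
 (.leaf 4257))
 (.node (.leaf 5232)
 (.leaf 11608)))
 (.node (.node (.leaf 5585)
 (.leaf 620))
 (.node (.leaf 4211)
 (.leaf 11934)))))
 (.node (.node (.node (.node (.leaf 6481)
 (.leaf 14812))
 (.node (.leaf 7427)
 (.leaf 12342)))
 (.node (.node (.leaf 2789)
 (.leaf 429))
 (.node (.leaf 6315)
 (.leaf 2055))))
 (.node (.node (.node (.leaf 9700)
 (.leaf 11065))
 (.node (.leaf 11418)
 (.leaf 2974)))
 (.node (.node (.leaf 13210)
 (.leaf 1512))
 (.node (.leaf 4288)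
 (.leaf 13153))))))

def srtTB113 : RT := .node (.node (.node (.node (.node (.node (.leaf 8213)
 (.leaf 6762))
 (.node (.leaf 4759)
 (.leaf 14503)))
 (.node (.node (.leaf 4436)
 (.leaf 10157))
 (.node (.leaf 14016)
 (.leaf 1098))))
 (.node (.node (.node (.leaf 10362)
 (.leaf 1346))
 (.node (.leaf 2271)
 (.leaf 7097)))
 (.node (.node (.leaf 11522)
 (.leaf 1187))
 (.node (.leaf 14073)
 (.leaf 13599)))))
 (.node (.node (.node (.node (.leaf 9630)
 (.leaf 9305))
 (.node (.leaf 4317)
 (.leaf 872)))
 (.node (.node (.leaf 12939)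
 (.leaf 14711))
 (.node (.leaf 7152)
 (.leaf 2039))))
 (.node (.node (.node (.leaf 3522)
 (.leaf 14730))
 (.node (.leaf 8211)
 (.leaf 9459)))
 (.node (.node (.leaf 10482)
 (.leaf 13036))
 (.node (.leaf 210)
 (.leaf 4447))))))
 (.node (.node (.node (.node (.node (.leaf 3317)
 (.leaf 9457))
 (.node (.leaf 2585)
 (.leaf 12797)))
 (.node (.node (.leaf 2313)
 (.leaf 10184))
 (.node (.leaf 1594)
 (.leaf 6646))))
 (.node (.node (.node (.leaf 10246)
 (.leaf 13985))
 (.node (.leaf 13650)
 (.leaf 7150)))
 (.node (.node (.leaf 14937)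
 (.leaf 5759))
 (.node (.leaf 5725)
 (.leaf 5487)))))
 (.node (.node (.node (.node (.leaf 1935)
 (.leaf 14243))
 (.node (.leaf 5200)
 (.leaf 5869)))
 (.node (.node (.leaf 3029)
 (.leaf 8395))
 (.node (.leaf 5386)
 (.leaf 6354))))
 (.node (.node (.node (.leaf 7747)
 (.leaf 3489))
 (.node (.leaf 5854)
 (.leaf 6476)))
 (.node (.node (.leaf 9705)
 (.leaf 616))
 (.node (.leaf 7077)
 (.leaf 2274))))))

def srtTB114 : RT := .node (.node (.node (.node (.node (.node (.leaf 12221)
 (.leaf 13874))
 (.node (.leaf 9732)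
 (.leaf 6337)))
 (.node (.node (.leaf 13475)
 (.leaf 7681))
 (.node (.leaf 13251)
 (.leaf 12455))))
 (.node (.node (.node (.leaf 11576)
 (.leaf 11344))
 (.node (.leaf 14474)
 (.leaf 1250)))
 (.node (.node (.leaf 11013)
 (.leaf 11587))
 (.node (.leaf 7019)
 (.leaf 1508)))))
 (.node (.node (.node (.node (.leaf 13976)
 (.leaf 12637))
 (.node (.leaf 11124)
 (.leaf 14774)))
 (.node (.node (.leaf 14190)
 (.leaf 6556))
 (.node (.leaf 4243)
 (.leaf 10282))))
 (.node (.node (.node (.leaf 13125)
 (.leaf 1437))
 (.node (.leaf 770)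
 (.leaf 11850)))
 (.node (.node (.leaf 10280)
 (.leaf 8993))
 (.node (.leaf 6660)
 (.leaf 5027))))))
 (.node (.node (.node (.node (.node (.leaf 12708)
 (.leaf 1333))
 (.node (.leaf 4140)
 (.leaf 7845)))
 (.node (.node (.leaf 8611)
 (.leaf 845))
 (.node (.leaf 479)
 (.leaf 5558))))
 (.node (.node (.node (.leaf 8941)
 (.leaf 12860))
 (.node (.leaf 8749)
 (.leaf 4699)))
 (.node (.node (.leaf 11777)
 (.leaf 8087))
 (.node (.leaf 673)
 (.leaf 2965)))))
 (.node (.node (.node (.node (.leaf 6464)
 (.leaf 5175))
 (.node (.leaf 11148)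
 (.leaf 1002)))
 (.node (.node (.leaf 11994)
 (.leaf 13004))
 (.node (.leaf 8117)
 (.leaf 463))))
 (.node (.node (.node (.leaf 1844)
 (.leaf 9830))
 (.node (.leaf 13345)
 (.leaf 4388)))
 (.node (.node (.leaf 7420)
 (.leaf 11441))
 (.node (.leaf 6300)
 (.leaf 10084))))))

def srtTB115 : RT := .node (.node (.node (.node (.node (.node (.leaf 12902)
 (.leaf 11129))
 (.node (.leaf 10137)
 (.leaf 1964)))
 (.node (.node (.leaf 12139)
 (.leaf 5154))
 (.node (.leaf 252)
 (.leaf 1922))))
 (.node (.node (.node (.leaf 3891)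
 (.leaf 4157))
 (.node (.leaf 181)
 (.leaf 3157)))
 (.node (.node (.leaf 9278)
 (.leaf 5266))
 (.node (.leaf 3625)
 (.leaf 4957)))))
 (.node (.node (.node (.node (.leaf 8233)
 (.leaf 12476))
 (.node (.leaf 7389)
 (.leaf 3186)))
 (.node (.node (.leaf 8110)
 (.leaf 10348))
 (.node (.leaf 13868)
 (.leaf 9486))))
 (.node (.node (.node (.leaf 2641)
 (.leaf 1054))
 (.node (.leaf 14470)
 (.leaf 698)))
 (.node (.node (.leaf 3179)
 (.leaf 13697))
 (.node (.leaf 7906)
 (.leaf 10868))))))
 (.node (.node (.node (.node (.node (.leaf 4547)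
 (.leaf 13026))
 (.node (.leaf 13953)
 (.leaf 14030)))
 (.node (.node (.leaf 11188)
 (.leaf 10973))
 (.node (.leaf 10615)
 (.leaf 1635))))
 (.node (.node (.node (.leaf 7148)
 (.leaf 212))
 (.node (.leaf 1113)
 (.leaf 13557)))
 (.node (.node (.leaf 2402)
 (.leaf 4397))
 (.node (.leaf 12773)
 (.leaf 7752)))))
 (.node (.node (.node (.node (.leaf 13577)
 (.leaf 13683))
 (.node (.leaf 6741)
 (.leaf 14610)))
 (.node (.node (.leaf 7253)
 (.leaf 1742))
 (.node (.leaf 722)
 (.leaf 3172))))
 (.node (.node (.node (.leaf 10194)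
 (.leaf 4541))
 (.node (.leaf 10669)
 (.leaf 2454)))
 (.node (.node (.leaf 12992)
 (.leaf 6840))
 (.node (.leaf 729)
 (.leaf 12484))))))

def srtTB116 : RT := .node (.node (.node (.node (.node (.node (.leaf 13571)
 (.leaf 1344))
 (.node (.leaf 2444)
 (.leaf 13063)))
 (.node (.node (.leaf 7910)
 (.leaf 14853))
 (.node (.leaf 14414)
 (.leaf 4020))))
 (.node (.node (.node (.leaf 14143)
 (.leaf 9213))
 (.node (.leaf 12893)
 (.leaf 3797)))
 (.node (.node (.leaf 5756)
 (.leaf 8479))
 (.node (.leaf 8434)
 (.leaf 4711)))))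
 (.node (.node (.node (.node (.leaf 2933)
 (.leaf 11922))
 (.node (.leaf 8863)
 (.leaf 8800)))
 (.node (.node (.leaf 7031)
 (.leaf 1966))
 (.node (.leaf 12033)
 (.leaf 1058))))
 (.node (.node (.node (.leaf 11036)
 (.leaf 8207))
 (.node (.leaf 13216)
 (.leaf 10160)))
 (.node (.node (.leaf 14163)
 (.leaf 14739))
 (.node (.leaf 7859)
 (.leaf 11416))))))
 (.node (.node (.node (.node (.node (.leaf 1181)
 (.leaf 6026))
 (.node (.leaf 3916)
 (.leaf 14329)))
 (.node (.node (.leaf 1958)
 (.leaf 9695))
 (.node (.leaf 3022)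
 (.leaf 6509))))
 (.node (.node (.node (.leaf 12564)
 (.leaf 9272))
 (.node (.leaf 1438)
 (.leaf 1363)))
 (.node (.node (.leaf 7764)
 (.leaf 2914))
 (.node (.leaf 5607)
 (.leaf 2098)))))
 (.node (.node (.node (.node (.leaf 1929)
 (.leaf 7525))
 (.node (.leaf 5864)
 (.leaf 3265)))
 (.node (.node (.leaf 14267)
 (.leaf 7654))
 (.node (.leaf 5610)
 (.leaf 3223))))
 (.node (.node (.node (.leaf 5527)
 (.leaf 7169))
 (.node (.leaf 6564)
 (.leaf 2738)))
 (.node (.node (.leaf 14905)
 (.leaf 7971))
 (.node (.leaf 5059)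
 (.leaf 2735))))))

def srtTB117 : RT := .node (.node (.node (.node (.node (.node (.leaf 3301)
 (.leaf 14284))
 (.node (.leaf 5543)
 (.leaf 5780)))
 (.node (.node (.leaf 3066)
 (.leaf 7731))
 (.node (.leaf 6030)
 (.leaf 7232))))
 (.node (.node (.node (.leaf 5442)
 (.leaf 5374))
 (.node (.leaf 5773)
 (.leaf 6854)))
 (.node (.node (.leaf 8383)
 (.leaf 12247))
 (.node (.leaf 5790)
 (.leaf 9064)))))
 (.node (.node (.node (.node (.leaf 11626)
 (.leaf 1094))
 (.node (.leaf 11123)
 (.leaf 5601)))
 (.node (.node (.leaf 9477)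
 (.leaf 264))
 (.node (.leaf 9198)
 (.leaf 6383))))
 (.node (.node (.node (.leaf 1270)
 (.leaf 4338))
 (.node (.leaf 12089)
 (.leaf 8846)))
 (.node (.node (.leaf 110)
 (.leaf 10658))
 (.node (.leaf 11297)
 (.leaf 10884))))))
 (.node (.node (.node (.node (.node (.leaf 12555)
 (.leaf 12669))
 (.node (.leaf 6803)
 (.leaf 4727)))
 (.node (.node (.leaf 2778)
 (.leaf 3009))
 (.node (.leaf 3683)
 (.leaf 37))))
 (.node (.node (.node (.leaf 13891)
 (.leaf 10201))
 (.node (.leaf 3477)
 (.leaf 11936)))
 (.node (.node (.leaf 12122)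
 (.leaf 1148))
 (.node (.leaf 4128)
 (.leaf 5127)))))
 (.node (.node (.node (.node (.leaf 3232)
 (.leaf 1748))
 (.node (.leaf 1146)
 (.leaf 5401)))
 (.node (.node (.leaf 6907)
 (.leaf 12967))
 (.node (.leaf 11831)
 (.leaf 9092))))
 (.node (.node (.node (.leaf 10306)
 (.leaf 6734))
 (.node (.leaf 8719)
 (.leaf 11877)))
 (.node (.node (.leaf 1954)
 (.leaf 984))
 (.node (.leaf 8539)
 (.leaf 1057))))))

def srtTB118 : RT := .node (.node (.node (.node (.node (.node (.leaf 12586)
 (.leaf 5633))
 (.node (.leaf 2719)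
 (.leaf 5702)))
 (.node (.node (.leaf 4993)
 (.leaf 8819))
 (.node (.leaf 7248)
 (.leaf 10724))))
 (.node (.node (.node (.leaf 644)
 (.leaf 11865))
 (.node (.leaf 2991)
 (.leaf 7394)))
 (.node (.node (.leaf 3673)
 (.leaf 14796))
 (.node (.leaf 9516)
 (.leaf 7527)))))
 (.node (.node (.node (.node (.leaf 10823)
 (.leaf 13399))
 (.node (.leaf 2981)
 (.leaf 13901)))
 (.node (.node (.leaf 345)
 (.leaf 12853))
 (.node (.leaf 10310)
 (.leaf 9912))))
 (.node (.node (.node (.leaf 14855)
 (.leaf 2215))
 (.node (.leaf 7985)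
 (.leaf 1444)))
 (.node (.node (.leaf 1137)
 (.leaf 3108))
 (.node (.leaf 10187)
 (.leaf 9698))))))
 (.node (.node (.node (.node (.node (.leaf 6313)
 (.leaf 2044))
 (.node (.leaf 10394)
 (.leaf 13854)))
 (.node (.node (.leaf 4316)
 (.leaf 9888))
 (.node (.leaf 13051)
 (.leaf 10089))))
 (.node (.node (.node (.leaf 8428)
 (.leaf 4757))
 (.node (.leaf 6327)
 (.leaf 11897)))
 (.node (.node (.leaf 4075)
 (.leaf 8429))
 (.node (.leaf 1806)
 (.leaf 469)))))
 (.node (.node (.node (.node (.leaf 11753)
 (.leaf 11690))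
 (.node (.leaf 504)
 (.leaf 5524)))
 (.node (.node (.leaf 10296)
 (.leaf 12818))
 (.node (.leaf 5329)
 (.leaf 6401))))
 (.node (.node (.node (.leaf 1821)
 (.leaf 4562))
 (.node (.leaf 13724)
 (.leaf 1614)))
 (.node (.node (.leaf 11350)
 (.leaf 3961))
 (.node (.leaf 12760)
 (.leaf 7962))))))

def srtTB119 : RT := .node (.node (.node (.node (.node (.node (.leaf 12785)
 (.leaf 10216))
 (.node (.leaf 9307)
 (.leaf 14062)))
 (.node (.node (.leaf 13104)
 (.leaf 14761))
 (.node (.leaf 13195)
 (.leaf 6062))))
 (.node (.node (.node (.leaf 10278)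
 (.leaf 12805))
 (.node (.leaf 6752)
 (.leaf 9915)))
 (.node (.node (.leaf 3761)
 (.leaf 14107))
 (.node (.leaf 13872)
 (.leaf 54)))))
 (.node (.node (.node (.node (.leaf 4033)
 (.leaf 648))
 (.node (.leaf 11288)
 (.leaf 13460)))
 (.node (.node (.leaf 3407)
 (.leaf 14837))
 (.node (.leaf 2655)
 (.leaf 7209))))
 (.node (.node (.node (.leaf 1981)
 (.leaf 14909))
 (.node (.leaf 4963)
 (.leaf 4825)))
 (.node (.node (.leaf 3279)
 (.leaf 7977))
 (.node (.leaf 4917)
 (.leaf 1899))))))
 (.node (.node (.node (.node (.node (.leaf 14257)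
 (.leaf 2311))
 (.node (.leaf 8279)
 (.leaf 6200)))
 (.node (.node (.leaf 6109)
 (.leaf 7495))
 (.node (.leaf 6283)
 (.leaf 5457))))
 (.node (.node (.node (.leaf 8276)
 (.leaf 5499))
 (.node (.leaf 2962)
 (.leaf 7822)))
 (.node (.node (.leaf 5815)
 (.leaf 3305))
 (.node (.leaf 5209)
 (.leaf 5594)))))
 (.node (.node (.node (.node (.leaf 3151)
 (.leaf 1784))
 (.node (.leaf 14251)
 (.leaf 2410)))
 (.node (.node (.leaf 4393)
 (.leaf 966))
 (.node (.leaf 12408)
 (.leaf 5531))))
 (.node (.node (.node (.leaf 11173)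
 (.leaf 8411))
 (.node (.leaf 11914)
 (.leaf 9007)))
 (.node (.node (.leaf 8963)
 (.leaf 8404))
 (.node (.leaf 6208)
 (.leaf 8298))))))

def srtTB120 : RT := .node (.node (.node (.node (.node (.node (.leaf 4088)
 (.leaf 4585))
 (.node (.leaf 7791)
 (.leaf 3952)))
 (.node (.node (.leaf 11201)
 (.leaf 4779))
 (.node (.leaf 1006)
 (.leaf 14845))))
 (.node (.node (.node (.leaf 7849)
 (.leaf 14312))
 (.node (.leaf 11368)
 (.leaf 7599)))
 (.node (.node (.leaf 7498)
 (.leaf 709))
 (.node (.leaf 1592)
 (.leaf 12721)))))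
 (.node (.node (.node (.node (.leaf 2506)
 (.leaf 2362))
 (.node (.leaf 2643)
 (.leaf 9626)))
 (.node (.node (.leaf 5955)
 (.leaf 14293))
 (.node (.leaf 14933)
 (.leaf 5993))))
 (.node (.node (.node (.leaf 3452)
 (.leaf 7702))
 (.node (.leaf 2760)
 (.leaf 7952)))
 (.node (.node (.leaf 5502)
 (.leaf 3073))
 (.node (.leaf 8000)
 (.leaf 7249))))))
 (.node (.node (.node (.node (.node (.leaf 6624)
 (.leaf 7349))
 (.node (.leaf 5019)
 (.leaf 9168)))
 (.node (.node (.leaf 2515)
 (.leaf 11650))
 (.node (.leaf 2339)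
 (.leaf 1812))))
 (.node (.node (.node (.leaf 10677)
 (.leaf 8864))
 (.node (.leaf 486)
 (.leaf 835)))
 (.node (.node (.leaf 4041)
 (.leaf 6359))
 (.node (.leaf 3734)
 (.leaf 5052)))))
 (.node (.node (.node (.node (.leaf 8281)
 (.leaf 6689))
 (.node (.leaf 4862)
 (.leaf 8588)))
 (.node (.node (.leaf 7428)
 (.leaf 3680))
 (.node (.leaf 9435)
 (.leaf 11978))))
 (.node (.node (.node (.leaf 664)
 (.leaf 11903))
 (.node (.leaf 1504)
 (.leaf 2836)))
 (.node (.node (.leaf 11948)
 (.leaf 4203))
 (.node (.leaf 6427)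
 (.leaf 8924))))))

def srtTB121 : RT := .node (.node (.node (.node (.node (.node (.leaf 4836)
 (.leaf 4252))
 (.node (.leaf 9123)
 (.leaf 12574)))
 (.node (.node (.leaf 5575)
 (.leaf 7664))
 (.node (.leaf 8024)
 (.leaf 653))))
 (.node (.node (.node (.leaf 13890)
 (.leaf 13669))
 (.node (.leaf 10636)
 (.leaf 3987)))
 (.node (.node (.leaf 12735)
 (.leaf 10261))
 (.node (.leaf 1608)
 (.leaf 11589)))))
 (.node (.node (.node (.node (.leaf 2569)
 (.leaf 520))
 (.node (.leaf 8149)
 (.leaf 1254)))
 (.node (.node (.leaf 9126)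
 (.leaf 4718))
 (.node (.leaf 7283)
 (.leaf 8643))))
 (.node (.node (.node (.leaf 5655)
 (.leaf 11834))
 (.node (.leaf 187)
 (.leaf 282)))
 (.node (.node (.leaf 4299)
 (.leaf 4921))
 (.node (.leaf 12877)
 (.leaf 7238))))))
 (.node (.node (.node (.node (.node (.leaf 5258)
 (.leaf 4330))
 (.node (.leaf 4273)
 (.leaf 8862)))
 (.node (.node (.leaf 12112)
 (.leaf 2085))
 (.node (.leaf 6129)
 (.leaf 8688))))
 (.node (.node (.node (.leaf 298)
 (.leaf 12013))
 (.node (.leaf 2871)
 (.leaf 12118)))
 (.node (.node (.leaf 10747)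
 (.leaf 197))
 (.node (.leaf 1070)
 (.leaf 4654)))))
 (.node (.node (.node (.node (.leaf 4949)
 (.leaf 6639))
 (.node (.leaf 13875)
 (.leaf 6750)))
 (.node (.node (.leaf 11400)
 (.leaf 9251))
 (.node (.leaf 10128)
 (.leaf 839))))
 (.node (.node (.node (.leaf 13506)
 (.leaf 11062))
 (.node (.leaf 12335)
 (.leaf 7131)))
 (.node (.node (.leaf 2027)
 (.leaf 3110))
 (.node (.leaf 3802)
 (.leaf 1557))))))

def srtTB122 : RT := .node (.node (.node (.node (.node (.node (.leaf 5379)
 (.leaf 8203))
 (.node (.leaf 14932)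
 (.leaf 7476)))
 (.node (.node (.leaf 5376)
 (.leaf 5609))
 (.node (.leaf 3222)
 (.leaf 2099))))
 (.node (.node (.node (.leaf 5761)
 (.leaf 3508))
 (.node (.leaf 14252)
 (.leaf 2549)))
 (.node (.node (.leaf 2916)
 (.leaf 7363))
 (.node (.leaf 13337)
 (.leaf 1204)))))
 (.node (.node (.node (.node (.leaf 12331)
 (.leaf 9507))
 (.node (.leaf 4370)
 (.leaf 10749)))
 (.node (.node (.leaf 3681)
 (.leaf 2087))
 (.node (.leaf 14515)
 (.leaf 6664))))
 (.node (.node (.node (.leaf 1157)
 (.leaf 3428))
 (.node (.leaf 14856)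
 (.leaf 7005)))
 (.node (.node (.leaf 13954)
 (.leaf 9275))
 (.node (.leaf 4512)
 (.leaf 13556))))))
 (.node (.node (.node (.node (.node (.leaf 11192)
 (.leaf 12731))
 (.node (.leaf 8252)
 (.leaf 7560)))
 (.node (.node (.leaf 2439)
 (.leaf 2254))
 (.node (.leaf 10986)
 (.leaf 218))))
 (.node (.node (.node (.leaf 10485)
 (.leaf 9734))
 (.node (.leaf 6470)
 (.leaf 13747)))
 (.node (.node (.leaf 1078)
 (.leaf 9961))
 (.node (.leaf 9601)
 (.leaf 1833)))))
 (.node (.node (.node (.node (.leaf 9836)
 (.leaf 11011))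
 (.node (.leaf 567)
 (.leaf 4069)))
 (.node (.node (.leaf 7732)
 (.leaf 3176))
 (.node (.leaf 7242)
 (.leaf 3850))))
 (.node (.node (.node (.leaf 12237)
 (.leaf 14772))
 (.node (.leaf 11097)
 (.leaf 752)))
 (.node (.node (.leaf 4239)
 (.leaf 13123))
 (.node (.leaf 10287)
 (.leaf 10778))))))

def srtTB123 : RT := .node (.node (.node (.node (.node (.node (.leaf 10281)
 (.leaf 2744))
 (.node (.leaf 14350)
 (.leaf 13424)))
 (.node (.node (.leaf 2110)
 (.leaf 6704))
 (.node (.leaf 11012)
 (.leaf 5081))))
 (.node (.node (.node (.leaf 1824)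
 (.leaf 12302))
 (.node (.leaf 11928)
 (.leaf 169)))
 (.node (.node (.leaf 9193)
 (.leaf 11316))
 (.node (.leaf 6693)
 (.leaf 957)))))
 (.node (.node (.node (.node (.leaf 9167)
 (.leaf 6887))
 (.node (.leaf 12174)
 (.leaf 3976)))
 (.node (.node (.leaf 11924)
 (.leaf 4816))
 (.node (.leaf 4476)
 (.leaf 13558))))
 (.node (.node (.node (.leaf 10628)
 (.leaf 13993))
 (.node (.leaf 6813)
 (.leaf 12463)))
 (.node (.node (.leaf 13831)
 (.leaf 7251))
 (.node (.leaf 1600)
 (.leaf 14532))))))
 (.node (.node (.node (.node (.node (.leaf 14608)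
 (.leaf 9869))
 (.node (.leaf 10476)
 (.leaf 7922)))
 (.node (.node (.leaf 4767)
 (.leaf 9834))
 (.node (.leaf 3250)
 (.leaf 6248))))
 (.node (.node (.node (.leaf 11744)
 (.leaf 9173))
 (.node (.leaf 3986)
 (.leaf 8665)))
 (.node (.node (.leaf 12713)
 (.leaf 10603))
 (.node (.leaf 936)
 (.leaf 1765)))))
 (.node (.node (.node (.node (.leaf 316)
 (.leaf 6705))
 (.node (.leaf 11664)
 (.leaf 12500)))
 (.node (.node (.leaf 4883)
 (.leaf 12175))
 (.node (.leaf 2688)
 (.leaf 4893))))
 (.node (.node (.node (.leaf 8371)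
 (.leaf 11328))
 (.node (.leaf 332)
 (.leaf 11398)))
 (.node (.node (.leaf 8353)
 (.leaf 45))
 (.node (.leaf 10352)
 (.leaf 8959))))))

def srtTB124 : RT := .node (.node (.node (.node (.node (.node (.leaf 10578)
 (.leaf 1596))
 (.node (.leaf 6086)
 (.leaf 3795)))
 (.node (.node (.leaf 3283)
 (.leaf 462))
 (.node (.leaf 6860)
 (.leaf 2550))))
 (.node (.node (.node (.leaf 5414)
 (.leaf 8547))
 (.node (.leaf 12382)
 (.leaf 10431)))
 (.node (.node (.leaf 4493)
 (.leaf 819))
 (.node (.leaf 11892)
 (.leaf 1778)))))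
 (.node (.node (.node (.node (.leaf 11830)
 (.leaf 8619))
 (.node (.leaf 3390)
 (.leaf 11471)))
 (.node (.node (.leaf 11338)
 (.leaf 6347))
 (.node (.leaf 11740)
 (.leaf 8426))))
 (.node (.node (.node (.leaf 7809)
 (.leaf 109))
 (.node (.leaf 4520)
 (.leaf 4118)))
 (.node (.node (.leaf 8798)
 (.leaf 8715))
 (.node (.leaf 11204)
 (.leaf 5007))))))
 (.node (.node (.node (.node (.node (.leaf 9150)
 (.leaf 3794))
 (.node (.leaf 12205)
 (.leaf 6357)))
 (.node (.node (.leaf 437)
 (.leaf 6898))
 (.node (.leaf 2477)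
 (.leaf 9183))))
 (.node (.node (.node (.leaf 3274)
 (.leaf 3310))
 (.node (.leaf 8965)
 (.leaf 11713)))
 (.node (.node (.leaf 7884)
 (.leaf 11234))
 (.node (.leaf 8597)
 (.leaf 4872)))))
 (.node (.node (.node (.node (.leaf 9055)
 (.leaf 3631))
 (.node (.leaf 6886)
 (.leaf 896)))
 (.node (.node (.leaf 12767)
 (.leaf 4042))
 (.node (.leaf 9184)
 (.leaf 10286))))
 (.node (.node (.node (.leaf 9202)
 (.leaf 5327))
 (.node (.leaf 12143)
 (.leaf 8072)))
 (.node (.node (.leaf 10316)
 (.leaf 12452))
 (.node (.leaf 6240)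
 (.leaf 14127))))))

def srtTB125 : RT := .node (.node (.node (.node (.node (.node (.leaf 3399)
 (.leaf 10065))
 (.node (.leaf 240)
 (.leaf 14412)))
 (.node (.node (.leaf 700)
 (.leaf 12995))
 (.node (.leaf 6650)
 (.leaf 9330))))
 (.node (.node (.node (.leaf 13733)
 (.leaf 12840))
 (.node (.leaf 2379)
 (.leaf 13010)))
 (.node (.node (.leaf 11504)
 (.leaf 14305))
 (.node (.leaf 2416)
 (.leaf 4491)))))
 (.node (.node (.node (.node (.leaf 6015)
 (.leaf 13744))
 (.node (.leaf 11383)
 (.leaf 1248)))
 (.node (.node (.leaf 11575)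
 (.leaf 10581))
 (.node (.leaf 14455)
 (.leaf 3406))))
 (.node (.node (.node (.leaf 2634)
 (.leaf 4555))
 (.node (.leaf 13147)
 (.leaf 1758)))
 (.node (.node (.leaf 637)
 (.leaf 12420))
 (.node (.leaf 6807)
 (.leaf 12278))))))
 (.node (.node (.node (.node (.node (.leaf 8196)
 (.leaf 13562))
 (.node (.leaf 8576)
 (.leaf 9824)))
 (.node (.node (.leaf 11757)
 (.leaf 4756))
 (.node (.leaf 459)
 (.leaf 5912))))
 (.node (.node (.node (.leaf 10404)
 (.leaf 1145))
 (.node (.leaf 4892)
 (.leaf 8929)))
 (.node (.node (.leaf 1628)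
 (.leaf 4112))
 (.node (.leaf 833)
 (.leaf 8973)))))
 (.node (.node (.node (.node (.leaf 9735)
 (.leaf 1132))
 (.node (.leaf 8489)
 (.leaf 555)))
 (.node (.node (.leaf 8565)
 (.leaf 1108))
 (.node (.leaf 7456)
 (.leaf 3116))))
 (.node (.node (.node (.leaf 12072)
 (.leaf 4838))
 (.node (.leaf 2136)
 (.leaf 11825)))
 (.node (.node (.leaf 5948)
 (.leaf 9443))
 (.node (.leaf 10076)
 (.leaf 8569))))))

def srtTB126 : RT := .node (.node (.node (.node (.node (.node (.leaf 1566)
 (.leaf 5719))
 (.node (.leaf 8888)
 (.leaf 12612)))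
 (.node (.node (.leaf 688)
 (.leaf 3905))
 (.node (.leaf 4723)
 (.leaf 1420))))
 (.node (.node (.node (.leaf 11856)
 (.leaf 8482))
 (.node (.leaf 9456)
 (.leaf 6537)))
 (.node (.node (.leaf 9886)
 (.leaf 8112))
 (.node (.leaf 4296)
 (.leaf 10104)))))
 (.node (.node (.node (.node (.leaf 8562)
 (.leaf 12134))
 (.node (.leaf 309)
 (.leaf 8412)))
 (.node (.node (.leaf 8051)
 (.leaf 13965))
 (.node (.leaf 2007)
 (.leaf 14375))))
 (.node (.node (.node (.leaf 13525)
 (.leaf 4619))
 (.node (.leaf 8118)
 (.leaf 14488)))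
 (.node (.node (.leaf 9747)
 (.leaf 3006))
 (.node (.leaf 10113)
 (.leaf 1505))))))
 (.node (.node (.node (.node (.node (.leaf 7330)
 (.leaf 10531))
 (.node (.leaf 867)
 (.leaf 10997)))
 (.node (.node (.leaf 12917)
 (.leaf 6451))
 (.node (.leaf 4648)
 (.leaf 1988))))
 (.node (.node (.node (.leaf 5582)
 (.leaf 191))
 (.node (.leaf 11491)
 (.leaf 11954)))
 (.node (.node (.leaf 1494)
 (.leaf 9128))
 (.node (.leaf 12524)
 (.leaf 9283)))))
 (.node (.node (.node (.node (.leaf 3912)
 (.leaf 5649))
 (.node (.leaf 8920)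
 (.leaf 12142)))
 (.node (.node (.leaf 11846)
 (.leaf 13720))
 (.node (.leaf 11187)
 (.leaf 7621))))
 (.node (.node (.node (.leaf 12786)
 (.leaf 2551))
 (.node (.leaf 514)
 (.leaf 9988)))
 (.node (.node (.leaf 7377)
 (.leaf 14424))
 (.node (.leaf 13351)
 (.leaf 211))))))

def srtTB127 : RT := .node (.node (.node (.node (.node (.node (.leaf 10988)
 (.leaf 11412))
 (.node (.leaf 14823)
 (.leaf 2516)))
 (.node (.node (.leaf 12230)
 (.leaf 13042))
 (.node (.leaf 11554)
 (.leaf 10374))))
 (.node (.node (.node (.leaf 12841)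
 (.leaf 7068))
 (.node (.leaf 10573)
 (.leaf 4788)))
 (.node (.node (.leaf 2239)
 (.leaf 9951))
 (.node (.leaf 4030)
 (.leaf 7471)))))
 (.node (.node (.node (.node (.leaf 1624)
 (.leaf 6888))
 (.node (.leaf 13919)
 (.leaf 13306)))
 (.node (.node (.leaf 11433)
 (.leaf 13307))
 (.node (.leaf 14111)
 (.leaf 17))))
 (.node (.node (.node (.leaf 12491)
 (.leaf 4581))
 (.node (.leaf 3183)
 (.leaf 1694)))
 (.node (.node (.leaf 12701)
 (.leaf 13935))
 (.node (.leaf 7003)
 (.leaf 7193))))))
 (.node (.node (.node (.node (.node (.leaf 14634)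
 (.leaf 14847))
 (.node (.leaf 13009)
 (.leaf 9724)))
 (.node (.node (.leaf 12406)
 (.leaf 1675))
 (.node (.leaf 5818)
 (.leaf 398))))
 (.node (.node (.node (.leaf 9065)
 (.leaf 5331))
 (.node (.leaf 4428)
 (.leaf 4079)))
 (.node (.node (.leaf 8658)
 (.leaf 2487))
 (.node (.leaf 9789)
 (.leaf 6701)))))
 (.node (.node (.node (.node (.leaf 327)
 (.leaf 12372))
 (.node (.leaf 3861)
 (.leaf 14490)))
 (.node (.node (.leaf 13432)
 (.leaf 1562))
 (.node (.leaf 7396)
 (.leaf 3008))))
 (.node (.node (.node (.leaf 10447)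
 (.leaf 13898))
 (.node (.leaf 10790)
 (.leaf 2704)))
 (.node (.node (.leaf 13189)
 (.leaf 455))
 (.node (.leaf 14649)
 (.leaf 7592))))))

def srtTB128 : RT := .node (.node (.node (.node (.node (.node (.leaf 10416)
 (.leaf 631))
 (.node (.leaf 12683)
 (.leaf 4573)))
 (.node (.node (.leaf 2494)
 (.leaf 10911))
 (.node (.leaf 11507)
 (.leaf 2496))))
 (.node (.node (.node (.leaf 13795)
 (.leaf 9404))
 (.node (.leaf 14379)
 (.leaf 13117)))
 (.node (.node (.leaf 10294)
 (.leaf 5758))
 (.node (.leaf 12999)
 (.leaf 11066)))))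
 (.node (.node (.node (.node (.leaf 5313)
 (.leaf 4346))
 (.node (.leaf 6473)
 (.leaf 8641)))
 (.node (.node (.leaf 11827)
 (.leaf 8444))
 (.node (.leaf 11995)
 (.leaf 10074))))
 (.node (.node (.node (.leaf 7118)
 (.leaf 5166))
 (.node (.leaf 574)
 (.leaf 3901)))
 (.node (.node (.leaf 14469)
 (.leaf 806))
 (.node (.leaf 12926)
 (.leaf 13196))))))
 (.node (.node (.node (.node (.node (.leaf 7218)
 (.leaf 10171))
 (.node (.leaf 419)
 (.leaf 11040)))
 (.node (.node (.leaf 13500)
 (.leaf 7650))
 (.node (.leaf 13608)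
 (.leaf 2127))))
 (.node (.node (.node (.leaf 4178)
 (.leaf 9674))
 (.node (.leaf 7230)
 (.leaf 14687)))
 (.node (.node (.leaf 10755)
 (.leaf 4248))
 (.node (.leaf 11221)
 (.leaf 10785)))))
 (.node (.node (.node (.node (.leaf 12882)
 (.leaf 9909))
 (.node (.leaf 1963)
 (.leaf 14484)))
 (.node (.node (.leaf 13597)
 (.leaf 430))
 (.node (.leaf 6578)
 (.leaf 7418))))
 (.node (.node (.node (.leaf 2793)
 (.leaf 10996))
 (.node (.leaf 6082)
 (.leaf 10540)))
 (.node (.node (.leaf 10364)
 (.leaf 2255))
 (.node (.leaf 3737)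
 (.leaf 13374))))))

def srtTB129 : RT := .node (.node (.node (.node (.node (.node (.leaf 8168)
 (.leaf 622))
 (.node (.leaf 10924)
 (.leaf 12504)))
 (.node (.node (.leaf 12693)
 (.leaf 14052))
 (.node (.leaf 1619)
 (.leaf 1761))))
 (.node (.node (.node (.leaf 7722)
 (.leaf 9972))
 (.node (.leaf 13677)
 (.leaf 14001)))
 (.node (.node (.leaf 13236)
 (.leaf 2613))
 (.node (.leaf 13665)
 (.leaf 633)))))
 (.node (.node (.node (.node (.leaf 13448)
 (.leaf 7491))
 (.node (.leaf 4528)
 (.leaf 12772)))
 (.node (.node (.leaf 9368)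
 (.leaf 14660))
 (.node (.leaf 14479)
 (.leaf 6071))))
 (.node (.node (.node (.leaf 27)
 (.leaf 3767))
 (.node (.leaf 2699)
 (.leaf 13676)))
 (.node (.node (.leaf 12770)
 (.leaf 14310))
 (.node (.leaf 9343)
 (.leaf 3381))))))
 (.node (.node (.node (.node (.node (.leaf 13261)
 (.leaf 70))
 (.node (.leaf 12691)
 (.leaf 1825)))
 (.node (.node (.leaf 13803)
 (.leaf 7421))
 (.node (.leaf 9699)
 (.leaf 1471))))
 (.node (.node (.node (.leaf 3895)
 (.leaf 11458))
 (.node (.leaf 10639)
 (.leaf 7257)))
 (.node (.node (.leaf 1295)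
 (.leaf 2762))
 (.node (.leaf 13722)
 (.leaf 52)))))
 (.node (.node (.node (.node (.leaf 10815)
 (.leaf 14588))
 (.node (.leaf 10529)
 (.leaf 12771)))
 (.node (.node (.leaf 13132)
 (.leaf 13605))
 (.node (.leaf 9678)
 (.leaf 2282))))
 (.node (.node (.node (.leaf 6794)
 (.leaf 12983))
 (.node (.leaf 10534)
 (.leaf 646)))
 (.node (.node (.leaf 4750)
 (.leaf 2503))
 (.node (.leaf 11319)
 (.leaf 7142))))))

def srtTB130 : RT := .node (.node (.node (.node (.node (.node (.leaf 6418)
 (.leaf 1350))
 (.node (.leaf 13050)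
 (.leaf 10874)))
 (.node (.node (.leaf 11403)
 (.leaf 14727))
 (.node (.leaf 7274)
 (.leaf 230))))
 (.node (.node (.node (.leaf 4060)
 (.leaf 1674))
 (.node (.leaf 11334)
 (.leaf 714)))
 (.node (.node (.leaf 7912)
 (.leaf 1377))
 (.node (.leaf 12428)
 (.leaf 8190)))))
 (.node (.node (.node (.node (.leaf 6661)
 (.leaf 9044))
 (.node (.leaf 12101)
 (.leaf 9818)))
 (.node (.node (.leaf 8593)
 (.leaf 8626))
 (.node (.leaf 4102)
 (.leaf 5431))))
 (.node (.node (.node (.leaf 6278)
 (.leaf 8722))
 (.node (.leaf 5106)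
 (.leaf 759)))
 (.node (.node (.leaf 4542)
 (.leaf 338))
 (.node (.leaf 13012)
 (.leaf 14510))))))
 (.node (.node (.node (.node (.node (.leaf 13918)
 (.leaf 8346))
 (.node (.leaf 9922)
 (.leaf 11320)))
 (.node (.node (.leaf 3472)
 (.leaf 10131))
 (.node (.leaf 2711)
 (.leaf 3476))))
 (.node (.node (.node (.leaf 7475)
 (.leaf 12318))
 (.node (.leaf 14757)
 (.leaf 7479)))
 (.node (.node (.leaf 14031)
 (.leaf 10509))
 (.node (.leaf 2539)
 (.leaf 3266)))))
 (.node (.node (.node (.node (.leaf 13027)
 (.leaf 4514))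
 (.node (.leaf 11263)
 (.leaf 14012)))
 (.node (.node (.leaf 6619)
 (.leaf 9315))
 (.node (.leaf 6812)
 (.leaf 14531))))
 (.node (.node (.node (.leaf 6711)
 (.leaf 13450))
 (.node (.leaf 6644)
 (.leaf 10227)))
 (.node (.node (.leaf 9048)
 (.leaf 947))
 (.node (.leaf 5357)
 (.leaf 1235))))))

def srtTB131 : RT := .node (.node (.node (.node (.node (.node (.leaf 6210)
 (.leaf 8676))
 (.node (.leaf 11291)
 (.leaf 866)))
 (.node (.node (.leaf 1215)
 (.leaf 431))
 (.node (.leaf 11745)
 (.leaf 9945))))
 (.node (.node (.node (.leaf 741)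
 (.leaf 6421))
 (.node (.leaf 2786)
 (.leaf 13808)))
 (.node (.node (.leaf 3607)
 (.leaf 4320))
 (.node (.leaf 3057)
 (.leaf 11419)))))
 (.node (.node (.node (.node (.leaf 12373)
 (.leaf 6102))
 (.node (.leaf 7600)
 (.leaf 8174)))
 (.node (.node (.leaf 7359)
 (.leaf 14235))
 (.node (.leaf 5849)
 (.leaf 14965))))
 (.node (.node (.node (.leaf 1507)
 (.leaf 1353))
 (.node (.leaf 6065)
 (.leaf 1776)))
 (.node (.node (.leaf 5454)
 (.leaf 7407))
 (.node (.leaf 5445)
 (.leaf 7430))))))
 (.node (.node (.node (.node (.node (.leaf 6000)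
 (.leaf 5847))
 (.node (.leaf 2246)
 (.leaf 14860)))
 (.node (.node (.leaf 4064)
 (.leaf 1724))
 (.node (.leaf 6112)
 (.leaf 9684))))
 (.node (.node (.node (.leaf 9955)
 (.leaf 12271))
 (.node (.leaf 13183)
 (.leaf 14572)))
 (.node (.node (.leaf 7040)
 (.leaf 1328))
 (.node (.leaf 10699)
 (.leaf 13469)))))
 (.node (.node (.node (.node (.leaf 7766)
 (.leaf 542))
 (.node (.leaf 11287)
 (.leaf 5507)))
 (.node (.node (.leaf 4534)
 (.leaf 3949))
 (.node (.leaf 1188)
 (.leaf 5417))))
 (.node (.node (.node (.leaf 8926)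
 (.leaf 2489))
 (.node (.leaf 8305)
 (.leaf 1359)))
 (.node (.node (.leaf 3763)
 (.leaf 5561))
 (.node (.leaf 11883)
 (.leaf 447))))))

def srtTB132 : RT := .node (.node (.node (.node (.node (.node (.leaf 2586)
 (.leaf 8176))
 (.node (.leaf 14094)
 (.leaf 2453)))
 (.node (.node (.leaf 10939)
 (.leaf 8255))
 (.node (.leaf 13359)
 (.leaf 7528))))
 (.node (.node (.node (.leaf 4535)
 (.leaf 14864))
 (.node (.leaf 3754)
 (.leaf 14129)))
 (.node (.node (.leaf 6825)
 (.leaf 10474))
 (.node (.leaf 13149)
 (.leaf 3247)))))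
 (.node (.node (.node (.node (.leaf 12400)
 (.leaf 11562))
 (.node (.leaf 104)
 (.leaf 4180)))
 (.node (.node (.leaf 842)
 (.leaf 10408))
 (.node (.leaf 13816)
 (.leaf 8250))))
 (.node (.node (.node (.leaf 13312)
 (.leaf 6687))
 (.node (.leaf 13165)
 (.leaf 1503)))
 (.node (.node (.leaf 13782)
 (.leaf 12611))
 (.node (.leaf 14852)
 (.leaf 7945))))))
 (.node (.node (.node (.node (.node (.leaf 3192)
 (.leaf 14952))
 (.node (.leaf 5624)
 (.leaf 5731)))
 (.node (.node (.leaf 3347)
 (.leaf 5104))
 (.node (.leaf 2108)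
 (.leaf 7329))))
 (.node (.node (.node (.leaf 1548)
 (.leaf 5953))
 (.node (.leaf 6591)
 (.leaf 6502)))
 (.node (.node (.leaf 7551)
 (.leaf 8916))
 (.node (.leaf 7815)
 (.leaf 9047)))))
 (.node (.node (.node (.node (.leaf 6982)
 (.leaf 9095))
 (.node (.leaf 3422)
 (.leaf 10500)))
 (.node (.node (.leaf 5932)
 (.leaf 9170))
 (.node (.leaf 5555)
 (.leaf 12127))))
 (.node (.node (.node (.leaf 4427)
 (.leaf 12816))
 (.node (.leaf 10690)
 (.leaf 768)))
 (.node (.node (.leaf 4138)
 (.leaf 4822))
 (.node (.leaf 2970)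
 (.leaf 1442))))))

def srtTB133 : RT := .node (.node (.node (.node (.node (.node (.leaf 14919)
 (.leaf 7352))
 (.node (.leaf 14236)
 (.leaf 5205)))
 (.node (.node (.leaf 1722)
 (.leaf 5879))
 (.node (.leaf 7515)
 (.leaf 4808))))
 (.node (.node (.node (.leaf 7640)
 (.leaf 6821))
 (.node (.leaf 6939)
 (.leaf 4687)))
 (.node (.node (.leaf 5632)
 (.leaf 600))
 (.node (.leaf 8231)
 (.leaf 8582)))))
 (.node (.node (.node (.node (.leaf 4854)
 (.leaf 9572))
 (.node (.leaf 10029)
 (.leaf 1441)))
 (.node (.node (.leaf 1854)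
 (.leaf 11983))
 (.node (.leaf 1024)
 (.leaf 3691))))
 (.node (.node (.node (.leaf 8502)
 (.leaf 11547))
 (.node (.leaf 5956)
 (.leaf 8844)))
 (.node (.node (.leaf 83)
 (.leaf 3227))
 (.node (.leaf 13569)
 (.leaf 10525))))))
 (.node (.node (.node (.node (.node (.leaf 214)
 (.leaf 9694))
 (.node (.leaf 9619)
 (.leaf 11190)))
 (.node (.node (.leaf 7572)
 (.leaf 2365))
 (.node (.leaf 13157)
 (.leaf 14578))))
 (.node (.node (.node (.leaf 13887)
 (.leaf 7838))
 (.node (.leaf 11083)
 (.leaf 6332)))
 (.node (.node (.leaf 11974)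
 (.leaf 9249))
 (.node (.leaf 3722)
 (.leaf 167)))))
 (.node (.node (.node (.node (.leaf 9012)
 (.leaf 11785))
 (.node (.leaf 12275)
 (.leaf 884)))
 (.node (.node (.leaf 11456)
 (.leaf 368))
 (.node (.leaf 10432)
 (.leaf 6588))))
 (.node (.node (.node (.leaf 3600)
 (.leaf 7089))
 (.node (.leaf 13884)
 (.leaf 14848)))
 (.node (.node (.leaf 13363)
 (.leaf 4602))
 (.node (.leaf 10142)
 (.leaf 10865))))))

def srtTB134 : RT := .node (.node (.node (.node (.node (.node (.leaf 13160)
 (.leaf 7799))
 (.node (.leaf 3177)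
 (.leaf 12833)))
 (.node (.node (.leaf 9399)
 (.leaf 8775))
 (.node (.leaf 6455)
 (.leaf 11923))))
 (.node (.node (.node (.leaf 190)
 (.leaf 8782))
 (.node (.leaf 12156)
 (.leaf 4695)))
 (.node (.node (.leaf 12856)
 (.leaf 551))
 (.node (.leaf 3879)
 (.leaf 5240)))))
 (.node (.node (.node (.node (.leaf 12176)
 (.leaf 2841))
 (.node (.leaf 4977)
 (.leaf 3062)))
 (.node (.node (.leaf 6991)
 (.leaf 13297))
 (.node (.leaf 9772)
 (.leaf 3759))))
 (.node (.node (.node (.leaf 14679)
 (.leaf 10647))
 (.node (.leaf 12421)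
 (.leaf 1015)))
 (.node (.node (.leaf 1737)
 (.leaf 12761))
 (.node (.leaf 11252)
 (.leaf 13321))))))
 (.node (.node (.node (.node (.node (.leaf 9408)
 (.leaf 14086))
 (.node (.leaf 3442)
 (.leaf 9451)))
 (.node (.node (.leaf 14751)
 (.leaf 7400))
 (.node (.leaf 3525)
 (.leaf 7123))))
 (.node (.node (.node (.leaf 5768)
 (.leaf 5966))
 (.node (.leaf 7319)
 (.leaf 6671)))
 (.node (.node (.leaf 2512)
 (.leaf 5475))
 (.node (.leaf 6725)
 (.leaf 2482)))))
 (.node (.node (.node (.node (.leaf 5192)
 (.leaf 14250))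
 (.node (.leaf 6596)
 (.leaf 8326)))
 (.node (.node (.leaf 14963)
 (.leaf 5882))
 (.node (.leaf 2079)
 (.leaf 1868))))
 (.node (.node (.node (.leaf 5545)
 (.leaf 3218))
 (.node (.leaf 184)
 (.leaf 8443)))
 (.node (.node (.leaf 10168)
 (.leaf 4309))
 (.node (.leaf 5986)
 (.leaf 8737))))))

def srtTB135 : RT := .node (.node (.node (.node (.node (.node (.leaf 12932)
 (.leaf 6477))
 (.node (.leaf 10727)
 (.leaf 578)))
 (.node (.node (.leaf 2927)
 (.leaf 5757))
 (.node (.leaf 11616)
 (.leaf 13062))))
 (.node (.node (.node (.leaf 10451)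
 (.leaf 11089))
 (.node (.leaf 4146)
 (.leaf 14576)))
 (.node (.node (.leaf 2689)
 (.leaf 9360))
 (.node (.leaf 3467)
 (.leaf 588)))))
 (.node (.node (.node (.node (.leaf 7805)
 (.leaf 13653))
 (.node (.leaf 13458)
 (.leaf 6126)))
 (.node (.node (.leaf 4022)
 (.leaf 14403))
 (.node (.leaf 3350)
 (.leaf 10313))))
 (.node (.node (.node (.leaf 9506)
 (.leaf 5103))
 (.node (.leaf 4596)
 (.leaf 12262)))
 (.node (.node (.leaf 12157)
 (.leaf 11888))
 (.node (.leaf 9036)
 (.leaf 3369))))))
 (.node (.node (.node (.node (.node (.leaf 9685)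
 (.leaf 12179))
 (.node (.leaf 1576)
 (.leaf 5927)))
 (.node (.node (.leaf 8527)
 (.leaf 1168))
 (.node (.leaf 4753)
 (.leaf 4578))))
 (.node (.node (.node (.leaf 8061)
 (.leaf 645))
 (.node (.leaf 297)
 (.leaf 9429)))
 (.node (.node (.leaf 4942)
 (.leaf 9292))
 (.node (.leaf 11549)
 (.leaf 1045)))))
 (.node (.node (.node (.node (.leaf 6197)
 (.leaf 5264))
 (.node (.leaf 2203)
 (.leaf 12239)))
 (.node (.node (.leaf 4832)
 (.leaf 9195))
 (.node (.leaf 2060)
 (.leaf 7185))))
 (.node (.node (.node (.leaf 2587)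
 (.leaf 13270))
 (.node (.leaf 10368)
 (.leaf 6209)))
 (.node (.node (.leaf 14332)
 (.leaf 2610))
 (.node (.leaf 650)
 (.leaf 13932))))))

def srtTB136 : RT := .node (.node (.node (.node (.node (.node (.leaf 3966)
 (.leaf 1714))
 (.node (.leaf 71)
 (.leaf 4077)))
 (.node (.node (.leaf 7250)
 (.leaf 12281))
 (.node (.leaf 10754)
 (.leaf 11538))))
 (.node (.node (.node (.leaf 2295)
 (.leaf 10273))
 (.node (.leaf 13348)
 (.leaf 4232)))
 (.node (.node (.leaf 14779)
 (.leaf 10705))
 (.node (.leaf 451)
 (.leaf 13169)))))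
 (.node (.node (.node (.node (.leaf 14072)
 (.leaf 1990))
 (.node (.leaf 1538)
 (.leaf 8200)))
 (.node (.node (.leaf 9897)
 (.leaf 13714))
 (.node (.leaf 12562)
 (.leaf 14422))))
 (.node (.node (.node (.leaf 9642)
 (.leaf 13280))
 (.node (.leaf 11239)
 (.leaf 14357)))
 (.node (.node (.leaf 10588)
 (.leaf 685))
 (.node (.leaf 1376)
 (.leaf 12427))))))
 (.node (.node (.node (.node (.node (.leaf 13691)
 (.leaf 7538))
 (.node (.leaf 9927)
 (.leaf 10337)))
 (.node (.node (.leaf 14589)
 (.leaf 3746))
 (.node (.leaf 5390)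
 (.leaf 11708))))
 (.node (.node (.node (.leaf 4046)
 (.leaf 4095))
 (.node (.leaf 11951)
 (.leaf 1649)))
 (.node (.node (.leaf 8617)
 (.leaf 9835))
 (.node (.leaf 1156)
 (.leaf 4507)))))
 (.node (.node (.node (.node (.leaf 8375)
 (.leaf 2600))
 (.node (.leaf 14162)
 (.leaf 519)))
 (.node (.node (.leaf 10541)
 (.leaf 12276))
 (.node (.leaf 3738)
 (.leaf 13375))))
 (.node (.node (.node (.leaf 2499)
 (.leaf 6412))
 (.node (.leaf 13259)
 (.leaf 11054)))
 (.node (.node (.leaf 262)
 (.leaf 7294))
 (.node (.leaf 14326)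
 (.leaf 1620))))))

def srtTB137 : RT := .node (.node (.node (.node (.node (.node (.leaf 6681)
 (.leaf 8065))
 (.node (.leaf 2920)
 (.leaf 8053)))
 (.node (.node (.leaf 2657)
 (.leaf 5283))
 (.node (.leaf 2758)
 (.leaf 6985))))
 (.node (.node (.node (.leaf 7999)
 (.leaf 5996))
 (.node (.leaf 8270)
 (.leaf 4978)))
 (.node (.node (.leaf 5396)
 (.leaf 5484))
 (.node (.leaf 799)
 (.leaf 10595)))))
 (.node (.node (.node (.node (.leaf 13)
 (.leaf 8571))
 (.node (.leaf 1174)
 (.leaf 11615)))
 (.node (.node (.leaf 8998)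
 (.leaf 10228))
 (.node (.leaf 8696)
 (.leaf 6744))))
 (.node (.node (.node (.leaf 12099)
 (.leaf 7519))
 (.node (.leaf 1395)
 (.leaf 1622)))
 (.node (.node (.leaf 12038)
 (.leaf 11294))
 (.node (.leaf 12073)
 (.leaf 10338))))))
 (.node (.node (.node (.node (.node (.leaf 824)
 (.leaf 12115))
 (.node (.leaf 11264)
 (.leaf 11912)))
 (.node (.node (.leaf 4038)
 (.leaf 6970))
 (.node (.leaf 5459)
 (.leaf 9115))))
 (.node (.node (.node (.leaf 3231)
 (.leaf 775))
 (.node (.leaf 8972)
 (.leaf 5873)))
 (.node (.node (.leaf 10305)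
 (.leaf 7659))
 (.node (.leaf 5517)
 (.leaf 5045)))))
 (.node (.node (.node (.node (.leaf 7860)
 (.leaf 7700))
 (.node (.leaf 2008)
 (.leaf 6621)))
 (.node (.node (.leaf 1251)
 (.leaf 3187))
 (.node (.leaf 5692)
 (.leaf 6625))))
 (.node (.node (.node (.leaf 2257)
 (.leaf 5568))
 (.node (.leaf 5807)
 (.leaf 2866)))
 (.node (.node (.leaf 6587)
 (.leaf 7533))
 (.node (.leaf 1096)
 (.leaf 12472))))))

def srtTB138 : RT := .node (.node (.node (.node (.node (.node (.leaf 7746)
 (.leaf 10707))
 (.node (.leaf 3308)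
 (.leaf 2318)))
 (.node (.node (.leaf 8010)
 (.leaf 11330))
 (.node (.leaf 13134)
 (.leaf 9810))))
 (.node (.node (.node (.leaf 4444)
 (.leaf 7652))
 (.node (.leaf 9682)
 (.leaf 5047)))
 (.node (.node (.leaf 6217)
 (.leaf 1242))
 (.node (.leaf 12018)
 (.leaf 9181)))))
 (.node (.node (.node (.node (.leaf 4747)
 (.leaf 3182))
 (.node (.leaf 4024)
 (.leaf 9775)))
 (.node (.node (.leaf 11885)
 (.leaf 9035))
 (.node (.leaf 9579)
 (.leaf 12119))))
 (.node (.node (.node (.leaf 2361)
 (.leaf 495))
 (.node (.leaf 4086)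
 (.leaf 288)))
 (.node (.node (.leaf 11267)
 (.leaf 7957))
 (.node (.leaf 13041)
 (.leaf 10241))))))
 (.node (.node (.node (.node (.node (.leaf 10452)
 (.leaf 584))
 (.node (.leaf 6346)
 (.leaf 12722)))
 (.node (.node (.leaf 14437)
 (.leaf 4449))
 (.node (.leaf 1403)
 (.leaf 14325))))
 (.node (.node (.node (.leaf 2493)
 (.leaf 6691))
 (.node (.leaf 6361)
 (.leaf 6331)))
 (.node (.node (.leaf 11813)
 (.leaf 9581))
 (.node (.leaf 3466)
 (.leaf 166)))))
 (.node (.node (.node (.node (.leaf 9011)
 (.leaf 367))
 (.node (.leaf 4010)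
 (.leaf 8650)))
 (.node (.node (.leaf 3736)
 (.leaf 9054))
 (.node (.leaf 887)
 (.leaf 13536))))
 (.node (.node (.node (.leaf 12551)
 (.leaf 6242))
 (.node (.leaf 4301)
 (.leaf 14380)))
 (.node (.node (.leaf 9981)
 (.leaf 371))
 (.node (.leaf 12566)
 (.leaf 6522))))))

def srtTB139 : RT := .node (.node (.node (.node (.node (.node (.leaf 8058)
 (.leaf 7925))
 (.node (.leaf 3561)
 (.leaf 11044)))
 (.node (.node (.leaf 9767)
 (.leaf 4627))
 (.node (.leaf 10010)
 (.leaf 11462))))
 (.node (.node (.node (.leaf 10875)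
 (.leaf 12380))
 (.node (.leaf 13191)
 (.leaf 7607)))
 (.node (.node (.leaf 11115)
 (.leaf 7229))
 (.node (.leaf 14461)
 (.leaf 4800)))))
 (.node (.node (.node (.node (.leaf 787)
 (.leaf 10728))
 (.node (.leaf 14790)
 (.leaf 10238)))
 (.node (.node (.leaf 911)
 (.leaf 12652))
 (.node (.leaf 12583)
 (.leaf 4731))))
 (.node (.node (.node (.leaf 2906)
 (.leaf 868))
 (.node (.leaf 10643)
 (.leaf 11571)))
 (.node (.node (.leaf 6521)
 (.leaf 14611))
 (.node (.leaf 2757)
 (.leaf 13410))))))
 (.node (.node (.node (.node (.node (.leaf 960)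
 (.leaf 9980))
 (.node (.leaf 6782)
 (.leaf 142)))
 (.node (.node (.leaf 12029)
 (.leaf 4901))
 (.node (.leaf 8908)
 (.leaf 4468))))
 (.node (.node (.node (.leaf 488)
 (.leaf 3214))
 (.node (.leaf 11378)
 (.leaf 3439)))
 (.node (.node (.leaf 12087)
 (.leaf 8939))
 (.node (.leaf 11620)
 (.leaf 5042)))))
 (.node (.node (.node (.node (.leaf 9670)
 (.leaf 3719))
 (.node (.leaf 9130)
 (.leaf 2456)))
 (.node (.node (.leaf 915)
 (.leaf 12415))
 (.node (.leaf 14452)
 (.leaf 3611))))
 (.node (.node (.node (.leaf 11227)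
 (.leaf 2685))
 (.node (.leaf 223)
 (.leaf 2471)))
 (.node (.node (.leaf 11585)
 (.leaf 12417))
 (.node (.leaf 14835)
 (.leaf 11313))))))

def srtTB140 : RT := .node (.node (.node (.node (.node (.node (.leaf 14123)
 (.leaf 14175))
 (.node (.leaf 4508)
 (.leaf 6318)))
 (.node (.node (.leaf 6454)
 (.leaf 5229))
 (.node (.leaf 3107)
 (.leaf 5194))))
 (.node (.node (.node (.leaf 4920)
 (.leaf 5876))
 (.node (.leaf 5447)
 (.leaf 14913)))
 (.node (.node (.leaf 14206)
 (.leaf 1357))
 (.node (.leaf 1957)
 (.leaf 5809)))))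
 (.node (.node (.node (.node (.leaf 1835)
 (.leaf 6834))
 (.node (.leaf 4967)
 (.leaf 3219)))
 (.node (.node (.leaf 6069)
 (.leaf 5679))
 (.node (.leaf 8191)
 (.leaf 8587))))
 (.node (.node (.node (.leaf 7055)
 (.leaf 6608))
 (.node (.leaf 3579)
 (.leaf 11069)))
 (.node (.node (.leaf 12320)
 (.leaf 12071))
 (.node (.leaf 8470)
 (.leaf 4732))))))
 (.node (.node (.node (.node (.node (.leaf 1067)
 (.leaf 568))
 (.node (.leaf 1452)
 (.leaf 12196)))
 (.node (.node (.leaf 3881)
 (.leaf 5748))
 (.node (.leaf 703)
 (.leaf 8384))))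
 (.node (.node (.node (.leaf 8574)
 (.leaf 12052))
 (.node (.leaf 8535)
 (.leaf 8726)))
 (.node (.node (.leaf 4926)
 (.leaf 11569))
 (.node (.leaf 6171)
 (.leaf 3898)))))
 (.node (.node (.node (.node (.leaf 3551)
 (.leaf 7348))
 (.node (.leaf 9446)
 (.leaf 4700)))
 (.node (.node (.leaf 2196)
 (.leaf 691))
 (.node (.leaf 94)
 (.leaf 9143))))
 (.node (.node (.node (.leaf 6432)
 (.leaf 11861))
 (.node (.leaf 5745)
 (.leaf 10729)))
 (.node (.node (.leaf 4343)
 (.leaf 4850))
 (.node (.leaf 539)
 (.leaf 1933))))))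

def srtTB141 : RT := .node (.node (.node (.node (.node (.node (.leaf 11482)
 (.leaf 11692))
 (.node (.leaf 4206)
 (.leaf 1571)))
 (.node (.node (.leaf 5508)
 (.leaf 4415))
 (.node (.leaf 6848)
 (.leaf 8716))))
 (.node (.node (.node (.leaf 1361)
 (.leaf 7793))
 (.node (.leaf 11748)
 (.leaf 2568)))
 (.node (.node (.leaf 967)
 (.leaf 5468))
 (.node (.leaf 8745)
 (.leaf 11656)))))
 (.node (.node (.node (.node (.leaf 1192)
 (.leaf 4787))
 (.node (.leaf 9364)
 (.leaf 5029)))
 (.node (.node (.leaf 9004)
 (.leaf 14811))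
 (.node (.leaf 2129)
 (.leaf 12631))))
 (.node (.node (.node (.leaf 12350)
 (.leaf 14014))
 (.node (.leaf 7279)
 (.leaf 10200)))
 (.node (.node (.leaf 2032)
 (.leaf 878))
 (.node (.leaf 4287)
 (.leaf 11226))))))
 (.node (.node (.node (.node (.node (.leaf 1511)
 (.leaf 13504))
 (.node (.leaf 9445)
 (.leaf 1466)))
 (.node (.node (.leaf 481)
 (.leaf 6496))
 (.node (.leaf 14170)
 (.leaf 1027))))
 (.node (.node (.node (.leaf 541)
 (.leaf 3982))
 (.node (.leaf 4420)
 (.leaf 9762)))
 (.node (.node (.leaf 11247)
 (.leaf 13481))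
 (.node (.leaf 13927)
 (.leaf 10504)))))
 (.node (.node (.node (.node (.leaf 9541)
 (.leaf 7810))
 (.node (.leaf 3358)
 (.leaf 12456)))
 (.node (.node (.leaf 13222)
 (.leaf 1319))
 (.node (.leaf 14849)
 (.leaf 8607))))
 (.node (.node (.node (.leaf 2392)
 (.leaf 4770))
 (.node (.leaf 12004)
 (.leaf 10623)))
 (.node (.node (.leaf 12037)
 (.leaf 3647))
 (.node (.leaf 148)
 (.leaf 9704))))))

def srtTB142 : RT := .node (.node (.node (.node (.node (.node (.leaf 1655)
 (.leaf 2272))
 (.node (.leaf 8645)
 (.leaf 12132)))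
 (.node (.node (.leaf 5489)
 (.leaf 314))
 (.node (.leaf 8813)
 (.leaf 5360))))
 (.node (.node (.node (.leaf 6850)
 (.leaf 12808))
 (.node (.leaf 8275)
 (.leaf 5897)))
 (.node (.node (.leaf 5493)
 (.leaf 1451))
 (.node (.leaf 2167)
 (.leaf 7761)))))
 (.node (.node (.node (.node (.leaf 2151)
 (.leaf 7114))
 (.node (.leaf 6463)
 (.leaf 7929)))
 (.node (.node (.leaf 2792)
 (.leaf 5936))
 (.node (.leaf 3373)
 (.leaf 5801))))
 (.node (.node (.node (.leaf 2591)
 (.leaf 5188))
 (.node (.leaf 2700)
 (.leaf 5673)))
 (.node (.node (.leaf 6605)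
 (.leaf 3093))
 (.node (.leaf 4176)
 (.leaf 973))))))
 (.node (.node (.node (.node (.node (.leaf 8741)
 (.leaf 530))
 (.node (.leaf 10049)
 (.leaf 7295)))
 (.node (.node (.leaf 12048)
 (.leaf 12903))
 (.node (.leaf 3932)
 (.leaf 5945))))
 (.node (.node (.node (.leaf 3039)
 (.leaf 4325))
 (.node (.leaf 9299)
 (.leaf 8989)))
 (.node (.node (.leaf 7617)
 (.leaf 2398))
 (.node (.leaf 7247)
 (.leaf 14276)))))
 (.node (.node (.node (.node (.leaf 6626)
 (.leaf 2174))
 (.node (.leaf 5985)
 (.leaf 1930)))
 (.node (.node (.leaf 14912)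
 (.leaf 7584))
 (.node (.leaf 1252)
 (.leaf 5618))))
 (.node (.node (.node (.leaf 5743)
 (.leaf 5825))
 (.node (.leaf 5940)
 (.leaf 5537)))
 (.node (.node (.leaf 2560)
 (.leaf 2987))
 (.node (.leaf 2952)
 (.leaf 14639))))))

def srtTB143 : RT := .node (.node (.node (.node (.node (.node (.leaf 7880)
 (.leaf 414))
 (.node (.leaf 13534)
 (.leaf 13607)))
 (.node (.node (.leaf 1262)
 (.leaf 3855))
 (.node (.leaf 4214)
 (.leaf 2168))))
 (.node (.node (.node (.leaf 13682)
 (.leaf 895))
 (.node (.leaf 7112)
 (.leaf 11577)))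
 (.node (.node (.leaf 2324)
 (.leaf 7777))
 (.node (.leaf 6384)
 (.leaf 5093)))))
 (.node (.node (.node (.node (.leaf 14248)
 (.leaf 2806))
 (.node (.leaf 5422)
 (.leaf 2432)))
 (.node (.node (.leaf 3530)
 (.leaf 14924))
 (.node (.leaf 1205)
 (.leaf 3272))))
 (.node (.node (.node (.leaf 7590)
 (.leaf 4885))
 (.node (.leaf 7165)
 (.leaf 5238)))
 (.node (.node (.leaf 5580)
 (.leaf 11941))
 (.node (.leaf 2942)
 (.leaf 5583))))))
 (.node (.node (.node (.node (.node (.leaf 4163)
 (.leaf 9284))
 (.node (.leaf 728)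
 (.leaf 5983)))
 (.node (.node (.leaf 8921)
 (.leaf 12525))
 (.node (.leaf 8759)
 (.leaf 4286))))
 (.node (.node (.node (.leaf 8787)
 (.leaf 9533))
 (.node (.leaf 9548)
 (.leaf 8143)))
 (.node (.node (.leaf 1546)
 (.leaf 2810))
 (.node (.leaf 6406)
 (.leaf 3620)))))
 (.node (.node (.node (.node (.leaf 4684)
 (.leaf 14695))
 (.node (.leaf 9234)
 (.leaf 12337)))
 (.node (.node (.leaf 11205)
 (.leaf 753))
 (.node (.leaf 6657)
 (.leaf 337))))
 (.node (.node (.node (.leaf 6279)
 (.leaf 12918))
 (.node (.leaf 14185)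
 (.leaf 9996)))
 (.node (.node (.leaf 13241)
 (.leaf 3167))
 (.node (.leaf 10904)
 (.leaf 13913))))))

def srtTB144 : RT := .node (.node (.node (.node (.node (.node (.leaf 7963)
 (.leaf 14629))
 (.node (.leaf 4599)
 (.leaf 1657)))
 (.node (.node (.leaf 12422)
 (.leaf 7344))
 (.node (.leaf 6340)
 (.leaf 9787))))
 (.node (.node (.node (.leaf 2627)
 (.leaf 7393))
 (.node (.leaf 13212)
 (.leaf 10386)))
 (.node (.node (.leaf 4129)
 (.leaf 10247))
 (.node (.leaf 9327)
 (.leaf 618)))))
 (.node (.node (.node (.node (.leaf 7107)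
 (.leaf 3700))
 (.node (.leaf 8857)
 (.leaf 12042)))
 (.node (.node (.leaf 8202)
 (.leaf 9117))
 (.node (.leaf 3671)
 (.leaf 534))))
 (.node (.node (.node (.leaf 5592)
 (.leaf 575))
 (.node (.leaf 5213)
 (.leaf 11572)))
 (.node (.node (.leaf 10008)
 (.leaf 10812))
 (.node (.leaf 9866)
 (.leaf 697))))))
 (.node (.node (.node (.node (.node (.leaf 12095)
 (.leaf 596))
 (.node (.leaf 9434)
 (.leaf 8519)))
 (.node (.node (.leaf 8810)
 (.leaf 7369))
 (.node (.leaf 12573)
 (.leaf 291))))
 (.node (.node (.node (.leaf 11901)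
 (.leaf 5700))
 (.node (.leaf 3679)
 (.leaf 4712)))
 (.node (.node (.leaf 7358)
 (.leaf 4928))
 (.node (.leaf 3933)
 (.leaf 6562)))))
 (.node (.node (.node (.node (.leaf 8512)
 (.leaf 9086))
 (.node (.leaf 12063)
 (.leaf 4357)))
 (.node (.node (.leaf 11863)
 (.leaf 5579))
 (.node (.leaf 1001)
 (.leaf 7322))))
 (.node (.node (.node (.leaf 610)
 (.leaf 8041))
 (.node (.leaf 4665)
 (.leaf 5202)))
 (.node (.node (.leaf 12941)
 (.leaf 7244))
 (.node (.leaf 8721)
 (.leaf 5617))))))

def srtTB145 : RT := .node (.node (.node (.node (.node (.node (.leaf 3809)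
 (.leaf 10644))
 (.node (.leaf 14378)
 (.leaf 9485)))
 (.node (.node (.leaf 14666)
 (.leaf 10218))
 (.node (.leaf 13632)
 (.leaf 12698))))
 (.node (.node (.node (.leaf 1685)
 (.leaf 7196))
 (.node (.leaf 550)
 (.leaf 6988)))
 (.node (.node (.leaf 1636)
 (.leaf 3790))
 (.node (.leaf 14115)
 (.leaf 13362)))))
 (.node (.node (.node (.node (.leaf 13755)
 (.leaf 12410))
 (.node (.leaf 6478)
 (.leaf 11276)))
 (.node (.node (.leaf 217)
 (.leaf 1240))
 (.node (.leaf 1579)
 (.leaf 12288))))
 (.node (.node (.node (.leaf 11440)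
 (.leaf 10383))
 (.node (.leaf 3748)
 (.leaf 14770)))
 (.node (.node (.leaf 14501)
 (.leaf 7521))
 (.node (.leaf 9796)
 (.leaf 4453))))))
 (.node (.node (.node (.node (.node (.leaf 9439)
 (.leaf 13980))
 (.node (.leaf 11244)
 (.leaf 14762)))
 (.node (.node (.leaf 13589)
 (.leaf 10718))
 (.node (.leaf 10694)
 (.leaf 6223))))
 (.node (.node (.node (.leaf 10340)
 (.leaf 11125))
 (.node (.leaf 13156)
 (.leaf 2561)))
 (.node (.node (.leaf 2308)
 (.leaf 3602))
 (.node (.leaf 239)
 (.leaf 7510)))))
 (.node (.node (.node (.node (.leaf 14063)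
 (.leaf 2615))
 (.node (.leaf 4794)
 (.leaf 14803)))
 (.node (.node (.leaf 560)
 (.leaf 2930))
 (.node (.leaf 6613)
 (.leaf 5654))))
 (.node (.node (.node (.leaf 6843)
 (.leaf 5631))
 (.node (.leaf 3397)
 (.leaf 5930)))
 (.node (.node (.leaf 3416)
 (.leaf 5831))
 (.node (.leaf 5421)
 (.leaf 2357))))))

def srtTB146 : RT := .node (.node (.node (.node (.node (.node (.leaf 5171)
 (.leaf 2164))
 (.node (.leaf 6261)
 (.leaf 5800)))
 (.node (.node (.leaf 14266)
 (.leaf 3749))
 (.node (.leaf 888)
 (.leaf 7927))))
 (.node (.node (.node (.leaf 12445)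
 (.leaf 6219))
 (.node (.leaf 5453)
 (.leaf 832)))
 (.node (.node (.leaf 3710)
 (.leaf 10327))
 (.node (.leaf 8514)
 (.leaf 5033)))))
 (.node (.node (.node (.node (.leaf 1244)
 (.leaf 12110))
 (.node (.leaf 6087)
 (.leaf 3654)))
 (.node (.node (.leaf 3396)
 (.leaf 14754))
 (.node (.leaf 2387)
 (.leaf 10546))))
 (.node (.node (.node (.leaf 508)
 (.leaf 14042))
 (.node (.leaf 2383)
 (.leaf 9800)))
 (.node (.node (.leaf 13486)
 (.leaf 13213))
 (.node (.leaf 14464)
 (.leaf 2238))))))
 (.node (.node (.node (.node (.node (.leaf 13690)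
 (.leaf 6665))
 (.node (.leaf 8287)
 (.leaf 10121)))
 (.node (.node (.leaf 11518)
 (.leaf 8922))
 (.node (.leaf 3910)
 (.leaf 11705))))
 (.node (.node (.node (.leaf 4629)
 (.leaf 7341))
 (.node (.leaf 3079)
 (.leaf 9500)))
 (.node (.node (.leaf 1496)
 (.leaf 12996))
 (.node (.leaf 8788)
 (.leaf 699)))))
 (.node (.node (.node (.node (.leaf 10947)
 (.leaf 5189))
 (.node (.leaf 7188)
 (.leaf 10091)))
 (.node (.node (.leaf 12577)
 (.leaf 7264))
 (.node (.leaf 4705)
 (.leaf 11008))))
 (.node (.node (.node (.leaf 14428)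
 (.leaf 1492))
 (.node (.leaf 8121)
 (.leaf 14169)))
 (.node (.node (.leaf 774)
 (.leaf 7888))
 (.node (.leaf 9591)
 (.leaf 14771))))))

def srtTB147 : RT := .node (.node (.node (.node (.node (.node (.leaf 13496)
 (.leaf 13915))
 (.node (.leaf 10219)
 (.leaf 1495)))
 (.node (.node (.leaf 3828)
 (.leaf 2474))
 (.node (.leaf 6287)
 (.leaf 5896))))
 (.node (.node (.node (.leaf 5225)
 (.leaf 8269))
 (.node (.leaf 14954)
 (.leaf 1861)))
 (.node (.node (.leaf 8290)
 (.leaf 5959))
 (.node (.leaf 6097)
 (.leaf 2066)))))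
 (.node (.node (.node (.node (.leaf 6877)
 (.leaf 5389))
 (.node (.leaf 3112)
 (.leaf 14269)))
 (.node (.node (.leaf 5334)
 (.leaf 5125))
 (.node (.leaf 5973)
 (.leaf 3061))))
 (.node (.node (.node (.leaf 13038)
 (.leaf 1491))
 (.node (.leaf 6604)
 (.leaf 435)))
 (.node (.node (.leaf 14321)
 (.leaf 7155))
 (.node (.leaf 11121)
 (.leaf 6212))))))
 (.node (.node (.node (.node (.node (.leaf 12371)
 (.leaf 10253))
 (.node (.leaf 4378)
 (.leaf 10954)))
 (.node (.node (.leaf 13777)
 (.leaf 10839))
 (.node (.leaf 3756)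
 (.leaf 12064))))
 (.node (.node (.node (.leaf 3224)
 (.leaf 11807))
 (.node (.leaf 12689)
 (.leaf 3437)))
 (.node (.node (.leaf 11429)
 (.leaf 6254))
 (.node (.leaf 4487)
 (.leaf 12200)))))
 (.node (.node (.node (.node (.leaf 8625)
 (.leaf 5476))
 (.node (.leaf 5512)
 (.leaf 3204)))
 (.node (.node (.leaf 8630)
 (.leaf 3955))
 (.node (.leaf 5824)
 (.leaf 11392))))
 (.node (.node (.node (.leaf 773)
 (.leaf 3854))
 (.node (.leaf 5698)
 (.leaf 3604)))
 (.node (.node (.leaf 11967)
 (.leaf 9220))
 (.node (.leaf 4964)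
 (.leaf 1501))))))

def srtTB148 : RT := .node (.node (.node (.node (.node (.node (.leaf 8923)
 (.leaf 9103))
 (.node (.leaf 8874)
 (.leaf 11660)))
 (.node (.node (.leaf 11103)
 (.leaf 12131))
 (.node (.leaf 9157)
 (.leaf 5143))))
 (.node (.node (.node (.leaf 5079)
 (.leaf 6823))
 (.node (.leaf 1618)
 (.leaf 4962)))
 (.node (.node (.leaf 6941)
 (.leaf 6374))
 (.node (.leaf 7210)
 (.leaf 5005)))))
 (.node (.node (.node (.node (.leaf 14258)
 (.leaf 7499))
 (.node (.leaf 1668)
 (.leaf 7032)))
 (.node (.node (.leaf 5600)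
 (.leaf 1914))
 (.node (.leaf 4997)
 (.leaf 14911))))
 (.node (.node (.node (.leaf 7725)
 (.leaf 4810))
 (.node (.leaf 13479)
 (.leaf 6149)))
 (.node (.node (.leaf 14788)
 (.leaf 10663))
 (.node (.leaf 1389)
 (.leaf 4469))))))
 (.node (.node (.node (.node (.node (.leaf 13284)
 (.leaf 9868))
 (.node (.leaf 12755)
 (.leaf 192)))
 (.node (.node (.leaf 3589)
 (.leaf 9711))
 (.node (.leaf 548)
 (.leaf 7539))))
 (.node (.node (.node (.leaf 9605)
 (.leaf 10627))
 (.node (.leaf 12980)
 (.leaf 10820)))
 (.node (.node (.leaf 13049)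
 (.leaf 1890))
 (.node (.leaf 14652)
 (.leaf 6996)))))
 (.node (.node (.node (.node (.leaf 7224)
 (.leaf 3846))
 (.node (.leaf 10071)
 (.leaf 14616)))
 (.node (.node (.leaf 13529)
 (.leaf 10682))
 (.node (.leaf 6722)
 (.leaf 798))))
 (.node (.node (.node (.leaf 2924)
 (.leaf 13629))
 (.node (.leaf 10862)
 (.leaf 11005)))
 (.node (.node (.leaf 10570)
 (.leaf 8081))
 (.node (.leaf 2210)
 (.leaf 1431))))))

def srtTB149 : RT := .node (.node (.node (.node (.node (.node (.leaf 9894)
 (.leaf 13730))
 (.node (.leaf 2707)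
 (.leaf 7588)))
 (.node (.node (.leaf 10401)
 (.leaf 7833))
 (.node (.leaf 14565)
 (.leaf 4742))))
 (.node (.node (.node (.leaf 6051)
 (.leaf 13171))
 (.node (.leaf 12870)
 (.leaf 14792)))
 (.node (.node (.leaf 1527)
 (.leaf 4162))
 (.node (.leaf 14071)
 (.leaf 12336)))))
 (.node (.node (.node (.node (.leaf 12952)
 (.leaf 1228))
 (.node (.leaf 7526)
 (.leaf 2980)))
 (.node (.node (.leaf 9320)
 (.leaf 13398))
 (.node (.leaf 3154)
 (.leaf 10021))))
 (.node (.node (.node (.leaf 14592)
 (.leaf 9515))
 (.node (.leaf 4263)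
 (.leaf 9975)))
 (.node (.node (.leaf 8223)
 (.leaf 9538))
 (.node (.leaf 13900)
 (.leaf 3672))))))
 (.node (.node (.node (.node (.node (.leaf 13925)
 (.leaf 6833))
 (.node (.leaf 449)
 (.leaf 9849)))
 (.node (.node (.leaf 14444)
 (.leaf 4363))
 (.node (.leaf 2117)
 (.leaf 10792))))
 (.node (.node (.node (.leaf 14106)
 (.leaf 13174))
 (.node (.leaf 14615)
 (.leaf 10604)))
 (.node (.node (.leaf 12623)
 (.leaf 13505))
 (.node (.leaf 4271)
 (.leaf 757)))))
 (.node (.node (.node (.node (.leaf 6367)
 (.leaf 10038))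
 (.node (.leaf 13962)
 (.leaf 2754)))
 (.node (.node (.leaf 6048)
 (.leaf 11017))
 (.node (.leaf 13798)
 (.leaf 14839))))
 (.node (.node (.node (.leaf 2781)
 (.leaf 6534))
 (.node (.leaf 14009)
 (.leaf 12345)))
 (.node (.node (.leaf 3685)
 (.leaf 7942))
 (.node (.leaf 14665)
 (.leaf 742))))))

def srtTB150 : RT := .node (.node (.node (.node (.node (.node (.leaf 10415)
 (.leaf 13205))
 (.node (.leaf 13341)
 (.leaf 7574)))
 (.node (.node (.leaf 3076)
 (.leaf 12892))
 (.node (.leaf 10740)
 (.leaf 34))))
 (.node (.node (.node (.leaf 3800)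
 (.leaf 11073))
 (.node (.leaf 846)
 (.leaf 3129)))
 (.node (.node (.leaf 7751)
 (.leaf 14786))
 (.node (.leaf 10407)
 (.leaf 11112)))))
 (.node (.node (.node (.node (.leaf 13384)
 (.leaf 13696))
 (.node (.leaf 13190)
 (.leaf 14448)))
 (.node (.node (.leaf 11475)
 (.leaf 7446))
 (.node (.leaf 11682)
 (.leaf 8836))))
 (.node (.node (.node (.leaf 6469)
 (.leaf 5309))
 (.node (.leaf 63)
 (.leaf 1198)))
 (.node (.node (.leaf 8814)
 (.leaf 5701))
 (.node (.leaf 5301)
 (.leaf 4262))))))
 (.node (.node (.node (.node (.node (.leaf 2928)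
 (.leaf 3921))
 (.node (.leaf 12003)
 (.leaf 8551)))
 (.node (.node (.leaf 8473)
 (.leaf 1411))
 (.node (.leaf 3090)
 (.leaf 3819))))
 (.node (.node (.node (.leaf 12334)
 (.leaf 11898))
 (.node (.leaf 5570)
 (.leaf 11902)))
 (.node (.node (.leaf 5669)
 (.leaf 235))
 (.node (.leaf 9138)
 (.leaf 3012)))))
 (.node (.node (.node (.node (.leaf 9085)
 (.leaf 2729))
 (.node (.leaf 292)
 (.leaf 11704)))
 (.node (.node (.leaf 4170)
 (.leaf 6583))
 (.node (.leaf 10122)
 (.leaf 6676))))
 (.node (.node (.node (.leaf 14931)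
 (.leaf 5325))
 (.node (.leaf 3572)
 (.leaf 4879)))
 (.node (.node (.leaf 6943)
 (.leaf 5335))
 (.node (.leaf 1324)
 (.leaf 6495))))))

def srtTB151 : RT := .node (.node (.node (.node (.node (.node (.leaf 2485)
 (.leaf 6760))
 (.node (.leaf 1852)
 (.leaf 1989)))
 (.node (.node (.leaf 5349)
 (.leaf 14298))
 (.node (.leaf 4932)
 (.leaf 5078))))
 (.node (.node (.node (.leaf 7440)
 (.leaf 8295))
 (.node (.leaf 2943)
 (.leaf 3056)))
 (.node (.node (.leaf 6036)
 (.leaf 10922))
 (.node (.leaf 2805)
 (.leaf 3883)))))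
 (.node (.node (.node (.node (.leaf 14885)
 (.leaf 12556))
 (.node (.leaf 3811)
 (.leaf 13549)))
 (.node (.node (.leaf 10425)
 (.leaf 6756))
 (.node (.leaf 12887)
 (.leaf 13807))))
 (.node (.node (.node (.leaf 10800)
 (.leaf 2926))
 (.node (.leaf 2772)
 (.leaf 6113)))
 (.node (.node (.leaf 611)
 (.leaf 1669))
 (.node (.leaf 219)
 (.leaf 4426))))))
 (.node (.node (.node (.node (.node (.leaf 7523)
 (.leaf 7276))
 (.node (.leaf 13069)
 (.leaf 10675)))
 (.node (.node (.leaf 14554)
 (.leaf 9552))
 (.node (.leaf 14719)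
 (.leaf 13382))))
 (.node (.node (.node (.leaf 14199)
 (.leaf 7736))
 (.node (.leaf 3181)
 (.leaf 13756)))
 (.node (.node (.leaf 6480)
 (.leaf 10719))
 (.node (.leaf 11140)
 (.leaf 3603)))))
 (.node (.node (.node (.node (.leaf 12717)
 (.leaf 13225))
 (.node (.leaf 2291)
 (.leaf 14804)))
 (.node (.node (.leaf 1104)
 (.leaf 13748))
 (.node (.leaf 13964)
 (.leaf 2616))))
 (.node (.node (.node (.leaf 3412)
 (.leaf 10580))
 (.node (.leaf 6666)
 (.leaf 10550)))
 (.node (.node (.leaf 13587)
 (.leaf 7228))
 (.node (.leaf 10284)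
 (.leaf 341))))))

def srtTB152 : RT := .node (.node (.node (.node (.node (.node (.leaf 2796)
 (.leaf 1171))
 (.node (.leaf 2202)
 (.leaf 7213)))
 (.node (.node (.leaf 13053)
 (.leaf 10737))
 (.node (.leaf 10818)
 (.leaf 4683))))
 (.node (.node (.node (.leaf 12657)
 (.leaf 13951))
 (.node (.leaf 6998)
 (.leaf 1887)))
 (.node (.node (.leaf 11196)
 (.leaf 12861))
 (.node (.leaf 1980)
 (.leaf 950)))))
 (.node (.node (.node (.node (.leaf 13064)
 (.leaf 13843))
 (.node (.leaf 1271)
 (.leaf 8091)))
 (.node (.node (.leaf 6355)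
 (.leaf 14431))
 (.node (.leaf 10913)
 (.leaf 9879))))
 (.node (.node (.node (.leaf 11331)
 (.leaf 14334))
 (.node (.leaf 14089)
 (.leaf 10203)))
 (.node (.node (.leaf 12376)
 (.leaf 13313))
 (.node (.leaf 9944)
 (.leaf 5158))))))
 (.node (.node (.node (.node (.node (.leaf 8946)
 (.leaf 9465))
 (.node (.leaf 11840)
 (.leaf 660)))
 (.node (.node (.leaf 1532)
 (.leaf 7422))
 (.node (.leaf 10912)
 (.leaf 3581))))
 (.node (.node (.node (.leaf 12374)
 (.leaf 8756))
 (.node (.leaf 8890)
 (.leaf 11068)))
 (.node (.node (.leaf 4222)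
 (.leaf 3667))
 (.node (.leaf 7172)
 (.leaf 6447)))))
 (.node (.node (.node (.node (.leaf 537)
 (.leaf 5256))
 (.node (.leaf 2857)
 (.leaf 4391)))
 (.node (.node (.leaf 360)
 (.leaf 335))
 (.node (.leaf 8905)
 (.leaf 11833))))
 (.node (.node (.node (.leaf 4073)
 (.leaf 10511))
 (.node (.leaf 11198)
 (.leaf 12149)))
 (.node (.node (.leaf 2639)
 (.leaf 5403))
 (.node (.leaf 5851)
 (.leaf 1664))))))

def srtTB153 : RT := .node (.node (.node (.node (.node (.node (.leaf 6736)
 (.leaf 4424))
 (.node (.leaf 8945)
 (.leaf 7814)))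
 (.node (.node (.leaf 10667)
 (.leaf 5525))
 (.node (.leaf 8980)
 (.leaf 2310))))
 (.node (.node (.node (.leaf 6338)
 (.leaf 8728))
 (.node (.leaf 348)
 (.leaf 6667)))
 (.node (.node (.leaf 8648)
 (.leaf 2624))
 (.node (.leaf 11611)
 (.leaf 5383)))))
 (.node (.node (.node (.node (.leaf 8601)
 (.leaf 4470))
 (.node (.leaf 12964)
 (.leaf 8615)))
 (.node (.node (.leaf 5999)
 (.leaf 913))
 (.node (.leaf 8338)
 (.leaf 1341))))
 (.node (.node (.node (.leaf 460)
 (.leaf 4143))
 (.node (.leaf 14272)
 (.leaf 5362)))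
 (.node (.node (.leaf 2314)
 (.leaf 7356))
 (.node (.leaf 5336)
 (.leaf 7258))))))
 (.node (.node (.node (.node (.node (.leaf 7901)
 (.leaf 7937))
 (.node (.leaf 5460)
 (.leaf 6073)))
 (.node (.node (.leaf 2201)
 (.leaf 8146))
 (.node (.leaf 3393)
 (.leaf 7337))))
 (.node (.node (.node (.leaf 4851)
 (.leaf 2975))
 (.node (.leaf 5054)
 (.leaf 6351)))
 (.node (.node (.leaf 9253)
 (.leaf 7484))
 (.node (.leaf 14619)
 (.leaf 6081)))))
 (.node (.node (.node (.node (.leaf 13895)
 (.leaf 4142))
 (.node (.leaf 3784)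
 (.leaf 299)))
 (.node (.node (.leaf 10506)
 (.leaf 6528))
 (.node (.leaf 7890)
 (.leaf 13179))))
 (.node (.node (.node (.leaf 10915)
 (.leaf 980))
 (.node (.leaf 12820)
 (.leaf 10057)))
 (.node (.node (.leaf 2417)
 (.leaf 14787))
 (.node (.leaf 9707)
 (.leaf 12411))))))

def srtTB154 : RT := .node (.node (.node (.node (.node (.node (.leaf 9135)
 (.leaf 5593))
 (.node (.leaf 4244)
 (.leaf 12315)))
 (.node (.node (.leaf 10892)
 (.leaf 8513))
 (.node (.leaf 11763)
 (.leaf 2093))))
 (.node (.node (.node (.leaf 1125)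
 (.leaf 6054))
 (.node (.leaf 11673)
 (.leaf 8770)))
 (.node (.node (.leaf 2880)
 (.leaf 8247))
 (.node (.leaf 8958)
 (.leaf 10110)))))
 (.node (.node (.node (.node (.leaf 11102)
 (.leaf 3831))
 (.node (.leaf 14171)
 (.leaf 10291)))
 (.node (.node (.leaf 14681)
 (.leaf 7021))
 (.node (.leaf 6486)
 (.leaf 46))))
 (.node (.node (.node (.leaf 2787)
 (.leaf 12633))
 (.node (.leaf 4247)
 (.leaf 2010)))
 (.node (.node (.leaf 2815)
 (.leaf 14191))
 (.node (.leaf 11273)
 (.leaf 13145))))))
 (.node (.node (.node (.node (.node (.leaf 6539)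
 (.leaf 11015))
 (.node (.leaf 497)
 (.leaf 13395)))
 (.node (.node (.leaf 1038)
 (.leaf 8386))
 (.node (.leaf 6148)
 (.leaf 8764))))
 (.node (.node (.node (.leaf 3102)
 (.leaf 8064))
 (.node (.leaf 5628)
 (.leaf 12209)))
 (.node (.node (.leaf 8621)
 (.leaf 589))
 (.node (.leaf 8507)
 (.leaf 11479)))))
 (.node (.node (.node (.node (.leaf 4728)
 (.leaf 5292))
 (.node (.leaf 5149)
 (.leaf 2306)))
 (.node (.node (.leaf 3745)
 (.leaf 4540))
 (.node (.leaf 1709)
 (.leaf 477))))
 (.node (.node (.node (.leaf 7012)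
 (.leaf 5026))
 (.node (.leaf 8664)
 (.leaf 6924)))
 (.node (.node (.leaf 10279)
 (.leaf 11752))
 (.node (.leaf 9625)
 (.leaf 12759))))))

def srtTB155 : RT := .node (.node (.node (.node (.node (.node (.leaf 3193)
 (.leaf 11814))
 (.node (.leaf 9316)
 (.leaf 4364)))
 (.node (.node (.leaf 5272)
 (.leaf 12610))
 (.node (.leaf 553)
 (.leaf 6125))))
 (.node (.node (.node (.leaf 7399)
 (.leaf 12128))
 (.node (.leaf 8761)
 (.leaf 11854)))
 (.node (.node (.leaf 1910)
 (.leaf 8604))
 (.node (.leaf 979)
 (.leaf 8154)))))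
 (.node (.node (.node (.node (.leaf 9452)
 (.leaf 3675))
 (.node (.leaf 9127)
 (.leaf 4847)))
 (.node (.node (.leaf 6826)
 (.leaf 1258))
 (.node (.leaf 4589)
 (.leaf 11232))))
 (.node (.node (.node (.leaf 14390)
 (.leaf 11386))
 (.node (.leaf 10199)
 (.leaf 1736)))
 (.node (.node (.leaf 13126)
 (.leaf 7432))
 (.node (.leaf 8352)
 (.leaf 9582))))))
 (.node (.node (.node (.node (.node (.leaf 12466)
 (.leaf 14179))
 (.node (.leaf 3234)
 (.leaf 10518)))
 (.node (.node (.leaf 6434)
 (.leaf 4536))
 (.node (.leaf 13357)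
 (.leaf 14627))))
 (.node (.node (.node (.leaf 11776)
 (.leaf 12854))
 (.node (.leaf 7970)
 (.leaf 8609)))
 (.node (.node (.leaf 1292)
 (.leaf 10083))
 (.node (.leaf 675)
 (.leaf 8528)))))
 (.node (.node (.node (.node (.leaf 3889)
 (.leaf 1129))
 (.node (.leaf 5620)
 (.leaf 4620)))
 (.node (.node (.leaf 7500)
 (.leaf 4719))
 (.node (.leaf 5990)
 (.leaf 1029))))
 (.node (.node (.node (.leaf 6041)
 (.leaf 2967))
 (.node (.leaf 11314)
 (.leaf 2268)))
 (.node (.node (.leaf 11394)
 (.leaf 13468))
 (.node (.leaf 2356)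
 (.leaf 12806))))))

def srtTB156 : RT := .node (.node (.node (.node (.node (.node (.leaf 13015)
 (.leaf 1136))
 (.node (.leaf 9660)
 (.leaf 7587)))
 (.node (.node (.leaf 10138)
 (.leaf 14893))
 (.node (.leaf 13939)
 (.leaf 12431))))
 (.node (.node (.node (.leaf 14667)
 (.leaf 2389))
 (.node (.leaf 10640)
 (.leaf 7199)))
 (.node (.node (.leaf 4769)
 (.leaf 765))
 (.node (.leaf 11915)
 (.leaf 8635)))))
 (.node (.node (.node (.node (.leaf 9344)
 (.leaf 12034))
 (.node (.leaf 9120)
 (.leaf 11600)))
 (.node (.node (.leaf 5013)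
 (.leaf 9034))
 (.node (.leaf 4876)
 (.leaf 5069))))
 (.node (.node (.node (.leaf 3610)
 (.leaf 3781))
 (.node (.leaf 3356)
 (.leaf 7831)))
 (.node (.node (.leaf 3636)
 (.leaf 11847))
 (.node (.leaf 9018)
 (.leaf 7710))))))
 (.node (.node (.node (.node (.node (.leaf 422)
 (.leaf 14354))
 (.node (.leaf 13459)
 (.leaf 12457)))
 (.node (.node (.leaf 13088)
 (.leaf 10075))
 (.node (.leaf 4141)
 (.leaf 14413))))
 (.node (.node (.node (.leaf 9817)
 (.leaf 9729))
 (.node (.leaf 1638)
 (.leaf 3349)))
 (.node (.node (.leaf 7342)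
 (.leaf 981))
 (.node (.leaf 14044)
 (.leaf 6428)))))
 (.node (.node (.node (.node (.leaf 1834)
 (.leaf 4127))
 (.node (.leaf 12963)
 (.leaf 9334)))
 (.node (.node (.leaf 6784)
 (.leaf 8230))
 (.node (.leaf 3559)
 (.leaf 6967))))
 (.node (.node (.node (.leaf 14263)
 (.leaf 3568))
 (.node (.leaf 6906)
 (.leaf 5846)))
 (.node (.node (.leaf 5578)
 (.leaf 6303))
 (.node (.leaf 5771)
 (.leaf 8388))))))

def srtTB157 : RT := .node (.node (.node (.node (.node (.node (.leaf 5404)
 (.leaf 2292))
 (.node (.leaf 5190)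
 (.leaf 5276)))
 (.node (.node (.leaf 1651)
 (.leaf 1797))
 (.node (.leaf 14934)
 (.leaf 5020))))
 (.node (.node (.node (.leaf 8134)
 (.leaf 8977))
 (.node (.leaf 9672)
 (.leaf 12088)))
 (.node (.node (.leaf 10459)
 (.leaf 1186))
 (.node (.leaf 9149)
 (.leaf 5424)))))
 (.node (.node (.node (.node (.leaf 9046)
 (.leaf 3964))
 (.node (.leaf 10237)
 (.leaf 12056)))
 (.node (.node (.leaf 6810)
 (.leaf 6999))
 (.node (.leaf 5440)
 (.leaf 4806))))
 (.node (.node (.node (.leaf 3721)
 (.leaf 3440))
 (.node (.leaf 2681)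
 (.leaf 10863)))
 (.node (.node (.leaf 1003)
 (.leaf 4169))
 (.node (.leaf 3875)
 (.leaf 4970))))))
 (.node (.node (.node (.node (.node (.leaf 85)
 (.leaf 12138))
 (.node (.leaf 2723)
 (.leaf 4275)))
 (.node (.node (.leaf 2088)
 (.leaf 11128))
 (.node (.leaf 8789)
 (.leaf 5260))))
 (.node (.node (.node (.leaf 8082)
 (.leaf 12666))
 (.node (.leaf 8555)
 (.leaf 1917)))
 (.node (.node (.leaf 8691)
 (.leaf 6132))
 (.node (.leaf 186)
 (.leaf 8885)))))
 (.node (.node (.node (.node (.leaf 11041)
 (.leaf 12198))
 (.node (.leaf 11719)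
 (.leaf 2340)))
 (.node (.node (.leaf 12836)
 (.leaf 9847))
 (.node (.leaf 7225)
 (.leaf 11391))))
 (.node (.node (.node (.leaf 13651)
 (.leaf 13912))
 (.node (.leaf 3971)
 (.leaf 13227)))
 (.node (.node (.leaf 12775)
 (.leaf 3205))
 (.node (.leaf 73)
 (.leaf 13438))))))

def srtTB158 : RT := .node (.node (.node (.node (.node (.node (.leaf 10614)
 (.leaf 6791))
 (.node (.leaf 9968)
 (.leaf 8035)))
 (.node (.node (.leaf 2633)
 (.leaf 516))
 (.node (.leaf 12970)
 (.leaf 11195))))
 (.node (.node (.node (.leaf 6501)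
 (.leaf 10901))
 (.node (.leaf 12440)
 (.leaf 4558)))
 (.node (.node (.leaf 7950)
 (.leaf 1799))
 (.node (.leaf 22)
 (.leaf 14829)))))
 (.node (.node (.node (.node (.leaf 3249)
 (.leaf 14816))
 (.node (.leaf 9266)
 (.leaf 3640)))
 (.node (.node (.leaf 14103)
 (.leaf 13443))
 (.node (.leaf 10378)
 (.leaf 6677))))
 (.node (.node (.node (.leaf 7044)
 (.leaf 4971))
 (.node (.leaf 14969)
 (.leaf 3554)))
 (.node (.node (.leaf 14229)
 (.leaf 1434))
 (.node (.leaf 4985)
 (.leaf 8192))))))
 (.node (.node (.node (.node (.node (.leaf 5022)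
 (.leaf 7080))
 (.node (.leaf 5311)
 (.leaf 1609)))
 (.node (.node (.leaf 6655)
 (.leaf 5410))
 (.node (.leaf 5604)
 (.leaf 1647))))
 (.node (.node (.node (.leaf 6271)
 (.leaf 2414))
 (.node (.leaf 5418)
 (.leaf 8057)))
 (.node (.node (.leaf 6422)
 (.leaf 1752))
 (.node (.leaf 3490)
 (.leaf 11721)))))
 (.node (.node (.node (.node (.leaf 6568)
 (.leaf 8541))
 (.node (.leaf 3131)
 (.leaf 4224)))
 (.node (.node (.leaf 10133)
 (.leaf 7217))
 (.node (.leaf 3663)
 (.leaf 10936))))
 (.node (.node (.node (.leaf 5613)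
 (.leaf 4217))
 (.node (.leaf 11759)
 (.leaf 11633)))
 (.node (.node (.leaf 581)
 (.leaf 12927))
 (.node (.leaf 7174)
 (.leaf 8817))))))

def srtTB159 : RT := .node (.node (.node (.node (.node (.node (.leaf 10159)
 (.leaf 3503))
 (.node (.leaf 7347)
 (.leaf 9761)))
 (.node (.node (.leaf 359)
 (.leaf 9911))
 (.node (.leaf 2011)
 (.leaf 3059))))
 (.node (.node (.node (.leaf 2870)
 (.leaf 151))
 (.node (.leaf 4624)
 (.leaf 12546)))
 (.node (.node (.leaf 14587)
 (.leaf 12245))
 (.node (.leaf 14046)
 (.leaf 7582)))))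
 (.node (.node (.node (.node (.leaf 9907)
 (.leaf 4258))
 (.node (.leaf 9293)
 (.leaf 2155)))
 (.node (.node (.leaf 14879)
 (.leaf 13292))
 (.node (.leaf 10981)
 (.leaf 6438))))
 (.node (.node (.node (.leaf 3546)
 (.leaf 2809))
 (.node (.leaf 10635)
 (.leaf 12998)))
 (.node (.node (.leaf 14674)
 (.leaf 7643))
 (.node (.leaf 13725)
 (.leaf 417))))))
 (.node (.node (.node (.node (.node (.leaf 4660)
 (.leaf 6788))
 (.node (.leaf 145)
 (.leaf 3564)))
 (.node (.node (.leaf 11546)
 (.leaf 14406))
 (.node (.leaf 12848)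
 (.leaf 3494))))
 (.node (.node (.node (.leaf 13550)
 (.leaf 6994))
 (.node (.leaf 935)
 (.leaf 14053)))
 (.node (.node (.leaf 3936)
 (.leaf 11279))
 (.node (.leaf 7098)
 (.leaf 7033)))))
 (.node (.node (.node (.node (.leaf 10775)
 (.leaf 11309))
 (.node (.leaf 1866)
 (.leaf 816)))
 (.node (.node (.leaf 4200)
 (.leaf 13621))
 (.node (.leaf 12863)
 (.leaf 9782))))
 (.node (.node (.node (.leaf 763)
 (.leaf 5011))
 (.node (.leaf 10389)
 (.leaf 12152)))
 (.node (.node (.leaf 428)
 (.leaf 9140))
 (.node (.leaf 5356)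
 (.leaf 12051))))))

def srtTB160 : RT := .node (.node (.node (.node (.node (.node (.leaf 406)
 (.leaf 6915))
 (.node (.leaf 4015)
 (.leaf 3744)))
 (.node (.node (.leaf 3263)
 (.leaf 8979))
 (.node (.leaf 5350)
 (.leaf 9031))))
 (.node (.node (.node (.leaf 3238)
 (.leaf 11806))
 (.node (.leaf 1042)
 (.leaf 12523)))
 (.node (.node (.leaf 213)
 (.leaf 6546))
 (.node (.leaf 9893)
 (.leaf 8439)))))
 (.node (.node (.node (.node (.leaf 5195)
 (.leaf 5662))
 (.node (.leaf 1487)
 (.leaf 9424)))
 (.node (.node (.leaf 4300)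
 (.leaf 12041))
 (.node (.leaf 2057)
 (.leaf 591))))
 (.node (.node (.node (.leaf 6169)
 (.leaf 3923))
 (.node (.leaf 8533)
 (.leaf 8786)))
 (.node (.node (.leaf 9264)
 (.leaf 2818))
 (.node (.leaf 14331)
 (.leaf 13061))))))
 (.node (.node (.node (.node (.node (.leaf 9218)
 (.leaf 1179))
 (.node (.leaf 4349)
 (.leaf 3016)))
 (.node (.node (.leaf 6098)
 (.leaf 945))
 (.node (.leaf 12517)
 (.leaf 10876))))
 (.node (.node (.node (.leaf 13310)
 (.leaf 12377))
 (.node (.leaf 4675)
 (.leaf 9564)))
 (.node (.node (.leaf 10590)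
 (.leaf 13838))
 (.node (.leaf 5509)
 (.leaf 12195)))))
 (.node (.node (.node (.node (.leaf 9210)
 (.leaf 8365))
 (.node (.leaf 4889)
 (.leaf 8746)))
 (.node (.node (.leaf 12170)
 (.leaf 1364))
 (.node (.leaf 3711)
 (.leaf 473))))
 (.node (.node (.node (.leaf 6232)
 (.leaf 10328))
 (.node (.leaf 2327)
 (.leaf 11245)))
 (.node (.node (.leaf 7568)
 (.leaf 8704))
 (.node (.leaf 38)
 (.leaf 11720))))))

def srtTB161 : RT := .node (.node (.node (.node (.node (.node (.leaf 11598)
 (.leaf 4270))
 (.node (.leaf 6698)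
 (.leaf 3523)))
 (.node (.node (.leaf 12306)
 (.leaf 2703))
 (.node (.leaf 14698)
 (.leaf 10141))))
 (.node (.node (.node (.leaf 6839)
 (.leaf 13519))
 (.node (.leaf 9924)
 (.leaf 4651)))
 (.node (.node (.leaf 12370)
 (.leaf 14125))
 (.node (.leaf 10202)
 (.leaf 2116)))))
 (.node (.node (.node (.node (.leaf 7086)
 (.leaf 13862))
 (.node (.leaf 10720)
 (.leaf 7720)))
 (.node (.node (.leaf 12280)
 (.leaf 11181))
 (.node (.leaf 676)
 (.leaf 13821))))
 (.node (.node (.node (.leaf 10361)
 (.leaf 1249))
 (.node (.leaf 11384)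
 (.leaf 1759)))
 (.node (.node (.leaf 6809)
 (.leaf 11582))
 (.node (.leaf 4793)
 (.leaf 14564))))))
 (.node (.node (.node (.node (.node (.leaf 10513)
 (.leaf 12505))
 (.node (.leaf 7457)
 (.leaf 3221)))
 (.node (.node (.leaf 14184)
 (.leaf 3740))
 (.node (.leaf 14540)
 (.leaf 14841))))
 (.node (.node (.node (.leaf 13102)
 (.leaf 2622))
 (.node (.leaf 4480)
 (.leaf 9610)))
 (.node (.node (.leaf 13356)
 (.leaf 3329))
 (.node (.leaf 14070)
 (.leaf 3409)))))
 (.node (.node (.node (.node (.leaf 9913)
 (.leaf 2534))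
 (.node (.leaf 4031)
 (.leaf 13865)))
 (.node (.node (.leaf 12706)
 (.leaf 6861))
 (.node (.leaf 10696)
 (.leaf 10963))))
 (.node (.node (.node (.leaf 9416)
 (.leaf 10080))
 (.node (.leaf 1962)
 (.leaf 13385)))
 (.node (.node (.leaf 4374)
 (.leaf 13668))
 (.node (.leaf 1947)
 (.leaf 14499))))))

def srtTB162 : RT := .node (.node (.node (.node (.node (.node (.leaf 369)
 (.leaf 12616))
 (.node (.leaf 3479)
 (.leaf 7261)))
 (.node (.node (.leaf 9554)
 (.leaf 14398))
 (.node (.leaf 12938)
 (.leaf 7850))))
 (.node (.node (.node (.leaf 6292)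
 (.leaf 8907))
 (.node (.leaf 761)
 (.leaf 5359)))
 (.node (.node (.leaf 7518)
 (.leaf 11293))
 (.node (.leaf 11933)
 (.leaf 12125)))))
 (.node (.node (.node (.node (.leaf 8954)
 (.leaf 4884))
 (.node (.leaf 9045)
 (.leaf 5471)))
 (.node (.node (.leaf 1394)
 (.leaf 9820))
 (.node (.leaf 12225)
 (.leaf 6743))))
 (.node (.node (.node (.leaf 1621)
 (.leaf 1173))
 (.node (.leaf 7847)
 (.leaf 8570)))
 (.node (.node (.leaf 9863)
 (.leaf 5772))
 (.node (.leaf 11573)
 (.leaf 4382))))))
 (.node (.node (.node (.node (.node (.leaf 5729)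
 (.leaf 7176))
 (.node (.leaf 11886)
 (.leaf 12568)))
 (.node (.node (.leaf 8827)
 (.leaf 4226))
 (.node (.leaf 3665)
 (.leaf 8543))))
 (.node (.node (.node (.leaf 89)
 (.leaf 8631))
 (.node (.leaf 1856)
 (.leaf 11523)))
 (.node (.node (.leaf 8558)
 (.leaf 3106))
 (.node (.leaf 11723)
 (.leaf 11849)))))
 (.node (.node (.node (.node (.leaf 1022)
 (.leaf 1390))
 (.node (.leaf 5152)
 (.leaf 2169)))
 (.node (.node (.leaf 5463)
 (.leaf 14294))
 (.node (.leaf 8175)
 (.leaf 5786))))
 (.node (.node (.node (.leaf 6769)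
 (.leaf 5659))
 (.node (.leaf 3133)
 (.leaf 7622)))
 (.node (.node (.leaf 2565)
 (.leaf 5273))
 (.node (.leaf 2976)
 (.leaf 14914))))))

def srtTB163 : RT := .node (.node (.node (.node (.node (.node (.leaf 6369)
 (.leaf 5048))
 (.node (.leaf 8234)
 (.leaf 6629)))
 (.node (.node (.leaf 12403)
 (.leaf 2360))
 (.node (.leaf 11003)
 (.leaf 6181))))
 (.node (.node (.node (.leaf 14478)
 (.leaf 3321))
 (.node (.leaf 10596)
 (.leaf 13916)))
 (.node (.node (.leaf 2672)
 (.leaf 7088))
 (.node (.leaf 7570)
 (.leaf 612)))))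
 (.node (.node (.node (.node (.leaf 14894)
 (.leaf 9617))
 (.node (.leaf 14126)
 (.leaf 81)))
 (.node (.node (.leaf 13234)
 (.leaf 3226))
 (.node (.leaf 12223)
 (.leaf 11175))))
 (.node (.node (.node (.leaf 4401)
 (.leaf 482))
 (.node (.leaf 6686)
 (.leaf 3779)))
 (.node (.node (.leaf 5058)
 (.leaf 12393))
 (.node (.leaf 8927)
 (.leaf 9392))))))
 (.node (.node (.node (.node (.node (.leaf 6230)
 (.leaf 11625))
 (.node (.leaf 11841)
 (.leaf 4063)))
 (.node (.node (.leaf 2325)
 (.leaf 9712))
 (.node (.leaf 5344)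
 (.leaf 2571))))
 (.node (.node (.node (.leaf 457)
 (.leaf 12146))
 (.node (.leaf 8856)
 (.leaf 5016)))
 (.node (.node (.leaf 14147)
 (.leaf 13538))
 (.node (.leaf 4375)
 (.leaf 8363)))))
 (.node (.node (.node (.node (.leaf 9979)
 (.leaf 6590))
 (.node (.leaf 501)
 (.leaf 2959)))
 (.node (.node (.leaf 1486)
 (.leaf 2171))
 (.node (.leaf 12243)
 (.leaf 9982))))
 (.node (.node (.node (.leaf 14301)
 (.leaf 13771))
 (.node (.leaf 12592)
 (.leaf 7194)))
 (.node (.node (.leaf 9815)
 (.leaf 10088))
 (.node (.leaf 7829)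
 (.leaf 14900))))))

def srtTB164 : RT := .node (.node (.node (.node (.node (.node (.leaf 13028)
 (.leaf 756))
 (.node (.leaf 8455)
 (.leaf 12021)))
 (.node (.node (.leaf 7339)
 (.leaf 10214))
 (.node (.leaf 5172)
 (.leaf 6577))))
 (.node (.node (.node (.leaf 4945)
 (.leaf 12949))
 (.node (.leaf 8453)
 (.leaf 8750)))
 (.node (.node (.leaf 4322)
 (.leaf 1908))
 (.node (.leaf 272)
 (.leaf 1537)))))
 (.node (.node (.node (.node (.leaf 10066)
 (.leaf 11612))
 (.node (.leaf 10191)
 (.leaf 509)))
 (.node (.node (.leaf 8686)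
 (.leaf 5615))
 (.node (.leaf 14006)
 (.leaf 10827))))
 (.node (.node (.node (.leaf 9428)
 (.leaf 10336))
 (.node (.leaf 3674)
 (.leaf 12890)))
 (.node (.node (.leaf 13262)
 (.leaf 3501))
 (.node (.leaf 102)
 (.leaf 7181))))))
 (.node (.node (.node (.node (.node (.leaf 3514)
 (.leaf 10769))
 (.node (.leaf 7529)
 (.leaf 13509)))
 (.node (.node (.leaf 12593)
 (.leaf 14882))
 (.node (.leaf 9857)
 (.leaf 6836))))
 (.node (.node (.node (.leaf 2173)
 (.leaf 9323))
 (.node (.leaf 14888)
 (.leaf 7990)))
 (.node (.node (.leaf 535)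
 (.leaf 10652))
 (.node (.leaf 9417)
 (.leaf 2241)))))
 (.node (.node (.node (.node (.leaf 13209)
 (.leaf 9953))
 (.node (.leaf 12426)
 (.leaf 6376)))
 (.node (.node (.leaf 14157)
 (.leaf 4062))
 (.node (.leaf 679)
 (.leaf 13380))))
 (.node (.node (.node (.leaf 14511)
 (.leaf 9386))
 (.node (.leaf 6817)
 (.leaf 3728)))
 (.node (.node (.leaf 2434)
 (.leaf 14861))
 (.node (.leaf 10514)
 (.leaf 1790))))))

def srtTB165 : RT := .node (.node (.node (.node (.node (.node (.leaf 7558)
 (.leaf 5470))
 (.node (.leaf 412)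
 (.leaf 4054)))
 (.node (.node (.leaf 9174)
 (.leaf 4029))
 (.node (.leaf 1189)
 (.leaf 10236))))
 (.node (.node (.node (.leaf 1639)
 (.leaf 12448))
 (.node (.leaf 9192)
 (.leaf 6675)))
 (.node (.node (.leaf 5438)
 (.leaf 10621))
 (.node (.leaf 4417)
 (.leaf 7532)))))
 (.node (.node (.node (.node (.leaf 12123)
 (.leaf 12197))
 (.node (.leaf 1349)
 (.leaf 889)))
 (.node (.node (.leaf 8903)
 (.leaf 11764))
 (.node (.leaf 4084)
 (.leaf 14878))))
 (.node (.node (.node (.leaf 8054)
 (.leaf 280))
 (.node (.leaf 12719)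
 (.leaf 90)))
 (.node (.node (.leaf 14013)
 (.leaf 6276))
 (.node (.leaf 9236)
 (.leaf 11118))))))
 (.node (.node (.node (.node (.node (.leaf 2665)
 (.leaf 9832))
 (.node (.leaf 9719)
 (.leaf 12830)))
 (.node (.node (.leaf 7170)
 (.leaf 3371))
 (.node (.leaf 14750)
 (.leaf 3411))))
 (.node (.node (.node (.leaf 13453)
 (.leaf 7597))
 (.node (.leaf 14196)
 (.leaf 860)))
 (.node (.node (.leaf 11910)
 (.leaf 1194))
 (.node (.leaf 5351)
 (.leaf 1388)))))
 (.node (.node (.node (.node (.leaf 3771)
 (.leaf 7624))
 (.node (.leaf 5542)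
 (.leaf 8695)))
 (.node (.node (.leaf 9748)
 (.leaf 6080))
 (.node (.leaf 11333)
 (.leaf 2590))))
 (.node (.node (.node (.leaf 11858)
 (.leaf 4761))
 (.node (.leaf 8765)
 (.leaf 8471)))
 (.node (.node (.leaf 7968)
 (.leaf 11640))
 (.node (.leaf 2400)
 (.leaf 4434))))))

def srtTB166 : RT := .node (.node (.node (.node (.node (.node (.leaf 13471)
 (.leaf 12681))
 (.node (.leaf 627)
 (.leaf 13001)))
 (.node (.node (.leaf 1787)
 (.leaf 9666))
 (.node (.leaf 8265)
 (.leaf 6295))))
 (.node (.node (.node (.leaf 9935)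
 (.leaf 13857))
 (.node (.leaf 8132)
 (.leaf 2232)))
 (.node (.node (.leaf 9655)
 (.leaf 716))
 (.node (.leaf 1740)
 (.leaf 11079)))))
 (.node (.node (.node (.node (.leaf 14434)
 (.leaf 12800))
 (.node (.leaf 10524)
 (.leaf 6561)))
 (.node (.node (.leaf 4150)
 (.leaf 10685))
 (.node (.leaf 1961)
 (.leaf 13421))))
 (.node (.node (.node (.leaf 9780)
 (.leaf 3804))
 (.node (.leaf 14825)
 (.leaf 11543)))
 (.node (.node (.leaf 386)
 (.leaf 14560))
 (.node (.leaf 13667)
 (.leaf 10035))))))
 (.node (.node (.node (.node (.node (.leaf 1418)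
 (.leaf 12563))
 (.node (.leaf 14080)
 (.leaf 7730)))
 (.node (.node (.leaf 2904)
 (.leaf 12872))
 (.node (.leaf 6250)
 (.leaf 11578))))
 (.node (.node (.node (.leaf 2776)
 (.leaf 10683))
 (.node (.leaf 9379)
 (.leaf 13572)))
 (.node (.node (.leaf 8362)
 (.leaf 6152))
 (.node (.leaf 9716)
 (.leaf 7578)))))
 (.node (.node (.node (.node (.leaf 13057)
 (.leaf 4396))
 (.node (.leaf 13928)
 (.leaf 2465)))
 (.node (.node (.leaf 994)
 (.leaf 7109))
 (.node (.leaf 2395)
 (.leaf 12386))))
 (.node (.node (.node (.leaf 621)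
 (.leaf 3431))
 (.node (.leaf 13886)
 (.leaf 14525)))
 (.node (.node (.leaf 12490)
 (.leaf 10324))
 (.node (.leaf 14318)
 (.leaf 12784))))))

def srtTB167 : RT := .node (.node (.node (.node (.node (.node (.leaf 10584)
 (.leaf 11199))
 (.node (.leaf 9803)
 (.leaf 1318)))
 (.node (.node (.leaf 13478)
 (.leaf 9921))
 (.node (.leaf 11151)
 (.leaf 3281))))
 (.node (.node (.node (.leaf 4037)
 (.leaf 4448))
 (.node (.leaf 8246)
 (.leaf 2492)))
 (.node (.node (.leaf 6345)
 (.leaf 2648))
 (.node (.leaf 14769)
 (.leaf 7235)))))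
 (.node (.node (.node (.node (.leaf 287)
 (.leaf 13138))
 (.node (.leaf 12768)
 (.leaf 11346)))
 (.node (.node (.leaf 11658)
 (.leaf 3169))
 (.node (.leaf 11894)
 (.leaf 6944))))
 (.node (.node (.node (.leaf 5860)
 (.leaf 10293))
 (.node (.leaf 10557)
 (.leaf 12712)))
 (.node (.node (.leaf 8717)
 (.leaf 6246))
 (.node (.leaf 4790)
 (.leaf 9659))))))
 (.node (.node (.node (.node (.node (.leaf 4545)
 (.leaf 5863))
 (.node (.leaf 6893)
 (.leaf 3778)))
 (.node (.node (.leaf 1599)
 (.leaf 931))
 (.node (.leaf 2415)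
 (.leaf 7141))))
 (.node (.node (.node (.leaf 11318)
 (.leaf 14395))
 (.node (.leaf 1764)
 (.leaf 10528)))
 (.node (.node (.leaf 2646)
 (.leaf 11388))
 (.node (.leaf 6787)
 (.leaf 561)))))
 (.node (.node (.node (.node (.leaf 13604)
 (.leaf 13786))
 (.node (.leaf 10009)
 (.leaf 3298)))
 (.node (.node (.leaf 13435)
 (.leaf 4089))
 (.node (.leaf 12962)
 (.leaf 6417))))
 (.node (.node (.node (.leaf 9797)
 (.leaf 10087))
 (.node (.leaf 13902)
 (.leaf 12423)))
 (.node (.node (.leaf 13323)
 (.leaf 7954))
 (.node (.leaf 11174)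
 (.leaf 1785))))))

def srtTB168 : RT := .node (.node (.node (.node (.node (.node (.leaf 13238)
 (.leaf 7094))
 (.node (.leaf 13899)
 (.leaf 11450)))
 (.node (.node (.leaf 4569)
 (.leaf 9769))
 (.node (.leaf 11216)
 (.leaf 1398))))
 (.node (.node (.node (.leaf 9230)
 (.leaf 14895))
 (.node (.leaf 8781)
 (.leaf 11647)))
 (.node (.node (.leaf 12930)
 (.leaf 4633))
 (.node (.leaf 10745)
 (.leaf 9191)))))
 (.node (.node (.node (.node (.leaf 6512)
 (.leaf 5657))
 (.node (.leaf 3510)
 (.leaf 11637)))
 (.node (.node (.leaf 11665)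
 (.leaf 3704))
 (.node (.leaf 8545)
 (.leaf 216))))
 (.node (.node (.node (.leaf 3025)
 (.leaf 8841))
 (.node (.leaf 194)
 (.leaf 517)))
 (.node (.node (.leaf 5495)
 (.leaf 5002))
 (.node (.leaf 8853)
 (.leaf 8713))))))
 (.node (.node (.node (.node (.node (.leaf 3638)
 (.leaf 10322))
 (.node (.leaf 813)
 (.leaf 4878)))
 (.node (.node (.leaf 9755)
 (.leaf 498))
 (.node (.leaf 12186)
 (.leaf 11336))))
 (.node (.node (.node (.leaf 814)
 (.leaf 6106))
 (.node (.leaf 2692)
 (.leaf 9190)))
 (.node (.node (.leaf 12150)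
 (.leaf 4524))
 (.node (.leaf 1739)
 (.leaf 5265)))))
 (.node (.node (.node (.node (.leaf 6643)
 (.leaf 5822))
 (.node (.leaf 14917)
 (.leaf 6179)))
 (.node (.node (.leaf 5261)
 (.leaf 5146))
 (.node (.leaf 3444)
 (.leaf 5345))))
 (.node (.node (.node (.leaf 14285)
 (.leaf 1992))
 (.node (.leaf 2740)
 (.leaf 6147)))
 (.node (.node (.leaf 7734)
 (.leaf 1912))
 (.node (.leaf 5134)
 (.leaf 1832))))))

def srtTB169 : RT := .node (.node (.node (.node (.node (.node (.leaf 5153)
 (.leaf 5842))
 (.node (.leaf 6630)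
 (.leaf 8336)))
 (.node (.node (.leaf 6214)
 (.leaf 7493))
 (.node (.leaf 6370)
 (.leaf 3433))))
 (.node (.node (.node (.leaf 5787)
 (.leaf 2636))
 (.node (.leaf 3010)
 (.leaf 14295)))
 (.node (.node (.leaf 5049)
 (.leaf 3081))
 (.node (.leaf 7096)
 (.leaf 2881)))))
 (.node (.node (.node (.node (.leaf 1231)
 (.leaf 5006))
 (.node (.leaf 11771)
 (.leaf 12050)))
 (.node (.node (.leaf 3309)
 (.leaf 6869))
 (.node (.leaf 8614)
 (.leaf 2598))))
 (.node (.node (.node (.leaf 9758)
 (.leaf 5384))
 (.node (.leaf 5483)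
 (.leaf 4537)))
 (.node (.node (.leaf 12204)
 (.leaf 2248))
 (.node (.leaf 11349)
 (.leaf 11855))))))
 (.node (.node (.node (.node (.node (.leaf 3992)
 (.leaf 370))
 (.node (.leaf 8500)
 (.leaf 8177)))
 (.node (.node (.leaf 1766)
 (.leaf 12284))
 (.node (.leaf 14483)
 (.leaf 1343))))
 (.node (.node (.node (.leaf 1698)
 (.leaf 9940))
 (.node (.leaf 14890)
 (.leaf 2236)))
 (.node (.node (.leaf 10906)
 (.leaf 13881))
 (.node (.leaf 9332)
 (.leaf 293)))))
 (.node (.node (.node (.node (.leaf 13014)
 (.leaf 625))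
 (.node (.leaf 9822)
 (.leaf 13461)))
 (.node (.node (.leaf 4053)
 (.leaf 1))
 (.node (.leaf 4334)
 (.leaf 9131))))
 (.node (.node (.node (.leaf 1023)
 (.leaf 5775))
 (.node (.leaf 11904)
 (.leaf 12906)))
 (.node (.node (.leaf 11818)
 (.leaf 11993))
 (.node (.leaf 2971)
 (.leaf 9079))))))

def srtTB170 : RT := .node (.node (.node (.node (.node (.node (.leaf 9008)
 (.leaf 8552))
 (.node (.leaf 10945)
 (.leaf 4989)))
 (.node (.node (.leaf 4329)
 (.leaf 8083))
 (.node (.leaf 7415)
 (.leaf 12814))))
 (.node (.node (.node (.leaf 3184)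
 (.leaf 13175))
 (.node (.leaf 9472)
 (.leaf 10686)))
 (.node (.node (.leaf 3455)
 (.leaf 647))
 (.node (.leaf 4032)
 (.leaf 13568)))))
 (.node (.node (.node (.node (.leaf 53)
 (.leaf 10659))
 (.node (.leaf 14807)
 (.leaf 3335)))
 (.node (.node (.leaf 14466)
 (.leaf 13692))
 (.node (.leaf 3760)
 (.leaf 13984))))
 (.node (.node (.node (.leaf 3410)
 (.leaf 10323))
 (.node (.leaf 7843)
 (.leaf 10351)))
 (.node (.node (.leaf 10181)
 (.leaf 2353))
 (.node (.leaf 6797)
 (.leaf 6636))))))
 (.node (.node (.node (.node (.node (.leaf 11300)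
 (.leaf 14641))
 (.node (.leaf 4764)
 (.leaf 2449)))
 (.node (.node (.leaf 14548)
 (.leaf 2638))
 (.node (.leaf 10599)
 (.leaf 13846))))
 (.node (.node (.node (.leaf 14074)
 (.leaf 4001))
 (.node (.leaf 2649)
 (.leaf 1082)))
 (.node (.node (.leaf 8484)
 (.leaf 5694))
 (.node (.leaf 4308)
 (.leaf 8402)))))
 (.node (.node (.node (.node (.leaf 12889)
 (.leaf 2122))
 (.node (.leaf 92)
 (.leaf 6598)))
 (.node (.node (.leaf 7136)
 (.leaf 11643))
 (.node (.leaf 10864)
 (.leaf 4833))))
 (.node (.node (.node (.leaf 2921)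
 (.leaf 11676))
 (.node (.leaf 1422)
 (.leaf 5707)))
 (.node (.node (.leaf 3834)
 (.leaf 10158))
 (.node (.leaf 10132)
 (.leaf 8990))))))

def srtTB171 : RT := .node (.node (.node (.node (.node (.node (.leaf 5705)
 (.leaf 7154))
 (.node (.leaf 12049)
 (.leaf 247)))
 (.node (.node (.leaf 8022)
 (.leaf 8742))
 (.node (.leaf 9859)
 (.leaf 2755))))
 (.node (.node (.node (.leaf 8537)
 (.leaf 11632))
 (.node (.leaf 11950)
 (.leaf 9145)))
 (.node (.node (.leaf 12602)
 (.leaf 4216))
 (.node (.leaf 2017)
 (.leaf 1447)))))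
 (.node (.node (.node (.node (.leaf 4235)
 (.leaf 11145))
 (.node (.leaf 12667)
 (.leaf 13671)))
 (.node (.node (.leaf 3513)
 (.leaf 932))
 (.node (.leaf 1976)
 (.leaf 6007))))
 (.node (.node (.node (.leaf 14302)
 (.leaf 464))
 (.node (.leaf 10741)
 (.leaf 11182)))
 (.node (.node (.leaf 13678)
 (.leaf 13308))
 (.node (.leaf 2235)
 (.leaf 13452))))))
 (.node (.node (.node (.node (.node (.leaf 13787)
 (.leaf 8272))
 (.node (.leaf 599)
 (.leaf 14542)))
 (.node (.node (.leaf 1118)
 (.leaf 14397))
 (.node (.leaf 1342)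
 (.leaf 8268))))
 (.node (.node (.node (.leaf 13997)
 (.leaf 13133))
 (.node (.leaf 7085)
 (.leaf 12226)))
 (.node (.node (.leaf 11006)
 (.leaf 3777))
 (.node (.leaf 11329)
 (.leaf 9217)))))
 (.node (.node (.node (.node (.leaf 11663)
 (.leaf 5218))
 (.node (.leaf 6163)
 (.leaf 8732)))
 (.node (.node (.leaf 8529)
 (.leaf 1021))
 (.node (.leaf 8043)
 (.leaf 8831))))
 (.node (.node (.node (.leaf 5665)
 (.leaf 3706))
 (.node (.leaf 12120)
 (.leaf 3868)))
 (.node (.node (.leaf 6396)
 (.leaf 9923))
 (.node (.leaf 8600)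
 (.leaf 12598))))))

def srtTB172 : RT := .node (.node (.node (.node (.node (.node (.leaf 11422)
 (.leaf 13559))
 (.node (.leaf 2612)
 (.leaf 12982)))
 (.node (.node (.leaf 3766)
 (.leaf 11063))
 (.node (.leaf 9757)
 (.leaf 14571))))
 (.node (.node (.node (.leaf 7743)
 (.leaf 6124))
 (.node (.leaf 13664)
 (.leaf 13230)))
 (.node (.node (.leaf 1711)
 (.leaf 11406))
 (.node (.leaf 11445)
 (.leaf 4771)))))
 (.node (.node (.node (.node (.leaf 6460)
 (.leaf 256))
 (.node (.leaf 585)
 (.leaf 12783)))
 (.node (.node (.leaf 10289)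
 (.leaf 4457))
 (.node (.leaf 14527)
 (.leaf 9801))))
 (.node (.node (.node (.leaf 11242)
 (.leaf 2597))
 (.node (.leaf 1092)
 (.leaf 12843)))
 (.node (.node (.leaf 7595)
 (.leaf 14316))
 (.node (.leaf 9919)
 (.leaf 13845))))))
 (.node (.node (.node (.node (.node (.leaf 2407)
 (.leaf 11275))
 (.node (.leaf 2336)
 (.leaf 4026)))
 (.node (.node (.leaf 1047)
 (.leaf 11514))
 (.node (.leaf 14187)
 (.leaf 381))))
 (.node (.node (.node (.leaf 864)
 (.leaf 12558))
 (.node (.leaf 10412)
 (.leaf 1530)))
 (.node (.node (.leaf 6952)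
 (.leaf 12202))
 (.node (.leaf 10975)
 (.leaf 4298)))))
 (.node (.node (.node (.node (.leaf 9691)
 (.leaf 8009))
 (.node (.leaf 7989)
 (.leaf 14530)))
 (.node (.node (.leaf 3913)
 (.leaf 1994))
 (.node (.leaf 9891)
 (.leaf 10796))))
 (.node (.node (.node (.leaf 6119)
 (.leaf 3664))
 (.node (.leaf 2800)
 (.leaf 13813)))
 (.node (.node (.leaf 13204)
 (.leaf 10624))
 (.node (.leaf 10866)
 (.leaf 7182))))))

def srtTB173 : RT := .node (.node (.node (.node (.node (.node (.leaf 12613)
 (.leaf 4672))
 (.node (.leaf 12956)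
 (.leaf 13419)))
 (.node (.node (.leaf 2839)
 (.leaf 7902))
 (.node (.leaf 10958)
 (.leaf 14621))))
 (.node (.node (.node (.leaf 1896)
 (.leaf 6815))
 (.node (.leaf 3189)
 (.leaf 14508)))
 (.node (.node (.leaf 4526)
 (.leaf 6160))
 (.node (.leaf 286)
 (.leaf 13202)))))
 (.node (.node (.node (.node (.leaf 1588)
 (.leaf 13949))
 (.node (.leaf 12809)
 (.leaf 12499)))
 (.node (.node (.leaf 6610)
 (.leaf 10477))
 (.node (.leaf 3333)
 (.leaf 9318))))
 (.node (.node (.node (.leaf 9936)
 (.leaf 4153))
 (.node (.leaf 14824)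
 (.leaf 14735)))
 (.node (.node (.leaf 7629)
 (.leaf 13245))
 (.node (.leaf 12886)
 (.leaf 7071))))))
 (.node (.node (.node (.node (.node (.leaf 13978)
 (.leaf 9260))
 (.node (.leaf 1547)
 (.leaf 3892)))
 (.node (.node (.leaf 7301)
 (.leaf 6911))
 (.node (.leaf 12512)
 (.leaf 13647))))
 (.node (.node (.node (.leaf 953)
 (.leaf 2184))
 (.node (.leaf 10205)
 (.leaf 9366)))
 (.node (.node (.leaf 3516)
 (.leaf 5126))
 (.node (.leaf 14939)
 (.leaf 5237)))))
 (.node (.node (.node (.node (.leaf 1643)
 (.leaf 6270))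
 (.node (.leaf 8208)
 (.leaf 6584)))
 (.node (.node (.leaf 14260)
 (.leaf 5177))
 (.node (.leaf 5567)
 (.leaf 7312))))
 (.node (.node (.node (.leaf 5317)
 (.leaf 1241))
 (.node (.leaf 5767)
 (.leaf 8206)))
 (.node (.node (.leaf 1563)
 (.leaf 3505))
 (.node (.leaf 6735)
 (.leaf 11932))))))

def srtTB174 : RT := .node (.node (.node (.node (.node (.node (.leaf 4164)
 (.leaf 7455))
 (.node (.leaf 8488)
 (.leaf 1426)))
 (.node (.node (.leaf 4837)
 (.leaf 5614))
 (.node (.leaf 9286)
 (.leaf 9442))))
 (.node (.node (.node (.leaf 12909)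
 (.leaf 1123))
 (.node (.leaf 3909)
 (.leaf 7360)))
 (.node (.node (.leaf 1079)
 (.leaf 8538))
 (.node (.leaf 11581)
 (.leaf 6002)))))
 (.node (.node (.node (.node (.leaf 1536)
 (.leaf 13326))
 (.node (.leaf 2372)
 (.leaf 692)))
 (.node (.node (.leaf 14524)
 (.leaf 9590))
 (.node (.leaf 7787)
 (.leaf 10543))))
 (.node (.node (.node (.leaf 7871)
 (.leaf 9812))
 (.node (.leaf 586)
 (.leaf 11556)))
 (.node (.node (.leaf 14366)
 (.leaf 12502))
 (.node (.leaf 4610)
 (.leaf 13110))))))
 (.node (.node (.node (.node (.node (.leaf 1334)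
 (.leaf 6615))
 (.node (.leaf 13726)
 (.leaf 2423)))
 (.node (.node (.leaf 4500)
 (.leaf 10180))
 (.node (.leaf 13578)
 (.leaf 717))))
 (.node (.node (.node (.leaf 14673)
 (.leaf 9892))
 (.node (.leaf 1757)
 (.leaf 8379)))
 (.node (.node (.leaf 628)
 (.leaf 12779))
 (.node (.leaf 9618)
 (.leaf 14021)))))
 (.node (.node (.node (.node (.leaf 9656)
 (.leaf 7978))
 (.node (.leaf 1750)
 (.leaf 4017)))
 (.node (.node (.leaf 13005)
 (.leaf 135))
 (.node (.leaf 8747)
 (.leaf 7904))))
 (.node (.node (.node (.leaf 4456)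
 (.leaf 5083))
 (.node (.leaf 9371)
 (.leaf 6233)))
 (.node (.node (.leaf 4039)
 (.leaf 11467))
 (.node (.leaf 12026)
 (.leaf 1365))))))

def srtTB175 : RT := .node (.node (.node (.node (.node (.node (.leaf 7864)
 (.leaf 1829))
 (.node (.leaf 894)
 (.leaf 4860)))
 (.node (.node (.leaf 13855)
 (.leaf 12313))
 (.node (.leaf 14842)
 (.leaf 6116))))
 (.node (.node (.node (.leaf 3114)
 (.leaf 898))
 (.node (.leaf 13596)
 (.leaf 3606)))
 (.node (.node (.leaf 9689)
 (.leaf 3558))
 (.node (.leaf 13249)
 (.leaf 11086)))))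
 (.node (.node (.node (.node (.leaf 6796)
 (.leaf 13768))
 (.node (.leaf 7754)
 (.leaf 2785)))
 (.node (.node (.leaf 2059)
 (.leaf 10825))
 (.node (.leaf 9419)
 (.leaf 9241))))
 (.node (.node (.node (.leaf 2348)
 (.leaf 2680))
 (.node (.leaf 10493)
 (.leaf 1819)))
 (.node (.node (.leaf 136)
 (.leaf 9049))
 (.node (.leaf 12299)
 (.leaf 3947))))))
 (.node (.node (.node (.node (.node (.leaf 3963)
 (.leaf 11881))
 (.node (.leaf 12040)
 (.leaf 51)))
 (.node (.node (.leaf 3765)
 (.leaf 7723))
 (.node (.leaf 740)
 (.leaf 12165))))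
 (.node (.node (.node (.leaf 5082)
 (.leaf 5077))
 (.node (.leaf 6751)
 (.leaf 8345)))
 (.node (.node (.leaf 8928)
 (.leaf 12449))
 (.node (.leaf 11430)
 (.leaf 8311)))))
 (.node (.node (.node (.node (.leaf 14336)
 (.leaf 278))
 (.node (.leaf 14704)
 (.leaf 8240)))
 (.node (.node (.leaf 1717)
 (.leaf 10670))
 (.node (.leaf 4136)
 (.leaf 13115))))
 (.node (.node (.node (.leaf 10957)
 (.leaf 4497))
 (.node (.leaf 13888)
 (.leaf 3175)))
 (.node (.node (.leaf 10210)
 (.leaf 2226))
 (.node (.leaf 6726)
 (.leaf 10403))))))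

def srtTB176 : RT := .node (.node (.node (.node (.node (.node (.leaf 12292)
 (.leaf 669))
 (.node (.leaf 13316)
 (.leaf 5400)))
 (.node (.node (.leaf 924)
 (.leaf 4406))
 (.node (.leaf 7536)
 (.leaf 8596))))
 (.node (.node (.node (.leaf 2531)
 (.leaf 9714))
 (.node (.leaf 4049)
 (.leaf 4567)))
 (.node (.node (.leaf 5874)
 (.leaf 8802))
 (.node (.leaf 12395)
 (.leaf 12092)))))
 (.node (.node (.node (.node (.leaf 6875)
 (.leaf 3420))
 (.node (.leaf 444)
 (.leaf 10497)))
 (.node (.node (.leaf 8337)
 (.leaf 1729))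
 (.node (.leaf 12289)
 (.leaf 14597))))
 (.node (.node (.node (.leaf 1815)
 (.leaf 7658))
 (.node (.leaf 11186)
 (.leaf 13570)))
 (.node (.node (.leaf 273)
 (.leaf 8195))
 (.node (.leaf 9350)
 (.leaf 4606))))))
 (.node (.node (.node (.node (.node (.leaf 13852)
 (.leaf 3324))
 (.node (.leaf 2279)
 (.leaf 209)))
 (.node (.node (.leaf 6858)
 (.leaf 10693))
 (.node (.leaf 10334)
 (.leaf 3727))))
 (.node (.node (.node (.leaf 5041)
 (.leaf 3718))
 (.node (.leaf 6781)
 (.leaf 12086)))
 (.node (.node (.leaf 3261)
 (.leaf 914))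
 (.node (.leaf 8956)
 (.leaf 10649)))))
 (.node (.node (.node (.node (.leaf 4045)
 (.leaf 8656))
 (.node (.leaf 11342)
 (.leaf 11942)))
 (.node (.node (.leaf 5819)
 (.leaf 3383))
 (.node (.leaf 132)
 (.leaf 12961))))
 (.node (.node (.node (.leaf 9669)
 (.leaf 4900))
 (.node (.leaf 3434)
 (.leaf 6231)))
 (.node (.node (.leaf 13353)
 (.leaf 12788))
 (.node (.leaf 12480)
 (.leaf 14802))))))

def srtTB177 : RT := .node (.node (.node (.node (.node (.node (.leaf 6775)
 (.leaf 4609))
 (.node (.leaf 13823)
 (.leaf 3730)))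
 (.node (.node (.leaf 10582)
 (.leaf 655))
 (.node (.leaf 13968)
 (.leaf 285))))
 (.node (.node (.node (.leaf 11162)
 (.leaf 13030))
 (.node (.leaf 6622)
 (.leaf 11224)))
 (.node (.node (.leaf 7233)
 (.leaf 11209))
 (.node (.leaf 2518)
 (.leaf 14830)))))
 (.node (.node (.node (.node (.leaf 12388)
 (.leaf 14581))
 (.node (.leaf 13583)
 (.leaf 7657)))
 (.node (.node (.leaf 2374)
 (.leaf 7821))
 (.node (.leaf 4411)
 (.leaf 13207))))
 (.node (.node (.node (.leaf 651)
 (.leaf 6136))
 (.node (.leaf 9814)
 (.leaf 9530)))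
 (.node (.node (.leaf 2558)
 (.leaf 2278))
 (.node (.leaf 12473)
 (.leaf 10005))))))
 (.node (.node (.node (.node (.node (.leaf 10545)
 (.leaf 4104))
 (.node (.leaf 6928)
 (.leaf 2358)))
 (.node (.node (.leaf 7204)
 (.leaf 5355))
 (.node (.leaf 14973)
 (.leaf 5861))))
 (.node (.node (.node (.leaf 5118)
 (.leaf 14201))
 (.node (.leaf 2683)
 (.leaf 6805)))
 (.node (.node (.leaf 5645)
 (.leaf 1373))
 (.node (.leaf 5974)
 (.leaf 5783)))))
 (.node (.node (.node (.node (.leaf 2183)
 (.leaf 6520))
 (.node (.leaf 5270)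
 (.leaf 3276)))
 (.node (.node (.leaf 2166)
 (.leaf 6330))
 (.node (.leaf 2217)
 (.leaf 7796))))
 (.node (.node (.node (.leaf 11018)
 (.leaf 2858))
 (.node (.leaf 5251)
 (.leaf 9109)))
 (.node (.node (.leaf 2191)
 (.leaf 8048))
 (.node (.leaf 10140)
 (.leaf 12360))))))

def srtTB178 : RT := .node (.node (.node (.node (.node (.node (.leaf 11697)
 (.leaf 8396))
 (.node (.leaf 10998)
 (.leaf 7271)))
 (.node (.node (.leaf 1533)
 (.leaf 5257))
 (.node (.leaf 1080)
 (.leaf 5315))))
 (.node (.node (.node (.leaf 7)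
 (.leaf 11917))
 (.node (.leaf 11980)
 (.leaf 13514)))
 (.node (.node (.leaf 6034)
 (.leaf 797))
 (.node (.leaf 3618)
 (.leaf 12550)))))
 (.node (.node (.node (.node (.leaf 11520)
 (.leaf 3020))
 (.node (.leaf 421)
 (.leaf 12878)))
 (.node (.node (.leaf 14781)
 (.leaf 9509))
 (.node (.leaf 13674)
 (.leaf 4311))))
 (.node (.node (.node (.leaf 3026)
 (.leaf 10437))
 (.node (.leaf 11452)
 (.leaf 13636)))
 (.node (.node (.leaf 7830)
 (.leaf 9962))
 (.node (.leaf 3130)
 (.leaf 2803))))))
 (.node (.node (.node (.node (.node (.leaf 6259)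
 (.leaf 6137))
 (.node (.leaf 5642)
 (.leaf 8554)))
 (.node (.node (.leaf 11899)
 (.leaf 11050))
 (.node (.leaf 9082)
 (.leaf 3908))))
 (.node (.node (.node (.leaf 8215)
 (.leaf 3548))
 (.node (.leaf 1520)
 (.leaf 4671)))
 (.node (.node (.leaf 12535)
 (.leaf 4361))
 (.node (.leaf 2783)
 (.leaf 11679)))))
 (.node (.node (.node (.node (.leaf 6134)
 (.leaf 8725))
 (.node (.leaf 289)
 (.leaf 11614)))
 (.node (.node (.leaf 10931)
 (.leaf 11500))
 (.node (.leaf 690)
 (.leaf 8934))))
 (.node (.node (.node (.leaf 695)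
 (.leaf 2557))
 (.node (.leaf 8358)
 (.leaf 2047)))
 (.node (.node (.leaf 5732)
 (.leaf 8289))
 (.node (.leaf 14287)
 (.leaf 14922))))))

def srtTB179 : RT := .node (.node (.node (.node (.node (.node (.leaf 3469)
 (.leaf 6593))
 (.node (.leaf 5821)
 (.leaf 6414)))
 (.node (.node (.leaf 1795)
 (.leaf 5690))
 (.node (.leaf 4923)
 (.leaf 1542))))
 (.node (.node (.node (.leaf 7691)
 (.leaf 7160))
 (.node (.leaf 3375)
 (.leaf 1661)))
 (.node (.node (.leaf 8968)
 (.leaf 11588))
 (.node (.leaf 4777)
 (.leaf 11782)))))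
 (.node (.node (.node (.node (.leaf 9354)
 (.leaf 9061))
 (.node (.leaf 4407)
 (.leaf 8674)))
 (.node (.node (.leaf 9043)
 (.leaf 1723))
 (.node (.leaf 108)
 (.leaf 11880))))
 (.node (.node (.node (.leaf 12479)
 (.leaf 748))
 (.node (.leaf 6311)
 (.leaf 962)))
 (.node (.node (.leaf 3017)
 (.leaf 6510))
 (.node (.leaf 9549)
 (.leaf 13791))))))
 (.node (.node (.node (.node (.node (.leaf 2188)
 (.leaf 3537))
 (.node (.leaf 12858)
 (.leaf 14709)))
 (.node (.node (.leaf 3694)
 (.leaf 745))
 (.node (.leaf 6709)
 (.leaf 12515))))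
 (.node (.node (.node (.leaf 9373)
 (.leaf 13598))
 (.node (.leaf 11038)
 (.leaf 9216)))
 (.node (.node (.leaf 13260)
 (.leaf 14685))
 (.node (.leaf 1951)
 (.leaf 5147)))))
 (.node (.node (.node (.node (.leaf 14261)
 (.leaf 3534))
 (.node (.leaf 2413)
 (.leaf 5001)))
 (.node (.node (.leaf 8193)
 (.leaf 2956))
 (.node (.leaf 7936)
 (.leaf 5046))))
 (.node (.node (.node (.leaf 7340)
 (.leaf 5071))
 (.node (.leaf 4815)
 (.leaf 2608)))
 (.node (.node (.leaf 3135)
 (.leaf 2198))
 (.node (.leaf 7431)
 (.leaf 2524))))))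

def srtTB180 : RT := .node (.node (.node (.node (.node (.node (.leaf 1612)
 (.leaf 14915))
 (.node (.leaf 7911)
 (.leaf 1397)))
 (.node (.node (.leaf 14161)
 (.leaf 7933))
 (.node (.leaf 13217)
 (.leaf 1209))))
 (.node (.node (.node (.leaf 1052)
 (.leaf 12477))
 (.node (.leaf 7365)
 (.leaf 3750)))
 (.node (.node (.leaf 3981)
 (.leaf 11410))
 (.node (.leaf 3387)
 (.leaf 10620)))))
 (.node (.node (.node (.node (.leaf 9856)
 (.leaf 14529))
 (.node (.leaf 1663)
 (.leaf 14450)))
 (.node (.node (.leaf 7967)
 (.leaf 13364))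
 (.node (.leaf 11215)
 (.leaf 12432))))
 (.node (.node (.node (.leaf 12401)
 (.leaf 11449))
 (.node (.leaf 13934)
 (.leaf 9597)))
 (.node (.node (.leaf 11444)
 (.leaf 11290))
 (.node (.leaf 632)
 (.leaf 6215))))))
 (.node (.node (.node (.node (.node (.leaf 13229)
 (.leaf 1710))
 (.node (.leaf 13585)
 (.leaf 14385)))
 (.node (.node (.leaf 7692)
 (.leaf 2611))
 (.node (.leaf 10022)
 (.leaf 4530))))
 (.node (.node (.node (.leaf 182)
 (.leaf 6123))
 (.node (.leaf 2328)
 (.leaf 12703)))
 (.node (.node (.leaf 10587)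
 (.leaf 12766))
 (.node (.leaf 9786)
 (.leaf 14138)))))
 (.node (.node (.node (.node (.leaf 13151)
 (.leaf 3957))
 (.node (.leaf 2520)
 (.leaf 1028)))
 (.node (.node (.leaf 11315)
 (.leaf 6449))
 (.node (.leaf 11354)
 (.leaf 1367))))
 (.node (.node (.node (.leaf 12714)
 (.leaf 1014))
 (.node (.leaf 14442)
 (.leaf 7698)))
 (.node (.node (.leaf 4438)
 (.leaf 9524))
 (.node (.leaf 2579)
 (.leaf 5675))))))

def srtTB181 : RT := .node (.node (.node (.node (.node (.node (.leaf 5185)
 (.leaf 3037))
 (.node (.leaf 1446)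
 (.leaf 2807)))
 (.node (.node (.leaf 712)
 (.leaf 996))
 (.node (.leaf 11822)
 (.leaf 10045))))
 (.node (.node (.node (.leaf 8835)
 (.leaf 12880))
 (.node (.leaf 12098)
 (.leaf 3863)))
 (.node (.node (.leaf 5573)
 (.leaf 7305))
 (.node (.leaf 8140)
 (.leaf 11973)))))
 (.node (.node (.node (.node (.leaf 8583)
 (.leaf 8757))
 (.node (.leaf 7049)
 (.leaf 11476)))
 (.node (.node (.leaf 2097)
 (.leaf 11962))
 (.node (.leaf 7260)
 (.leaf 9063))))
 (.node (.node (.node (.leaf 8516)
 (.leaf 1428))
 (.node (.leaf 9930)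
 (.leaf 1127)))
 (.node (.node (.leaf 4841)
 (.leaf 10883))
 (.node (.leaf 12897)
 (.leaf 3871))))))
 (.node (.node (.node (.node (.node (.leaf 5243)
 (.leaf 12017))
 (.node (.leaf 1102)
 (.leaf 96)))
 (.node (.node (.leaf 7287)
 (.leaf 6229))
 (.node (.leaf 2050)
 (.leaf 3626))))
 (.node (.node (.node (.leaf 14475)
 (.leaf 13128))
 (.node (.leaf 317)
 (.leaf 13657)))
 (.node (.node (.leaf 6389)
 (.leaf 10222))
 (.node (.leaf 9225)
 (.leaf 13718)))))
 (.node (.node (.node (.node (.leaf 9248)
 (.leaf 9569))
 (.node (.leaf 885)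
 (.leaf 2964)))
 (.node (.node (.leaf 11579)
 (.leaf 7514))
 (.node (.leaf 10304)
 (.leaf 6623))))
 (.node (.node (.node (.leaf 3353)
 (.leaf 12795))
 (.node (.leaf 6723)
 (.leaf 10597)))
 (.node (.node (.leaf 7191)
 (.leaf 14534))
 (.node (.leaf 3260)
 (.leaf 10240))))))

def srtTB182 : RT := .node (.node (.node (.node (.node (.node (.leaf 14876)
 (.leaf 3768))
 (.node (.leaf 12979)
 (.leaf 13776)))
 (.node (.node (.leaf 2244)
 (.leaf 11210))
 (.node (.leaf 88)
 (.leaf 13866))))
 (.node (.node (.node (.leaf 77)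
 (.leaf 8408))
 (.node (.leaf 4720)
 (.leaf 9448)))
 (.node (.node (.leaf 11681)
 (.leaf 11780))
 (.node (.leaf 4809)
 (.leaf 3899)))))
 (.node (.node (.node (.node (.leaf 6379)
 (.leaf 5749))
 (.node (.leaf 735)
 (.leaf 12659)))
 (.node (.node (.leaf 11512)
 (.leaf 11746))
 (.node (.leaf 7350)
 (.leaf 8424))))
 (.node (.node (.node (.leaf 8869)
 (.leaf 1744))
 (.node (.leaf 5971)
 (.leaf 5695)))
 (.node (.node (.leaf 1296)
 (.leaf 14255))
 (.node (.leaf 6301)
 (.leaf 7426))))))
 (.node (.node (.node (.node (.node (.leaf 3253)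
 (.leaf 5696))
 (.node (.leaf 14974)
 (.leaf 6122)))
 (.node (.node (.leaf 1871)
 (.leaf 5799))
 (.node (.leaf 6903)
 (.leaf 7840))))
 (.node (.node (.node (.leaf 1483)
 (.leaf 8016))
 (.node (.leaf 5845)
 (.leaf 5551)))
 (.node (.node (.leaf 5090)
 (.leaf 2984))
 (.node (.leaf 13344)
 (.leaf 13820)))))
 (.node (.node (.node (.node (.leaf 10027)
 (.leaf 10056))
 (.node (.leaf 7267)
 (.leaf 9964)))
 (.node (.node (.leaf 933)
 (.leaf 11427))
 (.node (.leaf 2883)
 (.leaf 6085))))
 (.node (.node (.node (.leaf 4701)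
 (.leaf 4693))
 (.node (.leaf 162)
 (.leaf 11255)))
 (.node (.node (.leaf 12628)
 (.leaf 9262))
 (.node (.leaf 12943)
 (.leaf 6483))))))

def srtTB183 : RT := .node (.node (.node (.node (.node (.node (.leaf 14646)
 (.leaf 13141))
 (.node (.leaf 6992)
 (.leaf 6878)))
 (.node (.node (.leaf 6328)
 (.leaf 8701))
 (.node (.leaf 5916)
 (.leaf 5000))))
 (.node (.node (.node (.leaf 11754)
 (.leaf 505))
 (.node (.leaf 9396)
 (.leaf 5330)))
 (.node (.node (.leaf 465)
 (.leaf 11691))
 (.node (.leaf 10420)
 (.leaf 8825)))))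
 (.node (.node (.node (.node (.leaf 6757)
 (.leaf 12959))
 (.node (.leaf 11258)
 (.leaf 8486)))
 (.node (.node (.leaf 4076)
 (.leaf 8155))
 (.node (.leaf 4326)
 (.leaf 919))))
 (.node (.node (.node (.leaf 6028)
 (.leaf 10230))
 (.node (.leaf 12864)
 (.leaf 10808)))
 (.node (.node (.leaf 13303)
 (.leaf 758))
 (.node (.leaf 4195)
 (.leaf 14309))))))
 (.node (.node (.node (.node (.node (.leaf 8095)
 (.leaf 13830))
 (.node (.leaf 10409)
 (.leaf 2726)))
 (.node (.node (.leaf 2165)
 (.leaf 9441))
 (.node (.leaf 13762)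
 (.leaf 6382))))
 (.node (.node (.node (.leaf 901)
 (.leaf 9237))
 (.node (.leaf 3623)
 (.leaf 14741)))
 (.node (.node (.leaf 3887)
 (.leaf 12579))
 (.node (.leaf 12896)
 (.leaf 13283)))))
 (.node (.node (.node (.node (.leaf 2730)
 (.leaf 10964))
 (.node (.leaf 2812)
 (.leaf 137)))
 (.node (.node (.leaf 14566)
 (.leaf 3511))
 (.node (.leaf 9884)
 (.leaf 7058))))
 (.node (.node (.node (.leaf 3826)
 (.leaf 11635))
 (.node (.leaf 9015)
 (.leaf 8442)))
 (.node (.node (.leaf 8821)
 (.leaf 5164))
 (.node (.leaf 11986)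
 (.leaf 10971))))))

def srtTB184 : RT := .node (.node (.node (.node (.node (.node (.leaf 4688)
 (.leaf 11715))
 (.node (.leaf 3617)
 (.leaf 10135)))
 (.node (.node (.leaf 8165)
 (.leaf 25))
 (.node (.leaf 11000)
 (.leaf 248))))
 (.node (.node (.node (.leaf 12928)
 (.leaf 719))
 (.node (.leaf 5246)
 (.leaf 11837)))
 (.node (.node (.leaf 12121)
 (.leaf 870))
 (.node (.leaf 8937)
 (.leaf 4410)))))
 (.node (.node (.node (.node (.leaf 3346)
 (.leaf 1725))
 (.node (.leaf 12700)
 (.leaf 3743)))
 (.node (.node (.leaf 5808)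
 (.leaf 9622))
 (.node (.leaf 6838)
 (.leaf 9357))))
 (.node (.node (.node (.leaf 3230)
 (.leaf 6919))
 (.node (.leaf 4115)
 (.leaf 9084)))
 (.node (.node (.leaf 12580)
 (.leaf 3888))
 (.node (.leaf 6198)
 (.leaf 2986))))))
 (.node (.node (.node (.node (.node (.leaf 14694)
 (.leaf 10731))
 (.node (.leaf 9658)
 (.leaf 10498)))
 (.node (.node (.leaf 11495)
 (.leaf 11544))
 (.node (.leaf 101)
 (.leaf 33))))
 (.node (.node (.node (.leaf 7956)
 (.leaf 1850))
 (.node (.leaf 2832)
 (.leaf 2813)))
 (.node (.node (.leaf 7712)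
 (.leaf 10960))
 (.node (.leaf 13018)
 (.leaf 13870)))))
 (.node (.node (.node (.node (.leaf 14729)
 (.leaf 6541))
 (.node (.leaf 8050)
 (.leaf 9400)))
 (.node (.node (.leaf 10095)
 (.leaf 9825))
 (.node (.leaf 4101)
 (.leaf 2438))))
 (.node (.node (.node (.leaf 6835)
 (.leaf 13465))
 (.node (.leaf 12478)
 (.leaf 14725)))
 (.node (.node (.leaf 12387)
 (.leaf 3404))
 (.node (.leaf 10366)
 (.leaf 10116))))))

def srtTB185 : RT := .node (.node (.node (.node (.node (.node (.leaf 4458)
 (.leaf 2696))
 (.node (.leaf 702)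
 (.leaf 13737)))
 (.node (.node (.leaf 8773)
 (.leaf 4119))
 (.node (.leaf 6103)
 (.leaf 7680))))
 (.node (.node (.node (.leaf 112)
 (.leaf 372))
 (.node (.leaf 9584)
 (.leaf 5903)))
 (.node (.node (.leaf 7006)
 (.leaf 8485))
 (.node (.leaf 5089)
 (.leaf 11918)))))
 (.node (.node (.node (.node (.leaf 11773)
 (.leaf 339))
 (.node (.leaf 2259)
 (.leaf 4067)))
 (.node (.node (.leaf 12744)
 (.leaf 8430))
 (.node (.leaf 14813)
 (.leaf 7416))))
 (.node (.node (.node (.leaf 13324)
 (.leaf 12424))
 (.node (.leaf 6993)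
 (.leaf 1786)))
 (.node (.node (.leaf 7095)
 (.leaf 10471))
 (.node (.leaf 1671)
 (.leaf 4570))))))
 (.node (.node (.node (.node (.node (.leaf 14346)
 (.leaf 1068))
 (.node (.leaf 10932)
 (.leaf 13903)))
 (.node (.node (.leaf 1232)
 (.leaf 189))
 (.node (.leaf 11465)
 (.leaf 10350))))
 (.node (.node (.node (.leaf 9562)
 (.leaf 13942))
 (.node (.leaf 5012)
 (.leaf 9693)))
 (.node (.node (.leaf 5908)
 (.leaf 4905))
 (.node (.leaf 8419)
 (.leaf 12096)))))
 (.node (.node (.node (.node (.leaf 8278)
 (.leaf 7854))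
 (.node (.leaf 11610)
 (.leaf 35)))
 (.node (.node (.leaf 1641)
 (.leaf 8585))
 (.node (.leaf 12464)
 (.leaf 3649))))
 (.node (.node (.node (.leaf 8703)
 (.leaf 502))
 (.node (.leaf 4533)
 (.leaf 11766)))
 (.node (.node (.leaf 10225)
 (.leaf 8947))
 (.node (.leaf 2299)
 (.leaf 1564))))))

def srtTB186 : RT := .node (.node (.node (.node (.node (.node (.leaf 12322)
 (.leaf 9351))
 (.node (.leaf 10105)
 (.leaf 1221)))
 (.node (.node (.leaf 9723)
 (.leaf 14767))
 (.node (.leaf 7547)
 (.leaf 7964))))
 (.node (.node (.node (.leaf 12521)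
 (.leaf 892))
 (.node (.leaf 2125)
 (.leaf 13124)))
 (.node (.node (.leaf 9993)
 (.leaf 3067))
 (.node (.leaf 3701)
 (.leaf 6272)))))
 (.node (.node (.node (.node (.leaf 11434)
 (.leaf 6845))
 (.node (.leaf 4564)
 (.leaf 9033)))
 (.node (.node (.leaf 1805)
 (.leaf 5018))
 (.node (.leaf 7668)
 (.leaf 820))))
 (.node (.node (.node (.leaf 4576)
 (.leaf 8427))
 (.node (.leaf 5878)
 (.leaf 12817)))
 (.node (.node (.leaf 468)
 (.leaf 8832))
 (.node (.leaf 2637)
 (.leaf 11896))))))
 (.node (.node (.node (.node (.node (.leaf 2555)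
 (.leaf 1210))
 (.node (.leaf 10326)
 (.leaf 14181)))
 (.node (.node (.leaf 658)
 (.leaf 10090))
 (.node (.leaf 6154)
 (.leaf 11498))))
 (.node (.node (.node (.leaf 4125)
 (.leaf 14451))
 (.node (.leaf 4504)
 (.leaf 13282)))
 (.node (.node (.leaf 11254)
 (.leaf 13581))
 (.node (.leaf 9381)
 (.leaf 2397)))))
 (.node (.node (.node (.node (.leaf 998)
 (.leaf 6323))
 (.node (.leaf 14637)
 (.leaf 4373)))
 (.node (.node (.leaf 12572)
 (.leaf 3630))
 (.node (.leaf 8532)
 (.leaf 2773))))
 (.node (.node (.node (.leaf 5193)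
 (.leaf 12135))
 (.node (.leaf 590)
 (.leaf 6545)))
 (.node (.node (.leaf 8785)
 (.leaf 11808))
 (.node (.leaf 9433)
 (.leaf 2056))))))

def srtTB187 : RT := .node (.node (.node (.node (.node (.node (.leaf 9423)
 (.leaf 3678))
 (.node (.leaf 8511)
 (.leaf 7357)))
 (.node (.node (.leaf 1895)
 (.leaf 5770))
 (.node (.leaf 4927)
 (.leaf 665))))
 (.node (.node (.node (.leaf 9877)
 (.leaf 9785))
 (.node (.leaf 13920)
 (.leaf 10382)))
 (.node (.node (.leaf 6296)
 (.leaf 2349))
 (.node (.leaf 2644)
 (.leaf 2578)))))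
 (.node (.node (.node (.node (.leaf 14160)
 (.leaf 1119))
 (.node (.leaf 10622)
 (.leaf 3270)))
 (.node (.node (.leaf 9855)
 (.leaf 7364))
 (.node (.leaf 14747)
 (.leaf 13150))))
 (.node (.node (.node (.leaf 11417)
 (.leaf 12263))
 (.node (.leaf 14570)
 (.leaf 7896)))
 (.node (.node (.leaf 4405)
 (.leaf 12960))
 (.node (.leaf 13819)
 (.leaf 7101))))))
 (.node (.node (.node (.node (.node (.leaf 10795)
 (.leaf 14034))
 (.node (.leaf 2626)
 (.leaf 4511)))
 (.node (.node (.leaf 2250)
 (.leaf 1604))
 (.node (.leaf 14320)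
 (.leaf 4109))))
 (.node (.node (.node (.leaf 11459)
 (.leaf 11272))
 (.node (.leaf 14742)
 (.leaf 2460)))
 (.node (.node (.leaf 13131)
 (.leaf 6334))
 (.node (.leaf 7594)
 (.leaf 10512)))))
 (.node (.node (.node (.node (.leaf 554)
 (.leaf 12680))
 (.node (.leaf 1150)
 (.leaf 9525)))
 (.node (.node (.leaf 1842)
 (.leaf 9624))
 (.node (.leaf 12514)
 (.leaf 14647))))
 (.node (.node (.node (.leaf 13684)
 (.leaf 6281))
 (.node (.leaf 4615)
 (.leaf 11399)))
 (.node (.node (.leaf 13098)
 (.leaf 3038))
 (.node (.leaf 12252)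
 (.leaf 343))))))

def srtTB188 : RT := .node (.node (.node (.node (.node (.node (.leaf 14603)
 (.leaf 3857))
 (.node (.leaf 7974)
 (.leaf 2994)))
 (.node (.node (.leaf 2872)
 (.leaf 10826))
 (.node (.leaf 11158)
 (.leaf 13397))))
 (.node (.node (.node (.leaf 1867)
 (.leaf 3044))
 (.node (.leaf 6104)
 (.leaf 14626)))
 (.node (.node (.leaf 13849)
 (.leaf 9418))
 (.node (.leaf 12600)
 (.leaf 7262)))))
 (.node (.node (.node (.node (.leaf 11026)
 (.leaf 6294))
 (.node (.leaf 10375)
 (.leaf 13068)))
 (.node (.node (.leaf 4696)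
 (.leaf 14338))
 (.node (.leaf 155)
 (.leaf 14082))))
 (.node (.node (.node (.leaf 2910)
 (.leaf 10918))
 (.node (.leaf 4306)
 (.leaf 7429)))
 (.node (.node (.leaf 12664)
 (.leaf 1907))
 (.node (.leaf 12508)
 (.leaf 9898))))))
 (.node (.node (.node (.node (.node (.leaf 11484)
 (.leaf 6377))
 (.node (.leaf 14095)
 (.leaf 14763)))
 (.node (.node (.leaf 10053)
 (.leaf 804))
 (.node (.leaf 11353)
 (.leaf 12582))))
 (.node (.node (.node (.leaf 7550)
 (.leaf 7604))
 (.node (.leaf 14562)
 (.leaf 10311)))
 (.node (.node (.leaf 13553)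
 (.leaf 6402))
 (.node (.leaf 3509)
 (.leaf 3816)))))
 (.node (.node (.node (.node (.leaf 4324)
 (.leaf 7549))
 (.node (.leaf 12272)
 (.leaf 11246)))
 (.node (.node (.leaf 1590)
 (.leaf 1746))
 (.node (.leaf 1645)
 (.leaf 3632))))
 (.node (.node (.node (.leaf 14101)
 (.leaf 13480))
 (.node (.leaf 1630)
 (.leaf 7205)))
 (.node (.node (.leaf 11460)
 (.leaf 1005))
 (.node (.leaf 6917)
 (.leaf 11395))))))

def srtTB189 : RT := .node (.node (.node (.node (.node (.node (.leaf 13946)
 (.leaf 10774))
 (.node (.leaf 11599)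
 (.leaf 14805)))
 (.node (.node (.leaf 4498)
 (.leaf 7121))
 (.node (.leaf 13185)
 (.leaf 8447))))
 (.node (.node (.node (.leaf 11448)
 (.leaf 8476))
 (.node (.leaf 9331)
 (.leaf 1322)))
 (.node (.node (.leaf 949)
 (.leaf 4399))
 (.node (.leaf 12068)
 (.leaf 5933)))))
 (.node (.node (.node (.node (.leaf 6977)
 (.leaf 1770))
 (.node (.leaf 9727)
 (.leaf 6891)))
 (.node (.node (.leaf 3459)
 (.leaf 4819))
 (.node (.leaf 347)
 (.leaf 4563))))
 (.node (.node (.node (.leaf 6001)
 (.leaf 11956))
 (.node (.leaf 8490)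
 (.leaf 12977)))
 (.node (.node (.leaf 8433)
 (.leaf 11972))
 (.node (.leaf 3877)
 (.leaf 3565))))))
 (.node (.node (.node (.node (.node (.leaf 5163)
 (.leaf 8398))
 (.node (.leaf 511)
 (.leaf 8441)))
 (.node (.node (.leaf 8861)
 (.leaf 3616))
 (.node (.leaf 5245)
 (.leaf 4625))))
 (.node (.node (.node (.leaf 10908)
 (.leaf 1416))
 (.node (.leaf 12039)
 (.leaf 2853)))
 (.node (.node (.leaf 9474)
 (.leaf 11816))
 (.node (.leaf 188)
 (.leaf 8135)))))
 (.node (.node (.node (.node (.leaf 7208)
 (.leaf 10711))
 (.node (.leaf 7037)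
 (.leaf 6262)))
 (.node (.node (.leaf 9647)
 (.leaf 7946))
 (.node (.leaf 13717)
 (.leaf 10004))))
 (.node (.node (.node (.leaf 13208)
 (.leaf 9421))
 (.node (.leaf 14374)
 (.leaf 3878)))
 (.node (.node (.leaf 1175)
 (.leaf 13680))
 (.node (.leaf 2134)
 (.leaf 4697))))))

def srtTB190 : RT := .node (.node (.node (.node (.node (.node (.leaf 12355)
 (.leaf 12543))
 (.node (.leaf 11230)
 (.leaf 410)))
 (.node (.node (.leaf 14670)
 (.leaf 1703))
 (.node (.leaf 8093)
 (.leaf 5388))))
 (.node (.node (.node (.leaf 2559)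
 (.leaf 3248))
 (.node (.leaf 2420)
 (.leaf 6420)))
 (.node (.node (.leaf 7241)
 (.leaf 5548))
 (.node (.leaf 5891)
 (.leaf 14280)))))
 (.node (.node (.node (.node (.leaf 6695)
 (.leaf 5622))
 (.node (.leaf 7412)
 (.leaf 5740)))
 (.node (.node (.leaf 6222)
 (.leaf 5765))
 (.node (.leaf 2052)
 (.leaf 5704))))
 (.node (.node (.node (.leaf 7610)
 (.leaf 1985))
 (.node (.leaf 238)
 (.leaf 2617)))
 (.node (.node (.leaf 1701)
 (.leaf 13979))
 (.node (.leaf 9676)
 (.leaf 12287))))))
 (.node (.node (.node (.node (.node (.leaf 2446)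
 (.leaf 10909))
 (.node (.leaf 4489)
 (.leaf 1131)))
 (.node (.node (.leaf 13143)
 (.leaf 10349))
 (.node (.leaf 14339)
 (.leaf 10292))))
 (.node (.node (.node (.leaf 10231)
 (.leaf 14543))
 (.node (.leaf 1769)
 (.leaf 6632)))
 (.node (.node (.leaf 7016)
 (.leaf 13663))
 (.node (.leaf 13560)
 (.leaf 6792)))))
 (.node (.node (.node (.node (.leaf 4560)
 (.leaf 12011))
 (.node (.leaf 1677)
 (.leaf 11308)))
 (.node (.node (.leaf 11278)
 (.leaf 1160))
 (.node (.leaf 6872)
 (.leaf 5467))))
 (.node (.node (.node (.leaf 11952)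
 (.leaf 7553))
 (.node (.leaf 4603)
 (.leaf 10610)))
 (.node (.node (.leaf 3303)
 (.leaf 961))
 (.node (.leaf 9020)
 (.leaf 6738))))))

def srtTB191 : RT := .node (.node (.node (.node (.node (.node (.leaf 4516)
 (.leaf 5101))
 (.node (.leaf 12079)
 (.leaf 8950)))
 (.node (.node (.leaf 4601)
 (.leaf 8991))
 (.node (.leaf 9067)
 (.leaf 5969))))
 (.node (.node (.node (.leaf 2408)
 (.leaf 7619))
 (.node (.leaf 6580)
 (.leaf 2118)))
 (.node (.node (.leaf 5385)
 (.leaf 1794))
 (.node (.leaf 8181)
 (.leaf 1386)))))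
 (.node (.node (.node (.node (.leaf 3099)
 (.leaf 5664))
 (.node (.leaf 7753)
 (.leaf 14929)))
 (.node (.node (.leaf 5977)
 (.leaf 7361))
 (.node (.leaf 5850)
 (.leaf 3146))))
 (.node (.node (.node (.leaf 3357)
 (.leaf 5760))
 (.node (.leaf 5378)
 (.leaf 6410)))
 (.node (.node (.leaf 2989)
 (.leaf 8876))
 (.node (.leaf 9493)
 (.leaf 1299))))))
 (.node (.node (.node (.node (.node (.leaf 8472)
 (.leaf 7483))
 (.node (.leaf 1410)
 (.leaf 4204)))
 (.node (.node (.leaf 5682)
 (.leaf 10721))
 (.node (.leaf 9088)
 (.leaf 8882))))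
 (.node (.node (.node (.leaf 11756)
 (.leaf 4694))
 (.node (.leaf 5165)
 (.leaf 705)))
 (.node (.node (.leaf 683)
 (.leaf 12002))
 (.node (.leaf 11796)
 (.leaf 8364)))))
 (.node (.node (.node (.node (.leaf 4371)
 (.leaf 9479))
 (.node (.leaf 458)
 (.leaf 2771)))
 (.node (.node (.leaf 14728)
 (.leaf 10488))
 (.node (.leaf 2080)
 (.leaf 12359))))
 (.node (.node (.node (.leaf 366)
 (.leaf 10577))
 (.node (.leaf 13670)
 (.leaf 13239)))
 (.node (.node (.leaf 7119)
 (.leaf 7314))
 (.node (.leaf 13507)
 (.leaf 11164))))))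

def srtTB192 : RT := .node (.node (.node (.node (.node (.node (.leaf 6255)
 (.leaf 13982))
 (.node (.leaf 10841)
 (.leaf 11472)))
 (.node (.node (.leaf 12874)
 (.leaf 8738))
 (.node (.leaf 5307)
 (.leaf 1036))))
 (.node (.node (.node (.leaf 4237)
 (.leaf 4677))
 (.node (.leaf 1528)
 (.leaf 11159)))
 (.node (.node (.leaf 1993)
 (.leaf 549))
 (.node (.leaf 11677)
 (.leaf 9068)))))
 (.node (.node (.node (.node (.leaf 11088)
 (.leaf 569))
 (.node (.leaf 11737)
 (.leaf 11778)))
 (.node (.node (.leaf 5176)
 (.leaf 5670))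
 (.node (.leaf 6465)
 (.leaf 8564))))
 (.node (.node (.node (.leaf 11149)
 (.leaf 1955))
 (.node (.leaf 5935)
 (.leaf 7630)))
 (.node (.node (.leaf 4842)
 (.leaf 1278))
 (.node (.leaf 8302)
 (.leaf 14246))))))
 (.node (.node (.node (.node (.node (.leaf 3456)
 (.leaf 3032))
 (.node (.leaf 2997)
 (.leaf 4982)))
 (.node (.node (.leaf 6955)
 (.leaf 7157))
 (.node (.leaf 6003)
 (.leaf 5559))))
 (.node (.node (.node (.leaf 14959)
 (.leaf 7827))
 (.node (.leaf 5728)
 (.leaf 1828)))
 (.node (.node (.leaf 5321)
 (.leaf 6167))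
 (.node (.leaf 5392)
 (.leaf 1762)))))
 (.node (.node (.node (.node (.leaf 14317)
 (.leaf 566))
 (.node (.leaf 1317)
 (.leaf 6407)))
 (.node (.node (.leaf 3776)
 (.leaf 3370))
 (.node (.leaf 14371)
 (.leaf 9920))))
 (.node (.node (.node (.leaf 6721)
 (.leaf 2647))
 (.node (.leaf 13257)
 (.leaf 12968)))
 (.node (.node (.leaf 10544)
 (.leaf 12498))
 (.node (.leaf 7613)
 (.leaf 1683))))))

def srtTB193 : RT := .node (.node (.node (.node (.node (.node (.leaf 7189)
 (.leaf 13490))
 (.node (.leaf 9802)
 (.leaf 13613)))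
 (.node (.node (.leaf 10371)
 (.leaf 4036))
 (.node (.leaf 643)
 (.leaf 8805))))
 (.node (.node (.node (.leaf 10052)
 (.leaf 670))
 (.node (.leaf 4990)
 (.leaf 8889)))
 (.node (.node (.leaf 10860)
 (.leaf 6115))
 (.node (.leaf 5294)
 (.leaf 9954)))))
 (.node (.node (.node (.node (.leaf 12560)
 (.leaf 1848))
 (.node (.leaf 8458)
 (.leaf 7462)))
 (.node (.node (.leaf 4937)
 (.leaf 12106))
 (.node (.leaf 12025)
 (.leaf 4668))))
 (.node (.node (.node (.leaf 1219)
 (.leaf 1050))
 (.node (.leaf 8241)
 (.leaf 11874)))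
 (.node (.node (.leaf 10154)
 (.leaf 1565))
 (.node (.leaf 1222)
 (.leaf 2126))))))
 (.node (.node (.node (.node (.node (.leaf 943)
 (.leaf 12303))
 (.node (.leaf 10687)
 (.leaf 13423)))
 (.node (.node (.leaf 14768)
 (.leaf 9352))
 (.node (.leaf 10793)
 (.leaf 14365))))
 (.node (.node (.node (.leaf 10106)
 (.leaf 7865))
 (.node (.leaf 4713)
 (.leaf 13172)))
 (.node (.node (.leaf 14194)
 (.leaf 13614))
 (.node (.leaf 3702)
 (.leaf 7280)))))
 (.node (.node (.node (.node (.leaf 7548)
 (.leaf 11035))
 (.node (.leaf 13701)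
 (.leaf 10940)))
 (.node (.node (.leaf 13140)
 (.leaf 8142))
 (.node (.leaf 12241)
 (.leaf 13999))))
 (.node (.node (.node (.leaf 10999)
 (.leaf 6549))
 (.node (.leaf 7653)
 (.leaf 12366)))
 (.node (.node (.leaf 1223)
 (.leaf 14688))
 (.node (.leaf 3528)
 (.leaf 14827))))))

def srtTB194 : RT := .node (.node (.node (.node (.node (.node (.leaf 7507)
 (.leaf 2153))
 (.node (.leaf 793)
 (.leaf 10016)))
 (.node (.node (.leaf 837)
 (.leaf 10164))
 (.node (.leaf 11249)
 (.leaf 1513))))
 (.node (.node (.node (.leaf 4264)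
 (.leaf 11895))
 (.node (.leaf 8448)
 (.leaf 5065)))
 (.node (.node (.leaf 1741)
 (.leaf 5346))
 (.node (.leaf 6017)
 (.leaf 10372)))))
 (.node (.node (.node (.node (.leaf 11879)
 (.leaf 12749))
 (.node (.leaf 1180)
 (.leaf 3751)))
 (.node (.node (.leaf 4592)
 (.leaf 1153))
 (.node (.leaf 4510)
 (.leaf 1323))))
 (.node (.node (.node (.leaf 8983)
 (.leaf 7660))
 (.node (.leaf 4821)
 (.leaf 9037)))
 (.node (.node (.leaf 6974)
 (.leaf 10060))
 (.node (.leaf 2472)
 (.leaf 7292))))))
 (.node (.node (.node (.node (.node (.leaf 9580)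
 (.leaf 11296))
 (.node (.leaf 8304)
 (.leaf 12418)))
 (.node (.node (.leaf 4538)
 (.leaf 9760))
 (.node (.leaf 6319)
 (.leaf 12416))))
 (.node (.node (.node (.leaf 3741)
 (.leaf 3453))
 (.node (.leaf 13871)
 (.leaf 13576)))
 (.node (.node (.leaf 224)
 (.leaf 10858))
 (.node (.leaf 2653)
 (.leaf 14453)))))
 (.node (.node (.node (.node (.leaf 13995)
 (.leaf 9966))
 (.node (.leaf 1335)
 (.leaf 9681)))
 (.node (.node (.leaf 229)
 (.leaf 1100))
 (.node (.leaf 6189)
 (.leaf 7882))))
 (.node (.node (.node (.leaf 2319)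
 (.leaf 2424))
 (.node (.leaf 11037)
 (.leaf 13940)))
 (.node (.node (.leaf 10369)
 (.leaf 14367))
 (.node (.leaf 4521)
 (.leaf 7413))))))

def srtTB195 : RT := .node (.node (.node (.node (.node (.node (.leaf 4074)
 (.leaf 6795))
 (.node (.leaf 10537)
 (.leaf 13327)))
 (.node (.node (.leaf 12389)
 (.leaf 12283))
 (.node (.leaf 11202)
 (.leaf 10646))))
 (.node (.node (.node (.leaf 1371)
 (.leaf 1697))
 (.node (.leaf 13242)
 (.leaf 10183)))
 (.node (.node (.leaf 14156)
 (.leaf 7535))
 (.node (.leaf 1782)
 (.leaf 3762)))))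
 (.node (.node (.node (.node (.leaf 13381)
 (.leaf 8159))
 (.node (.leaf 14512)
 (.leaf 2243)))
 (.node (.node (.leaf 10309)
 (.leaf 13880))
 (.node (.leaf 532)
 (.leaf 12220))))
 (.node (.node (.node (.leaf 680)
 (.leaf 6393))
 (.node (.leaf 1781)
 (.leaf 7862)))
 (.node (.node (.leaf 2303)
 (.leaf 12282))
 (.node (.leaf 13122)
 (.leaf 13879))))))
 (.node (.node (.node (.node (.node (.leaf 11447)
 (.leaf 1213))
 (.node (.leaf 10499)
 (.leaf 12219)))
 (.node (.node (.leaf 14155)
 (.leaf 8158))
 (.node (.leaf 4477)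
 (.leaf 13367))))
 (.node (.node (.node (.leaf 4051)
 (.leaf 14558))
 (.node (.leaf 1696)
 (.leaf 531)))
 (.node (.node (.leaf 11269)
 (.leaf 6350))
 (.node (.leaf 10746)
 (.leaf 9553)))))
 (.node (.node (.node (.node (.leaf 14507)
 (.leaf 7544))
 (.node (.leaf 955)
 (.leaf 9496)))
 (.node (.node (.leaf 333)
 (.leaf 7220))
 (.node (.leaf 14456)
 (.leaf 13289))))
 (.node (.node (.node (.leaf 1266)
 (.leaf 12576))
 (.node (.leaf 7046)
 (.leaf 9983)))
 (.node (.node (.leaf 13908)
 (.leaf 7502))
 (.node (.leaf 10229)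
 (.leaf 3687))))))

def srtTB196 : RT := .node (.node (.node (.node (.node (.node (.leaf 9336)
 (.leaf 2972))
 (.node (.leaf 10991)
 (.leaf 1904)))
 (.node (.node (.leaf 13413)
 (.leaf 4189))
 (.node (.leaf 7414)
 (.leaf 13328))))
 (.node (.node (.node (.leaf 9792)
 (.leaf 13941))
 (.node (.leaf 13112)
 (.leaf 14368)))
 (.node (.node (.leaf 9609)
 (.leaf 3752))
 (.node (.leaf 9444)
 (.leaf 11213)))))
 (.node (.node (.node (.node (.leaf 14057)
 (.leaf 9874))
 (.node (.leaf 2320)
 (.leaf 7868)))
 (.node (.node (.leaf 1666)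
 (.leaf 1336))
 (.node (.leaf 14680)
 (.leaf 1582))))
 (.node (.node (.node (.leaf 12798)
 (.leaf 6190))
 (.node (.leaf 267)
 (.leaf 6513)))
 (.node (.node (.leaf 7444)
 (.leaf 9540))
 (.node (.leaf 5984)
 (.leaf 11638))))))
 (.node (.node (.node (.node (.node (.leaf 2750)
 (.leaf 3576))
 (.node (.leaf 3703)
 (.leaf 11019)))
 (.node (.node (.leaf 5658)
 (.leaf 9132))
 (.node (.leaf 2115)
 (.leaf 528))))
 (.node (.node (.node (.leaf 11893)
 (.leaf 8736))
 (.node (.leaf 9078)
 (.leaf 12948)))
 (.node (.node (.leaf 4642)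
 (.leaf 5741))
 (.node (.leaf 261)
 (.leaf 4379)))))
 (.node (.node (.node (.node (.leaf 1518)
 (.leaf 6910))
 (.node (.leaf 5652)
 (.leaf 14227)))
 (.node (.node (.leaf 5432)
 (.leaf 7405))
 (.node (.leaf 5967)
 (.leaf 8210))))
 (.node (.node (.node (.leaf 8025)
 (.leaf 3325))
 (.node (.leaf 3047)
 (.leaf 5795)))
 (.node (.node (.leaf 5055)
 (.leaf 5716))
 (.node (.leaf 6023)
 (.leaf 2469))))))

def srtTB197 : RT := .node (.node (.node (.node (.node (.node (.leaf 6089)
 (.leaf 1686))
 (.node (.leaf 7126)
 (.leaf 3101)))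
 (.node (.node (.leaf 13002)
 (.leaf 12513))
 (.node (.leaf 9631)
 (.leaf 3042))))
 (.node (.node (.node (.leaf 2002)
 (.leaf 10568))
 (.node (.leaf 10067)
 (.leaf 3864)))
 (.node (.node (.leaf 399)
 (.leaf 7332))
 (.node (.leaf 7935)
 (.leaf 1849)))))
 (.node (.node (.node (.node (.leaf 4307)
 (.leaf 13750))
 (.node (.leaf 13531)
 (.leaf 9306)))
 (.node (.node (.leaf 9460)
 (.leaf 484))
 (.node (.leaf 7915)
 (.leaf 9454))))
 (.node (.node (.node (.leaf 12298)
 (.leaf 50))
 (.node (.leaf 7784)
 (.leaf 4826)))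
 (.node (.node (.leaf 5497)
 (.leaf 10441))
 (.node (.leaf 903)
 (.leaf 5062))))))
 (.node (.node (.node (.node (.node (.leaf 4492)
 (.leaf 12000))
 (.node (.leaf 10462)
 (.leaf 4094)))
 (.node (.node (.leaf 11185)
 (.leaf 12173))
 (.node (.leaf 344)
 (.leaf 8858))))
 (.node (.node (.node (.leaf 9039)
 (.leaf 2333))
 (.node (.leaf 8322)
 (.leaf 9023)))
 (.node (.node (.leaf 11976)
 (.leaf 2679))
 (.node (.leaf 3980)
 (.leaf 10736)))))
 (.node (.node (.node (.node (.leaf 910)
 (.leaf 13118))
 (.node (.leaf 14520)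
 (.leaf 4291)))
 (.node (.node (.leaf 7051)
 (.leaf 12922))
 (.node (.leaf 2100)
 (.leaf 10830))))
 (.node (.node (.node (.leaf 7159)
 (.leaf 10668))
 (.node (.leaf 13802)
 (.leaf 10270)))
 (.node (.node (.leaf 1886)
 (.leaf 6079))
 (.node (.leaf 10772)
 (.leaf 12658))))))

def srtTB198 : RT := .node (.node (.node (.node (.node (.node (.leaf 11070)
 (.leaf 1286))
 (.node (.leaf 8296)
 (.leaf 14481)))
 (.node (.node (.leaf 2846)
 (.leaf 11134))
 (.node (.leaf 13228)
 (.leaf 6176))))
 (.node (.node (.node (.leaf 14392)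
 (.leaf 13797))
 (.node (.leaf 3869)
 (.leaf 378)))
 (.node (.node (.leaf 9377)
 (.leaf 6947))
 (.node (.leaf 12316)
 (.leaf 4159)))))
 (.node (.node (.node (.node (.leaf 7684)
 (.leaf 14541))
 (.node (.leaf 2765)
 (.leaf 10712)))
 (.node (.node (.leaf 125)
 (.leaf 11485))
 (.node (.leaf 2907)
 (.leaf 8055))))
 (.node (.node (.node (.leaf 10112)
 (.leaf 13639))
 (.node (.leaf 12323)
 (.leaf 2193)))
 (.node (.node (.leaf 13540)
 (.leaf 11058))
 (.node (.leaf 805)
 (.leaf 14132))))))
 (.node (.node (.node (.node (.node (.leaf 13347)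
 (.leaf 2794))
 (.node (.leaf 114)
 (.leaf 14538)))
 (.node (.node (.leaf 4799)
 (.leaf 10691))
 (.node (.leaf 12596)
 (.leaf 4218))))
 (.node (.node (.node (.leaf 7665)
 (.leaf 6216))
 (.node (.leaf 1477)
 (.leaf 12251)))
 (.node (.node (.leaf 11550)
 (.leaf 1893))
 (.node (.leaf 3126)
 (.leaf 9865)))))
 (.node (.node (.node (.node (.leaf 14752)
 (.leaf 13006))
 (.node (.leaf 11081)
 (.leaf 3570)))
 (.node (.node (.leaf 4849)
 (.leaf 5820))
 (.node (.leaf 5162)
 (.leaf 7694))))
 (.node (.node (.node (.leaf 4817)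
 (.leaf 5080))
 (.node (.leaf 2312)
 (.leaf 2338)))
 (.node (.node (.leaf 5132)
 (.leaf 1718))
 (.node (.leaf 2903)
 (.leaf 14904))))))

def srtTB199 : RT := .node (.node (.node (.node (.node (.node (.leaf 1534)
 (.leaf 7719))
 (.node (.leaf 1991)
 (.leaf 5343)))
 (.node (.node (.leaf 8150)
 (.leaf 7179))
 (.node (.leaf 6439)
 (.leaf 6238))))
 (.node (.node (.node (.leaf 6244)
 (.leaf 154))
 (.node (.leaf 6514)
 (.leaf 4640)))
 (.node (.node (.leaf 3504)
 (.leaf 10213))
 (.node (.leaf 14019)
 (.leaf 11141)))))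
 (.node (.node (.node (.node (.leaf 14574)
 (.leaf 14486))
 (.node (.leaf 13108)
 (.leaf 7869)))
 (.node (.node (.leaf 9280)
 (.leaf 8182))
 (.node (.leaf 9914)
 (.leaf 12946))))
 (.node (.node (.node (.leaf 9745)
 (.leaf 4618))
 (.node (.leaf 1995)
 (.leaf 2874)))
 (.node (.node (.leaf 13523)
 (.leaf 1524))
 (.node (.leaf 5630)
 (.leaf 5511))))))
 (.node (.node (.node (.node (.node (.leaf 14265)
 (.leaf 3425))
 (.node (.leaf 8170)
 (.leaf 3588)))
 (.node (.node (.leaf 7623)
 (.leaf 14955))
 (.node (.leaf 2929)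
 (.leaf 2163))))
 (.node (.node (.node (.leaf 7187)
 (.leaf 5972))
 (.node (.leaf 5919)
 (.leaf 7065)))
 (.node (.node (.leaf 8376)
 (.leaf 6804))
 (.node (.leaf 5382)
 (.leaf 5720)))))
 (.node (.node (.node (.node (.leaf 6612)
 (.leaf 5420))
 (.node (.leaf 3920)
 (.leaf 8692)))
 (.node (.node (.leaf 6187)
 (.leaf 4339))
 (.node (.leaf 4953)
 (.leaf 5651))))
 (.node (.node (.node (.leaf 6468)
 (.leaf 11722))
 (.node (.leaf 11029)
 (.leaf 999)))
 (.node (.node (.leaf 8544)
 (.leaf 10127))
 (.node (.leaf 5602)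
 (.leaf 11607))))))

def srtTB200 : RT := .node (.node (.node (.node (.node (.node (.leaf 11487)
 (.leaf 12182))
 (.node (.leaf 1918)
 (.leaf 8550)))
 (.node (.node (.leaf 9075)
 (.leaf 62))
 (.node (.leaf 564)
 (.leaf 1553))))
 (.node (.node (.node (.leaf 12248)
 (.leaf 5170))
 (.node (.leaf 8120)
 (.leaf 10706)))
 (.node (.node (.leaf 24)
 (.leaf 5603))
 (.node (.leaf 1920)
 (.leaf 11515)))))
 (.node (.node (.node (.node (.leaf 4955)
 (.leaf 1017))
 (.node (.leaf 8451)
 (.leaf 12249)))
 (.node (.node (.leaf 9099)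
 (.leaf 8694))
 (.node (.leaf 12074)
 (.leaf 11628))))
 (.node (.node (.node (.leaf 4662)
 (.leaf 4340))
 (.node (.leaf 10882)
 (.leaf 7168)))
 (.node (.node (.leaf 1555)
 (.leaf 7027))
 (.node (.leaf 1598)
 (.leaf 9710))))))
 (.node (.node (.node (.node (.node (.leaf 982)
 (.leaf 3271))
 (.node (.leaf 10479)
 (.leaf 13223)))
 (.node (.node (.leaf 11511)
 (.leaf 4137))
 (.node (.leaf 10662)
 (.leaf 12988))))
 (.node (.node (.node (.leaf 12293)
 (.leaf 14633))
 (.node (.leaf 13829)
 (.leaf 279)))
 (.node (.node (.leaf 13433)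
 (.leaf 3991))
 (.node (.leaf 3284)
 (.leaf 9604)))))
 (.node (.node (.node (.node (.leaf 14033)
 (.leaf 7485))
 (.node (.leaf 667)
 (.leaf 3267)))
 (.node (.node (.leaf 4518)
 (.leaf 3436))
 (.node (.leaf 6714)
 (.leaf 11282))))
 (.node (.node (.node (.leaf 6425)
 (.leaf 8133))
 (.node (.leaf 12972)
 (.leaf 10099)))
 (.node (.node (.leaf 10430)
 (.leaf 13766))
 (.node (.leaf 2537)
 (.leaf 9725))))))

def srtTB201 : RT := .node (.node (.node (.node (.node (.node (.leaf 7739)
 (.leaf 11154))
 (.node (.leaf 14591)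
 (.leaf 12802)))
 (.node (.node (.leaf 14636)
 (.leaf 13779))
 (.node (.leaf 1190)
 (.leaf 13168))))
 (.node (.node (.node (.leaf 10878)
 (.leaf 12603))
 (.node (.leaf 7201)
 (.leaf 1450)))
 (.node (.node (.leaf 1517)
 (.leaf 2950))
 (.node (.leaf 14420)
 (.leaf 10402)))))
 (.node (.node (.node (.node (.leaf 12519)
 (.leaf 9895))
 (.node (.leaf 14383)
 (.leaf 13922)))
 (.node (.node (.leaf 395)
 (.leaf 7386))
 (.node (.leaf 9939)
 (.leaf 11046))))
 (.node (.node (.node (.leaf 4277)
 (.leaf 13346))
 (.node (.leaf 6343)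
 (.leaf 4716)))
 (.node (.node (.leaf 321)
 (.leaf 7798))
 (.node (.leaf 3567)
 (.leaf 12565))))))
 (.node (.node (.node (.node (.node (.leaf 14556)
 (.leaf 9852))
 (.node (.leaf 7812)
 (.leaf 13256)))
 (.node (.node (.leaf 11506)
 (.leaf 14116))
 (.node (.leaf 9905)
 (.leaf 14003))))
 (.node (.node (.node (.leaf 2831)
 (.leaf 4722))
 (.node (.leaf 9952)
 (.leaf 3143)))
 (.node (.node (.leaf 147)
 (.leaf 12352))
 (.node (.leaf 11306)
 (.leaf 6395)))))
 (.node (.node (.node (.node (.leaf 9614)
 (.leaf 13431))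
 (.node (.leaf 8137)
 (.leaf 2756)))
 (.node (.node (.leaf 993)
 (.leaf 8115))
 (.node (.leaf 11516)
 (.leaf 3937))))
 (.node (.node (.node (.leaf 4938)
 (.leaf 2189))
 (.node (.leaf 6159)
 (.leaf 2848)))
 (.node (.node (.leaf 9466)
 (.leaf 9105))
 (.node (.leaf 12231)
 (.leaf 11695))))))

def srtTB202 : RT := .node (.node (.node (.node (.node (.node (.leaf 7173)
 (.leaf 9041))
 (.node (.leaf 4223)
 (.leaf 3668)))
 (.node (.node (.leaf 11742)
 (.leaf 8790))
 (.node (.leaf 3083)
 (.leaf 12061))))
 (.node (.node (.node (.leaf 5159)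
 (.leaf 87))
 (.node (.leaf 3557)
 (.leaf 7255)))
 (.node (.node (.leaf 875)
 (.leaf 3676))
 (.node (.leaf 10101)
 (.leaf 9325)))))
 (.node (.node (.node (.node (.leaf 13623)
 (.leaf 11389))
 (.node (.leaf 8260)
 (.leaf 10835)))
 (.node (.node (.leaf 14408)
 (.leaf 10856))
 (.node (.leaf 4735)
 (.leaf 13405))))
 (.node (.node (.node (.leaf 11090)
 (.leaf 13101))
 (.node (.leaf 1216)
 (.leaf 7531)))
 (.node (.node (.leaf 14765)
 (.leaf 3064))
 (.node (.leaf 1984)
 (.leaf 5040))))))
 (.node (.node (.node (.node (.node (.leaf 3159)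
 (.leaf 2664))
 (.node (.leaf 4824)
 (.leaf 14237)))
 (.node (.node (.leaf 6914)
 (.leaf 8113))
 (.node (.leaf 5038)
 (.leaf 3451))))
 (.node (.node (.node (.leaf 1274)
 (.leaf 6971))
 (.node (.leaf 5738)
 (.leaf 3147)))
 (.node (.node (.leaf 14968)
 (.leaf 6895))
 (.node (.leaf 8002)
 (.leaf 1338)))))
 (.node (.node (.node (.node (.leaf 7034)
 (.leaf 5646))
 (.node (.leaf 5183)
 (.leaf 3478)))
 (.node (.node (.leaf 1615)
 (.leaf 7408))
 (.node (.leaf 140)
 (.leaf 4066))))
 (.node (.node (.node (.leaf 12819)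
 (.leaf 942))
 (.node (.leaf 11857)
 (.leaf 9634)))
 (.node (.node (.leaf 8700)
 (.leaf 10456))
 (.node (.leaf 325)
 (.leaf 3243))))))

def srtTB203 : RT := .node (.node (.node (.node (.node (.node (.leaf 8636)
 (.leaf 7856))
 (.node (.leaf 5920)
 (.leaf 3191)))
 (.node (.node (.leaf 6312)
 (.leaf 12192))
 (.node (.leaf 2435)
 (.leaf 4863))))
 (.node (.node (.node (.leaf 12148)
 (.leaf 9119))
 (.node (.leaf 9645)
 (.leaf 7947)))
 (.node (.node (.leaf 3733)
 (.leaf 3998))
 (.node (.leaf 5358)
 (.leaf 5906)))))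
 (.node (.node (.node (.node (.leaf 4403)
 (.leaf 1236))
 (.node (.leaf 11292)
 (.leaf 1393)))
 (.node (.node (.leaf 9349)
 (.leaf 2677))
 (.node (.leaf 9180)
 (.leaf 1144))))
 (.node (.node (.node (.leaf 11613)
 (.leaf 121))
 (.node (.leaf 8415)
 (.leaf 179)))
 (.node (.node (.leaf 4807)
 (.leaf 7695))
 (.node (.leaf 12224)
 (.leaf 8677))))))
 (.node (.node (.node (.node (.node (.leaf 4582)
 (.leaf 8984))
 (.node (.leaf 12136)
 (.leaf 11970)))
 (.node (.node (.leaf 3480)
 (.leaf 1479))
 (.node (.leaf 7562)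
 (.leaf 6968))))
 (.node (.node (.node (.leaf 5844)
 (.leaf 6652))
 (.node (.leaf 7184)
 (.leaf 5221)))
 (.node (.node (.leaf 5303)
 (.leaf 14202))
 (.node (.leaf 8006)
 (.leaf 2619)))))
 (.node (.node (.node (.node (.leaf 5348)
 (.leaf 14956))
 (.node (.leaf 5070)
 (.leaf 4952)))
 (.node (.node (.leaf 6118)
 (.leaf 5796))
 (.node (.leaf 1283)
 (.leaf 1644))))
 (.node (.node (.node (.leaf 5928)
 (.leaf 3290))
 (.node (.leaf 207)
 (.leaf 3255)))
 (.node (.node (.leaf 6288)
 (.leaf 10600))
 (.node (.leaf 12815)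
 (.leaf 12745))))))

def srtTB204 : RT := .node (.node (.node (.node (.node (.node (.leaf 6798)
 (.leaf 4486))
 (.node (.leaf 9833)
 (.leaf 2354)))
 (.node (.node (.leaf 9575)
 (.leaf 14609))
 (.node (.leaf 4002)
 (.leaf 9243))))
 (.node (.node (.node (.leaf 9878)
 (.leaf 6199))
 (.node (.leaf 13073)
 (.leaf 14075)))
 (.node (.node (.leaf 3424)
 (.leaf 2650))
 (.node (.leaf 13847)
 (.leaf 13436)))))
 (.node (.node (.node (.node (.leaf 6567)
 (.leaf 10370))
 (.node (.leaf 14369)
 (.leaf 9329)))
 (.node (.node (.leaf 13660)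
 (.leaf 4587))
 (.node (.leaf 2596)
 (.leaf 1337))))
 (.node (.node (.node (.leaf 13329)
 (.leaf 10315))
 (.node (.leaf 7818)
 (.leaf 3586)))
 (.node (.node (.leaf 10197)
 (.leaf 12443))
 (.node (.leaf 80)
 (.leaf 13113))))))
 (.node (.node (.node (.node (.node (.leaf 8369)
 (.leaf 1039))
 (.node (.leaf 14059)
 (.leaf 10969)))
 (.node (.node (.leaf 14489)
 (.leaf 11228))
 (.node (.leaf 6191)
 (.leaf 2425))))
 (.node (.node (.node (.leaf 13688)
 (.leaf 260))
 (.node (.leaf 6679)
 (.leaf 9314)))
 (.node (.node (.leaf 2663)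
 (.leaf 9984))
 (.node (.leaf 10380)
 (.leaf 13493)))))
 (.node (.node (.node (.node (.leaf 3194)
 (.leaf 12751))
 (.node (.leaf 4025)
 (.leaf 10359)))
 (.node (.node (.leaf 14684)
 (.leaf 7563))
 (.node (.leaf 9503)
 (.leaf 3593))))
 (.node (.node (.node (.leaf 12462)
 (.leaf 8094))
 (.node (.leaf 10319)
 (.leaf 518)))
 (.node (.node (.leaf 14102)
 (.leaf 1801))
 (.node (.leaf 4090)
 (.leaf 10212))))))

def srtTB205 : RT := .node (.node (.node (.node (.node (.node (.leaf 12692)
 (.leaf 13008))
 (.node (.leaf 696)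
 (.leaf 1632)))
 (.node (.node (.leaf 6127)
 (.leaf 7917))
 (.node (.leaf 7156)
 (.leaf 13609))))
 (.node (.node (.node (.leaf 7921)
 (.leaf 13731))
 (.node (.leaf 3791)
 (.leaf 3584)))
 (.node (.node (.leaf 12707)
 (.leaf 2399))
 (.node (.leaf 10551)
 (.leaf 10673)))))
 (.node (.node (.node (.node (.leaf 2228)
 (.leaf 4590))
 (.node (.leaf 13377)
 (.leaf 1053)))
 (.node (.node (.leaf 4356)
 (.leaf 8105))
 (.node (.leaf 11998)
 (.leaf 9224))))
 (.node (.node (.node (.leaf 5187)
 (.leaf 12553))
 (.node (.leaf 11810)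
 (.leaf 5715)))
 (.node (.node (.leaf 3142)
 (.leaf 1095))
 (.node (.leaf 10817)
 (.leaf 3866))))))
 (.node (.node (.node (.node (.node (.leaf 11741)
 (.leaf 677))
 (.node (.leaf 8843)
 (.leaf 8743)))
 (.node (.node (.leaf 8037)
 (.leaf 1106))
 (.node (.leaf 7116)
 (.leaf 11548))))
 (.node (.node (.node (.leaf 2884)
 (.leaf 2040))
 (.node (.leaf 9380)
 (.leaf 1745)))
 (.node (.node (.leaf 6948)
 (.leaf 11501))
 (.node (.leaf 6153)
 (.leaf 12976)))))
 (.node (.node (.node (.node (.leaf 997)
 (.leaf 527))
 (.node (.leaf 4124)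
 (.leaf 2396)))
 (.node (.node (.leaf 13483)
 (.leaf 3732))
 (.node (.leaf 14153)
 (.leaf 11138))))
 (.node (.node (.node (.leaf 14669)
 (.leaf 10325))
 (.node (.leaf 13281)
 (.leaf 1629)))
 (.node (.node (.leaf 6485)
 (.leaf 12507))
 (.node (.leaf 11253)
 (.leaf 10629))))))

def srtTB206 : RT := .node (.node (.node (.node (.node (.node (.leaf 6916)
 (.leaf 14713))
 (.node (.leaf 3944)
 (.leaf 13994)))
 (.node (.node (.leaf 3448)
 (.leaf 1648))
 (.node (.leaf 8201)
 (.leaf 1681))))
 (.node (.node (.node (.leaf 9250)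
 (.leaf 7939))
 (.node (.leaf 6043)
 (.leaf 10467)))
 (.node (.node (.leaf 10857)
 (.leaf 9616))
 (.node (.leaf 523)
 (.leaf 13575)))))
 (.node (.node (.node (.node (.leaf 6942)
 (.leaf 701))
 (.node (.leaf 13166)
 (.leaf 12728)))
 (.node (.node (.leaf 11455)
 (.leaf 13715))
 (.node (.leaf 14404)
 (.leaf 1485))))
 (.node (.node (.node (.leaf 6066)
 (.leaf 11004))
 (.node (.leaf 13547)
 (.leaf 14536)))
 (.node (.node (.leaf 12895)
 (.leaf 7061))
 (.node (.leaf 13809)
 (.leaf 404))))))
 (.node (.node (.node (.node (.node (.leaf 11437)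
 (.leaf 1911))
 (.node (.leaf 8348)
 (.leaf 3690)))
 (.node (.node (.leaf 11077)
 (.leaf 12527))
 (.node (.leaf 503)
 (.leaf 7450))))
 (.node (.node (.node (.leaf 4664)
 (.leaf 14345))
 (.node (.leaf 2968)
 (.leaf 9752)))
 (.node (.node (.leaf 13159)
 (.leaf 11152))
 (.node (.leaf 2137)
 (.leaf 4907)))))
 (.node (.node (.node (.node (.leaf 3988)
 (.leaf 11728))
 (.node (.leaf 9199)
 (.leaf 2607)))
 (.node (.node (.leaf 4139)
 (.leaf 10448))
 (.node (.leaf 4132)
 (.leaf 11866))))
 (.node (.node (.node (.leaf 7014)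
 (.leaf 9))
 (.node (.leaf 6940)
 (.leaf 3401)))
 (.node (.node (.leaf 12838)
 (.leaf 746))
 (.node (.leaf 9013)
 (.leaf 8672))))))

def srtTB207 : RT := .node (.node (.node (.node (.node (.node (.leaf 10257)
 (.leaf 7823))
 (.node (.leaf 10612)
 (.leaf 12346)))
 (.node (.node (.leaf 13522)
 (.leaf 3575))
 (.node (.leaf 13226)
 (.leaf 452))))
 (.node (.node (.node (.leaf 10347)
 (.leaf 2985))
 (.node (.leaf 4285)
 (.leaf 4267)))
 (.node (.node (.leaf 14806)
 (.leaf 9410))
 (.node (.leaf 7081)
 (.leaf 13759)))))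
 (.node (.node (.node (.node (.leaf 9739)
 (.leaf 8027))
 (.node (.leaf 10833)
 (.leaf 12621)))
 (.node (.node (.leaf 13864)
 (.leaf 10893))
 (.node (.leaf 2176)
 (.leaf 442))))
 (.node (.node (.node (.leaf 3486)
 (.leaf 14836))
 (.node (.leaf 6905)
 (.leaf 3345)))
 (.node (.node (.leaf 12140)
 (.leaf 8818))
 (.node (.leaf 841)
 (.leaf 8613))))))
 (.node (.node (.node (.node (.node (.leaf 11908)
 (.leaf 772))
 (.node (.leaf 3786)
 (.leaf 12793)))
 (.node (.node (.leaf 10297)
 (.leaf 4395))
 (.node (.leaf 10302)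
 (.leaf 2533))))
 (.node (.node (.node (.leaf 2277)
 (.leaf 4043))
 (.node (.leaf 8633)
 (.leaf 12075)))
 (.node (.node (.leaf 8970)
 (.leaf 5885))
 (.node (.leaf 9608)
 (.leaf 6309)))))
 (.node (.node (.node (.node (.leaf 373)
 (.leaf 6896))
 (.node (.leaf 7775)
 (.leaf 6188)))
 (.node (.node (.leaf 5521)
 (.leaf 2545))
 (.node (.leaf 5672)
 (.leaf 5399))))
 (.node (.node (.node (.leaf 7628)
 (.leaf 5415))
 (.node (.leaf 14975)
 (.leaf 3316)))
 (.node (.node (.leaf 5306)
 (.leaf 5643))
 (.node (.leaf 1552)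
 (.leaf 8123))))))

def srtTB208 : RT := .node (.node (.node (.node (.node (.node (.leaf 3138)
 (.leaf 7299))
 (.node (.leaf 2780)
 (.leaf 1978)))
 (.node (.node (.leaf 3427)
 (.leaf 1662))
 (.node (.leaf 6518)
 (.leaf 4959))))
 (.node (.node (.node (.leaf 5837)
 (.leaf 6842))
 (.node (.leaf 1945)
 (.leaf 12885)))
 (.node (.node (.leaf 14026)
 (.leaf 2073))
 (.node (.leaf 14045)
 (.leaf 13070)))))
 (.node (.node (.node (.node (.leaf 9969)
 (.leaf 14502))
 (.node (.leaf 6165)
 (.leaf 10929)))
 (.node (.node (.leaf 436)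
 (.leaf 9297))
 (.node (.leaf 794)
 (.leaf 13546))))
 (.node (.node (.node (.leaf 3928)
 (.leaf 12246))
 (.node (.leaf 7716)
 (.leaf 8125)))
 (.node (.node (.leaf 10510)
 (.leaf 2107))
 (.node (.leaf 6882)
 (.leaf 4387))))))
 (.node (.node (.node (.node (.node (.leaf 14748)
 (.leaf 1457))
 (.node (.leaf 1942)
 (.leaf 7598)))
 (.node (.node (.leaf 5219)
 (.leaf 14945))
 (.node (.leaf 2541)
 (.leaf 8301))))
 (.node (.node (.node (.leaf 5781)
 (.leaf 2284))
 (.node (.leaf 6409)
 (.leaf 7938)))
 (.node (.node (.leaf 1482)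
 (.leaf 5923))
 (.node (.leaf 5994)
 (.leaf 1728)))))
 (.node (.node (.node (.node (.leaf 2045)
 (.leaf 5302))
 (.node (.leaf 8355)
 (.leaf 1281)))
 (.node (.node (.leaf 6033)
 (.leaf 2290))
 (.node (.leaf 14281)
 (.leaf 5924))))
 (.node (.node (.node (.leaf 9142)
 (.leaf 8629))
 (.node (.leaf 3655)
 (.leaf 5566)))
 (.node (.node (.leaf 12777)
 (.leaf 8912))
 (.node (.leaf 6901)
 (.leaf 3656))))))

def srtTB209 : RT := .node (.node (.node (.node (.node (.node (.leaf 320)
 (.leaf 1164))
 (.node (.leaf 6286)
 (.leaf 4418)))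
 (.node (.node (.leaf 10301)
 (.leaf 11634))
 (.node (.leaf 5408)
 (.leaf 2510))))
 (.node (.node (.node (.leaf 120)
 (.leaf 9050))
 (.node (.leaf 10435)
 (.leaf 11619)))
 (.node (.node (.leaf 9603)
 (.leaf 5490))
 (.node (.leaf 3136)
 (.leaf 4197)))))
 (.node (.node (.node (.node (.leaf 11734)
 (.leaf 12311))
 (.node (.leaf 5179)
 (.leaf 8387)))
 (.node (.node (.leaf 1847)
 (.leaf 8508))
 (.node (.leaf 4234)
 (.leaf 12080))))
 (.node (.node (.node (.leaf 6037)
 (.leaf 720))
 (.node (.leaf 9097)
 (.leaf 5764)))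
 (.node (.node (.leaf 5293)
 (.leaf 8622))
 (.node (.leaf 8837)
 (.leaf 4744))))))
 (.node (.node (.node (.node (.node (.leaf 10886)
 (.leaf 10079))
 (.node (.leaf 2873)
 (.leaf 10017)))
 (.node (.node (.leaf 1048)
 (.leaf 12014))
 (.node (.leaf 11678)
 (.leaf 9512))))
 (.node (.node (.node (.leaf 8417)
 (.leaf 1206))
 (.node (.leaf 2211)
 (.leaf 5236)))
 (.node (.node (.leaf 4913)
 (.leaf 5203))
 (.node (.leaf 3904)
 (.leaf 8531)))))
 (.node (.node (.node (.node (.leaf 8875)
 (.leaf 1083))
 (.node (.leaf 6373)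
 (.leaf 4673)))
 (.node (.node (.leaf 6424)
 (.leaf 12673))
 (.node (.leaf 12189)
 (.leaf 8152))))
 (.node (.node (.node (.leaf 9062)
 (.leaf 9906))
 (.node (.leaf 11143)
 (.leaf 718)))
 (.node (.node (.leaf 2833)
 (.leaf 11985))
 (.node (.leaf 14136)
 (.leaf 11074))))))

def srtTB210 : RT := .node (.node (.node (.node (.node (.node (.leaf 129)
 (.leaf 2070))
 (.node (.leaf 14643)
 (.leaf 7477)))
 (.node (.node (.leaf 14834)
 (.leaf 10854))
 (.node (.leaf 10443)
 (.leaf 10345))))
 (.node (.node (.node (.leaf 9853)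
 (.leaf 6986))
 (.node (.leaf 11166)
 (.leaf 7075)))
 (.node (.node (.leaf 13861)
 (.leaf 3873))
 (.node (.leaf 31)
 (.leaf 2849)))))
 (.node (.node (.node (.node (.leaf 13391)
 (.leaf 7772))
 (.node (.leaf 12369)
 (.leaf 2036)))
 (.node (.node (.leaf 2702)
 (.leaf 12617))
 (.node (.leaf 13095)
 (.leaf 5282))))
 (.node (.node (.node (.leaf 11859)
 (.leaf 11565))
 (.node (.leaf 12639)
 (.leaf 1126)))
 (.node (.node (.leaf 4746)
 (.leaf 10782))
 (.node (.leaf 4353)
 (.leaf 1550))))))
 (.node (.node (.node (.node (.node (.leaf 281)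
 (.leaf 1458))
 (.node (.leaf 8414)
 (.leaf 7060)))
 (.node (.node (.leaf 5737)
 (.leaf 4922))
 (.node (.leaf 7240)
 (.leaf 10916))))
 (.node (.node (.node (.leaf 8855)
 (.leaf 11784))
 (.node (.leaf 8526)
 (.leaf 8667)))
 (.node (.node (.leaf 7281)
 (.leaf 3089))
 (.node (.leaf 6663)
 (.leaf 2086)))))
 (.node (.node (.node (.node (.leaf 6641)
 (.leaf 8077))
 (.node (.leaf 13339)
 (.leaf 14656)))
 (.node (.node (.leaf 1217)
 (.leaf 6547))
 (.node (.leaf 9587)
 (.leaf 13254))))
 (.node (.node (.node (.leaf 10148)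
 (.leaf 12363))
 (.node (.leaf 9837)
 (.leaf 1427)))
 (.node (.node (.leaf 10777)
 (.leaf 12326))
 (.node (.leaf 14382)
 (.leaf 4193))))))

def srtTB211 : RT := .node (.node (.node (.node (.node (.node (.leaf 3824)
 (.leaf 13783))
 (.node (.leaf 843)
 (.leaf 10015)))
 (.node (.node (.leaf 105)
 (.leaf 10950))
 (.node (.leaf 6243)
 (.leaf 7371))))
 (.node (.node (.node (.leaf 6016)
 (.leaf 2593))
 (.node (.leaf 14067)
 (.leaf 2623)))
 (.node (.node (.leaf 6472)
 (.leaf 510))
 (.node (.leaf 14758)
 (.leaf 10831)))))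
 (.node (.node (.node (.node (.leaf 11322)
 (.leaf 3646))
 (.node (.leaf 3327)
 (.leaf 12718)))
 (.node (.node (.leaf 13590)
 (.leaf 14817))
 (.node (.leaf 243)
 (.leaf 10399))))
 (.node (.node (.node (.leaf 13749)
 (.leaf 2582))
 (.node (.leaf 11824)
 (.leaf 9215)))
 (.node (.node (.leaf 12019)
 (.leaf 10332))
 (.node (.leaf 6865)
 (.leaf 7573))))))
 (.node (.node (.node (.node (.node (.leaf 5039)
 (.leaf 11724))
 (.node (.leaf 384)
 (.leaf 2457)))
 (.node (.node (.leaf 1706)
 (.leaf 7948))
 (.node (.leaf 9077)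
 (.leaf 8673))))
 (.node (.node (.node (.leaf 10494)
 (.leaf 42))
 (.node (.leaf 3716)
 (.leaf 9017)))
 (.node (.node (.leaf 5899)
 (.leaf 5341))
 (.node (.leaf 3254)
 (.leaf 4110)))))
 (.node (.node (.node (.node (.leaf 852)
 (.leaf 4446))
 (.node (.leaf 9052)
 (.leaf 7137)))
 (.node (.node (.leaf 13765)
 (.leaf 1803))
 (.node (.leaf 10410)
 (.leaf 10816))))
 (.node (.node (.node (.leaf 7982)
 (.leaf 1800))
 (.node (.leaf 3435)
 (.leaf 9738)))
 (.node (.node (.leaf 9340)
 (.leaf 14645))
 (.node (.leaf 4092)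
 (.leaf 14049))))))

def srtTB212 : RT := .node (.node (.node (.node (.node (.node (.leaf 2536)
 (.leaf 11367))
 (.node (.leaf 86)
 (.leaf 666)))
 (.node (.node (.leaf 13564)
 (.leaf 12682))
 (.node (.leaf 7603)
 (.leaf 13278))))
 (.node (.node (.node (.leaf 14898)
 (.leaf 7891))
 (.node (.leaf 8904)
 (.leaf 4105)))
 (.node (.node (.leaf 8944)
 (.leaf 4018))
 (.node (.leaf 1366)
 (.leaf 355)))))
 (.node (.node (.node (.node (.leaf 12114)
 (.leaf 11323))
 (.node (.leaf 6100)
 (.leaf 4027)))
 (.node (.node (.leaf 929)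
 (.leaf 11732))
 (.node (.leaf 1830)
 (.leaf 6234))))
 (.node (.node (.node (.leaf 10515)
 (.leaf 9038))
 (.node (.leaf 11981)
 (.leaf 9654)))
 (.node (.node (.leaf 2329)
 (.leaf 899))
 (.node (.leaf 5084)
 (.leaf 5061))))))
 (.node (.node (.node (.node (.node (.leaf 5075)
 (.leaf 12433))
 (.node (.leaf 6387)
 (.leaf 3950)))
 (.node (.node (.leaf 13712)
 (.leaf 9754))
 (.node (.leaf 12723)
 (.leaf 3378))))
 (.node (.node (.node (.leaf 1734)
 (.leaf 1816))
 (.node (.leaf 7893)
 (.leaf 12399)))
 (.node (.node (.leaf 10625)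
 (.leaf 10233))
 (.node (.leaf 13275)
 (.leaf 14195)))))
 (.node (.node (.node (.node (.leaf 4422)
 (.leaf 9296))
 (.node (.leaf 6579)
 (.leaf 10722)))
 (.node (.node (.leaf 14659)
 (.leaf 13474))
 (.node (.leaf 6876)
 (.leaf 11372))))
 (.node (.node (.node (.leaf 1012)
 (.leaf 14712))
 (.node (.leaf 1606)
 (.leaf 661)))
 (.node (.node (.leaf 3275)
 (.leaf 6004))
 (.node (.leaf 10951)
 (.leaf 12741))))))

def srtTB213 : RT := .node (.node (.node (.node (.node (.node (.leaf 11348)
 (.leaf 258))
 (.node (.leaf 10465)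
 (.leaf 13565)))
 (.node (.node (.leaf 3725)
 (.leaf 7231))
 (.node (.leaf 14606)
 (.leaf 3967))))
 (.node (.node (.node (.leaf 10173)
 (.leaf 13818))
 (.node (.leaf 6070)
 (.leaf 3285)))
 (.node (.node (.leaf 13966)
 (.leaf 72))
 (.node (.leaf 13299)
 (.leaf 14899)))))
 (.node (.node (.node (.node (.leaf 9649)
 (.leaf 7186))
 (.node (.leaf 11270)
 (.leaf 2635)))
 (.node (.node (.leaf 3240)
 (.leaf 12978))
 (.node (.leaf 14020)
 (.leaf 4649))))
 (.node (.node (.node (.leaf 2170)
 (.leaf 2867))
 (.node (.leaf 7873)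
 (.leaf 2003)))
 (.node (.node (.leaf 12618)
 (.leaf 10836))
 (.node (.leaf 13526)
 (.leaf 9928))))))
 (.node (.node (.node (.node (.node (.leaf 3843)
 (.leaf 10982))
 (.node (.leaf 14833)
 (.leaf 9455)))
 (.node (.node (.leaf 12632)
 (.leaf 8400))
 (.node (.leaf 14176)
 (.leaf 485))))
 (.node (.node (.node (.leaf 9804)
 (.leaf 400))
 (.node (.leaf 7511)
 (.leaf 2156)))
 (.node (.node (.leaf 9606)
 (.leaf 12605))
 (.node (.leaf 10109)
 (.leaf 1519)))))
 (.node (.node (.node (.node (.leaf 13703)
 (.leaf 6790))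
 (.node (.leaf 6582)
 (.leaf 134)))
 (.node (.node (.leaf 14539)
 (.leaf 12850))
 (.node (.leaf 13386)
 (.leaf 10631))))
 (.node (.node (.node (.leaf 6458)
 (.leaf 11393))
 (.node (.leaf 10914)
 (.leaf 6979)))
 (.node (.node (.leaf 352)
 (.leaf 4212))
 (.node (.leaf 4279)
 (.leaf 14630))))))

def srtTB214 : RT := .node (.node (.node (.node (.node (.node (.leaf 13602)
 (.leaf 3122))
 (.node (.leaf 2798)
 (.leaf 13285)))
 (.node (.node (.leaf 7769)
 (.leaf 10028))
 (.node (.leaf 126)
 (.leaf 11574))))
 (.node (.node (.node (.leaf 2138)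
 (.leaf 10530))
 (.node (.leaf 14112)
 (.leaf 2908)))
 (.node (.node (.leaf 948)
 (.leaf 2023))
 (.node (.leaf 14393)
 (.leaf 13640)))))
 (.node (.node (.node (.node (.leaf 6177)
 (.leaf 13109))
 (.node (.leaf 14487)
 (.leaf 2160)))
 (.node (.node (.leaf 10959)
 (.leaf 12905))
 (.node (.leaf 8145)
 (.leaf 13524))))
 (.node (.node (.node (.leaf 4612)
 (.leaf 9746))
 (.node (.leaf 6342)
 (.leaf 9188)))
 (.node (.node (.leaf 8981)
 (.leaf 5114))
 (.node (.leaf 8776)
 (.leaf 11876))))))
 (.node (.node (.node (.node (.node (.leaf 2371)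
 (.leaf 10701))
 (.node (.leaf 812)
 (.leaf 12747)))
 (.node (.node (.leaf 9053)
 (.leaf 4523))
 (.node (.leaf 836)
 (.leaf 4550))))
 (.node (.node (.node (.leaf 3742)
 (.leaf 3299))
 (.node (.leaf 1159)
 (.leaf 1738)))
 (.node (.node (.leaf 11711)
 (.leaf 11274))
 (.node (.leaf 5060)
 (.leaf 7794)))))
 (.node (.node (.node (.node (.leaf 6727)
 (.leaf 5464))
 (.node (.leaf 11836)
 (.leaf 491)))
 (.node (.node (.leaf 12264)
 (.leaf 12062))
 (.node (.leaf 2479)
 (.leaf 4035))))
 (.node (.node (.node (.leaf 8460)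
 (.leaf 8933))
 (.node (.leaf 1155)
 (.leaf 12104)))
 (.node (.node (.leaf 5458)
 (.leaf 9072))
 (.node (.leaf 6978)
 (.leaf 1692))))))

def srtTB215 : RT := .node (.node (.node (.node (.node (.node (.leaf 10567)
 (.leaf 4543))
 (.node (.leaf 4501)
 (.leaf 11957)))
 (.node (.node (.leaf 8942)
 (.leaf 890))
 (.node (.leaf 8315)
 (.leaf 10638))))
 (.node (.node (.node (.leaf 6828)
 (.leaf 14775))
 (.node (.leaf 11559)
 (.leaf 11421)))
 (.node (.node (.leaf 7788)
 (.leaf 9717))
 (.node (.leaf 9409)
 (.leaf 3004)))))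
 (.node (.node (.node (.node (.leaf 6490)
 (.leaf 3096))
 (.node (.leaf 2005)
 (.leaf 3677)))
 (.node (.node (.leaf 4796)
 (.leaf 14002))
 (.node (.leaf 365)
 (.leaf 14386))))
 (.node (.node (.node (.leaf 2022)
 (.leaf 10059))
 (.node (.leaf 13555)
 (.leaf 10765)))
 (.node (.node (.leaf 12620)
 (.leaf 14168))
 (.node (.leaf 12324)
 (.leaf 13119))))))
 (.node (.node (.node (.node (.node (.leaf 1902)
 (.leaf 12522))
 (.node (.leaf 4220)
 (.leaf 9585)))
 (.node (.node (.leaf 14025)
 (.leaf 3560))
 (.node (.leaf 10146)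
 (.leaf 11075))))
 (.node (.node (.node (.leaf 331)
 (.leaf 7379))
 (.node (.leaf 14868)
 (.leaf 10260)))
 (.node (.node (.leaf 10928)
 (.leaf 13411))
 (.node (.leaf 1287)
 (.leaf 6829)))))
 (.node (.node (.node (.node (.leaf 6061)
 (.leaf 14174))
 (.node (.leaf 1264)
 (.leaf 780)))
 (.node (.node (.leaf 12643)
 (.leaf 14377))
 (.node (.leaf 7110)
 (.leaf 9986))))
 (.node (.node (.node (.leaf 14264)
 (.leaf 4888))
 (.node (.leaf 1314)
 (.leaf 8187)))
 (.node (.node (.leaf 3365)
 (.leaf 5377))
 (.node (.leaf 5895)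
 (.leaf 1461))))))

def srtTB216 : RT := .node (.node (.node (.node (.node (.node (.leaf 7076)
 (.leaf 4944))
 (.node (.leaf 7419)
 (.leaf 14935)))
 (.node (.node (.leaf 3007)
 (.leaf 6206))
 (.node (.leaf 1693)
 (.leaf 7934))))
 (.node (.node (.node (.leaf 5034)
 (.leaf 6811))
 (.node (.leaf 7192)
 (.leaf 5572)))
 (.node (.node (.leaf 3598)
 (.leaf 1948))
 (.node (.leaf 3366)
 (.leaf 1465)))))
 (.node (.node (.node (.node (.leaf 7503)
 (.leaf 7384))
 (.node (.leaf 2547)
 (.leaf 2527)))
 (.node (.node (.leaf 5492)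
 (.leaf 4882))
 (.node (.leaf 5314)
 (.leaf 14941))))
 (.node (.node (.node (.leaf 7914)
 (.leaf 1763))
 (.node (.leaf 7631)
 (.leaf 4831)))
 (.node (.node (.leaf 2018)
 (.leaf 7750))
 (.node (.leaf 4974)
 (.leaf 2782))))))
 (.node (.node (.node (.node (.node (.leaf 6045)
 (.leaf 5941))
 (.node (.leaf 6548)
 (.leaf 6168)))
 (.node (.node (.leaf 5871)
 (.leaf 5227))
 (.node (.leaf 14223)
 (.leaf 7984))))
 (.node (.node (.node (.leaf 5892)
 (.leaf 5739))
 (.node (.leaf 5735)
 (.leaf 7611)))
 (.node (.node (.leaf 1419)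
 (.leaf 8266))
 (.node (.leaf 6063)
 (.leaf 6697)))))
 (.node (.node (.node (.node (.leaf 5722)
 (.leaf 2784))
 (.node (.leaf 5444)
 (.leaf 6224)))
 (.node (.node (.leaf 1330)
 (.leaf 1526))
 (.node (.leaf 1705)
 (.leaf 1351))))
 (.node (.node (.node (.leaf 2077)
 (.leaf 5017))
 (.node (.leaf 7067)
 (.leaf 2497)))
 (.node (.node (.leaf 8069)
 (.leaf 14966))
 (.node (.leaf 5991)
 (.leaf 6487))))))

def srtTB217 : RT := .node (.node (.node (.node (.node (.node (.leaf 13146)
 (.leaf 10039))
 (.node (.leaf 14517)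
 (.leaf 2882)))
 (.node (.node (.leaf 13389)
 (.leaf 14445))
 (.node (.leaf 6368)
 (.leaf 10019))))
 (.node (.node (.node (.leaf 1521)
 (.leaf 9406))
 (.node (.leaf 4691)
 (.leaf 11260)))
 (.node (.node (.leaf 12356)
 (.leaf 7905))
 (.node (.leaf 2788)
 (.leaf 11217)))))
 (.node (.node (.node (.node (.leaf 6471)
 (.leaf 12958))
 (.node (.leaf 425)
 (.leaf 959)))
 (.node (.node (.leaf 3087)
 (.leaf 4229))
 (.node (.leaf 13741)
 (.leaf 8))))
 (.node (.node (.node (.leaf 5393)
 (.leaf 7851))
 (.node (.leaf 7949)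
 (.leaf 11617)))
 (.node (.node (.leaf 9129)
 (.leaf 3211))
 (.node (.leaf 4557)
 (.leaf 8893))))))
 (.node (.node (.node (.node (.node (.leaf 10266)
 (.leaf 5835))
 (.node (.leaf 907)
 (.leaf 12823)))
 (.node (.node (.leaf 8496)
 (.leaf 5544))
 (.node (.leaf 9393)
 (.leaf 3653))))
 (.node (.node (.node (.leaf 2458)
 (.leaf 4416))
 (.node (.leaf 855)
 (.leaf 11592)))
 (.node (.node (.leaf 12020)
 (.leaf 2546))
 (.node (.leaf 8982)
 (.leaf 358)))))
 (.node (.node (.node (.node (.leaf 8668)
 (.leaf 11265))
 (.node (.leaf 11997)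
 (.leaf 5528)))
 (.node (.node (.leaf 5889)
 (.leaf 7886))
 (.node (.leaf 492)
 (.leaf 4130))))
 (.node (.node (.node (.leaf 6352)
 (.leaf 12172))
 (.node (.leaf 11271)
 (.leaf 8506)))
 (.node (.node (.leaf 6909)
 (.leaf 12010))
 (.node (.leaf 2229)
 (.leaf 3445))))))

def srtTB218 : RT := .node (.node (.node (.node (.node (.node (.leaf 4551)
 (.leaf 12742))
 (.node (.leaf 8943)
 (.leaf 3213)))
 (.node (.node (.leaf 8771)
 (.leaf 4505))
 (.node (.leaf 789)
 (.leaf 5513))))
 (.node (.node (.node (.leaf 7362)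
 (.leaf 7802))
 (.node (.leaf 9665)
 (.leaf 14867)))
 (.node (.node (.leaf 2556)
 (.leaf 9881))
 (.node (.leaf 11359)
 (.leaf 7618)))))
 (.node (.node (.node (.node (.leaf 14011)
 (.leaf 10190))
 (.node (.leaf 2307)
 (.leaf 11365)))
 (.node (.node (.leaf 992)
 (.leaf 284))
 (.node (.leaf 14432)
 (.leaf 12468))))
 (.node (.node (.node (.leaf 3426)
 (.leaf 9696))
 (.node (.leaf 7030)
 (.leaf 13825)))
 (.node (.node (.leaf 1392)
 (.leaf 4004))
 (.node (.leaf 3307)
 (.leaf 11387))))))
 (.node (.node (.node (.node (.node (.leaf 14559)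
 (.leaf 10522))
 (.node (.leaf 2504)
 (.leaf 10594)))
 (.node (.node (.leaf 11091)
 (.leaf 7222))
 (.node (.leaf 13648)
 (.leaf 6419))))
 (.node (.node (.node (.leaf 21)
 (.leaf 4402))
 (.node (.leaf 6110)
 (.leaf 9532)))
 (.node (.node (.leaf 7636)
 (.leaf 13769))
 (.node (.leaf 11424)
 (.leaf 4091)))))
 (.node (.node (.node (.node (.leaf 3287)
 (.leaf 1060))
 (.node (.leaf 12704)
 (.leaf 13218)))
 (.node (.node (.leaf 14818)
 (.leaf 2676))
 (.node (.leaf 12822)
 (.leaf 4896))))
 (.node (.node (.node (.leaf 3198)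
 (.leaf 5371))
 (.node (.leaf 9124)
 (.leaf 11381)))
 (.node (.node (.leaf 47)
 (.leaf 3269))
 (.node (.leaf 3633)
 (.leaf 6748))))))

def srtTB219 : RT := .node (.node (.node (.node (.node (.node (.leaf 3993)
 (.leaf 11687))
 (.node (.leaf 8651)
 (.leaf 12984)))
 (.node (.node (.leaf 8679)
 (.leaf 6777))
 (.node (.leaf 803)
 (.leaf 424))))
 (.node (.node (.node (.leaf 11804)
 (.leaf 8478))
 (.node (.leaf 11666)
 (.leaf 5480)))
 (.node (.node (.leaf 10411)
 (.leaf 6322))
 (.node (.leaf 4465)
 (.leaf 12694)))))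
 (.node (.node (.node (.node (.leaf 13923)
 (.leaf 12799))
 (.node (.leaf 9599)
 (.leaf 3331)))
 (.node (.node (.leaf 7923)
 (.leaf 3793))
 (.node (.leaf 1133)
 (.leaf 14359))))
 (.node (.node (.node (.leaf 6616)
 (.leaf 6047))
 (.node (.leaf 2386)
 (.leaf 4144)))
 (.node (.node (.leaf 13485)
 (.leaf 3354))
 (.node (.leaf 11466)
 (.leaf 10847))))))
 (.node (.node (.node (.node (.node (.leaf 13611)
 (.leaf 14753))
 (.node (.leaf 10653)
 (.leaf 10977)))
 (.node (.node (.leaf 8319)
 (.leaf 1845))
 (.node (.leaf 9861)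
 (.leaf 5709))))
 (.node (.node (.node (.leaf 6193)
 (.leaf 11478))
 (.node (.leaf 5671)
 (.leaf 4366)))
 (.node (.node (.leaf 592)
 (.leaf 4284))
 (.node (.leaf 12557)
 (.leaf 546)))))
 (.node (.node (.node (.node (.leaf 10848)
 (.leaf 5275))
 (.node (.leaf 11868)
 (.leaf 12094)))
 (.node (.node (.leaf 8457)
 (.leaf 3077))
 (.node (.leaf 7486)
 (.leaf 7254))))
 (.node (.node (.node (.leaf 4314)
 (.leaf 9147))
 (.node (.leaf 8556)
 (.leaf 8620)))
 (.node (.node (.leaf 204)
 (.leaf 11884))
 (.node (.leaf 13093)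
 (.leaf 6325))))))

def srtTB220 : RT := .node (.node (.node (.node (.node (.node (.leaf 13429)
 (.leaf 10807))
 (.node (.leaf 4350)
 (.leaf 7343)))
 (.node (.node (.leaf 4737)
 (.leaf 2162))
 (.node (.leaf 12929)
 (.leaf 9219))))
 (.node (.node (.node (.leaf 14066)
 (.leaf 9565))
 (.node (.leaf 2937)
 (.leaf 876)))
 (.node (.node (.leaf 13931)
 (.leaf 1970))
 (.node (.leaf 14492)
 (.leaf 2054)))))
 (.node (.node (.node (.node (.leaf 10532)
 (.leaf 6884))
 (.node (.leaf 14307)
 (.leaf 946)))
 (.node (.node (.leaf 7288)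
 (.leaf 12341))
 (.node (.leaf 1831)
 (.leaf 4940))))
 (.node (.node (.node (.leaf 1822)
 (.leaf 4956))
 (.node (.leaf 7715)
 (.leaf 5398)))
 (.node (.node (.leaf 6857)
 (.leaf 6333))
 (.node (.leaf 14949)
 (.leaf 6493))))))
 (.node (.node (.node (.node (.node (.leaf 6146)
 (.leaf 7986))
 (.node (.leaf 14242)
 (.leaf 7801)))
 (.node (.node (.leaf 2982)
 (.leaf 5199))
 (.node (.leaf 5191)
 (.leaf 6178))))
 (.node (.node (.node (.leaf 5518)
 (.leaf 2739))
 (.node (.leaf 2909)
 (.leaf 4903)))
 (.node (.node (.leaf 1975)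
 (.leaf 2686))
 (.node (.leaf 14061)
 (.leaf 196)))))
 (.node (.node (.node (.node (.leaf 13103)
 (.leaf 7530))
 (.node (.leaf 4572)
 (.leaf 10941)))
 (.node (.node (.leaf 13371)
 (.leaf 3757))
 (.node (.leaf 6400)
 (.leaf 978))))
 (.node (.node (.node (.leaf 10259)
 (.leaf 10689))
 (.node (.leaf 9321)
 (.leaf 3443)))
 (.node (.node (.leaf 12965)
 (.leaf 3322))
 (.node (.leaf 11457)
 (.leaf 14458))))))

def srtTB221 : RT := .node (.node (.node (.node (.node (.node (.leaf 13723)
 (.leaf 6571))
 (.node (.leaf 6889)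
 (.leaf 12454)))
 (.node (.node (.leaf 1587)
 (.leaf 733))
 (.node (.leaf 13052)
 (.leaf 2412))))
 (.node (.node (.node (.leaf 6531)
 (.leaf 4598))
 (.node (.leaf 10421)
 (.leaf 4414)))
 (.node (.node (.leaf 7713)
 (.leaf 1712))
 (.node (.leaf 10193)
 (.leaf 14613)))))
 (.node (.node (.node (.node (.leaf 12279)
 (.leaf 14303))
 (.node (.leaf 995)
 (.leaf 2273)))
 (.node (.node (.leaf 10556)
 (.leaf 11014))
 (.node (.leaf 12774)
 (.leaf 9397))))
 (.node (.node (.node (.leaf 6964)
 (.leaf 13885))
 (.node (.leaf 8216)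
 (.leaf 14172)))
 (.node (.node (.leaf 2481)
 (.leaf 14077))
 (.node (.leaf 4040)
 (.leaf 11237))))))
 (.node (.node (.node (.node (.node (.leaf 12458)
 (.leaf 9737))
 (.node (.leaf 7883)
 (.leaf 4773)))
 (.node (.node (.leaf 14631)
 (.leaf 7277))
 (.node (.leaf 2430)
 (.leaf 2237))))
 (.node (.node (.node (.leaf 9947)
 (.leaf 1008))
 (.node (.leaf 82)
 (.leaf 13383)))
 (.node (.node (.leaf 1754)
 (.leaf 14047))
 (.node (.leaf 8224)
 (.leaf 12274)))))
 (.node (.node (.node (.node (.leaf 14721)
 (.leaf 11590))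
 (.node (.leaf 13200)
 (.leaf 11053)))
 (.node (.node (.leaf 13515)
 (.leaf 10248))
 (.node (.leaf 12655)
 (.leaf 13882))))
 (.node (.node (.node (.leaf 11120)
 (.leaf 3063))
 (.node (.leaf 7561)
 (.leaf 1149)))
 (.node (.node (.leaf 1425)
 (.leaf 10992))
 (.node (.leaf 13082)
 (.leaf 14655))))))

def srtTB222 : RT := .node (.node (.node (.node (.node (.node (.leaf 6411)
 (.leaf 2861))
 (.node (.leaf 11218)
 (.leaf 7212)))
 (.node (.node (.leaf 12552)
 (.leaf 426))
 (.node (.leaf 14459)
 (.leaf 13637))))
 (.node (.node (.node (.leaf 11499)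
 (.leaf 9867))
 (.node (.leaf 4692)
 (.leaf 3822)))
 (.node (.node (.leaf 7024)
 (.leaf 2207))
 (.node (.leaf 12190)
 (.leaf 3851)))))
 (.node (.node (.node (.node (.leaf 11838)
 (.leaf 4636))
 (.node (.leaf 12159)
 (.leaf 10177)))
 (.node (.node (.leaf 9151)
 (.leaf 8779))
 (.node (.leaf 4961)
 (.leaf 4843))))
 (.node (.node (.node (.leaf 1033)
 (.leaf 5139))
 (.node (.leaf 1224)
 (.leaf 9489)))
 (.node (.node (.leaf 7207)
 (.leaf 8568))
 (.node (.leaf 4241)
 (.leaf 8463))))))
 (.node (.node (.node (.node (.node (.leaf 538)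
 (.leaf 6035))
 (.node (.leaf 704)
 (.leaf 1430)))
 (.node (.node (.leaf 396)
 (.leaf 7555))
 (.node (.leaf 1680)
 (.leaf 5554))))
 (.node (.node (.node (.leaf 4100)
 (.leaf 9577))
 (.node (.leaf 8659)
 (.leaf 7765)))
 (.node (.node (.leaf 4546)
 (.leaf 5426))
 (.node (.leaf 11987)
 (.leaf 10483)))))
 (.node (.node (.node (.node (.leaf 8436)
 (.leaf 12266))
 (.node (.leaf 11735)
 (.leaf 394)))
 (.node (.node (.leaf 8459)
 (.leaf 12045))
 (.node (.leaf 5840)
 (.leaf 8892))))
 (.node (.node (.node (.leaf 11305)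
 (.leaf 6645))
 (.node (.leaf 854)
 (.leaf 3338)))
 (.node (.node (.leaf 14901)
 (.leaf 8160))
 (.node (.leaf 4839)
 (.leaf 5450))))))

def srtTB223 : RT := .node (.node (.node (.node (.node (.node (.leaf 6249)
 (.leaf 7442))
 (.node (.leaf 2865)
 (.leaf 2840)))
 (.node (.node (.leaf 1858)
 (.leaf 1531))
 (.node (.leaf 2331)
 (.leaf 6620))))
 (.node (.node (.node (.leaf 2256)
 (.leaf 3351))
 (.node (.leaf 6780)
 (.leaf 7246)))
 (.node (.node (.leaf 5500)
 (.leaf 5752))
 (.node (.leaf 5332)
 (.leaf 1818)))))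
 (.node (.node (.node (.node (.leaf 5588)
 (.leaf 14205))
 (.node (.leaf 5352)
 (.leaf 5259)))
 (.node (.node (.leaf 7741)
 (.leaf 7800))
 (.node (.leaf 7351)
 (.leaf 8409))))
 (.node (.node (.node (.leaf 8584)
 (.leaf 11779))
 (.node (.leaf 8845)
 (.leaf 3900)))
 (.node (.node (.leaf 1293)
 (.leaf 1889))
 (.node (.leaf 11747)
 (.leaf 10871))))))
 (.node (.node (.node (.node (.node (.leaf 4242)
 (.leaf 12660))
 (.node (.leaf 5634)
 (.leaf 78)))
 (.node (.node (.leaf 8610)
 (.leaf 1025))
 (.node (.leaf 3068)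
 (.leaf 11095))))
 (.node (.node (.node (.leaf 8106)
 (.leaf 5750))
 (.node (.leaf 736)
 (.leaf 7385)))
 (.node (.node (.leaf 9449)
 (.leaf 1261))
 (.node (.leaf 874)
 (.leaf 14308)))))
 (.node (.node (.node (.node (.leaf 1915)
 (.leaf 10873))
 (.node (.leaf 13422)
 (.leaf 13681)))
 (.node (.node (.leaf 11351)
 (.leaf 11049))
 (.node (.leaf 8148)
 (.leaf 12601))))
 (.node (.node (.node (.leaf 9547)
 (.leaf 2123))
 (.node (.leaf 13233)
 (.leaf 1968)))
 (.node (.node (.leaf 1161)
 (.leaf 7879))
 (.node (.leaf 8171)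
 (.leaf 13742))))))

def srtTB224 : RT := .node (.node (.node (.node (.node (.node (.leaf 6702)
 (.leaf 3848))
 (.node (.leaf 10805)
 (.leaf 9621)))
 (.node (.node (.leaf 4721)
 (.leaf 251))
 (.node (.leaf 4190)
 (.leaf 11940))))
 (.node (.node (.node (.leaf 8141)
 (.leaf 8085))
 (.node (.leaf 12180)
 (.leaf 4313)))
 (.node (.node (.leaf 8794)
 (.leaf 2960))
 (.node (.leaf 6554)
 (.leaf 640)))))
 (.node (.node (.node (.node (.leaf 11725)
 (.leaf 3512))
 (.node (.leaf 8871)
 (.leaf 9186)))
 (.node (.node (.leaf 8833)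
 (.leaf 12907))
 (.node (.leaf 5678)
 (.leaf 3485))))
 (.node (.node (.node (.leaf 525)
 (.leaf 9958))
 (.node (.leaf 9941)
 (.leaf 9531)))
 (.node (.node (.leaf 4918)
 (.leaf 12495))
 (.node (.leaf 6918)
 (.leaf 14862))))))
 (.node (.node (.node (.node (.node (.leaf 13476)
 (.leaf 13853))
 (.node (.leaf 1631)
 (.leaf 594)))
 (.node (.node (.leaf 7768)
 (.leaf 11461))
 (.node (.leaf 3340)
 (.leaf 1747))))
 (.node (.node (.node (.leaf 10234)
 (.leaf 4499))
 (.node (.leaf 274)
 (.leaf 10165)))
 (.node (.node (.leaf 10335)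
 (.leaf 6443))
 (.node (.leaf 14671)
 (.leaf 1591)))))
 (.node (.node (.node (.node (.leaf 8157)
 (.leaf 12201))
 (.node (.leaf 14122)
 (.leaf 10124)))
 (.node (.node (.leaf 13186)
 (.leaf 11420))
 (.node (.leaf 10824)
 (.leaf 11451))))
 (.node (.node (.node (.leaf 6574)
 (.leaf 4249))
 (.node (.leaf 14586)
 (.leaf 6022)))
 (.node (.node (.leaf 11099)
 (.leaf 11071))
 (.node (.leaf 927)
 (.leaf 3085))))))

def srtTB225 : RT := .node (.node (.node (.node (.node (.node (.leaf 14010)
 (.leaf 14358))
 (.node (.leaf 13600)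
 (.leaf 7447)))
 (.node (.node (.leaf 3798)
 (.leaf 324))
 (.node (.leaf 1448)
 (.leaf 7795))))
 (.node (.node (.node (.leaf 10562)
 (.leaf 9523))
 (.node (.leaf 12548)
 (.leaf 13662)))
 (.node (.node (.leaf 2082)
 (.leaf 13266))
 (.node (.leaf 2748)
 (.leaf 12869)))))
 (.node (.node (.node (.node (.leaf 7410)
 (.leaf 5640))
 (.node (.leaf 2913)
 (.leaf 1884)))
 (.node (.node (.leaf 14940)
 (.leaf 1731))
 (.node (.leaf 7992)
 (.leaf 5326))))
 (.node (.node (.node (.leaf 6617)
 (.leaf 14218))
 (.node (.leaf 2954)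
 (.leaf 5522)))
 (.node (.node (.leaf 8316)
 (.leaf 5472))
 (.node (.leaf 3011)
 (.leaf 5693))))))
 (.node (.node (.node (.node (.node (.leaf 2351)
 (.leaf 7606))
 (.node (.leaf 1316)
 (.leaf 6668)))
 (.node (.node (.leaf 5951)
 (.leaf 3368))
 (.node (.leaf 7270)
 (.leaf 7620))))
 (.node (.node (.node (.leaf 5880)
 (.leaf 5549))
 (.node (.leaf 7286)
 (.leaf 14221)))
 (.node (.node (.leaf 4827)
 (.leaf 1493))
 (.node (.leaf 5130)
 (.leaf 4804)))))
 (.node (.node (.node (.node (.leaf 4906)
 (.leaf 5184))
 (.node (.leaf 6682)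
 (.leaf 7828)))
 (.node (.node (.leaf 7134)
 (.leaf 1331))
 (.node (.leaf 8360)
 (.leaf 3449))))
 (.node (.node (.node (.leaf 5647)
 (.leaf 1716))
 (.node (.leaf 4947)
 (.leaf 6236)))
 (.node (.node (.leaf 2941)
 (.leaf 14964))
 (.node (.leaf 6572)
 (.leaf 5661))))))

def srtTB226 : RT := .node (.node (.node (.node (.node (.node (.leaf 2901)
 (.leaf 6489))
 (.node (.leaf 8209)
 (.leaf 4943)))
 (.node (.node (.leaf 12145)
 (.leaf 9154))
 (.node (.leaf 12330)
 (.leaf 11147))))
 (.node (.node (.node (.leaf 710)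
 (.leaf 3621))
 (.node (.leaf 1906)
 (.leaf 3145)))
 (.node (.node (.leaf 9426)
 (.leaf 3045))
 (.node (.leaf 8793)
 (.leaf 12043)))))
 (.node (.node (.node (.node (.leaf 583)
 (.leaf 8684))
 (.node (.leaf 3917)
 (.leaf 308)))
 (.node (.node (.leaf 6618)
 (.leaf 5249))
 (.node (.leaf 9514)
 (.leaf 6121))))
 (.node (.node (.node (.leaf 8748)
 (.leaf 4915))
 (.node (.leaf 12126)
 (.leaf 3840)))
 (.node (.node (.leaf 7402)
 (.leaf 14902))
 (.node (.leaf 5961)
 (.leaf 6633))))))
 (.node (.node (.node (.node (.node (.leaf 4936)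
 (.leaf 2152))
 (.node (.leaf 5706)
 (.leaf 3550)))
 (.node (.node (.leaf 7744)
 (.leaf 6765))
 (.node (.leaf 3209)
 (.leaf 6776))))
 (.node (.node (.node (.leaf 3583)
 (.leaf 5430))
 (.node (.leaf 7496)
 (.leaf 6201)))
 (.node (.node (.leaf 5110)
 (.leaf 7817))
 (.node (.leaf 5286)
 (.leaf 5437)))))
 (.node (.node (.node (.node (.leaf 14220)
 (.leaf 5540))
 (.node (.leaf 7666)
 (.leaf 11302)))
 (.node (.node (.leaf 13071)
 (.leaf 4459))
 (.node (.leaf 1246)
 (.leaf 1719))))
 (.node (.node (.node (.leaf 10656)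
 (.leaf 12391))
 (.node (.leaf 9777)
 (.leaf 13893)))
 (.node (.node (.leaf 1602)
 (.leaf 14797))
 (.node (.leaf 6032)
 (.leaf 3724))))))

def srtTB227 : RT := .node (.node (.node (.node (.node (.node (.leaf 10717)
 (.leaf 14341))
 (.node (.leaf 10406)
 (.leaf 6980)))
 (.node (.node (.leaf 14144)
 (.leaf 7987))
 (.node (.leaf 9413)
 (.leaf 13473))))
 (.node (.node (.node (.leaf 3339)
 (.leaf 663))
 (.node (.leaf 13333)
 (.leaf 8217)))
 (.node (.node (.leaf 12914)
 (.leaf 829))
 (.node (.leaf 10422)
 (.leaf 6953)))))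
 (.node (.node (.node (.node (.leaf 14533)
 (.leaf 1568))
 (.node (.leaf 4666)
 (.leaf 107)))
 (.node (.node (.leaf 12653)
 (.leaf 9411))
 (.node (.leaf 14348)
 (.leaf 10062))))
 (.node (.node (.node (.leaf 3013)
 (.leaf 10767))
 (.node (.leaf 7674)
 (.leaf 14113)))
 (.node (.node (.leaf 13883)
 (.leaf 3069))
 (.node (.leaf 6492)
 (.leaf 10976))))))
 (.node (.node (.node (.node (.node (.leaf 13076)
 (.leaf 11377))
 (.node (.leaf 2768)
 (.leaf 1071)))
 (.node (.node (.leaf 12261)
 (.leaf 14328))
 (.node (.leaf 10738)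
 (.leaf 7625))))
 (.node (.node (.node (.leaf 2345)
 (.leaf 6009))
 (.node (.leaf 11307)
 (.leaf 9851)))
 (.node (.node (.leaf 13957)
 (.leaf 9827))
 (.node (.leaf 7443)
 (.leaf 11183)))))
 (.node (.node (.node (.node (.leaf 2258)
 (.leaf 2659))
 (.node (.leaf 3978)
 (.leaf 7726)))
 (.node (.node (.leaf 1707)
 (.leaf 13031))
 (.node (.leaf 9628)
 (.leaf 12837))))
 (.node (.node (.node (.leaf 14594)
 (.leaf 13634))
 (.node (.leaf 694)
 (.leaf 13467)))
 (.node (.node (.leaf 13059)
 (.leaf 14360))
 (.node (.leaf 1199)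
 (.leaf 10654))))))

def srtTB228 : RT := .node (.node (.node (.node (.node (.node (.leaf 6540)
 (.leaf 9267))
 (.node (.leaf 3641)
 (.leaf 10346)))
 (.node (.node (.leaf 7924)
 (.leaf 14038))
 (.node (.leaf 623)
 (.leaf 7045))))
 (.node (.node (.node (.leaf 10978)
 (.leaf 4591))
 (.node (.leaf 12695)
 (.leaf 3306)))
 (.node (.node (.leaf 13612)
 (.leaf 13573))
 (.node (.leaf 3355)
 (.leaf 8320)))))
 (.node (.node (.node (.node (.leaf 14777)
 (.leaf 3332))
 (.node (.leaf 10591)
 (.leaf 11327)))
 (.node (.node (.leaf 1311)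
 (.leaf 12492))
 (.node (.leaf 1163)
 (.leaf 1925))))
 (.node (.node (.node (.leaf 9513)
 (.leaf 9998))
 (.node (.leaf 6831)
 (.leaf 14008)))
 (.node (.node (.leaf 8189)
 (.leaf 3605))
 (.node (.leaf 8070)
 (.leaf 14877))))))
 (.node (.node (.node (.node (.node (.leaf 12883)
 (.leaf 12509))
 (.node (.leaf 784)
 (.leaf 1846)))
 (.node (.node (.leaf 14582)
 (.leaf 9209))
 (.node (.leaf 10821)
 (.leaf 4215))))
 (.node (.node (.node (.leaf 2979)
 (.leaf 13111))
 (.node (.leaf 13746)
 (.leaf 6211)))
 (.node (.node (.leaf 9517)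
 (.leaf 10252))
 (.node (.leaf 2732)
 (.leaf 4048)))))
 (.node (.node (.node (.node (.leaf 13252)
 (.leaf 713))
 (.node (.leaf 13606)
 (.leaf 14387)))
 (.node (.node (.leaf 13561)
 (.leaf 6779))
 (.node (.leaf 7111)
 (.leaf 12985))))
 (.node (.node (.node (.leaf 7612)
 (.leaf 13788))
 (.node (.leaf 10665)
 (.leaf 9394)))
 (.node (.node (.leaf 3212)
 (.leaf 9662))
 (.node (.leaf 2448)
 (.leaf 14418))))))

def srtTB229 : RT := .node (.node (.node (.node (.node (.node (.leaf 1837)
 (.leaf 8044))
 (.node (.leaf 12727)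
 (.leaf 9361)))
 (.node (.node (.leaf 245)
 (.leaf 10764))
 (.node (.leaf 1613)
 (.leaf 9931))))
 (.node (.node (.node (.leaf 4472)
 (.leaf 13463))
 (.node (.leaf 6386)
 (.leaf 2452)))
 (.node (.node (.leaf 1011)
 (.leaf 10444))
 (.node (.leaf 14029)
 (.leaf 1605)))))
 (.node (.node (.node (.node (.leaf 7779)
 (.leaf 9369))
 (.node (.leaf 13271)
 (.leaf 12757)))
 (.node (.node (.leaf 10492)
 (.leaf 10742))
 (.node (.leaf 4055)
 (.leaf 12273))))
 (.node (.node (.node (.leaf 1202)
 (.leaf 9942))
 (.node (.leaf 11298)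
 (.leaf 14426)))
 (.node (.node (.leaf 1089)
 (.leaf 14344))
 (.node (.leaf 13896)
 (.leaf 6961))))))
 (.node (.node (.node (.node (.node (.leaf 7333)
 (.leaf 4475))
 (.node (.leaf 1733)
 (.leaf 771)))
 (.node (.node (.leaf 12638)
 (.leaf 9558))
 (.node (.leaf 1151)
 (.leaf 2053))))
 (.node (.node (.node (.leaf 11067)
 (.leaf 14017))
 (.node (.leaf 11411)
 (.leaf 14306)))
 (.node (.node (.leaf 13420)
 (.leaf 12240))
 (.node (.leaf 2864)
 (.leaf 7245)))))
 (.node (.node (.node (.node (.leaf 9959)
 (.leaf 14749))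
 (.node (.leaf 6883)
 (.leaf 4717)))
 (.node (.node (.leaf 2161)
 (.leaf 7374))
 (.node (.leaf 10948)
 (.leaf 1417))))
 (.node (.node (.node (.leaf 3803)
 (.leaf 13977))
 (.node (.leaf 13092)
 (.leaf 7020)))
 (.node (.node (.leaf 10283)
 (.leaf 908))
 (.node (.leaf 12255)
 (.leaf 14110))))))

def srtTB230 : RT := .node (.node (.node (.node (.node (.node (.leaf 2925)
 (.leaf 8104))
 (.node (.leaf 14650)
 (.leaf 11117)))
 (.node (.node (.leaf 1559)
 (.leaf 13407))
 (.node (.leaf 10242)
 (.leaf 14104))))
 (.node (.node (.node (.leaf 9637)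
 (.leaf 7861))
 (.node (.leaf 7546)
 (.leaf 4208)))
 (.node (.node (.leaf 1986)
 (.leaf 13139))
 (.node (.leaf 10103)
 (.leaf 475)))))
 (.node (.node (.node (.node (.leaf 12645)
 (.leaf 1218))
 (.node (.leaf 10787)
 (.leaf 8259)))
 (.node (.node (.leaf 11114)
 (.leaf 3870))
 (.node (.leaf 14552)
 (.leaf 6371))))
 (.node (.node (.node (.leaf 2654)
 (.leaf 12481))
 (.node (.leaf 11225)
 (.leaf 14784)))
 (.node (.node (.leaf 7480)
 (.leaf 2519))
 (.node (.leaf 6712)
 (.leaf 11203))))))
 (.node (.node (.node (.node (.node (.leaf 4496)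
 (.leaf 11595))
 (.node (.leaf 2296)
 (.leaf 13761)))
 (.node (.node (.leaf 4003)
 (.leaf 10533))
 (.node (.leaf 75)
 (.leaf 2540))))
 (.node (.node (.node (.leaf 11082)
 (.leaf 7133))
 (.node (.leaf 14015)
 (.leaf 12789)))
 (.node (.node (.leaf 1115)
 (.leaf 14427))
 (.node (.leaf 10153)
 (.leaf 13354)))))
 (.node (.node (.node (.node (.leaf 13094)
 (.leaf 14550))
 (.node (.leaf 7178)
 (.leaf 1214)))
 (.node (.node (.leaf 13164)
 (.leaf 13801))
 (.node (.leaf 305)
 (.leaf 4584))))
 (.node (.node (.node (.leaf 6758)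
 (.leaf 9300))
 (.node (.leaf 12269)
 (.leaf 14037)))
 (.node (.node (.leaf 9385)
 (.leaf 8080))
 (.node (.leaf 10390)
 (.leaf 3954))))))

def srtTB231 : RT := .node (.node (.node (.node (.node (.node (.leaf 12826)
 (.leaf 3389))
 (.node (.leaf 1110)
 (.leaf 11094)))
 (.node (.node (.leaf 2364)
 (.leaf 14482))
 (.node (.leaf 9657)
 (.leaf 9749))))
 (.node (.node (.node (.leaf 7839)
 (.leaf 13582))
 (.node (.leaf 2669)
 (.leaf 10111)))
 (.node (.node (.leaf 1938)
 (.leaf 9194))
 (.node (.leaf 7073)
 (.leaf 9122)))))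
 (.node (.node (.node (.node (.leaf 639)
 (.leaf 9096))
 (.node (.leaf 1475)
 (.leaf 304)))
 (.node (.node (.leaf 1056)
 (.leaf 12036))
 (.node (.leaf 5687)
 (.leaf 4976))))
 (.node (.node (.node (.leaf 12619)
 (.leaf 7143))
 (.node (.leaf 8708)
 (.leaf 9469)))
 (.node (.node (.leaf 12084)
 (.leaf 11116))
 (.node (.leaf 4655)
 (.leaf 11774))))))
 (.node (.node (.node (.node (.node (.leaf 8389)
 (.leaf 5137))
 (.node (.leaf 4623)
 (.leaf 2890)))
 (.node (.node (.leaf 4283)
 (.leaf 12124))
 (.node (.leaf 5291)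
 (.leaf 10979))))
 (.node (.node (.node (.leaf 7331)
 (.leaf 12164))
 (.node (.leaf 3835)
 (.leaf 5621)))
 (.node (.node (.leaf 5296)
 (.leaf 9121))
 (.node (.leaf 2006)
 (.leaf 7162)))))
 (.node (.node (.node (.node (.leaf 2992)
 (.leaf 8797))
 (.node (.leaf 3919)
 (.leaf 1134)))
 (.node (.node (.leaf 7269)
 (.leaf 4228))
 (.node (.leaf 9107)
 (.leaf 11110))))
 (.node (.node (.node (.leaf 206)
 (.leaf 12520))
 (.node (.leaf 10733)
 (.leaf 9165)))
 (.node (.node (.leaf 12069)
 (.leaf 3542))
 (.node (.leaf 1009)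
 (.leaf 897))))))

def srtTB232 : RT := .node (.node (.node (.node (.node (.node (.leaf 36)
 (.leaf 8342))
 (.node (.leaf 9378)
 (.leaf 4423)))
 (.node (.node (.leaf 12732)
 (.leaf 8483))
 (.node (.leaf 5918)
 (.leaf 4474))))
 (.node (.node (.node (.leaf 4998)
 (.leaf 847))
 (.node (.leaf 10418)
 (.leaf 5887)))
 (.node (.node (.leaf 7616)
 (.leaf 12023))
 (.node (.leaf 3246)
 (.leaf 8915)))))
 (.node (.node (.node (.node (.leaf 11937)
 (.leaf 4081))
 (.node (.leaf 8985)
 (.leaf 2288)))
 (.node (.node (.leaf 9790)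
 (.leaf 8824))
 (.node (.leaf 11789)
 (.leaf 2447))))
 (.node (.node (.node (.leaf 8898)
 (.leaf 1396))
 (.node (.leaf 12227)
 (.leaf 4886)))
 (.node (.node (.leaf 12147)
 (.leaf 8638))
 (.node (.leaf 2697)
 (.leaf 1623))))))
 (.node (.node (.node (.node (.node (.leaf 9686)
 (.leaf 5009))
 (.node (.leaf 11750)
 (.leaf 6772)))
 (.node (.node (.leaf 5900)
 (.leaf 12169))
 (.node (.leaf 9799)
 (.leaf 100))))
 (.node (.node (.node (.leaf 141)
 (.leaf 8572))
 (.node (.leaf 3613)
 (.leaf 7857)))
 (.node (.node (.leaf 8492)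
 (.leaf 403))
 (.node (.leaf 9646)
 (.leaf 7878)))))
 (.node (.node (.node (.node (.leaf 4442)
 (.leaf 3951))
 (.node (.leaf 2715)
 (.leaf 10852)))
 (.node (.node (.leaf 3030)
 (.leaf 7930))
 (.node (.leaf 10697)
 (.leaf 13045))))
 (.node (.node (.node (.leaf 2200)
 (.leaf 9402))
 (.node (.leaf 13729)
 (.leaf 124)))
 (.node (.node (.leaf 785)
 (.leaf 12353))
 (.node (.leaf 14463)
 (.leaf 10837))))))

def srtTB233 : RT := .node (.node (.node (.node (.node (.node (.leaf 14024)
 (.leaf 1408))
 (.node (.leaf 7433)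
 (.leaf 11528)))
 (.node (.node (.leaf 4161)
 (.leaf 13315))
 (.node (.leaf 4724)
 (.leaf 6628))))
 (.node (.node (.node (.leaf 11108)
 (.leaf 7832))
 (.node (.leaf 14760)
 (.leaf 12670)))
 (.node (.node (.leaf 9367)
 (.leaf 12911))
 (.node (.leaf 2159)
 (.leaf 6526)))))
 (.node (.node (.node (.node (.leaf 13785)
 (.leaf 14736))
 (.node (.leaf 9899)
 (.leaf 12852)))
 (.node (.node (.leaf 958)
 (.leaf 2713))
 (.node (.leaf 821)
 (.leaf 8382))))
 (.node (.node (.node (.leaf 9521)
 (.leaf 3938))
 (.node (.leaf 13996)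
 (.leaf 3141)))
 (.node (.node (.leaf 2024)
 (.leaf 7647))
 (.node (.leaf 9973)
 (.leaf 7404))))))
 (.node (.node (.node (.node (.node (.leaf 10357)
 (.leaf 4297))
 (.node (.leaf 14528)
 (.leaf 13003)))
 (.node (.node (.leaf 9559)
 (.leaf 13539))
 (.node (.leaf 2270)
 (.leaf 5030))))
 (.node (.node (.node (.leaf 7149)
 (.leaf 8162))
 (.node (.leaf 14279)
 (.leaf 2401)))
 (.node (.node (.leaf 7958)
 (.leaf 5102))
 (.node (.leaf 1932)
 (.leaf 5263)))))
 (.node (.node (.node (.node (.leaf 7596)
 (.leaf 3028))
 (.node (.leaf 14950)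
 (.leaf 5623)))
 (.node (.node (.leaf 5641)
 (.leaf 2563))
 (.node (.leaf 5853)
 (.leaf 3092))))
 (.node (.node (.node (.leaf 6560)
 (.leaf 7534))
 (.node (.leaf 5523)
 (.leaf 7398)))
 (.node (.node (.leaf 1789)
 (.leaf 1543))
 (.node (.leaf 5942)
 (.leaf 7586))))))

def srtT : RT := .node (.node (.node (.node (.node (.node (.node (.node (srtTB0)
 (srtTB1))
 (.node (srtTB2)
 (srtTB3)))
 (.node (.node (srtTB4)
 (srtTB5))
 (.node (srtTB6)
 (srtTB7))))
 (.node (.node (.node (srtTB8)
 (srtTB9))
 (.node (srtTB10)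
 (srtTB11)))
 (.node (.node (srtTB12)
 (srtTB13))
 (.node (srtTB14)
 (srtTB15)))))
 (.node (.node (.node (.node (srtTB16)
 (srtTB17))
 (.node (srtTB18)
 (srtTB19)))
 (.node (.node (srtTB20)
 (srtTB21))
 (.node (srtTB22)
 (srtTB23))))
 (.node (.node (.node (srtTB24)
 (srtTB25))
 (.node (srtTB26)
 (srtTB27)))
 (.node (.node (srtTB28)
 (srtTB29))
 (.node (srtTB30)
 (srtTB31))))))
 (.node (.node (.node (.node (.node (srtTB32)
 (srtTB33))
 (.node (srtTB34)
 (srtTB35)))
 (.node (.node (srtTB36)
 (srtTB37))
 (.node (srtTB38)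
 (srtTB39))))
 (.node (.node (.node (srtTB40)
 (srtTB41))
 (.node (srtTB42)
 (srtTB43)))
 (.node (.node (srtTB44)
 (srtTB45))
 (.node (srtTB46)
 (srtTB47)))))
 (.node (.node (.node (.node (srtTB48)
 (srtTB49))
 (.node (srtTB50)
 (srtTB51)))
 (.node (.node (srtTB52)
 (srtTB53))
 (.node (srtTB54)
 (srtTB55))))
 (.node (.node (.node (srtTB56)
 (srtTB57))
 (.node (srtTB58)
 (srtTB59)))
 (.node (.node (srtTB60)
 (srtTB61))
 (.node (srtTB62)
 (srtTB63)))))))
 (.node (.node (.node (.node (.node (.node (srtTB64)
 (srtTB65))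
 (.node (srtTB66)
 (srtTB67)))
 (.node (.node (srtTB68)
 (srtTB69))
 (.node (srtTB70)
 (srtTB71))))
 (.node (.node (.node (srtTB72)
 (srtTB73))
 (.node (srtTB74)
 (srtTB75)))
 (.node (.node (srtTB76)
 (srtTB77))
 (.node (srtTB78)
 (srtTB79)))))
 (.node (.node (.node (.node (srtTB80)
 (srtTB81))
 (.node (srtTB82)
 (srtTB83)))
 (.node (.node (srtTB84)
 (srtTB85))
 (.node (srtTB86)
 (srtTB87))))
 (.node (.node (.node (srtTB88)
 (srtTB89))
 (.node (srtTB90)
 (srtTB91)))
 (.node (.node (srtTB92)
 (srtTB93))
 (.node (srtTB94)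
 (srtTB95))))))
 (.node (.node (.node (.node (.node (srtTB96)
 (srtTB97))
 (.node (srtTB98)
 (srtTB99)))
 (.node (.node (srtTB100)
 (srtTB101))
 (.node (srtTB102)
 (srtTB103))))
 (.node (.node (.node (srtTB104)
 (srtTB105))
 (.node (srtTB106)
 (srtTB107)))
 (.node (.node (srtTB108)
 (srtTB109))
 (.node (srtTB110)
 (srtTB111)))))
 (.node (.node (.node (.node (srtTB112)
 (srtTB113))
 (.node (srtTB114)
 (srtTB115)))
 (.node (.node (srtTB116)
 (srtTB117))
 (.node (srtTB118)
 (srtTB119))))
 (.node (.node (.node (srtTB120)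
 (srtTB121))
 (.node (srtTB122)
 (srtTB123)))
 (.node (.node (srtTB124)
 (srtTB125))
 (.node (srtTB126)
 (srtTB127))))))))
 (.node (.node (.node (.node (.node (.node (.node (srtTB128)
 (srtTB129))
 (.node (srtTB130)
 (srtTB131)))
 (.node (.node (srtTB132)
 (srtTB133))
 (.node (srtTB134)
 (srtTB135))))
 (.node (.node (.node (srtTB136)
 (srtTB137))
 (.node (srtTB138)
 (srtTB139)))
 (.node (.node (srtTB140)
 (srtTB141))
 (.node (srtTB142)
 (srtTB143)))))
 (.node (.node (.node (.node (srtTB144)
 (srtTB145))
 (.node (srtTB146)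
 (srtTB147)))
 (.node (.node (srtTB148)
 (srtTB149))
 (.node (srtTB150)
 (srtTB151))))
 (.node (.node (.node (srtTB152)
 (srtTB153))
 (.node (srtTB154)
 (srtTB155)))
 (.node (.node (srtTB156)
 (srtTB157))
 (.node (srtTB158)
 (srtTB159))))))
 (.node (.node (.node (.node (.node (srtTB160)
 (srtTB161))
 (.node (srtTB162)
 (srtTB163)))
 (.node (.node (srtTB164)
 (srtTB165))
 (.node (srtTB166)
 (srtTB167))))
 (.node (.node (.node (srtTB168)
 (srtTB169))
 (.node (srtTB170)
 (srtTB171)))
 (.node (.node (srtTB172)
 (srtTB173))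
 (.node (srtTB174)
 (srtTB175)))))
 (.node (.node (.node (.node (srtTB176)
 (srtTB177))
 (.node (srtTB178)
 (srtTB179)))
 (.node (.node (srtTB180)
 (srtTB181))
 (.node (srtTB182)
 (srtTB183))))
 (.node (.node (.node (srtTB184)
 (srtTB185))
 (.node (srtTB186)
 (srtTB187)))
 (.node (.node (srtTB188)
 (srtTB189))
 (.node (srtTB190)
 (srtTB191)))))))
 (.node (.node (.node (.node (.node (.node (srtTB192)
 (srtTB193))
 (.node (srtTB194)
 (srtTB195)))
 (.node (.node (srtTB196)
 (srtTB197))
 (.node (srtTB198)
 (srtTB199))))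
 (.node (.node (.node (srtTB200)
 (srtTB201))
 (.node (srtTB202)
 (srtTB203)))
 (.node (.node (srtTB204)
 (srtTB205))
 (.node (srtTB206)
 (srtTB207)))))
 (.node (.node (.node (.node (srtTB208)
 (srtTB209))
 (.node (srtTB210)
 (srtTB211)))
 (.node (.node (srtTB212)
 (srtTB213))
 (.node (srtTB214)
 (srtTB215))))
 (.node (.node (.node (srtTB216)
 (srtTB217))
 (.node (srtTB218)
 (srtTB219)))
 (.node (.node (srtTB220)
 (srtTB221))
 (.node (srtTB222)
 (srtTB223))))))
 (.node (.node (.node (.node (.node (srtTB224)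
 (srtTB225))
 (.node (srtTB226)
 (srtTB227)))
 (.node (.node (srtTB228)
 (srtTB229))
 (.node (srtTB230)
 (srtTB231))))
 (.node (.node (.node (srtTB232)
 (srtTB233))
 (.node (.leaf 0)
 (.leaf 0)))
 (.node (.node (.leaf 0)
 (.leaf 0))
 (.node (.leaf 0)
 (.leaf 0)))))
 (.node (.node (.node (.node (.leaf 0)
 (.leaf 0))
 (.node (.leaf 0)
 (.leaf 0)))
 (.node (.node (.leaf 0)
 (.leaf 0))
 (.node (.leaf 0)
 (.leaf 0))))
 (.node (.node (.node (.leaf 0)
 (.leaf 0))
 (.node (.leaf 0)
 (.leaf 0)))
 (.node (.node (.leaf 0)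
 (.leaf 0))
 (.node (.leaf 0)
 (.leaf 0))))))))

end Cfsg.Lib.RuModel.RankThree
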