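import Cfsg.Agent.RuModel.Tree

/-!
Tables of the generators of the point stabiliser, and vectors for the points of the smaller suborbit.
-/

set_option autoImplicit false
set_option maxRecDepth 20000

namespace Cfsg.Lib.RuModel.RankThree

def tAB0 : RT := .node (.node (.node (.node (.node (.node (.leaf 0)
 (.leaf 3893))
 (.node (.leaf 839)
 (.leaf 1860)))
 (.node (.node (.leaf 8)
 (.leaf 2984))
 (.node (.leaf 155)
 (.leaf 1851))))
 (.node (.node (.node (.leaf 2359)
 (.leaf 2488))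
 (.node (.leaf 80)
 (.leaf 1399)))
 (.node (.node (.leaf 3097)
 (.leaf 2323))
 (.node (.leaf 150)
 (.leaf 3328)))))
 (.node (.node (.node (.node (.leaf 139)
 (.leaf 2341))
 (.node (.leaf 1809)
 (.leaf 441)))
 (.node (.node (.leaf 3737)
 (.leaf 886))
 (.node (.leaf 1210)
 (.leaf 219))))
 (.node (.node (.node (.leaf 1801)
 (.leaf 1802))
 (.node (.leaf 2845)
 (.leaf 1604)))
 (.node (.node (.leaf 1649)
 (.leaf 1124))
 (.node (.leaf 801)
 (.leaf 2598))))))
 (.node (.node (.node (.node (.node (.leaf 366)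
 (.leaf 1480))
 (.node (.leaf 3140)
 (.leaf 3065)))
 (.node (.node (.leaf 2001)
 (.leaf 3832))
 (.node (.leaf 3954)
 (.leaf 2902))))
 (.node (.node (.node (.leaf 3223)
 (.leaf 616))
 (.node (.leaf 2974)
 (.leaf 1743)))
 (.node (.node (.leaf 848)
 (.leaf 1347))
 (.node (.leaf 3380)
 (.leaf 1959)))))
 (.node (.node (.node (.node (.leaf 1992)
 (.leaf 3678))
 (.node (.leaf 1271)
 (.leaf 1379)))
 (.node (.node (.leaf 2995)
 (.leaf 898))
 (.node (.leaf 1076)
 (.leaf 3679))))
 (.node (.node (.node (.leaf 1421)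
 (.leaf 3555))
 (.node (.leaf 2048)
 (.leaf 3791)))
 (.node (.node (.leaf 2529)
 (.leaf 1196))
 (.node (.leaf 3850)
 (.leaf 1700))))))

def tAB1 : RT := .node (.node (.node (.node (.node (.node (.leaf 2030)
 (.leaf 1762))
 (.node (.leaf 1766)
 (.leaf 3089)))
 (.node (.node (.leaf 3854)
 (.leaf 38))
 (.node (.leaf 2258)
 (.leaf 2449))))
 (.node (.node (.node (.leaf 3189)
 (.leaf 3410))
 (.node (.leaf 3982)
 (.leaf 2550)))
 (.node (.node (.leaf 326)
 (.leaf 2354))
 (.node (.leaf 2131)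
 (.leaf 4046)))))
 (.node (.node (.node (.node (.leaf 1879)
 (.leaf 1531))
 (.node (.leaf 595)
 (.leaf 2718)))
 (.node (.node (.leaf 128)
 (.leaf 2713))
 (.node (.leaf 3274)
 (.leaf 2725))))
 (.node (.node (.node (.leaf 585)
 (.leaf 598))
 (.node (.leaf 1779)
 (.leaf 3464)))
 (.node (.node (.leaf 1955)
 (.leaf 1909))
 (.node (.leaf 4011)
 (.leaf 3805))))))
 (.node (.node (.node (.node (.node (.leaf 1514)
 (.leaf 3155))
 (.node (.leaf 2790)
 (.leaf 1678)))
 (.node (.node (.leaf 2576)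
 (.leaf 3423))
 (.node (.leaf 1892)
 (.leaf 3181))))
 (.node (.node (.node (.leaf 27)
 (.leaf 1853))
 (.node (.leaf 3366)
 (.leaf 1738)))
 (.node (.node (.leaf 793)
 (.leaf 3503))
 (.node (.leaf 1014)
 (.leaf 144)))))
 (.node (.node (.node (.node (.leaf 3193)
 (.leaf 3541))
 (.node (.leaf 3252)
 (.leaf 2875)))
 (.node (.node (.leaf 2757)
 (.leaf 2394))
 (.node (.leaf 3725)
 (.leaf 2807))))
 (.node (.node (.node (.leaf 95)
 (.leaf 2072))
 (.node (.leaf 3643)
 (.leaf 2585)))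
 (.node (.node (.leaf 483)
 (.leaf 3106))
 (.node (.leaf 1229)
 (.leaf 3086))))))

def tAB2 : RT := .node (.node (.node (.node (.node (.node (.leaf 1629)
 (.leaf 3770))
 (.node (.leaf 1896)
 (.leaf 847)))
 (.node (.node (.leaf 1428)
 (.leaf 3519))
 (.node (.leaf 3856)
 (.leaf 3821))))
 (.node (.node (.node (.leaf 1652)
 (.leaf 1392))
 (.node (.leaf 3825)
 (.leaf 2190)))
 (.node (.node (.leaf 1275)
 (.leaf 3110))
 (.node (.leaf 1675)
 (.leaf 1946)))))
 (.node (.node (.node (.node (.leaf 574)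
 (.leaf 1396))
 (.node (.leaf 4043)
 (.leaf 92)))
 (.node (.node (.leaf 1524)
 (.leaf 2044))
 (.node (.leaf 3566)
 (.leaf 3463))))
 (.node (.node (.node (.leaf 3820)
 (.leaf 854))
 (.node (.leaf 999)
 (.leaf 3706)))
 (.node (.node (.leaf 802)
 (.leaf 3241))
 (.node (.leaf 3037)
 (.leaf 1658))))))
 (.node (.node (.node (.node (.node (.leaf 1562)
 (.leaf 3724))
 (.node (.leaf 3082)
 (.leaf 1425)))
 (.node (.node (.leaf 352)
 (.leaf 1686))
 (.node (.leaf 1669)
 (.leaf 1111))))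
 (.node (.node (.node (.leaf 360)
 (.leaf 731))
 (.node (.leaf 1882)
 (.leaf 3683)))
 (.node (.node (.leaf 1235)
 (.leaf 3215))
 (.node (.leaf 1819)
 (.leaf 4056)))))
 (.node (.node (.node (.node (.leaf 3134)
 (.leaf 3108))
 (.node (.leaf 3584)
 (.leaf 3227)))
 (.node (.node (.leaf 1839)
 (.leaf 1949))
 (.node (.leaf 259)
 (.leaf 18))))
 (.node (.node (.node (.leaf 1160)
 (.leaf 3183))
 (.node (.leaf 981)
 (.leaf 2104)))
 (.node (.node (.leaf 200)
 (.leaf 1187))
 (.node (.leaf 4013)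
 (.leaf 3966))))))

def tAB3 : RT := .node (.node (.node (.node (.node (.node (.leaf 2005)
 (.leaf 2565))
 (.node (.leaf 1496)
 (.leaf 3797)))
 (.node (.node (.leaf 2281)
 (.leaf 3043))
 (.node (.leaf 2914)
 (.leaf 2059))))
 (.node (.node (.node (.leaf 3141)
 (.leaf 2016))
 (.node (.leaf 1644)
 (.leaf 1947)))
 (.node (.node (.leaf 1656)
 (.leaf 336))
 (.node (.leaf 846)
 (.leaf 1548)))))
 (.node (.node (.node (.node (.leaf 795)
 (.leaf 811))
 (.node (.leaf 1220)
 (.leaf 799)))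
 (.node (.node (.leaf 1090)
 (.leaf 3532))
 (.node (.leaf 3548)
 (.leaf 941))))
 (.node (.node (.node (.leaf 1983)
 (.leaf 1596))
 (.node (.leaf 1573)
 (.leaf 1618)))
 (.node (.node (.leaf 1303)
 (.leaf 3036))
 (.node (.leaf 3827)
 (.leaf 220))))))
 (.node (.node (.node (.node (.node (.leaf 645)
 (.leaf 1645))
 (.node (.leaf 1180)
 (.leaf 3792)))
 (.node (.node (.leaf 4006)
 (.leaf 3675))
 (.node (.leaf 2301)
 (.leaf 632))))
 (.node (.node (.node (.leaf 273)
 (.leaf 3357))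
 (.node (.leaf 1651)
 (.leaf 1901)))
 (.node (.node (.leaf 1588)
 (.leaf 807))
 (.node (.leaf 3510)
 (.leaf 275)))))
 (.node (.node (.node (.node (.leaf 899)
 (.leaf 381))
 (.node (.leaf 1783)
 (.leaf 3309)))
 (.node (.node (.leaf 3408)
 (.leaf 81))
 (.node (.leaf 779)
 (.leaf 2472))))
 (.node (.node (.node (.leaf 2804)
 (.leaf 1667))
 (.node (.leaf 773)
 (.leaf 2248)))
 (.node (.node (.leaf 1319)
 (.leaf 1509))
 (.node (.leaf 386)
 (.leaf 4057))))))

def tAB4 : RT := .node (.node (.node (.node (.node (.node (.leaf 1397)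
 (.leaf 16))
 (.node (.leaf 3907)
 (.leaf 1564)))
 (.node (.node (.leaf 748)
 (.leaf 167))
 (.node (.leaf 527)
 (.leaf 309))))
 (.node (.node (.node (.leaf 1828)
 (.leaf 3277))
 (.node (.leaf 3069)
 (.leaf 1326)))
 (.node (.node (.leaf 2116)
 (.leaf 3928))
 (.node (.leaf 3949)
 (.leaf 873)))))
 (.node (.node (.node (.node (.leaf 1935)
 (.leaf 2096))
 (.node (.leaf 2883)
 (.leaf 57)))
 (.node (.node (.leaf 4010)
 (.leaf 707))
 (.node (.leaf 3899)
 (.leaf 2656))))
 (.node (.node (.node (.leaf 2555)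
 (.leaf 202))
 (.node (.leaf 3813)
 (.leaf 1708)))
 (.node (.node (.leaf 1000)
 (.leaf 2025))
 (.node (.leaf 583)
 (.leaf 3308))))))
 (.node (.node (.node (.node (.node (.leaf 1561)
 (.leaf 1470))
 (.node (.leaf 2784)
 (.leaf 3757)))
 (.node (.node (.leaf 2508)
 (.leaf 448))
 (.node (.leaf 2906)
 (.leaf 1280))))
 (.node (.node (.node (.leaf 2378)
 (.leaf 1141))
 (.node (.leaf 1255)
 (.leaf 3571)))
 (.node (.node (.leaf 3300)
 (.leaf 1442))
 (.node (.leaf 2255)
 (.leaf 1602)))))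
 (.node (.node (.node (.node (.leaf 1609)
 (.leaf 768))
 (.node (.leaf 1189)
 (.leaf 3587)))
 (.node (.node (.leaf 1777)
 (.leaf 3866))
 (.node (.leaf 2961)
 (.leaf 3605))))
 (.node (.node (.node (.leaf 3246)
 (.leaf 1010))
 (.node (.leaf 1916)
 (.leaf 1832)))
 (.node (.node (.leaf 1520)
 (.leaf 1064))
 (.node (.leaf 2841)
 (.leaf 3462))))))

def tAB5 : RT := .node (.node (.node (.node (.node (.node (.leaf 3939)
 (.leaf 3297))
 (.node (.leaf 1411)
 (.leaf 3321)))
 (.node (.node (.leaf 2761)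
 (.leaf 1747))
 (.node (.leaf 1620)
 (.leaf 2275))))
 (.node (.node (.node (.leaf 2214)
 (.leaf 1545))
 (.node (.leaf 3697)
 (.leaf 2434)))
 (.node (.node (.leaf 2606)
 (.leaf 131))
 (.node (.leaf 911)
 (.leaf 3778)))))
 (.node (.node (.node (.node (.leaf 1698)
 (.leaf 1183))
 (.node (.leaf 1610)
 (.leaf 1695)))
 (.node (.node (.leaf 1730)
 (.leaf 140))
 (.node (.leaf 704)
 (.leaf 3873))))
 (.node (.node (.node (.leaf 479)
 (.leaf 1364))
 (.node (.leaf 3727)
 (.leaf 394)))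
 (.node (.node (.leaf 2400)
 (.leaf 1993))
 (.node (.leaf 1026)
 (.leaf 3589))))))
 (.node (.node (.node (.node (.node (.leaf 4027)
 (.leaf 968))
 (.node (.leaf 1969)
 (.leaf 902)))
 (.node (.node (.leaf 3948)
 (.leaf 1031))
 (.node (.leaf 222)
 (.leaf 384))))
 (.node (.node (.node (.leaf 2670)
 (.leaf 1973))
 (.node (.leaf 1963)
 (.leaf 1389)))
 (.node (.node (.leaf 792)
 (.leaf 1135))
 (.node (.leaf 2327)
 (.leaf 2968)))))
 (.node (.node (.node (.node (.leaf 1301)
 (.leaf 1057))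
 (.node (.leaf 3648)
 (.leaf 3743)))
 (.node (.node (.leaf 621)
 (.leaf 3942))
 (.node (.leaf 462)
 (.leaf 717))))
 (.node (.node (.node (.leaf 148)
 (.leaf 845))
 (.node (.leaf 3298)
 (.leaf 2447)))
 (.node (.node (.leaf 2783)
 (.leaf 606))
 (.node (.leaf 3951)
 (.leaf 2523))))))

def tAB6 : RT := .node (.node (.node (.node (.node (.node (.leaf 3996)
 (.leaf 1224))
 (.node (.leaf 2410)
 (.leaf 3965)))
 (.node (.node (.leaf 3009)
 (.leaf 1786))
 (.node (.leaf 415)
 (.leaf 471))))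
 (.node (.node (.node (.leaf 2023)
 (.leaf 3070))
 (.node (.leaf 3882)
 (.leaf 2216)))
 (.node (.node (.leaf 3392)
 (.leaf 3897))
 (.node (.leaf 3450)
 (.leaf 1075)))))
 (.node (.node (.node (.node (.leaf 2709)
 (.leaf 1004))
 (.node (.leaf 3029)
 (.leaf 2049)))
 (.node (.node (.leaf 3859)
 (.leaf 3370))
 (.node (.leaf 3196)
 (.leaf 2590))))
 (.node (.node (.node (.leaf 3214)
 (.leaf 1967))
 (.node (.leaf 3020)
 (.leaf 639)))
 (.node (.node (.leaf 1474)
 (.leaf 2887))
 (.node (.leaf 1508)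
 (.leaf 1013))))))
 (.node (.node (.node (.node (.node (.leaf 1685)
 (.leaf 2823))
 (.node (.leaf 197)
 (.leaf 1485)))
 (.node (.node (.leaf 363)
 (.leaf 3154))
 (.node (.leaf 3265)
 (.leaf 2034))))
 (.node (.node (.node (.leaf 820)
 (.leaf 710))
 (.node (.leaf 1072)
 (.leaf 3482)))
 (.node (.node (.leaf 1287)
 (.leaf 2182))
 (.node (.leaf 1622)
 (.leaf 1592)))))
 (.node (.node (.node (.node (.leaf 3699)
 (.leaf 3618))
 (.node (.leaf 1458)
 (.leaf 3426)))
 (.node (.node (.leaf 4032)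
 (.leaf 457))
 (.node (.leaf 2156)
 (.leaf 1735))))
 (.node (.node (.node (.leaf 2153)
 (.leaf 2))
 (.node (.leaf 298)
 (.leaf 1238)))
 (.node (.node (.leaf 1751)
 (.leaf 4045))
 (.node (.leaf 2297)
 (.leaf 3672))))))

def tAB7 : RT := .node (.node (.node (.node (.node (.node (.leaf 3268)
 (.leaf 3201))
 (.node (.leaf 3735)
 (.leaf 2500)))
 (.node (.node (.leaf 1722)
 (.leaf 3192))
 (.node (.leaf 3280)
 (.leaf 3044))))
 (.node (.node (.node (.leaf 3485)
 (.leaf 1291))
 (.node (.leaf 1409)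
 (.leaf 2567)))
 (.node (.node (.leaf 3867)
 (.leaf 65))
 (.node (.leaf 1733)
 (.leaf 1726)))))
 (.node (.node (.node (.node (.leaf 2631)
 (.leaf 2427))
 (.node (.leaf 1914)
 (.leaf 1299)))
 (.node (.node (.leaf 1717)
 (.leaf 1443))
 (.node (.leaf 2460)
 (.leaf 784))))
 (.node (.node (.node (.leaf 1215)
 (.leaf 3691))
 (.node (.leaf 878)
 (.leaf 1190)))
 (.node (.node (.leaf 1657)
 (.leaf 924))
 (.node (.leaf 2101)
 (.leaf 2221))))))
 (.node (.node (.node (.node (.node (.leaf 1991)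
 (.leaf 1269))
 (.node (.leaf 1033)
 (.leaf 318)))
 (.node (.node (.leaf 3088)
 (.leaf 3889))
 (.node (.leaf 1492)
 (.leaf 3399))))
 (.node (.node (.node (.leaf 3054)
 (.leaf 3057))
 (.node (.leaf 2347)
 (.leaf 3885)))
 (.node (.node (.leaf 1791)
 (.leaf 838))
 (.node (.leaf 930)
 (.leaf 1128)))))
 (.node (.node (.node (.node (.leaf 2483)
 (.leaf 1997))
 (.node (.leaf 2415)
 (.leaf 581)))
 (.node (.node (.leaf 3030)
 (.leaf 1893))
 (.node (.leaf 752)
 (.leaf 1387))))
 (.node (.node (.node (.leaf 1240)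
 (.leaf 187))
 (.node (.leaf 3946)
 (.leaf 3888)))
 (.node (.node (.leaf 125)
 (.leaf 1763))
 (.node (.leaf 468)
 (.leaf 2717))))))

def tAB8 : RT := .node (.node (.node (.node (.node (.node (.leaf 3596)
 (.leaf 950))
 (.node (.leaf 1968)
 (.leaf 1831)))
 (.node (.node (.leaf 2404)
 (.leaf 1666))
 (.node (.leaf 611)
 (.leaf 3093))))
 (.node (.node (.node (.leaf 3919)
 (.leaf 1167))
 (.node (.leaf 3429)
 (.leaf 3363)))
 (.node (.node (.leaf 2076)
 (.leaf 393))
 (.node (.leaf 3092)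
 (.leaf 3916)))))
 (.node (.node (.node (.node (.leaf 2193)
 (.leaf 1590))
 (.node (.leaf 1806)
 (.leaf 2988)))
 (.node (.node (.leaf 2199)
 (.leaf 77))
 (.node (.leaf 3470)
 (.leaf 1857))))
 (.node (.node (.node (.leaf 2579)
 (.leaf 3539))
 (.node (.leaf 833)
 (.leaf 3688)))
 (.node (.node (.leaf 3222)
 (.leaf 4039))
 (.node (.leaf 2642)
 (.leaf 392))))))
 (.node (.node (.node (.node (.node (.leaf 2652)
 (.leaf 225))
 (.node (.leaf 458)
 (.leaf 3177)))
 (.node (.node (.leaf 2904)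
 (.leaf 3906))
 (.node (.leaf 2769)
 (.leaf 2165))))
 (.node (.node (.node (.leaf 1982)
 (.leaf 2391))
 (.node (.leaf 3443)
 (.leaf 1091)))
 (.node (.node (.leaf 2724)
 (.leaf 545))
 (.node (.leaf 2246)
 (.leaf 3764)))))
 (.node (.node (.node (.node (.leaf 134)
 (.leaf 78))
 (.node (.leaf 1169)
 (.leaf 1816)))
 (.node (.node (.leaf 1439)
 (.leaf 1327))
 (.node (.leaf 3493)
 (.leaf 1728))))
 (.node (.node (.node (.leaf 1222)
 (.leaf 1688))
 (.node (.leaf 1887)
 (.leaf 3446)))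
 (.node (.node (.leaf 108)
 (.leaf 3158))
 (.node (.leaf 1962)
 (.leaf 86))))))

def tAB9 : RT := .node (.node (.node (.node (.node (.node (.leaf 2273)
 (.leaf 1048))
 (.node (.leaf 2588)
 (.leaf 2326)))
 (.node (.node (.leaf 2457)
 (.leaf 1894))
 (.node (.leaf 2329)
 (.leaf 813))))
 (.node (.node (.node (.leaf 385)
 (.leaf 3624))
 (.node (.leaf 3162)
 (.leaf 3700)))
 (.node (.node (.leaf 3961)
 (.leaf 3709))
 (.node (.leaf 2679)
 (.leaf 2602)))))
 (.node (.node (.node (.node (.leaf 1270)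
 (.leaf 3642))
 (.node (.leaf 1120)
 (.leaf 1525)))
 (.node (.node (.leaf 1838)
 (.leaf 858))
 (.node (.leaf 3993)
 (.leaf 196))))
 (.node (.node (.node (.leaf 325)
 (.leaf 3998))
 (.node (.leaf 2262)
 (.leaf 356)))
 (.node (.node (.leaf 2126)
 (.leaf 56))
 (.node (.leaf 2695)
 (.leaf 1278))))))
 (.node (.node (.node (.node (.node (.leaf 2587)
 (.leaf 4014))
 (.node (.leaf 266)
 (.leaf 3339)))
 (.node (.node (.leaf 2290)
 (.leaf 2038))
 (.node (.leaf 329)
 (.leaf 1241))))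
 (.node (.node (.node (.leaf 2254)
 (.leaf 1126))
 (.node (.leaf 1242)
 (.leaf 2317)))
 (.node (.node (.leaf 1023)
 (.leaf 3860))
 (.node (.leaf 915)
 (.leaf 3957)))))
 (.node (.node (.node (.node (.leaf 1383)
 (.leaf 2231))
 (.node (.leaf 3375)
 (.leaf 2015)))
 (.node (.node (.leaf 477)
 (.leaf 3046))
 (.node (.leaf 2763)
 (.leaf 3814))))
 (.node (.node (.node (.leaf 1542)
 (.leaf 1572))
 (.node (.leaf 568)
 (.leaf 1650)))
 (.node (.node (.leaf 2931)
 (.leaf 567))
 (.node (.leaf 2408)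
 (.leaf 2501))))))

def tAB10 : RT := .node (.node (.node (.node (.node (.node (.leaf 2849)
 (.leaf 1118))
 (.node (.leaf 2289)
 (.leaf 2949)))
 (.node (.node (.leaf 133)
 (.leaf 2014))
 (.node (.leaf 181)
 (.leaf 1391))))
 (.node (.node (.node (.leaf 3922)
 (.leaf 357))
 (.node (.leaf 1792)
 (.leaf 3194)))
 (.node (.node (.leaf 237)
 (.leaf 33))
 (.node (.leaf 1720)
 (.leaf 1926)))))
 (.node (.node (.node (.node (.leaf 3763)
 (.leaf 1356))
 (.node (.leaf 544)
 (.leaf 1536)))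
 (.node (.node (.leaf 866)
 (.leaf 803))
 (.node (.leaf 2548)
 (.leaf 557))))
 (.node (.node (.node (.leaf 3711)
 (.leaf 3473))
 (.node (.leaf 3744)
 (.leaf 600)))
 (.node (.node (.leaf 1175)
 (.leaf 3903))
 (.node (.leaf 695)
 (.leaf 1286))))))
 (.node (.node (.node (.node (.node (.leaf 2091)
 (.leaf 3823))
 (.node (.leaf 2860)
 (.leaf 3251)))
 (.node (.node (.leaf 1872)
 (.leaf 3887))
 (.node (.leaf 2599)
 (.leaf 3116))))
 (.node (.node (.node (.leaf 3287)
 (.leaf 3637))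
 (.node (.leaf 1711)
 (.leaf 1433)))
 (.node (.node (.leaf 3314)
 (.leaf 2867))
 (.node (.leaf 3911)
 (.leaf 3303)))))
 (.node (.node (.node (.node (.leaf 1407)
 (.leaf 2456))
 (.node (.leaf 3878)
 (.leaf 1366)))
 (.node (.node (.leaf 1174)
 (.leaf 1558))
 (.node (.leaf 1927)
 (.leaf 2815))))
 (.node (.node (.node (.leaf 1367)
 (.leaf 3336))
 (.node (.leaf 2973)
 (.leaf 1518)))
 (.node (.node (.leaf 3917)
 (.leaf 50))
 (.node (.leaf 3367)
 (.leaf 365))))))

def tAB11 : RT := .node (.node (.node (.node (.node (.node (.leaf 3509)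
 (.leaf 1408))
 (.node (.leaf 711)
 (.leaf 1862)))
 (.node (.node (.leaf 2406)
 (.leaf 3291))
 (.node (.leaf 1106)
 (.leaf 3101))))
 (.node (.node (.node (.leaf 2198)
 (.leaf 2562))
 (.node (.leaf 1677)
 (.leaf 317)))
 (.node (.node (.leaf 3921)
 (.leaf 1975))
 (.node (.leaf 1330)
 (.leaf 932)))))
 (.node (.node (.node (.node (.leaf 3143)
 (.leaf 2362))
 (.node (.leaf 998)
 (.leaf 2158)))
 (.node (.node (.leaf 1)
 (.leaf 2959))
 (.node (.leaf 1764)
 (.leaf 2970))))
 (.node (.node (.node (.leaf 3538)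
 (.leaf 867))
 (.node (.leaf 1837)
 (.leaf 1603)))
 (.node (.node (.leaf 2982)
 (.leaf 570))
 (.node (.leaf 1231)
 (.leaf 2748))))))
 (.node (.node (.node (.node (.node (.leaf 1681)
 (.leaf 934))
 (.node (.leaf 1626)
 (.leaf 3002)))
 (.node (.node (.leaf 2310)
 (.leaf 2791))
 (.node (.leaf 3578)
 (.leaf 2203))))
 (.node (.node (.node (.leaf 2485)
 (.leaf 2794))
 (.node (.leaf 3649)
 (.leaf 2277)))
 (.node (.node (.leaf 91)
 (.leaf 3901))
 (.node (.leaf 1687)
 (.leaf 1788)))))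
 (.node (.node (.node (.node (.leaf 2511)
 (.leaf 2708))
 (.node (.leaf 1112)
 (.leaf 509)))
 (.node (.node (.leaf 1208)
 (.leaf 1625))
 (.node (.leaf 3072)
 (.leaf 2309))))
 (.node (.node (.node (.leaf 3487)
 (.leaf 2344))
 (.node (.leaf 2795)
 (.leaf 2115)))
 (.node (.node (.leaf 3690)
 (.leaf 3874))
 (.node (.leaf 3270)
 (.leaf 1566))))))

def tAB12 : RT := .node (.node (.node (.node (.node (.node (.leaf 771)
 (.leaf 435))
 (.node (.leaf 2065)
 (.leaf 3349)))
 (.node (.node (.leaf 1376)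
 (.leaf 697))
 (.node (.leaf 3729)
 (.leaf 3628))))
 (.node (.node (.node (.leaf 1475)
 (.leaf 84))
 (.node (.leaf 3627)
 (.leaf 1460)))
 (.node (.node (.leaf 1981)
 (.leaf 445))
 (.node (.leaf 874)
 (.leaf 1156)))))
 (.node (.node (.node (.node (.leaf 663)
 (.leaf 957))
 (.node (.leaf 1497)
 (.leaf 1249)))
 (.node (.node (.leaf 1759)
 (.leaf 1709))
 (.node (.leaf 1315)
 (.leaf 3284))))
 (.node (.node (.node (.leaf 399)
 (.leaf 1954))
 (.node (.leaf 124)
 (.leaf 2423)))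
 (.node (.node (.leaf 240)
 (.leaf 2629))
 (.node (.leaf 1283)
 (.leaf 2487))))))
 (.node (.node (.node (.node (.node (.leaf 3032)
 (.leaf 1345))
 (.node (.leaf 31)
 (.leaf 3870)))
 (.node (.node (.leaf 540)
 (.leaf 3623))
 (.node (.leaf 3488)
 (.leaf 1375))))
 (.node (.node (.node (.leaf 1214)
 (.leaf 278))
 (.node (.leaf 2437)
 (.leaf 3026)))
 (.node (.node (.leaf 3560)
 (.leaf 1036))
 (.node (.leaf 3950)
 (.leaf 1311)))))
 (.node (.node (.node (.node (.leaf 1155)
 (.leaf 678))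
 (.node (.leaf 2819)
 (.leaf 1431)))
 (.node (.node (.leaf 3004)
 (.leaf 217))
 (.node (.leaf 3759)
 (.leaf 3384))))
 (.node (.node (.node (.leaf 3653)
 (.leaf 1427))
 (.node (.leaf 3187)
 (.leaf 2381)))
 (.node (.node (.leaf 2271)
 (.leaf 3835))
 (.node (.leaf 624)
 (.leaf 3936))))))

def tAB13 : RT := .node (.node (.node (.node (.node (.node (.leaf 2689)
 (.leaf 3471))
 (.node (.leaf 3940)
 (.leaf 1173)))
 (.node (.node (.leaf 3564)
 (.leaf 3219))
 (.node (.leaf 117)
 (.leaf 4020))))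
 (.node (.node (.node (.leaf 24)
 (.leaf 1961))
 (.node (.leaf 762)
 (.leaf 2128)))
 (.node (.node (.leaf 1538)
 (.leaf 835))
 (.node (.leaf 3883)
 (.leaf 1736)))))
 (.node (.node (.node (.node (.leaf 2102)
 (.leaf 2816))
 (.node (.leaf 683)
 (.leaf 3391)))
 (.node (.node (.leaf 2321)
 (.leaf 3597))
 (.node (.leaf 2563)
 (.leaf 2930))))
 (.node (.node (.node (.leaf 1537)
 (.leaf 1768))
 (.node (.leaf 1429)
 (.leaf 3862)))
 (.node (.node (.leaf 744)
 (.leaf 3795))
 (.node (.leaf 966)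
 (.leaf 609))))))
 (.node (.node (.node (.node (.node (.leaf 3195)
 (.leaf 2161))
 (.node (.leaf 2495)
 (.leaf 248)))
 (.node (.node (.leaf 2712)
 (.leaf 2903))
 (.node (.leaf 3542)
 (.leaf 2584))))
 (.node (.node (.node (.leaf 2118)
 (.leaf 3325))
 (.node (.leaf 3569)
 (.leaf 2279)))
 (.node (.node (.leaf 3818)
 (.leaf 3857))
 (.node (.leaf 681)
 (.leaf 3504)))))
 (.node (.node (.node (.node (.leaf 3671)
 (.leaf 1146))
 (.node (.leaf 2538)
 (.leaf 85)))
 (.node (.node (.leaf 4037)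
 (.leaf 4050))
 (.node (.leaf 1565)
 (.leaf 3011))))
 (.node (.node (.node (.leaf 3920)
 (.leaf 1400))
 (.node (.leaf 324)
 (.leaf 47)))
 (.node (.node (.leaf 3362)
 (.leaf 1166))
 (.node (.leaf 2361)
 (.leaf 370))))))

def tAB14 : RT := .node (.node (.node (.node (.node (.node (.leaf 2176)
 (.leaf 1578))
 (.node (.leaf 3831)
 (.leaf 2628)))
 (.node (.node (.leaf 3730)
 (.leaf 2036))
 (.node (.leaf 3663)
 (.leaf 3231))))
 (.node (.node (.node (.leaf 946)
 (.leaf 115))
 (.node (.leaf 396)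
 (.leaf 2726)))
 (.node (.node (.leaf 1867)
 (.leaf 104))
 (.node (.leaf 3433)
 (.leaf 3536)))))
 (.node (.node (.node (.node (.leaf 4041)
 (.leaf 3800))
 (.node (.leaf 308)
 (.leaf 3000)))
 (.node (.node (.leaf 1001)
 (.leaf 2229))
 (.node (.leaf 1206)
 (.leaf 1358))))
 (.node (.node (.node (.leaf 1434)
 (.leaf 1131))
 (.node (.leaf 532)
 (.leaf 1639)))
 (.node (.node (.leaf 2148)
 (.leaf 2510))
 (.node (.leaf 685)
 (.leaf 138))))))
 (.node (.node (.node (.node (.node (.leaf 3582)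
 (.leaf 3112))
 (.node (.leaf 3452)
 (.leaf 1184)))
 (.node (.node (.leaf 379)
 (.leaf 1690))
 (.node (.leaf 1966)
 (.leaf 1256))))
 (.node (.node (.node (.leaf 2080)
 (.leaf 3557))
 (.node (.leaf 3067)
 (.leaf 2851)))
 (.node (.node (.leaf 2440)
 (.leaf 1535))
 (.node (.leaf 1841)
 (.leaf 165)))))
 (.node (.node (.node (.node (.leaf 314)
 (.leaf 2109))
 (.node (.leaf 2892)
 (.leaf 2188)))
 (.node (.node (.leaf 2762)
 (.leaf 2809))
 (.node (.leaf 989)
 (.leaf 1348))))
 (.node (.node (.node (.leaf 1045)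
 (.leaf 3592))
 (.node (.leaf 1290)
 (.leaf 829)))
 (.node (.node (.leaf 2861)
 (.leaf 727))
 (.node (.leaf 1349)
 (.leaf 1995))))))

def tAB15 : RT := .node (.node (.node (.node (.node (.node (.leaf 2951)
 (.leaf 1911))
 (.node (.leaf 515)
 (.leaf 180)))
 (.node (.node (.leaf 1312)
 (.leaf 2507))
 (.node (.leaf 61)
 (.leaf 1765))))
 (.node (.node (.node (.leaf 2421)
 (.leaf 1576))
 (.node (.leaf 2952)
 (.leaf 59)))
 (.node (.node (.leaf 1365)
 (.leaf 3853))
 (.node (.leaf 2202)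
 (.leaf 1835)))))
 (.node (.node (.node (.node (.leaf 90)
 (.leaf 1221))
 (.node (.leaf 375)
 (.leaf 863)))
 (.node (.node (.leaf 3843)
 (.leaf 3610))
 (.node (.leaf 3254)
 (.leaf 3927))))
 (.node (.node (.node (.leaf 650)
 (.leaf 2838))
 (.node (.leaf 3406)
 (.leaf 2947)))
 (.node (.node (.leaf 2502)
 (.leaf 563))
 (.node (.leaf 1804)
 (.leaf 3528))))))
 (.node (.node (.node (.node (.node (.leaf 3594)
 (.leaf 3171))
 (.node (.leaf 3745)
 (.leaf 1847)))
 (.node (.node (.leaf 2999)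
 (.leaf 1507))
 (.node (.leaf 673)
 (.leaf 865))))
 (.node (.node (.node (.leaf 2110)
 (.leaf 3421))
 (.node (.leaf 1876)
 (.leaf 2008)))
 (.node (.node (.leaf 1928)
 (.leaf 2611))
 (.node (.leaf 358)
 (.leaf 2185)))))
 (.node (.node (.node (.node (.leaf 3056)
 (.leaf 2078))
 (.node (.leaf 2041)
 (.leaf 1621)))
 (.node (.node (.leaf 3969)
 (.leaf 2710))
 (.node (.leaf 614)
 (.leaf 2614))))
 (.node (.node (.node (.leaf 228)
 (.leaf 3681))
 (.node (.leaf 923)
 (.leaf 2259)))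
 (.node (.node (.leaf 3386)
 (.leaf 2373))
 (.node (.leaf 623)
 (.leaf 481))))))

def tAB16 : RT := .node (.node (.node (.node (.node (.node (.leaf 2306)
 (.leaf 1416))
 (.node (.leaf 2218)
 (.leaf 2269)))
 (.node (.node (.leaf 455)
 (.leaf 2921))
 (.node (.leaf 3829)
 (.leaf 625))))
 (.node (.node (.node (.leaf 1770)
 (.leaf 2727))
 (.node (.leaf 2452)
 (.leaf 2284)))
 (.node (.node (.leaf 1526)
 (.leaf 1989))
 (.node (.leaf 1880)
 (.leaf 3880)))))
 (.node (.node (.node (.node (.leaf 2021)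
 (.leaf 2079))
 (.node (.leaf 184)
 (.leaf 3114)))
 (.node (.node (.leaf 2019)
 (.leaf 442))
 (.node (.leaf 3583)
 (.leaf 368))))
 (.node (.node (.node (.leaf 3943)
 (.leaf 2521))
 (.node (.leaf 1218)
 (.leaf 556)))
 (.node (.node (.leaf 3247)
 (.leaf 3261))
 (.node (.leaf 2806)
 (.leaf 3977))))))
 (.node (.node (.node (.node (.node (.leaf 3038)
 (.leaf 1921))
 (.node (.leaf 1864)
 (.leaf 671)))
 (.node (.node (.leaf 72)
 (.leaf 551))
 (.node (.leaf 4040)
 (.leaf 2107))))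
 (.node (.node (.node (.leaf 2061)
 (.leaf 1812))
 (.node (.leaf 2649)
 (.leaf 1243)))
 (.node (.node (.leaf 2075)
 (.leaf 1881))
 (.node (.leaf 3886)
 (.leaf 2303)))))
 (.node (.node (.node (.node (.leaf 3457)
 (.leaf 2339))
 (.node (.leaf 1582)
 (.leaf 758)))
 (.node (.node (.leaf 2514)
 (.leaf 716))
 (.node (.leaf 3621)
 (.leaf 1307))))
 (.node (.node (.node (.leaf 2554)
 (.leaf 1028))
 (.node (.leaf 195)
 (.leaf 3997)))
 (.node (.node (.leaf 2820)
 (.leaf 2401))
 (.node (.leaf 2098)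
 (.leaf 1016))))))

def tAB17 : RT := .node (.node (.node (.node (.node (.node (.leaf 2492)
 (.leaf 3760))
 (.node (.leaf 976)
 (.leaf 1513)))
 (.node (.node (.leaf 3138)
 (.leaf 1665))
 (.node (.leaf 495)
 (.leaf 1436))))
 (.node (.node (.node (.leaf 1087)
 (.leaf 1491))
 (.node (.leaf 3507)
 (.leaf 1889)))
 (.node (.node (.leaf 253)
 (.leaf 1974))
 (.node (.leaf 1863)
 (.leaf 1694)))))
 (.node (.node (.node (.node (.leaf 1461)
 (.leaf 3579))
 (.node (.leaf 642)
 (.leaf 682)))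
 (.node (.node (.leaf 3121)
 (.leaf 1328))
 (.node (.leaf 3710)
 (.leaf 69))))
 (.node (.node (.node (.leaf 3798)
 (.leaf 2103))
 (.node (.leaf 880)
 (.leaf 2294)))
 (.node (.node (.leaf 737)
 (.leaf 652))
 (.node (.leaf 1254)
 (.leaf 1676))))))
 (.node (.node (.node (.node (.node (.leaf 1353)
 (.leaf 2239))
 (.node (.leaf 777)
 (.leaf 3522)))
 (.node (.node (.leaf 2117)
 (.leaf 2186))
 (.node (.leaf 2935)
 (.leaf 3861))))
 (.node (.node (.node (.leaf 182)
 (.leaf 3397))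
 (.node (.leaf 2743)
 (.leaf 3127)))
 (.node (.node (.leaf 347)
 (.leaf 720))
 (.node (.leaf 1129)
 (.leaf 1058)))))
 (.node (.node (.node (.node (.leaf 1978)
 (.leaf 855))
 (.node (.leaf 3415)
 (.leaf 332)))
 (.node (.node (.leaf 2796)
 (.leaf 1017))
 (.node (.leaf 119)
 (.leaf 1796))))
 (.node (.node (.node (.leaf 817)
 (.leaf 3765))
 (.node (.leaf 489)
 (.leaf 3147)))
 (.node (.node (.leaf 834)
 (.leaf 191))
 (.node (.leaf 843)
 (.leaf 2314))))))

def tAB18 : RT := .node (.node (.node (.node (.node (.node (.leaf 2459)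
 (.leaf 630))
 (.node (.leaf 2360)
 (.leaf 692)))
 (.node (.node (.leaf 4055)
 (.leaf 402))
 (.node (.leaf 343)
 (.leaf 653))))
 (.node (.node (.node (.leaf 705)
 (.leaf 230))
 (.node (.leaf 2463)
 (.leaf 1298)))
 (.node (.node (.leaf 739)
 (.leaf 1824))
 (.node (.leaf 3515)
 (.leaf 2346)))))
 (.node (.node (.node (.node (.leaf 659)
 (.leaf 142))
 (.node (.leaf 4038)
 (.leaf 247)))
 (.node (.node (.leaf 1304)
 (.leaf 350))
 (.node (.leaf 2639)
 (.leaf 1368))))
 (.node (.node (.node (.leaf 2142)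
 (.leaf 490))
 (.node (.leaf 3076)
 (.leaf 2996)))
 (.node (.node (.leaf 1394)
 (.leaf 2348))
 (.node (.leaf 3824)
 (.leaf 2071))))))
 (.node (.node (.node (.node (.node (.leaf 3905)
 (.leaf 2833))
 (.node (.leaf 3115)
 (.leaf 2332)))
 (.node (.node (.leaf 23)
 (.leaf 1467))
 (.node (.leaf 520)
 (.leaf 2027))))
 (.node (.node (.node (.leaf 2506)
 (.leaf 4036))
 (.node (.leaf 2147)
 (.leaf 283)))
 (.node (.node (.leaf 3657)
 (.leaf 3720))
 (.node (.leaf 3013)
 (.leaf 2980)))))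
 (.node (.node (.node (.node (.leaf 3545)
 (.leaf 3378))
 (.node (.leaf 599)
 (.leaf 1958)))
 (.node (.node (.leaf 2443)
 (.leaf 2121))
 (.node (.leaf 1952)
 (.leaf 3094))))
 (.node (.node (.node (.leaf 1787)
 (.leaf 3350))
 (.node (.leaf 2149)
 (.leaf 1511)))
 (.node (.node (.leaf 3958)
 (.leaf 252))
 (.node (.leaf 1181)
 (.leaf 2607))))))

def tAB19 : RT := .node (.node (.node (.node (.node (.node (.leaf 2734)
 (.leaf 3806))
 (.node (.leaf 3782)
 (.leaf 2206)))
 (.node (.node (.leaf 145)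
 (.leaf 1276))
 (.node (.leaf 2801)
 (.leaf 1417))))
 (.node (.node (.node (.leaf 2380)
 (.leaf 2665))
 (.node (.leaf 3490)
 (.leaf 2657)))
 (.node (.node (.leaf 1002)
 (.leaf 689))
 (.node (.leaf 154)
 (.leaf 1279)))))
 (.node (.node (.node (.node (.leaf 2986)
 (.leaf 2393))
 (.node (.leaf 3338)
 (.leaf 1773)))
 (.node (.node (.leaf 1925)
 (.leaf 389))
 (.node (.leaf 449)
 (.leaf 3631))))
 (.node (.node (.node (.leaf 431)
 (.leaf 2398))
 (.node (.leaf 2513)
 (.leaf 3491)))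
 (.node (.node (.leaf 2386)
 (.leaf 1691))
 (.node (.leaf 3401)
 (.leaf 1752))))))
 (.node (.node (.node (.node (.node (.leaf 1333)
 (.leaf 3736))
 (.node (.leaf 903)
 (.leaf 1359)))
 (.node (.node (.leaf 3295)
 (.leaf 3205))
 (.node (.leaf 4007)
 (.leaf 2749))))
 (.node (.node (.node (.leaf 1274)
 (.leaf 3868))
 (.node (.leaf 2960)
 (.leaf 3659)))
 (.node (.node (.leaf 2573)
 (.leaf 1296))
 (.node (.leaf 1420)
 (.leaf 3156)))))
 (.node (.node (.node (.node (.leaf 2632)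
 (.leaf 2572))
 (.node (.leaf 2759)
 (.leaf 1910)))
 (.node (.node (.leaf 4019)
 (.leaf 3615))
 (.node (.leaf 3481)
 (.leaf 1139))))
 (.node (.node (.node (.leaf 354)
 (.leaf 12))
 (.node (.leaf 2200)
 (.leaf 1343)))
 (.node (.node (.leaf 166)
 (.leaf 3526))
 (.node (.leaf 1162)
 (.leaf 2166))))))

def tAB20 : RT := .node (.node (.node (.node (.node (.node (.leaf 263)
 (.leaf 3787))
 (.node (.leaf 2797)
 (.leaf 3601)))
 (.node (.node (.leaf 746)
 (.leaf 2627))
 (.node (.leaf 2764)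
 (.leaf 1272))))
 (.node (.node (.node (.leaf 3432)
 (.leaf 1731))
 (.node (.leaf 1923)
 (.leaf 1970)))
 (.node (.node (.leaf 1595)
 (.leaf 3248))
 (.node (.leaf 2525)
 (.leaf 3257)))))
 (.node (.node (.node (.node (.leaf 2017)
 (.leaf 2778))
 (.node (.leaf 2195)
 (.leaf 1340)))
 (.node (.node (.leaf 918)
 (.leaf 2210))
 (.node (.leaf 706)
 (.leaf 40))))
 (.node (.node (.node (.leaf 1699)
 (.leaf 2227))
 (.node (.leaf 1423)
 (.leaf 3407)))
 (.node (.node (.leaf 3645)
 (.leaf 3010))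
 (.node (.leaf 2570)
 (.leaf 3985))))))
 (.node (.node (.node (.node (.node (.leaf 1908)
 (.leaf 2558))
 (.node (.leaf 3440)
 (.leaf 3754)))
 (.node (.node (.leaf 2085)
 (.leaf 2669))
 (.node (.leaf 2498)
 (.leaf 3570))))
 (.node (.node (.node (.leaf 3677)
 (.leaf 569))
 (.node (.leaf 3655)
 (.leaf 2730)))
 (.node (.node (.leaf 3746)
 (.leaf 3852))
 (.node (.leaf 9)
 (.leaf 1003)))))
 (.node (.node (.node (.node (.leaf 3599)
 (.leaf 743))
 (.node (.leaf 853)
 (.leaf 260)))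
 (.node (.node (.leaf 2168)
 (.leaf 267))
 (.node (.leaf 3342)
 (.leaf 209))))
 (.node (.node (.node (.leaf 1570)
 (.leaf 2468))
 (.node (.leaf 1790)
 (.leaf 3622)))
 (.node (.node (.leaf 3577)
 (.leaf 1552))
 (.node (.leaf 2758)
 (.leaf 1689))))))

def tAB21 : RT := .node (.node (.node (.node (.node (.node (.leaf 2479)
 (.leaf 3242))
 (.node (.leaf 827)
 (.leaf 3701)))
 (.node (.node (.leaf 2028)
 (.leaf 19))
 (.node (.leaf 1300)
 (.leaf 3669))))
 (.node (.node (.node (.leaf 2137)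
 (.leaf 21))
 (.node (.leaf 2330)
 (.leaf 1062)))
 (.node (.node (.leaf 1529)
 (.leaf 1138))
 (.node (.leaf 1877)
 (.leaf 1640)))))
 (.node (.node (.node (.node (.leaf 2215)
 (.leaf 3959))
 (.node (.leaf 2336)
 (.leaf 1481)))
 (.node (.node (.leaf 2146)
 (.leaf 2150))
 (.node (.leaf 1660)
 (.leaf 3400))))
 (.node (.node (.node (.leaf 101)
 (.leaf 1334))
 (.node (.leaf 1239)
 (.leaf 1869)))
 (.node (.node (.leaf 2000)
 (.leaf 1452))
 (.node (.leaf 216)
 (.leaf 3633))))))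
 (.node (.node (.node (.node (.node (.leaf 1941)
 (.leaf 3431))
 (.node (.leaf 2577)
 (.leaf 3435)))
 (.node (.node (.leaf 1157)
 (.leaf 417))
 (.node (.leaf 1116)
 (.leaf 2240))))
 (.node (.node (.node (.leaf 505)
 (.leaf 3414))
 (.node (.leaf 700)
 (.leaf 280)))
 (.node (.node (.leaf 170)
 (.leaf 307))
 (.node (.leaf 3480)
 (.leaf 269)))))
 (.node (.node (.node (.node (.leaf 3726)
 (.leaf 1371))
 (.node (.leaf 2696)
 (.leaf 2175)))
 (.node (.node (.leaf 537)
 (.leaf 1101))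
 (.node (.leaf 162)
 (.leaf 1487))))
 (.node (.node (.node (.leaf 2536)
 (.leaf 3945))
 (.node (.leaf 713)
 (.leaf 2167)))
 (.node (.node (.leaf 1059)
 (.leaf 383))
 (.node (.leaf 1915)
 (.leaf 566))))))

def tAB22 : RT := .node (.node (.node (.node (.node (.node (.leaf 860)
 (.leaf 1729))
 (.node (.leaf 2357)
 (.leaf 313)))
 (.node (.node (.leaf 1322)
 (.leaf 641))
 (.node (.leaf 3207)
 (.leaf 74))))
 (.node (.node (.node (.leaf 1692)
 (.leaf 3412))
 (.node (.leaf 407)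
 (.leaf 2760)))
 (.node (.node (.leaf 1918)
 (.leaf 3417))
 (.node (.leaf 3453)
 (.leaf 1244)))))
 (.node (.node (.node (.node (.leaf 511)
 (.leaf 2991))
 (.node (.leaf 3329)
 (.leaf 22)))
 (.node (.node (.leaf 246)
 (.leaf 680))
 (.node (.leaf 591)
 (.leaf 114))))
 (.node (.node (.node (.leaf 2122)
 (.leaf 2659))
 (.node (.leaf 1723)
 (.leaf 830)))
 (.node (.node (.leaf 869)
 (.leaf 2207))
 (.node (.leaf 2671)
 (.leaf 3879))))))
 (.node (.node (.node (.node (.node (.leaf 2792)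
 (.leaf 348))
 (.node (.leaf 2056)
 (.leaf 2975)))
 (.node (.node (.leaf 1025)
 (.leaf 3033))
 (.node (.leaf 1321)
 (.leaf 42))))
 (.node (.node (.node (.leaf 504)
 (.leaf 2324))
 (.node (.leaf 1281)
 (.leaf 1336)))
 (.node (.node (.leaf 2729)
 (.leaf 3775))
 (.node (.leaf 112)
 (.leaf 1553)))))
 (.node (.node (.node (.node (.leaf 618)
 (.leaf 3849))
 (.node (.leaf 359)
 (.leaf 5)))
 (.node (.node (.leaf 1999)
 (.leaf 2690))
 (.node (.leaf 2664)
 (.leaf 1701))))
 (.node (.node (.node (.leaf 1503)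
 (.leaf 364))
 (.node (.leaf 597)
 (.leaf 250)))
 (.node (.node (.leaf 715)
 (.leaf 2162))
 (.node (.leaf 1314)
 (.leaf 1044))))))

def tAB23 : RT := .node (.node (.node (.node (.node (.node (.leaf 422)
 (.leaf 1517))
 (.node (.leaf 3439)
 (.leaf 1331)))
 (.node (.node (.leaf 1202)
 (.leaf 224))
 (.node (.leaf 1648)
 (.leaf 2414))))
 (.node (.node (.node (.leaf 1985)
 (.leaf 1643))
 (.node (.leaf 3387)
 (.leaf 1936)))
 (.node (.node (.leaf 2448)
 (.leaf 2068))
 (.node (.leaf 2428)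
 (.leaf 3501)))))
 (.node (.node (.node (.node (.leaf 1774)
 (.leaf 2993))
 (.node (.leaf 519)
 (.leaf 2374)))
 (.node (.node (.leaf 3614)
 (.leaf 3317))
 (.node (.leaf 3976)
 (.leaf 694))))
 (.node (.node (.node (.leaf 3591)
 (.leaf 207))
 (.node (.leaf 2313)
 (.leaf 2677)))
 (.node (.node (.leaf 1277)
 (.leaf 2219))
 (.node (.leaf 3934)
 (.leaf 1718))))))
 (.node (.node (.node (.node (.node (.leaf 3078)
 (.leaf 3636))
 (.node (.leaf 3179)
 (.leaf 2084)))
 (.node (.node (.leaf 213)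
 (.leaf 1631))
 (.node (.leaf 3353)
 (.leaf 3122))))
 (.node (.node (.node (.leaf 2544)
 (.leaf 2581))
 (.node (.leaf 2880)
 (.leaf 3041)))
 (.node (.node (.leaf 1811)
 (.leaf 3095))
 (.node (.leaf 781)
 (.leaf 1772)))))
 (.node (.node (.node (.node (.leaf 102)
 (.leaf 3508))
 (.node (.leaf 2701)
 (.leaf 2082)))
 (.node (.node (.leaf 1830)
 (.leaf 1089))
 (.node (.leaf 3469)
 (.leaf 6))))
 (.node (.node (.node (.leaf 3837)
 (.leaf 985))
 (.node (.leaf 3595)
 (.leaf 3320)))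
 (.node (.node (.leaf 2496)
 (.leaf 1636))
 (.node (.leaf 2872)
 (.leaf 3924))))))

def tAB24 : RT := .node (.node (.node (.node (.node (.node (.leaf 796)
 (.leaf 1079))
 (.node (.leaf 2108)
 (.leaf 3136)))
 (.node (.node (.leaf 857)
 (.leaf 919))
 (.node (.leaf 2950)
 (.leaf 2899))))
 (.node (.node (.node (.leaf 2518)
 (.leaf 3740))
 (.node (.leaf 2780)
 (.leaf 3442)))
 (.node (.node (.leaf 2159)
 (.leaf 3206))
 (.node (.leaf 687)
 (.leaf 4008)))))
 (.node (.node (.node (.node (.leaf 3168)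
 (.leaf 1776))
 (.node (.leaf 1613)
 (.leaf 4053)))
 (.node (.node (.leaf 3900)
 (.leaf 1895))
 (.node (.leaf 3186)
 (.leaf 3651))))
 (.node (.node (.node (.leaf 3772)
 (.leaf 2093))
 (.node (.leaf 2253)
 (.leaf 2026)))
 (.node (.node (.leaf 3875)
 (.leaf 2966))
 (.node (.leaf 1521)
 (.leaf 3494))))))
 (.node (.node (.node (.node (.node (.leaf 3551)
 (.leaf 1624))
 (.node (.leaf 2747)
 (.leaf 3428)))
 (.node (.node (.leaf 2908)
 (.leaf 3810))
 (.node (.leaf 3262)
 (.leaf 1247))))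
 (.node (.node (.node (.leaf 1477)
 (.leaf 1441))
 (.node (.leaf 68)
 (.leaf 2002)))
 (.node (.node (.leaf 3707)
 (.leaf 1228))
 (.node (.leaf 633)
 (.leaf 3035)))))
 (.node (.node (.node (.node (.leaf 3938)
 (.leaf 3580))
 (.node (.leaf 1309)
 (.leaf 3658)))
 (.node (.node (.leaf 3513)
 (.leaf 3612))
 (.node (.leaf 1021)
 (.leaf 2863))))
 (.node (.node (.node (.leaf 3650)
 (.leaf 4026))
 (.node (.leaf 3356)
 (.leaf 1165)))
 (.node (.node (.leaf 3040)
 (.leaf 1579))
 (.node (.leaf 1339)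
 (.leaf 3163))))))

def tAB25 : RT := .node (.node (.node (.node (.node (.node (.leaf 2464)
 (.leaf 3358))
 (.node (.leaf 1605)
 (.leaf 1154)))
 (.node (.node (.leaf 862)
 (.leaf 955))
 (.node (.leaf 3520)
 (.leaf 116))))
 (.node (.node (.node (.leaf 1540)
 (.leaf 3665))
 (.node (.leaf 1049)
 (.leaf 3689)))
 (.node (.node (.leaf 982)
 (.leaf 135))
 (.node (.leaf 3695)
 (.leaf 3405)))))
 (.node (.node (.node (.node (.leaf 163)
 (.leaf 1406))
 (.node (.leaf 409)
 (.leaf 954)))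
 (.node (.node (.leaf 2293)
 (.leaf 1323))
 (.node (.leaf 3573)
 (.leaf 1310))))
 (.node (.node (.node (.leaf 3058)
 (.leaf 3768))
 (.node (.leaf 2358)
 (.leaf 2296)))
 (.node (.node (.leaf 1419)
 (.leaf 1355))
 (.node (.leaf 2716)
 (.leaf 179))))))
 (.node (.node (.node (.node (.node (.leaf 3459)
 (.leaf 1505))
 (.node (.leaf 3790)
 (.leaf 3956)))
 (.node (.node (.leaf 2145)
 (.leaf 2133))
 (.node (.leaf 2232)
 (.leaf 4012))))
 (.node (.node (.node (.leaf 2338)
 (.leaf 2836))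
 (.node (.leaf 4000)
 (.leaf 3896)))
 (.node (.node (.leaf 2835)
 (.leaf 137))
 (.node (.leaf 1006)
 (.leaf 1633)))))
 (.node (.node (.node (.node (.leaf 2675)
 (.leaf 4033))
 (.node (.leaf 1258)
 (.leaf 3279)))
 (.node (.node (.leaf 719)
 (.leaf 952))
 (.node (.leaf 2486)
 (.leaf 3018))))
 (.node (.node (.node (.leaf 1078)
 (.leaf 2057))
 (.node (.leaf 3980)
 (.leaf 1357)))
 (.node (.node (.leaf 3383)
 (.leaf 2821))
 (.node (.leaf 3377)
 (.leaf 3751))))))

def tAB26 : RT := .node (.node (.node (.node (.node (.node (.leaf 3273)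
 (.leaf 612))
 (.node (.leaf 2119)
 (.leaf 1589)))
 (.node (.node (.leaf 2824)
 (.leaf 3630))
 (.node (.leaf 2192)
 (.leaf 2458))))
 (.node (.node (.node (.leaf 651)
 (.leaf 767))
 (.node (.leaf 3213)
 (.leaf 1868)))
 (.node (.node (.leaf 1778)
 (.leaf 2605))
 (.node (.leaf 996)
 (.leaf 2320)))))
 (.node (.node (.node (.node (.leaf 908)
 (.leaf 3913))
 (.node (.leaf 1964)
 (.leaf 1627)))
 (.node (.node (.leaf 2604)
 (.leaf 629))
 (.node (.leaf 1476)
 (.leaf 82))))
 (.node (.node (.node (.leaf 698)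
 (.leaf 1568))
 (.node (.leaf 3424)
 (.leaf 2204)))
 (.node (.node (.leaf 3077)
 (.leaf 1637))
 (.node (.leaf 895)
 (.leaf 1499))))))
 (.node (.node (.node (.node (.node (.leaf 3293)
 (.leaf 377))
 (.node (.leaf 1042)
 (.leaf 3994)))
 (.node (.node (.leaf 1194)
 (.leaf 3237))
 (.node (.leaf 3572)
 (.leaf 1957))))
 (.node (.node (.node (.leaf 1195)
 (.leaf 25))
 (.node (.leaf 2302)
 (.leaf 3846)))
 (.node (.node (.leaf 3933)
 (.leaf 89))
 (.node (.leaf 3822)
 (.leaf 2608)))))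
 (.node (.node (.node (.node (.leaf 2489)
 (.leaf 1684))
 (.node (.leaf 1462)
 (.leaf 2957)))
 (.node (.node (.leaf 1866)
 (.leaf 525))
 (.node (.leaf 4052)
 (.leaf 3255))))
 (.node (.node (.node (.leaf 2971)
 (.leaf 3694))
 (.node (.leaf 3373)
 (.leaf 1360)))
 (.node (.node (.leaf 2180)
 (.leaf 3801))
 (.node (.leaf 3586)
 (.leaf 1478))))))

def tAB27 : RT := .node (.node (.node (.node (.node (.node (.leaf 2018)
 (.leaf 3445))
 (.node (.leaf 2900)
 (.leaf 3117)))
 (.node (.node (.leaf 3360)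
 (.leaf 3483))
 (.node (.leaf 1201)
 (.leaf 3540))))
 (.node (.node (.node (.leaf 3197)
 (.leaf 3190))
 (.node (.leaf 1850)
 (.leaf 538)))
 (.node (.node (.leaf 2067)
 (.leaf 244))
 (.node (.leaf 1512)
 (.leaf 2990)))))
 (.node (.node (.node (.node (.leaf 3639)
 (.leaf 2856))
 (.node (.leaf 1753)
 (.leaf 1920)))
 (.node (.node (.leaf 3955)
 (.leaf 1410))
 (.node (.leaf 2111)
 (.leaf 1870))))
 (.node (.node (.node (.leaf 2169)
 (.leaf 3987))
 (.node (.leaf 1953)
 (.leaf 3003)))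
 (.node (.node (.leaf 485)
 (.leaf 3272))
 (.node (.leaf 291)
 (.leaf 1567))))))
 (.node (.node (.node (.node (.node (.leaf 3027)
 (.leaf 897))
 (.node (.leaf 2648)
 (.leaf 1209)))
 (.node (.node (.leaf 1944)
 (.leaf 3705))
 (.node (.leaf 1302)
 (.leaf 2700))))
 (.node (.node (.node (.leaf 2772)
 (.leaf 2154))
 (.node (.leaf 3970)
 (.leaf 1878)))
 (.node (.node (.leaf 1960)
 (.leaf 331))
 (.node (.leaf 2003)
 (.leaf 1956)))))
 (.node (.node (.node (.node (.leaf 701)
 (.leaf 1821))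
 (.node (.leaf 3161)
 (.leaf 2307)))
 (.node (.node (.leaf 141)
 (.leaf 3090))
 (.node (.leaf 1415)
 (.leaf 589))))
 (.node (.node (.node (.leaf 3593)
 (.leaf 1630))
 (.node (.leaf 488)
 (.leaf 4044)))
 (.node (.node (.leaf 1292)
 (.leaf 1840))
 (.node (.leaf 303)
 (.leaf 2535))))))

def tAB28 : RT := .node (.node (.node (.node (.node (.node (.leaf 2387)
 (.leaf 1453))
 (.node (.leaf 1725)
 (.leaf 1800)))
 (.node (.node (.leaf 2691)
 (.leaf 3352))
 (.node (.leaf 973)
 (.leaf 1265))))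
 (.node (.node (.node (.leaf 4005)
 (.leaf 2031))
 (.node (.leaf 3543)
 (.leaf 4001)))
 (.node (.node (.leaf 1696)
 (.leaf 3530))
 (.node (.leaf 2877)
 (.leaf 3975)))))
 (.node (.node (.node (.node (.leaf 3047)
 (.leaf 3212))
 (.node (.leaf 580)
 (.leaf 797)))
 (.node (.node (.leaf 1846)
 (.leaf 183))
 (.node (.leaf 261)
 (.leaf 341))))
 (.node (.node (.node (.leaf 2662)
 (.leaf 1227))
 (.node (.leaf 790)
 (.leaf 3981)))
 (.node (.node (.leaf 2073)
 (.leaf 466))
 (.node (.leaf 2997)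
 (.leaf 910))))))
 (.node (.node (.node (.node (.node (.leaf 2250)
 (.leaf 690))
 (.node (.leaf 1482)
 (.leaf 3991)))
 (.node (.node (.leaf 1523)
 (.leaf 901))
 (.node (.leaf 1158)
 (.leaf 742))))
 (.node (.node (.node (.leaf 3420)
 (.leaf 1635))
 (.node (.leaf 775)
 (.leaf 1440)))
 (.node (.node (.leaf 39)
 (.leaf 1047))
 (.node (.leaf 487)
 (.leaf 3098)))))
 (.node (.node (.node (.node (.leaf 3858)
 (.leaf 36))
 (.node (.leaf 1027)
 (.leaf 3992)))
 (.node (.node (.leaf 2343)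
 (.leaf 1856))
 (.node (.leaf 655)
 (.leaf 2088))))
 (.node (.node (.node (.leaf 929)
 (.leaf 3535))
 (.node (.leaf 1740)
 (.leaf 554)))
 (.node (.node (.leaf 1422)
 (.leaf 3871))
 (.node (.leaf 3742)
 (.leaf 1447))))))

def tAB29 : RT := .node (.node (.node (.node (.node (.node (.leaf 2798)
 (.leaf 3794))
 (.node (.leaf 1032)
 (.leaf 3390)))
 (.node (.node (.leaf 2839)
 (.leaf 3960))
 (.node (.leaf 2197)
 (.leaf 2774))))
 (.node (.node (.node (.leaf 3263)
 (.leaf 917))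
 (.node (.leaf 1865)
 (.leaf 2969)))
 (.node (.node (.leaf 2786)
 (.leaf 1750))
 (.node (.leaf 185)
 (.leaf 161)))))
 (.node (.node (.node (.node (.leaf 1192)
 (.leaf 160))
 (.node (.leaf 3676)
 (.leaf 921)))
 (.node (.node (.leaf 467)
 (.leaf 2477))
 (.node (.leaf 1212)
 (.leaf 3506))))
 (.node (.node (.node (.leaf 3807)
 (.leaf 3786))
 (.node (.leaf 3785)
 (.leaf 3045)))
 (.node (.node (.leaf 2280)
 (.leaf 2035))
 (.node (.leaf 3613)
 (.leaf 249))))))
 (.node (.node (.node (.node (.node (.leaf 933)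
 (.leaf 3598))
 (.node (.leaf 3276)
 (.leaf 3394)))
 (.node (.node (.leaf 3052)
 (.leaf 3332))
 (.node (.leaf 529)
 (.leaf 2744))))
 (.node (.node (.node (.leaf 3100)
 (.leaf 3696))
 (.node (.leaf 1815)
 (.leaf 1742)))
 (.node (.node (.leaf 231)
 (.leaf 1132))
 (.node (.leaf 1005)
 (.leaf 106)))))
 (.node (.node (.node (.node (.leaf 1093)
 (.leaf 1794))
 (.node (.leaf 3698)
 (.leaf 608)))
 (.node (.node (.leaf 1041)
 (.leaf 1172))
 (.node (.leaf 401)
 (.leaf 518))))
 (.node (.node (.node (.leaf 64)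
 (.leaf 1998))
 (.node (.leaf 1799)
 (.leaf 1373)))
 (.node (.node (.leaf 398)
 (.leaf 1663))
 (.node (.leaf 2369)
 (.leaf 2620))))))

def tAB30 : RT := .node (.node (.node (.node (.node (.node (.leaf 372)
 (.leaf 3017))
 (.node (.leaf 1324)
 (.leaf 2580)))
 (.node (.node (.leaf 1638)
 (.leaf 3085))
 (.node (.leaf 2251)
 (.leaf 2767))))
 (.node (.node (.node (.leaf 2831)
 (.leaf 37))
 (.node (.leaf 3923)
 (.leaf 2450)))
 (.node (.node (.leaf 2788)
 (.leaf 1661))
 (.node (.leaf 3381)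
 (.leaf 2776)))))
 (.node (.node (.node (.node (.leaf 3170)
 (.leaf 1822))
 (.node (.leaf 3064)
 (.leaf 1515)))
 (.node (.node (.leaf 3245)
 (.leaf 2247))
 (.node (.leaf 2666)
 (.leaf 1143))))
 (.node (.node (.node (.leaf 1262)
 (.leaf 3838))
 (.node (.leaf 1395)
 (.leaf 2837)))
 (.node (.node (.leaf 2829)
 (.leaf 55))
 (.node (.leaf 2651)
 (.leaf 2120))))))
 (.node (.node (.node (.node (.node (.leaf 912)
 (.leaf 2333))
 (.node (.leaf 2985)
 (.leaf 414)))
 (.node (.node (.leaf 3007)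
 (.leaf 499))
 (.node (.leaf 3368)
 (.leaf 32))))
 (.node (.node (.node (.leaf 647)
 (.leaf 4021))
 (.node (.leaf 3322)
 (.leaf 2714)))
 (.node (.node (.leaf 3361)
 (.leaf 900))
 (.node (.leaf 2364)
 (.leaf 130)))))
 (.node (.node (.node (.node (.leaf 575)
 (.leaf 736))
 (.node (.leaf 371)
 (.leaf 3333)))
 (.node (.node (.leaf 3808)
 (.leaf 2915))
 (.node (.leaf 226)
 (.leaf 2222))))
 (.node (.node (.node (.leaf 615)
 (.leaf 4058))
 (.node (.leaf 3848)
 (.leaf 2375)))
 (.node (.node (.leaf 452)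
 (.leaf 52))
 (.node (.leaf 2238)
 (.leaf 3304))))))

def tAB31 : RT := .node (.node (.node (.node (.node (.node (.leaf 658)
 (.leaf 1994))
 (.node (.leaf 508)
 (.leaf 1225)))
 (.node (.node (.leaf 1488)
 (.leaf 1053))
 (.node (.leaf 956)
 (.leaf 1721))))
 (.node (.node (.node (.leaf 397)
 (.leaf 1204))
 (.node (.leaf 1159)
 (.leaf 62)))
 (.node (.node (.leaf 3686)
 (.leaf 3619))
 (.node (.leaf 367)
 (.leaf 1119)))))
 (.node (.node (.node (.node (.leaf 3184)
 (.leaf 3185))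
 (.node (.leaf 387)
 (.leaf 1597)))
 (.node (.node (.leaf 2945)
 (.leaf 321))
 (.node (.leaf 725)
 (.leaf 1900))))
 (.node (.node (.node (.leaf 2793)
 (.leaf 2647))
 (.node (.leaf 450)
 (.leaf 670)))
 (.node (.node (.leaf 2705)
 (.leaf 1401))
 (.node (.leaf 274)
 (.leaf 3126))))))
 (.node (.node (.node (.node (.node (.leaf 301)
 (.leaf 904))
 (.node (.leaf 935)
 (.leaf 1445)))
 (.node (.node (.leaf 2328)
 (.leaf 122))
 (.node (.leaf 889)
 (.leaf 3932))))
 (.node (.node (.node (.leaf 2864)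
 (.leaf 1861))
 (.node (.leaf 3107)
 (.leaf 1854)))
 (.node (.node (.leaf 2435)
 (.leaf 3549))
 (.node (.leaf 714)
 (.leaf 1295)))))
 (.node (.node (.node (.node (.leaf 1136)
 (.leaf 2022))
 (.node (.leaf 2138)
 (.leaf 461)))
 (.node (.node (.leaf 2363)
 (.leaf 3198))
 (.node (.leaf 3275)
 (.leaf 2674))))
 (.node (.node (.node (.leaf 2157)
 (.leaf 1874))
 (.node (.leaf 831)
 (.leaf 533)))
 (.node (.node (.leaf 3324)
 (.leaf 1263))
 (.node (.leaf 473)
 (.leaf 306))))))

def tAB32 : RT := .node (.node (.node (.node (.node (.node (.leaf 3166)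
 (.leaf 2383))
 (.node (.leaf 1917)
 (.leaf 3455)))
 (.node (.node (.leaf 2733)
 (.leaf 335))
 (.node (.leaf 861)
 (.leaf 1758))))
 (.node (.node (.node (.leaf 2223)
 (.leaf 268))
 (.node (.leaf 3022)
 (.leaf 3437)))
 (.node (.node (.leaf 105)
 (.leaf 3732))
 (.node (.leaf 3398)
 (.leaf 947)))))
 (.node (.node (.node (.node (.leaf 3910)
 (.leaf 3793))
 (.node (.leaf 3164)
 (.leaf 1363)))
 (.node (.node (.leaf 2431)
 (.leaf 1912))
 (.node (.leaf 3258)
 (.leaf 2370))))
 (.node (.node (.node (.leaf 2315)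
 (.leaf 1628))
 (.node (.leaf 1351)
 (.leaf 3484)))
 (.node (.node (.leaf 1550)
 (.leaf 916))
 (.node (.leaf 3042)
 (.leaf 3902))))))
 (.node (.node (.node (.node (.node (.leaf 891)
 (.leaf 3904))
 (.node (.leaf 2534)
 (.leaf 2741)))
 (.node (.node (.leaf 2389)
 (.leaf 3073))
 (.node (.leaf 3514)
 (.leaf 1197))))
 (.node (.node (.node (.leaf 3468)
 (.leaf 199))
 (.node (.leaf 3674)
 (.leaf 1133)))
 (.node (.node (.leaf 2244)
 (.leaf 2934))
 (.node (.leaf 3286)
 (.leaf 1574)))))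
 (.node (.node (.node (.node (.leaf 2895)
 (.leaf 188))
 (.node (.leaf 1904)
 (.leaf 859)))
 (.node (.node (.leaf 3747)
 (.leaf 2062))
 (.node (.leaf 2929)
 (.leaf 2455))))
 (.node (.node (.node (.leaf 212)
 (.leaf 218))
 (.node (.leaf 3644)
 (.leaf 3525)))
 (.node (.node (.leaf 320)
 (.leaf 3081))
 (.node (.leaf 53)
 (.leaf 2252))))))

def tAB33 : RT := .node (.node (.node (.node (.node (.node (.leaf 1795)
 (.leaf 637))
 (.node (.leaf 757)
 (.leaf 1583)))
 (.node (.node (.leaf 925)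
 (.leaf 2586))
 (.node (.leaf 978)
 (.leaf 98))))
 (.node (.node (.node (.leaf 2566)
 (.leaf 1817))
 (.node (.leaf 474)
 (.leaf 2451)))
 (.node (.node (.leaf 49)
 (.leaf 1906))
 (.node (.leaf 340)
 (.leaf 972)))))
 (.node (.node (.node (.node (.leaf 1152)
 (.leaf 463))
 (.node (.leaf 3839)
 (.leaf 949)))
 (.node (.node (.leaf 994)
 (.leaf 129))
 (.node (.leaf 728)
 (.leaf 3240))))
 (.node (.node (.node (.leaf 1471)
 (.leaf 294))
 (.node (.leaf 548)
 (.leaf 686)))
 (.node (.node (.leaf 2765)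
 (.leaf 342))
 (.node (.leaf 1070)
 (.leaf 634))))))
 (.node (.node (.node (.node (.node (.leaf 2241)
 (.leaf 204))
 (.node (.leaf 1607)
 (.leaf 3323)))
 (.node (.node (.leaf 3753)
 (.leaf 1282))
 (.node (.leaf 2626)
 (.leaf 1727))))
 (.node (.node (.node (.leaf 2676)
 (.leaf 221))
 (.node (.leaf 1318)
 (.leaf 2209)))
 (.node (.node (.leaf 287)
 (.leaf 884))
 (.node (.leaf 1593)
 (.leaf 1653)))))
 (.node (.node (.node (.node (.leaf 2033)
 (.leaf 1719))
 (.node (.leaf 1094)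
 (.leaf 2955)))
 (.node (.node (.leaf 2454)
 (.leaf 1748))
 (.node (.leaf 586)
 (.leaf 2610))))
 (.node (.node (.node (.leaf 382)
 (.leaf 2183))
 (.node (.leaf 2106)
 (.leaf 3331)))
 (.node (.node (.leaf 1634)
 (.leaf 3403))
 (.node (.leaf 2896)
 (.leaf 2367))))))

def tAB34 : RT := .node (.node (.node (.node (.node (.node (.leaf 146)
 (.leaf 3102))
 (.node (.leaf 2658)
 (.leaf 2171)))
 (.node (.node (.leaf 1617)
 (.leaf 2688))
 (.node (.leaf 2368)
 (.leaf 3733))))
 (.node (.node (.node (.leaf 2519)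
 (.leaf 1986))
 (.node (.leaf 2132)
 (.leaf 1859)))
 (.node (.node (.leaf 334)
 (.leaf 1293))
 (.node (.leaf 76)
 (.leaf 738)))))
 (.node (.node (.node (.node (.leaf 234)
 (.leaf 1264))
 (.node (.leaf 2173)
 (.leaf 2312)))
 (.node (.node (.leaf 3918)
 (.leaf 964))
 (.node (.leaf 2909)
 (.leaf 1332))))
 (.node (.node (.node (.leaf 644)
 (.leaf 1797))
 (.node (.leaf 3967)
 (.leaf 3259)))
 (.node (.node (.leaf 3151)
 (.leaf 2771))
 (.node (.leaf 2054)
 (.leaf 2052))))))
 (.node (.node (.node (.node (.node (.leaf 3343)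
 (.leaf 693))
 (.node (.leaf 2939)
 (.leaf 2802)))
 (.node (.node (.leaf 879)
 (.leaf 944))
 (.node (.leaf 1372)
 (.leaf 876))))
 (.node (.node (.node (.leaf 1147)
 (.leaf 3999))
 (.node (.leaf 702)
 (.leaf 2442)))
 (.node (.node (.leaf 1805)
 (.leaf 3556))
 (.node (.leaf 1404)
 (.leaf 2885)))))
 (.node (.node (.node (.node (.leaf 582)
 (.leaf 3413))
 (.node (.leaf 2553)
 (.leaf 2582)))
 (.node (.node (.leaf 251)
 (.leaf 48))
 (.node (.leaf 3130)
 (.leaf 1251))))
 (.node (.node (.node (.leaf 755)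
 (.leaf 2822))
 (.node (.leaf 1939)
 (.leaf 454)))
 (.node (.node (.leaf 3617)
 (.leaf 3719))
 (.node (.leaf 208)
 (.leaf 3302))))))

def tAB35 : RT := .node (.node (.node (.node (.node (.node (.leaf 967)
 (.leaf 926))
 (.node (.leaf 1940)
 (.leaf 2886)))
 (.node (.node (.leaf 3845)
 (.leaf 41))
 (.node (.leaf 3348)
 (.leaf 1068))))
 (.node (.node (.node (.leaf 438)
 (.leaf 3721))
 (.node (.leaf 2533)
 (.leaf 3641)))
 (.node (.node (.leaf 1007)
 (.leaf 1891))
 (.node (.leaf 2704)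
 (.leaf 2616)))))
 (.node (.node (.node (.node (.leaf 2340)
 (.leaf 1490))
 (.node (.leaf 1934)
 (.leaf 1381)))
 (.node (.node (.leaf 94)
 (.leaf 896))
 (.node (.leaf 3316)
 (.leaf 3031))))
 (.node (.node (.node (.leaf 3486)
 (.leaf 1544))
 (.node (.leaf 1102)
 (.leaf 1988)))
 (.node (.node (.leaf 3962)
 (.leaf 344))
 (.node (.leaf 1849)
 (.leaf 34))))))
 (.node (.node (.node (.node (.node (.leaf 3278)
 (.leaf 656))
 (.node (.leaf 464)
 (.leaf 1950)))
 (.node (.node (.leaf 1148)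
 (.leaf 156))
 (.node (.leaf 390)
 (.leaf 1398))))
 (.node (.node (.node (.leaf 1807)
 (.leaf 2504))
 (.node (.leaf 1990)
 (.leaf 444)))
 (.node (.node (.leaf 1569)
 (.leaf 2403))
 (.node (.leaf 2596)
 (.leaf 1580)))))
 (.node (.node (.node (.node (.leaf 2561)
 (.leaf 1065))
 (.node (.leaf 2619)
 (.leaf 423)))
 (.node (.node (.leaf 315)
 (.leaf 1938))
 (.node (.leaf 4002)
 (.leaf 1744))))
 (.node (.node (.node (.leaf 1337)
 (.leaf 288))
 (.node (.leaf 1996)
 (.leaf 590)))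
 (.node (.node (.leaf 881)
 (.leaf 667))
 (.node (.leaf 2385)
 (.leaf 153))))))

def tAB36 : RT := .node (.node (.node (.node (.node (.node (.leaf 526)
 (.leaf 2693))
 (.node (.leaf 3299)
 (.leaf 1601)))
 (.node (.node (.leaf 3935)
 (.leaf 1516))
 (.node (.leaf 2505)
 (.leaf 255))))
 (.node (.node (.node (.leaf 3682)
 (.leaf 159))
 (.node (.leaf 1825)
 (.leaf 1506)))
 (.node (.node (.leaf 388)
 (.leaf 1814))
 (.node (.leaf 1449)
 (.leaf 510)))))
 (.node (.node (.node (.node (.leaf 958)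
 (.leaf 2981))
 (.node (.leaf 2612)
 (.leaf 3750)))
 (.node (.node (.leaf 2543)
 (.leaf 870))
 (.node (.leaf 787)
 (.leaf 2994))))
 (.node (.node (.node (.leaf 1683)
 (.leaf 472))
 (.node (.leaf 132)
 (.leaf 3167)))
 (.node (.node (.leaf 1755)
 (.leaf 2263))
 (.node (.leaf 512)
 (.leaf 484))))))
 (.node (.node (.node (.node (.node (.leaf 319)
 (.leaf 3575))
 (.node (.leaf 1305)
 (.leaf 71)))
 (.node (.node (.leaf 2177)
 (.leaf 3869))
 (.node (.leaf 1199)
 (.leaf 3756))))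
 (.node (.node (.node (.leaf 4059)
 (.leaf 2882))
 (.node (.leaf 2926)
 (.leaf 920)))
 (.node (.node (.leaf 3144)
 (.leaf 1903))
 (.node (.leaf 3734)
 (.leaf 2715)))))
 (.node (.node (.node (.node (.leaf 1109)
 (.leaf 893))
 (.node (.leaf 1987)
 (.leaf 3574)))
 (.node (.node (.leaf 258)
 (.leaf 1594))
 (.node (.leaf 300)
 (.leaf 3685))))
 (.node (.node (.node (.leaf 2366)
 (.leaf 374))
 (.node (.leaf 376)
 (.leaf 1965)))
 (.node (.node (.leaf 1922)
 (.leaf 67))
 (.node (.leaf 169)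
 (.leaf 2643))))))

def tAB37 : RT := .node (.node (.node (.node (.node (.node (.leaf 3779)
 (.leaf 2673))
 (.node (.leaf 3061)
 (.leaf 3968)))
 (.node (.node (.leaf 2517)
 (.leaf 2230))
 (.node (.leaf 1769)
 (.leaf 3150))))
 (.node (.node (.node (.leaf 1532)
 (.leaf 3714))
 (.node (.leaf 1871)
 (.leaf 15)))
 (.node (.node (.leaf 3174)
 (.leaf 627))
 (.node (.leaf 669)
 (.leaf 2617)))))
 (.node (.node (.node (.node (.leaf 2292)
 (.leaf 769))
 (.node (.leaf 960)
 (.leaf 3947)))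
 (.node (.node (.leaf 2773)
 (.leaf 3267))
 (.node (.leaf 232)
 (.leaf 2256))))
 (.node (.node (.node (.leaf 940)
 (.leaf 3666))
 (.node (.leaf 4004)
 (.leaf 2933)))
 (.node (.node (.leaf 3049)
 (.leaf 3169))
 (.node (.leaf 2316)
 (.leaf 1591))))))
 (.node (.node (.node (.node (.node (.leaf 2482)
 (.leaf 2874))
 (.node (.leaf 3972)
 (.leaf 4054)))
 (.node (.node (.leaf 3716)
 (.leaf 4028))
 (.node (.leaf 4042)
 (.leaf 3145))))
 (.node (.node (.node (.leaf 2855)
 (.leaf 3986))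
 (.node (.leaf 640)
 (.leaf 648)))
 (.node (.node (.leaf 3864)
 (.leaf 3281))
 (.node (.leaf 2515)
 (.leaf 4017)))))
 (.node (.node (.node (.node (.leaf 3561)
 (.leaf 3738))
 (.node (.leaf 1034)
 (.leaf 3409)))
 (.node (.node (.leaf 2441)
 (.leaf 888))
 (.node (.leaf 3748)
 (.leaf 2871))))
 (.node (.node (.node (.leaf 1316)
 (.leaf 3553))
 (.node (.leaf 1043)
 (.leaf 945)))
 (.node (.node (.leaf 3051)
 (.leaf 2419))
 (.node (.leaf 1486)
 (.leaf 194))))))

def tAB38 : RT := .node (.node (.node (.node (.node (.node (.leaf 986)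
 (.leaf 3925))
 (.node (.leaf 2276)
 (.leaf 2850)))
 (.node (.node (.leaf 2305)
 (.leaf 1793))
 (.node (.leaf 3834)
 (.leaf 785))))
 (.node (.node (.node (.leaf 1463)
 (.leaf 1712))
 (.node (.leaf 3283)
 (.leaf 1077)))
 (.node (.node (.leaf 3354)
 (.leaf 1848))
 (.node (.leaf 3149)
 (.leaf 2901)))))
 (.node (.node (.node (.node (.leaf 2226)
 (.leaf 1142))
 (.node (.leaf 2884)
 (.leaf 3103)))
 (.node (.node (.leaf 3755)
 (.leaf 1897))
 (.node (.leaf 2661)
 (.leaf 229))))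
 (.node (.node (.node (.leaf 3153)
 (.leaf 3803))
 (.node (.leaf 1080)
 (.leaf 3418)))
 (.node (.node (.leaf 2136)
 (.leaf 2936))
 (.node (.leaf 2144)
 (.leaf 534))))))
 (.node (.node (.node (.node (.node (.leaf 1659)
 (.leaf 3988))
 (.node (.leaf 3236)
 (.leaf 333)))
 (.node (.node (.leaf 2813)
 (.leaf 564))
 (.node (.leaf 2862)
 (.leaf 4023))))
 (.node (.node (.node (.leaf 2613)
 (.leaf 1052))
 (.node (.leaf 2692)
 (.leaf 1297)))
 (.node (.node (.leaf 3137)
 (.leaf 3326))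
 (.node (.leaf 373)
 (.leaf 3441)))))
 (.node (.node (.node (.node (.leaf 7)
 (.leaf 562))
 (.node (.leaf 424)
 (.leaf 1555)))
 (.node (.node (.leaf 2228)
 (.leaf 3315))
 (.node (.leaf 277)
 (.leaf 1754))))
 (.node (.node (.node (.leaf 238)
 (.leaf 3132))
 (.node (.leaf 1099)
 (.leaf 2530)))
 (.node (.node (.leaf 3260)
 (.leaf 2583))
 (.node (.leaf 1219)
 (.leaf 684))))))

def tAB39 : RT := .node (.node (.node (.node (.node (.node (.leaf 780)
 (.leaf 328))
 (.node (.leaf 2090)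
 (.leaf 3908)))
 (.node (.node (.leaf 943)
 (.leaf 2172))
 (.node (.leaf 3523)
 (.leaf 3182))))
 (.node (.node (.node (.leaf 3404)
 (.leaf 223))
 (.node (.leaf 2663)
 (.leaf 1267)))
 (.node (.node (.leaf 1097)
 (.leaf 970))
 (.node (.leaf 3290)
 (.leaf 30)))))
 (.node (.node (.node (.node (.leaf 1039)
 (.leaf 2655))
 (.node (.leaf 87)
 (.leaf 1056)))
 (.node (.node (.leaf 2181)
 (.leaf 411))
 (.node (.leaf 2042)
 (.leaf 3544))))
 (.node (.node (.node (.leaf 3285)
 (.leaf 927))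
 (.node (.leaf 111)
 (.leaf 1616)))
 (.node (.node (.leaf 3066)
 (.leaf 1435))
 (.node (.leaf 1341)
 (.leaf 54))))))
 (.node (.node (.node (.node (.node (.leaf 679)
 (.leaf 2413))
 (.node (.leaf 2891)
 (.leaf 1100)))
 (.node (.node (.leaf 963)
 (.leaf 3079))
 (.node (.leaf 2854)
 (.leaf 2212))))
 (.node (.node (.node (.leaf 596)
 (.leaf 1103))
 (.node (.leaf 691)
 (.leaf 1883)))
 (.node (.node (.leaf 1069)
 (.leaf 1810))
 (.node (.leaf 2006)
 (.leaf 1571)))))
 (.node (.node (.node (.node (.leaf 1472)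
 (.leaf 1611))
 (.node (.leaf 1350)
 (.leaf 502)))
 (.node (.node (.leaf 2037)
 (.leaf 400))
 (.node (.leaf 604)
 (.leaf 962))))
 (.node (.node (.node (.leaf 3518)
 (.leaf 3567))
 (.node (.leaf 380)
 (.leaf 3758)))
 (.node (.node (.leaf 2077)
 (.leaf 1919))
 (.node (.leaf 2948)
 (.leaf 2236))))))

def tAB40 : RT := .node (.node (.node (.node (.node (.node (.leaf 620)
 (.leaf 3881))
 (.node (.leaf 2876)
 (.leaf 2376)))
 (.node (.node (.leaf 1549)
 (.leaf 1055))
 (.node (.leaf 959)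
 (.leaf 1233))))
 (.node (.node (.node (.leaf 265)
 (.leaf 3105))
 (.node (.leaf 3249)
 (.leaf 2568)))
 (.node (.node (.leaf 2853)
 (.leaf 1104))
 (.node (.leaf 1668)
 (.leaf 3075)))))
 (.node (.node (.node (.node (.leaf 3436)
 (.leaf 2846))
 (.node (.leaf 542)
 (.leaf 3311)))
 (.node (.node (.leaf 1813)
 (.leaf 3585))
 (.node (.leaf 649)
 (.leaf 3531))))
 (.node (.node (.node (.leaf 3123)
 (.leaf 1706))
 (.node (.leaf 1178)
 (.leaf 2143)))
 (.node (.node (.leaf 174)
 (.leaf 3474))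
 (.node (.leaf 3388)
 (.leaf 330))))))
 (.node (.node (.node (.node (.node (.leaf 3554)
 (.leaf 2728))
 (.node (.leaf 3777)
 (.leaf 3200)))
 (.node (.node (.leaf 378)
 (.leaf 2484))
 (.node (.leaf 1493)
 (.leaf 3355))))
 (.node (.node (.node (.leaf 3071)
 (.leaf 3708))
 (.node (.leaf 272)
 (.leaf 507)))
 (.node (.node (.leaf 1671)
 (.leaf 503))
 (.node (.leaf 708)
 (.leaf 1092)))))
 (.node (.node (.node (.node (.leaf 815)
 (.leaf 2924))
 (.node (.leaf 20)
 (.leaf 594)))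
 (.node (.node (.leaf 3752)
 (.leaf 2129))
 (.node (.leaf 4031)
 (.leaf 2840))))
 (.node (.node (.node (.leaf 3550)
 (.leaf 806))
 (.node (.leaf 123)
 (.leaf 158)))
 (.node (.node (.leaf 892)
 (.leaf 2737))
 (.node (.leaf 3211)
 (.leaf 3558))))))

def tAB41 : RT := .node (.node (.node (.node (.node (.node (.leaf 3668)
 (.leaf 26))
 (.node (.leaf 1468)
 (.leaf 536)))
 (.node (.node (.leaf 2402)
 (.leaf 2578))
 (.node (.leaf 1823)
 (.leaf 938))))
 (.node (.node (.node (.leaf 1378)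
 (.leaf 337))
 (.node (.leaf 3034)
 (.leaf 1775)))
 (.node (.node (.leaf 1522)
 (.leaf 3059))
 (.node (.leaf 622)
 (.leaf 3006)))))
 (.node (.node (.node (.node (.leaf 70)
 (.leaf 546))
 (.node (.leaf 3704)
 (.leaf 1022)))
 (.node (.node (.leaf 2335)
 (.leaf 1067))
 (.node (.leaf 2127)
 (.leaf 3784))))
 (.node (.node (.node (.leaf 3863)
 (.leaf 2011))
 (.node (.leaf 2512)
 (.leaf 3372)))
 (.node (.node (.leaf 937)
 (.leaf 2920))
 (.node (.leaf 2736)
 (.leaf 2235))))))
 (.node (.node (.node (.node (.node (.leaf 406)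
 (.leaf 2050))
 (.node (.leaf 3084)
 (.leaf 2211)))
 (.node (.node (.leaf 447)
 (.leaf 2799))
 (.node (.leaf 2919)
 (.leaf 1844))))
 (.node (.node (.node (.leaf 2097)
 (.leaf 875))
 (.node (.leaf 3842)
 (.leaf 3761)))
 (.node (.node (.leaf 1543)
 (.leaf 3652))
 (.node (.leaf 302)
 (.leaf 2261)))))
 (.node (.node (.node (.node (.leaf 953)
 (.leaf 1534))
 (.node (.leaf 2542)
 (.leaf 1646)))
 (.node (.node (.leaf 3646)
 (.leaf 2152))
 (.node (.leaf 2493)
 (.leaf 783))))
 (.node (.node (.node (.leaf 3971)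
 (.leaf 2474))
 (.node (.leaf 2444)
 (.leaf 3973)))
 (.node (.node (.leaf 2351)
 (.leaf 3865))
 (.node (.leaf 1465)
 (.leaf 4048))))))

def tAB42 : RT := .node (.node (.node (.node (.node (.node (.leaf 35)
 (.leaf 2439))
 (.node (.leaf 1144)
 (.leaf 3841)))
 (.node (.node (.leaf 1803)
 (.leaf 1530))
 (.node (.leaf 2432)
 (.leaf 765))))
 (.node (.node (.node (.leaf 193)
 (.leaf 885))
 (.node (.leaf 3419)
 (.leaf 2531)))
 (.node (.node (.leaf 729)
 (.leaf 1587))
 (.node (.leaf 3472)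
 (.leaf 871)))))
 (.node (.node (.node (.node (.leaf 3632)
 (.leaf 3926))
 (.node (.leaf 292)
 (.leaf 3944)))
 (.node (.node (.leaf 3799)
 (.leaf 3359))
 (.node (.leaf 668)
 (.leaf 3434))))
 (.node (.node (.node (.leaf 3497)
 (.leaf 3915))
 (.node (.leaf 3306)
 (.leaf 2418)))
 (.node (.node (.leaf 832)
 (.leaf 2633))
 (.node (.leaf 2697)
 (.leaf 2265))))))
 (.node (.node (.node (.node (.node (.leaf 110)
 (.leaf 3068))
 (.node (.leaf 2672)
 (.leaf 890)))
 (.node (.node (.leaf 837)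
 (.leaf 3226))
 (.node (.leaf 1702)
 (.leaf 1948))))
 (.node (.node (.node (.leaf 3712)
 (.leaf 362))
 (.node (.leaf 210)
 (.leaf 3228)))
 (.node (.node (.leaf 3109)
 (.leaf 351))
 (.node (.leaf 1370)
 (.leaf 285)))))
 (.node (.node (.node (.node (.leaf 3133)
 (.leaf 3855))
 (.node (.leaf 2331)
 (.leaf 1114)))
 (.node (.node (.leaf 1704)
 (.leaf 3953))
 (.node (.leaf 46)
 (.leaf 1035))))
 (.node (.node (.node (.leaf 1767)
 (.leaf 327))
 (.node (.leaf 1598)
 (.leaf 3393)))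
 (.node (.node (.leaf 1641)
 (.leaf 786))
 (.node (.leaf 1329)
 (.leaf 1123))))))

def tAB43 : RT := .node (.node (.node (.node (.node (.node (.leaf 2888)
 (.leaf 1024))
 (.node (.leaf 1122)
 (.leaf 3191)))
 (.node (.node (.leaf 496)
 (.leaf 345))
 (.node (.leaf 1317)
 (.leaf 2859))))
 (.node (.node (.node (.leaf 3802)
 (.leaf 530))
 (.node (.leaf 1164)
 (.leaf 1073)))
 (.node (.node (.leaf 872)
 (.leaf 1088))
 (.node (.leaf 3250)
 (.leaf 3833)))))
 (.node (.node (.node (.node (.leaf 3817)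
 (.leaf 3146))
 (.node (.leaf 733)
 (.leaf 997)))
 (.node (.node (.leaf 2928)
 (.leaf 1612))
 (.node (.leaf 3844)
 (.leaf 1266))))
 (.node (.node (.node (.leaf 2299)
 (.leaf 420))
 (.node (.leaf 2889)
 (.leaf 1662)))
 (.node (.node (.leaf 2953)
 (.leaf 3016))
 (.node (.leaf 1446)
 (.leaf 3978))))))
 (.node (.node (.node (.node (.node (.leaf 1203)
 (.leaf 2264))
 (.node (.leaf 10)
 (.leaf 1451)))
 (.node (.node (.leaf 995)
 (.leaf 3023))
 (.node (.leaf 572)
 (.leaf 4016))))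
 (.node (.node (.node (.leaf 1559)
 (.leaf 2592))
 (.node (.leaf 2196)
 (.leaf 2539)))
 (.node (.node (.leaf 605)
 (.leaf 2680))
 (.node (.leaf 619)
 (.leaf 491)))))
 (.node (.node (.node (.node (.leaf 2461)
 (.leaf 3840))
 (.node (.leaf 2644)
 (.leaf 2422)))
 (.node (.node (.leaf 2830)
 (.leaf 2828))
 (.node (.leaf 2356)
 (.leaf 3369))))
 (.node (.node (.node (.leaf 2304)
 (.leaf 2800))
 (.node (.leaf 1972)
 (.leaf 2844)))
 (.node (.node (.leaf 3521)
 (.leaf 3210))
 (.node (.leaf 1268)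
 (.leaf 2189))))))

def tAB44 : RT := .node (.node (.node (.node (.node (.node (.leaf 172)
 (.leaf 977))
 (.node (.leaf 2405)
 (.leaf 1820)))
 (.node (.node (.leaf 1785)
 (.leaf 1483))
 (.node (.leaf 446)
 (.leaf 432))))
 (.node (.node (.node (.leaf 3159)
 (.leaf 2825))
 (.node (.leaf 974)
 (.leaf 1739)))
 (.node (.node (.leaf 541)
 (.leaf 177))
 (.node (.leaf 3425)
 (.leaf 1980)))))
 (.node (.node (.node (.node (.leaf 126)
 (.leaf 1207))
 (.node (.leaf 992)
 (.leaf 805)))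
 (.node (.node (.leaf 186)
 (.leaf 657))
 (.node (.leaf 2424)
 (.leaf 2365))))
 (.node (.node (.node (.leaf 296)
 (.leaf 1413))
 (.node (.leaf 2130)
 (.leaf 1703)))
 (.node (.node (.leaf 3680)
 (.leaf 552))
 (.node (.leaf 1527)
 (.leaf 553))))))
 (.node (.node (.node (.node (.node (.leaf 1469)
 (.leaf 2337))
 (.node (.leaf 750)
 (.leaf 239)))
 (.node (.node (.leaf 756)
 (.leaf 2433))
 (.node (.leaf 264)
 (.leaf 2372))))
 (.node (.node (.node (.leaf 723)
 (.leaf 118))
 (.node (.leaf 1117)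
 (.leaf 395)))
 (.node (.node (.leaf 3588)
 (.leaf 242))
 (.node (.leaf 2453)
 (.leaf 2430)))))
 (.node (.node (.node (.node (.leaf 1760)
 (.leaf 2237))
 (.node (.leaf 2064)
 (.leaf 3157)))
 (.node (.node (.leaf 2703)
 (.leaf 3444))
 (.node (.leaf 2286)
 (.leaf 3466))))
 (.node (.node (.node (.leaf 2575)
 (.leaf 2319))
 (.node (.leaf 936)
 (.leaf 2095)))
 (.node (.node (.leaf 877)
 (.leaf 3083))
 (.node (.leaf 2768)
 (.leaf 3389))))))

def tAB45 : RT := .node (.node (.node (.node (.node (.node (.leaf 3546)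
 (.leaf 2559))
 (.node (.leaf 798)
 (.leaf 4)))
 (.node (.node (.leaf 2322)
 (.leaf 2571))
 (.node (.leaf 4035)
 (.leaf 1771))))
 (.node (.node (.node (.leaf 1019)
 (.leaf 2298))
 (.node (.leaf 2249)
 (.leaf 3256)))
 (.node (.node (.leaf 1585)
 (.leaf 2213))
 (.node (.leaf 257)
 (.leaf 1473)))))
 (.node (.node (.node (.node (.leaf 276)
 (.leaf 410))
 (.node (.leaf 2683)
 (.leaf 482)))
 (.node (.node (.leaf 171)
 (.leaf 852))
 (.node (.leaf 2124)
 (.leaf 1556))))
 (.node (.node (.node (.leaf 2569)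
 (.leaf 2775))
 (.node (.leaf 514)
 (.leaf 3282)))
 (.node (.node (.leaf 703)
 (.leaf 2397))
 (.node (.leaf 2650)
 (.leaf 2927))))))
 (.node (.node (.node (.node (.node (.leaf 3135)
 (.leaf 3728))
 (.node (.leaf 3152)
 (.leaf 2938)))
 (.node (.node (.leaf 3395)
 (.leaf 3))
 (.node (.leaf 262)
 (.leaf 789))))
 (.node (.node (.node (.leaf 1697)
 (.leaf 2208))
 (.node (.leaf 3741)
 (.leaf 1234)))
 (.node (.node (.leaf 460)
 (.leaf 245))
 (.node (.leaf 3060)
 (.leaf 3379)))))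
 (.node (.node (.node (.node (.leaf 2063)
 (.leaf 3608))
 (.node (.leaf 88)
 (.leaf 1344)))
 (.node (.node (.leaf 475)
 (.leaf 753))
 (.node (.leaf 2812)
 (.leaf 58))))
 (.node (.node (.node (.leaf 2234)
 (.leaf 2615))
 (.node (.leaf 939)
 (.leaf 3534)))
 (.node (.node (.leaf 517)
 (.leaf 573))
 (.node (.leaf 2334)
 (.leaf 282))))))

def tAB46 : RT := .node (.node (.node (.node (.node (.node (.leaf 2766)
 (.leaf 676))
 (.node (.leaf 2040)
 (.leaf 1784)))
 (.node (.node (.leaf 3766)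
 (.leaf 1547))
 (.node (.leaf 2638)
 (.leaf 1942))))
 (.node (.node (.node (.leaf 2499)
 (.leaf 3812))
 (.node (.leaf 531)
 (.leaf 2735)))
 (.node (.node (.leaf 2053)
 (.leaf 3335))
 (.node (.leaf 1905)
 (.leaf 2311)))))
 (.node (.node (.node (.node (.leaf 3238)
 (.leaf 1444))
 (.node (.leaf 664)
 (.leaf 3430)))
 (.node (.node (.leaf 1015)
 (.leaf 887))
 (.node (.leaf 1528)
 (.leaf 828))))
 (.node (.node (.node (.leaf 2282)
 (.leaf 521))
 (.node (.leaf 1084)
 (.leaf 3498)))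
 (.node (.node (.leaf 840)
 (.leaf 2742))
 (.node (.leaf 501)
 (.leaf 1125))))))
 (.node (.node (.node (.node (.node (.leaf 922)
 (.leaf 1929))
 (.node (.leaf 1672)
 (.leaf 1313)))
 (.node (.node (.leaf 2342)
 (.leaf 3266))
 (.node (.leaf 883)
 (.leaf 3294))))
 (.node (.node (.node (.leaf 3625)
 (.leaf 3611))
 (.node (.leaf 1257)
 (.leaf 254)))
 (.node (.node (.leaf 3118)
 (.leaf 1361))
 (.node (.leaf 2917)
 (.leaf 3203)))))
 (.node (.node (.node (.node (.leaf 2942)
 (.leaf 1151))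
 (.node (.leaf 1085)
 (.leaf 1071)))
 (.node (.node (.leaf 45)
 (.leaf 2537))
 (.node (.leaf 3264)
 (.leaf 1127))))
 (.node (.node (.node (.leaf 1259)
 (.leaf 913))
 (.node (.leaf 3635)
 (.leaf 2371)))
 (.node (.node (.leaf 2954)
 (.leaf 1170))
 (.node (.leaf 816)
 (.leaf 4003))))))

def tAB47 : RT := .node (.node (.node (.node (.node (.node (.leaf 3334)
 (.leaf 176))
 (.node (.leaf 2047)
 (.leaf 1541)))
 (.node (.node (.leaf 882)
 (.leaf 675))
 (.node (.leaf 3292)
 (.leaf 3529))))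
 (.node (.node (.node (.leaf 2160)
 (.leaf 2257))
 (.node (.leaf 2916)
 (.leaf 1674)))
 (.node (.node (.leaf 2682)
 (.leaf 405))
 (.node (.leaf 1632)
 (.leaf 404)))))
 (.node (.node (.node (.node (.leaf 1456)
 (.leaf 2811))
 (.node (.leaf 2893)
 (.leaf 3890)))
 (.node (.node (.leaf 2417)
 (.leaf 1193))
 (.node (.leaf 497)
 (.leaf 97))))
 (.node (.node (.node (.leaf 430)
 (.leaf 709))
 (.node (.leaf 286)
 (.leaf 856)))
 (.node (.node (.leaf 1414)
 (.leaf 1560))
 (.node (.leaf 2827)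
 (.leaf 2805))))))
 (.node (.node (.node (.node (.node (.leaf 2600)
 (.leaf 561))
 (.node (.leaf 322)
 (.leaf 1836)))
 (.node (.node (.leaf 2779)
 (.leaf 1140))
 (.node (.leaf 1454)
 (.leaf 905))))
 (.node (.node (.node (.leaf 3365)
 (.leaf 3305))
 (.node (.leaf 99)
 (.leaf 2178)))
 (.node (.node (.leaf 2609)
 (.leaf 819))
 (.node (.leaf 443)
 (.leaf 1320)))))
 (.node (.node (.node (.node (.leaf 1705)
 (.leaf 1780))
 (.node (.leaf 2556)
 (.leaf 754)))
 (.node (.node (.leaf 931)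
 (.leaf 1060))
 (.node (.leaf 1682)
 (.leaf 2699))))
 (.node (.node (.node (.leaf 4018)
 (.leaf 1083))
 (.node (.leaf 3234)
 (.leaf 601)))
 (.node (.node (.leaf 823)
 (.leaf 1066))
 (.node (.leaf 2032)
 (.leaf 3931))))))

def tAB48 : RT := .node (.node (.node (.node (.node (.node (.leaf 2978)
 (.leaf 203))
 (.node (.leaf 3914)
 (.leaf 726)))
 (.node (.node (.leaf 2870)
 (.leaf 2879))
 (.node (.leaf 369)
 (.leaf 1289))))
 (.node (.node (.node (.leaf 971)
 (.leaf 297))
 (.node (.leaf 2043)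
 (.leaf 3376)))
 (.node (.node (.leaf 3216)
 (.leaf 453))
 (.node (.leaf 1551)
 (.leaf 3345)))))
 (.node (.node (.node (.node (.leaf 2601)
 (.leaf 2913))
 (.node (.leaf 909)
 (.leaf 3239)))
 (.node (.node (.leaf 1253)
 (.leaf 749))
 (.node (.leaf 2564)
 (.leaf 1459))))
 (.node (.node (.node (.leaf 2746)
 (.leaf 1273))
 (.node (.leaf 3402)
 (.leaf 2471)))
 (.node (.node (.leaf 3104)
 (.leaf 284))
 (.node (.leaf 2946)
 (.leaf 2300))))))
 (.node (.node (.node (.node (.node (.leaf 3661)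
 (.leaf 2922))
 (.node (.leaf 1393)
 (.leaf 724)))
 (.node (.node (.leaf 2377)
 (.leaf 413))
 (.node (.leaf 3912)
 (.leaf 1188))))
 (.node (.node (.node (.leaf 3124)
 (.leaf 770))
 (.node (.leaf 3713)
 (.leaf 2278)))
 (.node (.node (.leaf 2020)
 (.leaf 751))
 (.node (.leaf 1577)
 (.leaf 1096)))))
 (.node (.node (.node (.node (.leaf 1581)
 (.leaf 3448))
 (.node (.leaf 3313)
 (.leaf 214)))
 (.node (.node (.leaf 2473)
 (.leaf 3500))
 (.node (.leaf 2465)
 (.leaf 1338))))
 (.node (.node (.node (.leaf 2288)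
 (.leaf 236))
 (.node (.leaf 2843)
 (.leaf 1716)))
 (.node (.node (.leaf 3492)
 (.leaf 3160))
 (.node (.leaf 1827)
 (.leaf 1756))))))

def tAB49 : RT := .node (.node (.node (.node (.node (.node (.leaf 2151)
 (.leaf 1168))
 (.node (.leaf 2810)
 (.leaf 29)))
 (.node (.node (.leaf 3050)
 (.leaf 3096))
 (.node (.leaf 2201)
 (.leaf 109))))
 (.node (.node (.node (.leaf 1230)
 (.leaf 1260))
 (.node (.leaf 1734)
 (.leaf 173)))
 (.node (.node (.leaf 2462)
 (.leaf 2267))
 (.node (.leaf 766)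
 (.leaf 3796)))))
 (.node (.node (.node (.node (.leaf 1852)
 (.leaf 732))
 (.node (.leaf 810)
 (.leaf 3600)))
 (.node (.node (.leaf 2379)
 (.leaf 1930))
 (.node (.leaf 1223)
 (.leaf 2637))))
 (.node (.node (.node (.leaf 3479)
 (.leaf 1354))
 (.node (.leaf 235)
 (.leaf 2787)))
 (.node (.node (.leaf 646)
 (.leaf 2081))
 (.node (.leaf 1008)
 (.leaf 2438))))))
 (.node (.node (.node (.node (.node (.leaf 198)
 (.leaf 3654))
 (.node (.leaf 1933)
 (.leaf 3341)))
 (.node (.node (.leaf 2723)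
 (.leaf 2396))
 (.node (.leaf 1390)
 (.leaf 349))))
 (.node (.node (.node (.leaf 3476)
 (.leaf 3489))
 (.node (.leaf 2272)
 (.leaf 419)))
 (.node (.node (.leaf 3001)
 (.leaf 4030))
 (.node (.leaf 3533)
 (.leaf 2941)))))
 (.node (.node (.node (.node (.leaf 3125)
 (.leaf 584))
 (.node (.leaf 844)
 (.leaf 3892)))
 (.node (.node (.leaf 2918)
 (.leaf 1424))
 (.node (.leaf 1051)
 (.leaf 113))))
 (.node (.node (.node (.leaf 2925)
 (.leaf 3524))
 (.node (.leaf 2686)
 (.leaf 3496)))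
 (.node (.node (.leaf 151)
 (.leaf 3208))
 (.node (.leaf 1502)
 (.leaf 1335))))))

def tAB50 : RT := .node (.node (.node (.node (.node (.node (.leaf 2685)
 (.leaf 3451))
 (.node (.leaf 747)
 (.leaf 11)))
 (.node (.node (.leaf 849)
 (.leaf 3327))
 (.node (.leaf 3877)
 (.leaf 804))))
 (.node (.node (.node (.leaf 3416)
 (.leaf 1586))
 (.node (.leaf 2528)
 (.leaf 2524)))
 (.node (.node (.leaf 1098)
 (.leaf 812))
 (.node (.leaf 677)
 (.leaf 3337)))))
 (.node (.node (.node (.node (.leaf 3467)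
 (.leaf 2911))
 (.node (.leaf 3640)
 (.leaf 2480)))
 (.node (.node (.leaf 948)
 (.leaf 1489))
 (.node (.leaf 791)
 (.leaf 2603))))
 (.node (.node (.node (.leaf 2625)
 (.leaf 2245))
 (.node (.leaf 988)
 (.leaf 17)))
 (.node (.node (.leaf 2382)
 (.leaf 1438))
 (.node (.leaf 136)
 (.leaf 2055))))))
 (.node (.node (.node (.node (.node (.leaf 983)
 (.leaf 2010))
 (.node (.leaf 3781)
 (.leaf 2135)))
 (.node (.node (.leaf 587)
 (.leaf 2086))
 (.node (.leaf 2187)
 (.leaf 2858))))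
 (.node (.node (.node (.leaf 323)
 (.leaf 3826))
 (.node (.leaf 2667)
 (.leaf 3307)))
 (.node (.node (.leaf 1829)
 (.leaf 3517))
 (.node (.leaf 814)
 (.leaf 2678)))))
 (.node (.node (.node (.node (.leaf 610)
 (.leaf 2125))
 (.node (.leaf 2412)
 (.leaf 1179)))
 (.node (.node (.leaf 2962)
 (.leaf 1614))
 (.node (.leaf 2287)
 (.leaf 808))))
 (.node (.node (.node (.leaf 2732)
 (.leaf 3180))
 (.node (.leaf 1888)
 (.leaf 1899)))
 (.node (.node (.leaf 2295)
 (.leaf 906))
 (.node (.leaf 1655)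
 (.leaf 3458))))))

def tAB51 : RT := .node (.node (.node (.node (.node (.node (.leaf 699)
 (.leaf 2750))
 (.node (.leaf 3230)
 (.leaf 1054)))
 (.node (.node (.leaf 494)
 (.leaf 190))
 (.node (.leaf 2817)
 (.leaf 1161))))
 (.node (.node (.node (.leaf 1707)
 (.leaf 361))
 (.node (.leaf 3788)
 (.leaf 3091)))
 (.node (.node (.leaf 456)
 (.leaf 3776))
 (.node (.leaf 1554)
 (.leaf 822)))))
 (.node (.node (.node (.node (.leaf 3048)
 (.leaf 3269))
 (.node (.leaf 3028)
 (.leaf 818)))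
 (.node (.node (.leaf 3693)
 (.leaf 3396))
 (.node (.leaf 1182)
 (.leaf 2630))))
 (.node (.node (.node (.leaf 588)
 (.leaf 3427))
 (.node (.leaf 654)
 (.leaf 1457)))
 (.node (.node (.leaf 1217)
 (.leaf 3142))
 (.node (.leaf 3789)
 (.leaf 2660))))))
 (.node (.node (.node (.node (.node (.leaf 2898)
 (.leaf 776))
 (.node (.leaf 3139)
 (.leaf 2066)))
 (.node (.node (.leaf 2268)
 (.leaf 547))
 (.node (.leaf 3318)
 (.leaf 2890))))
 (.node (.node (.node (.leaf 2541)
 (.leaf 2826))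
 (.node (.leaf 1724)
 (.leaf 1050)))
 (.node (.node (.leaf 1012)
 (.leaf 1063))
 (.node (.leaf 3148)
 (.leaf 1885)))))
 (.node (.node (.node (.node (.leaf 412)
 (.leaf 1757))
 (.node (.leaf 3062)
 (.leaf 205)))
 (.node (.node (.leaf 3454)
 (.leaf 152))
 (.node (.leaf 506)
 (.leaf 1145))))
 (.node (.node (.node (.leaf 1426)
 (.leaf 3576))
 (.node (.leaf 3218)
 (.leaf 1606)))
 (.node (.node (.leaf 2640)
 (.leaf 991))
 (.node (.leaf 2503)
 (.leaf 290))))))

def tAB52 : RT := .node (.node (.node (.node (.node (.node (.leaf 907)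
 (.leaf 1236))
 (.node (.leaf 1984)
 (.leaf 2039)))
 (.node (.node (.leaf 628)
 (.leaf 3568))
 (.node (.leaf 3505)
 (.leaf 1798))))
 (.node (.node (.node (.leaf 3209)
 (.leaf 2905))
 (.node (.leaf 2046)
 (.leaf 975)))
 (.node (.node (.leaf 3119)
 (.leaf 3012))
 (.node (.leaf 2174)
 (.leaf 3173)))))
 (.node (.node (.node (.node (.leaf 3941)
 (.leaf 2526))
 (.node (.leaf 643)
 (.leaf 2527)))
 (.node (.node (.leaf 1380)
 (.leaf 2834))
 (.node (.leaf 3811)
 (.leaf 3891))))
 (.node (.node (.node (.leaf 2469)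
 (.leaf 3638))
 (.node (.leaf 3449)
 (.leaf 2407)))
 (.node (.node (.leaf 3330)
 (.leaf 3629))
 (.node (.leaf 1384)
 (.leaf 3606))))))
 (.node (.node (.node (.node (.node (.leaf 1191)
 (.leaf 28))
 (.node (.leaf 1533)
 (.leaf 3602)))
 (.node (.node (.leaf 2777)
 (.leaf 3475))
 (.node (.leaf 2220)
 (.leaf 2653))))
 (.node (.node (.node (.leaf 2808)
 (.leaf 3979))
 (.node (.leaf 2092)
 (.leaf 740)))
 (.node (.node (.leaf 2242)
 (.leaf 965))
 (.node (.leaf 788)
 (.leaf 987)))))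
 (.node (.node (.node (.node (.leaf 270)
 (.leaf 1673))
 (.node (.leaf 1484)
 (.leaf 1248)))
 (.node (.node (.leaf 2589)
 (.leaf 79))
 (.node (.leaf 821)
 (.leaf 433))))
 (.node (.node (.node (.leaf 295)
 (.leaf 2490))
 (.node (.leaf 2721)
 (.leaf 429)))
 (.node (.node (.leaf 2976)
 (.leaf 100))
 (.node (.leaf 2977)
 (.leaf 3562))))))

def tAB53 : RT := .node (.node (.node (.node (.node (.node (.leaf 459)
 (.leaf 127))
 (.node (.leaf 1095)
 (.leaf 1808)))
 (.node (.node (.leaf 661)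
 (.leaf 3963))
 (.node (.leaf 1110)
 (.leaf 2781))))
 (.node (.node (.node (.leaf 696)
 (.leaf 1943))
 (.node (.leaf 2740)
 (.leaf 1306)))
 (.node (.node (.leaf 451)
 (.leaf 1177))
 (.node (.leaf 4034)
 (.leaf 1450)))))
 (.node (.node (.node (.node (.leaf 674)
 (.leaf 3351))
 (.node (.leaf 3769)
 (.leaf 279)))
 (.node (.node (.leaf 2283)
 (.leaf 2494))
 (.node (.leaf 426)
 (.leaf 1931))))
 (.node (.node (.node (.leaf 1884)
 (.leaf 842))
 (.node (.leaf 2551)
 (.leaf 316)))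
 (.node (.node (.leaf 1710)
 (.leaf 1130))
 (.node (.leaf 1403)
 (.leaf 1186))))))
 (.node (.node (.node (.node (.node (.leaf 2070)
 (.leaf 3670))
 (.node (.leaf 3099)
 (.leaf 2923)))
 (.node (.node (.leaf 1121)
 (.leaf 149))
 (.node (.leaf 1038)
 (.leaf 2745))))
 (.node (.node (.node (.leaf 3964)
 (.leaf 3780))
 (.node (.leaf 1402)
 (.leaf 2641)))
 (.node (.node (.leaf 310)
 (.leaf 1546))
 (.node (.leaf 1464)
 (.leaf 3312)))))
 (.node (.node (.node (.node (.leaf 1211)
 (.leaf 3080))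
 (.node (.leaf 2878)
 (.leaf 1737)))
 (.node (.node (.leaf 4025)
 (.leaf 2866))
 (.node (.leaf 1342)
 (.leaf 3815))))
 (.node (.node (.node (.leaf 864)
 (.leaf 2910))
 (.node (.leaf 3199)
 (.leaf 2029)))
 (.node (.node (.leaf 3783)
 (.leaf 3087))
 (.node (.leaf 2711)
 (.leaf 3131))))))

def tAB54 : RT := .node (.node (.node (.node (.node (.node (.leaf 2481)
 (.leaf 712))
 (.node (.leaf 1074)
 (.leaf 1213)))
 (.node (.node (.leaf 192)
 (.leaf 2416))
 (.node (.leaf 3581)
 (.leaf 1216))))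
 (.node (.node (.node (.leaf 3460)
 (.leaf 3894))
 (.node (.leaf 3224)
 (.leaf 2399)))
 (.node (.node (.leaf 1575)
 (.leaf 3872))
 (.node (.leaf 824)
 (.leaf 539)))))
 (.node (.node (.node (.node (.leaf 2045)
 (.leaf 735))
 (.node (.leaf 2782)
 (.leaf 3024)))
 (.node (.node (.leaf 3984)
 (.leaf 961))
 (.node (.leaf 3347)
 (.leaf 4022))))
 (.node (.node (.node (.leaf 942)
 (.leaf 2963))
 (.node (.leaf 1009)
 (.leaf 2099)))
 (.node (.node (.leaf 4049)
 (.leaf 3495))
 (.node (.leaf 2594)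
 (.leaf 2345))))))
 (.node (.node (.node (.node (.node (.leaf 403)
 (.leaf 4051))
 (.node (.leaf 2848)
 (.leaf 3563)))
 (.node (.node (.leaf 2687)
 (.leaf 416))
 (.node (.leaf 3340)
 (.leaf 3253))))
 (.node (.node (.node (.leaf 1108)
 (.leaf 1741))
 (.node (.leaf 476)
 (.leaf 2785)))
 (.node (.node (.leaf 480)
 (.leaf 1405))
 (.node (.leaf 1466)
 (.leaf 1495)))))
 (.node (.node (.node (.node (.leaf 243)
 (.leaf 1246))
 (.node (.leaf 3456)
 (.leaf 1619)))
 (.node (.node (.leaf 1081)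
 (.leaf 3244))
 (.node (.leaf 3217)
 (.leaf 638))))
 (.node (.node (.node (.leaf 2698)
 (.leaf 2009))
 (.node (.leaf 3809)
 (.leaf 3053)))
 (.node (.node (.leaf 1858)
 (.leaf 1377))
 (.node (.leaf 2291)
 (.leaf 2113))))))

def tAB55 : RT := .node (.node (.node (.node (.node (.node (.leaf 1325)
 (.leaf 1105))
 (.node (.leaf 1834)
 (.leaf 3478)))
 (.node (.node (.leaf 688)
 (.leaf 3773))
 (.node (.leaf 764)
 (.leaf 800))))
 (.node (.node (.node (.leaf 3021)
 (.leaf 2881))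
 (.node (.leaf 3039)
 (.leaf 2445)))
 (.node (.node (.leaf 523)
 (.leaf 2965))
 (.node (.leaf 3296)
 (.leaf 1907)))))
 (.node (.node (.node (.node (.leaf 1608)
 (.leaf 2972))
 (.node (.leaf 825)
 (.leaf 2623)))
 (.node (.node (.leaf 439)
 (.leaf 2907))
 (.node (.leaf 3220)
 (.leaf 617))))
 (.node (.node (.node (.leaf 2184)
 (.leaf 3667))
 (.node (.leaf 3715)
 (.leaf 1745)))
 (.node (.node (.leaf 1818)
 (.leaf 1237))
 (.node (.leaf 2912)
 (.leaf 2842))))))
 (.node (.node (.node (.node (.node (.leaf 2868)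
 (.leaf 408))
 (.node (.leaf 741)
 (.leaf 1664)))
 (.node (.node (.leaf 1761)
 (.leaf 1749))
 (.node (.leaf 1011)
 (.leaf 271))))
 (.node (.node (.node (.leaf 353)
 (.leaf 1563))
 (.node (.leaf 1198)
 (.leaf 3626)))
 (.node (.node (.leaf 1498)
 (.leaf 1448))
 (.node (.leaf 3731)
 (.leaf 3749)))))
 (.node (.node (.node (.node (.leaf 2355)
 (.leaf 107))
 (.node (.leaf 164)
 (.leaf 3364)))
 (.node (.node (.leaf 2702)
 (.leaf 3604))
 (.node (.leaf 311)
 (.leaf 718))))
 (.node (.node (.node (.leaf 1134)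
 (.leaf 2012))
 (.node (.leaf 1150)
 (.leaf 2233)))
 (.node (.node (.leaf 1308)
 (.leaf 2516))
 (.node (.leaf 3461)
 (.leaf 665))))))

def tAB56 : RT := .node (.node (.node (.node (.node (.node (.leaf 984)
 (.leaf 3178))
 (.node (.leaf 2112)
 (.leaf 2545)))
 (.node (.node (.leaf 2285)
 (.leaf 2622))
 (.node (.leaf 3762)
 (.leaf 121))))
 (.node (.node (.node (.leaf 1346)
 (.leaf 3499))
 (.node (.leaf 3074)
 (.leaf 2540)))
 (.node (.node (.leaf 1107)
 (.leaf 2987))
 (.node (.leaf 2720)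
 (.leaf 2089)))))
 (.node (.node (.node (.node (.leaf 3990)
 (.leaf 745))
 (.node (.leaf 3603)
 (.leaf 3722)))
 (.node (.node (.leaf 2932)
 (.leaf 579))
 (.node (.leaf 1250)
 (.leaf 2756))))
 (.node (.node (.node (.leaf 1951)
 (.leaf 391))
 (.node (.leaf 3930)
 (.leaf 2940)))
 (.node (.node (.leaf 3723)
 (.leaf 565))
 (.node (.leaf 666)
 (.leaf 2803))))))
 (.node (.node (.node (.node (.node (.leaf 2094)
 (.leaf 3656))
 (.node (.leaf 993)
 (.leaf 2105)))
 (.node (.node (.leaf 3702)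
 (.leaf 2557))
 (.node (.leaf 1714)
 (.leaf 2857))))
 (.node (.node (.node (.leaf 1137)
 (.leaf 2390))
 (.node (.leaf 2654)
 (.leaf 1284)))
 (.node (.node (.leaf 1746)
 (.leaf 1843))
 (.node (.leaf 1979)
 (.leaf 3411)))))
 (.node (.node (.node (.node (.leaf 3634)
 (.leaf 613))
 (.node (.leaf 2114)
 (.leaf 3447)))
 (.node (.node (.leaf 3767)
 (.leaf 3422))
 (.node (.leaf 281)
 (.leaf 2595))))
 (.node (.node (.node (.leaf 73)
 (.leaf 425))
 (.node (.leaf 3804)
 (.leaf 3346)))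
 (.node (.node (.leaf 478)
 (.leaf 2409))
 (.node (.leaf 1500)
 (.leaf 93))))))

def tAB57 : RT := .node (.node (.node (.node (.node (.node (.leaf 1149)
 (.leaf 421))
 (.node (.leaf 2395)
 (.leaf 3477)))
 (.node (.node (.leaf 3516)
 (.leaf 3718))
 (.node (.leaf 3739)
 (.leaf 2308))))
 (.node (.node (.node (.leaf 1113)
 (.leaf 3664))
 (.node (.leaf 2074)
 (.leaf 2007)))
 (.node (.node (.leaf 760)
 (.leaf 3111))
 (.node (.leaf 1976)
 (.leaf 13)))))
 (.node (.node (.node (.node (.leaf 1781)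
 (.leaf 2164))
 (.node (.leaf 1037)
 (.leaf 2634)))
 (.node (.node (.leaf 759)
 (.leaf 2411))
 (.node (.leaf 1557)
 (.leaf 3607))))
 (.node (.node (.node (.leaf 2429)
 (.leaf 3974))
 (.node (.leaf 2706)
 (.leaf 3015)))
 (.node (.node (.leaf 427)
 (.leaf 2770))
 (.node (.leaf 3176)
 (.leaf 4024))))))
 (.node (.node (.node (.node (.node (.leaf 428)
 (.leaf 2989))
 (.node (.leaf 2719)
 (.leaf 3005)))
 (.node (.node (.leaf 928)
 (.leaf 969))
 (.node (.leaf 486)
 (.leaf 2520))))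
 (.node (.node (.node (.leaf 1479)
 (.leaf 299))
 (.node (.leaf 339)
 (.leaf 120)))
 (.node (.node (.leaf 1386)
 (.leaf 440))
 (.node (.leaf 2497)
 (.leaf 175)))))
 (.node (.node (.node (.node (.leaf 3647)
 (.leaf 2478))
 (.node (.leaf 2852)
 (.leaf 3989)))
 (.node (.node (.leaf 2546)
 (.leaf 851))
 (.node (.leaf 1924)
 (.leaf 4009))))
 (.node (.node (.node (.leaf 2624)
 (.leaf 2217))
 (.node (.leaf 3771)
 (.leaf 2426)))
 (.node (.node (.leaf 850)
 (.leaf 1913))
 (.node (.leaf 603)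
 (.leaf 2353))))))

def tAB58 : RT := .node (.node (.node (.node (.node (.node (.leaf 2100)
 (.leaf 2388))
 (.node (.leaf 2668)
 (.leaf 2998)))
 (.node (.node (.leaf 2754)
 (.leaf 3289))
 (.node (.leaf 841)
 (.leaf 143))))
 (.node (.node (.node (.leaf 2392)
 (.leaf 2789))
 (.node (.leaf 147)
 (.leaf 3055)))
 (.node (.node (.leaf 3692)
 (.leaf 1510))
 (.node (.leaf 3609)
 (.leaf 3019)))))
 (.node (.node (.node (.node (.leaf 43)
 (.leaf 2635))
 (.node (.leaf 2141)
 (.leaf 469)))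
 (.node (.node (.leaf 2646)
 (.leaf 1932))
 (.node (.leaf 305)
 (.leaf 233))))
 (.node (.node (.node (.leaf 1971)
 (.leaf 1432))
 (.node (.leaf 1288)
 (.leaf 1385)))
 (.node (.node (.leaf 3385)
 (.leaf 2552))
 (.node (.leaf 3909)
 (.leaf 662))))))
 (.node (.node (.node (.node (.node (.leaf 2475)
 (.leaf 14))
 (.node (.leaf 761)
 (.leaf 3816)))
 (.node (.node (.leaf 2983)
 (.leaf 550))
 (.node (.leaf 2958)
 (.leaf 535))))
 (.node (.node (.node (.leaf 1600)
 (.leaf 1855))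
 (.node (.leaf 3552)
 (.leaf 3438)))
 (.node (.node (.leaf 2707)
 (.leaf 2549))
 (.node (.leaf 2069)
 (.leaf 578)))))
 (.node (.node (.node (.node (.leaf 951)
 (.leaf 631))
 (.node (.leaf 794)
 (.leaf 1176)))
 (.node (.node (.leaf 1352)
 (.leaf 1185))
 (.node (.leaf 2013)
 (.leaf 2243))))
 (.node (.node (.node (.leaf 3225)
 (.leaf 3895))
 (.node (.leaf 338)
 (.leaf 528)))
 (.node (.node (.leaf 1086)
 (.leaf 492))
 (.node (.leaf 2058)
 (.leaf 778))))))

def tAB59 : RT := .node (.node (.node (.node (.node (.node (.leaf 201)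
 (.leaf 626))
 (.node (.leaf 3382)
 (.leaf 1833)))
 (.node (.node (.leaf 3502)
 (.leaf 1437))
 (.node (.leaf 1715)
 (.leaf 980))))
 (.node (.node (.node (.leaf 2024)
 (.leaf 2225))
 (.node (.leaf 2869)
 (.leaf 763)))
 (.node (.node (.leaf 559)
 (.leaf 2560))
 (.node (.leaf 3511)
 (.leaf 1082)))))
 (.node (.node (.node (.node (.leaf 1826)
 (.leaf 1647))
 (.node (.leaf 1205)
 (.leaf 1388)))
 (.node (.node (.leaf 1732)
 (.leaf 636))
 (.node (.leaf 2814)
 (.leaf 3565))))
 (.node (.node (.node (.leaf 3537)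
 (.leaf 3847))
 (.node (.leaf 1501)
 (.leaf 3288)))
 (.node (.node (.leaf 2060)
 (.leaf 3717))
 (.node (.leaf 826)
 (.leaf 215))))))
 (.node (.node (.node (.node (.node (.leaf 3876)
 (.leaf 2087))
 (.node (.leaf 2083)
 (.leaf 3952)))
 (.node (.node (.leaf 2352)
 (.leaf 63))
 (.node (.leaf 2547)
 (.leaf 2325))))
 (.node (.node (.node (.leaf 2425)
 (.leaf 1040))
 (.node (.leaf 1615)
 (.leaf 1020)))
 (.node (.node (.leaf 3937)
 (.leaf 555))
 (.node (.leaf 3188)
 (.leaf 2191)))))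
 (.node (.node (.node (.node (.leaf 774)
 (.leaf 1693))
 (.node (.leaf 894)
 (.leaf 1539)))
 (.node (.node (.leaf 3243)
 (.leaf 4047))
 (.node (.leaf 560)
 (.leaf 66))))
 (.node (.node (.node (.leaf 635)
 (.leaf 672))
 (.node (.leaf 836)
 (.leaf 1875)))
 (.node (.node (.leaf 2636)
 (.leaf 1902))
 (.node (.leaf 2739)
 (.leaf 1898))))))

def tAB60 : RT := .node (.node (.node (.node (.node (.node (.leaf 2270)
 (.leaf 3673))
 (.node (.leaf 2194)
 (.leaf 1115)))
 (.node (.node (.leaf 1642)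
 (.leaf 3559))
 (.node (.leaf 289)
 (.leaf 355))))
 (.node (.node (.node (.leaf 2873)
 (.leaf 470))
 (.node (.leaf 44)
 (.leaf 3221)))
 (.node (.node (.leaf 2943)
 (.leaf 3828))
 (.node (.leaf 1842)
 (.leaf 2681)))))
 (.node (.node (.node (.node (.leaf 2979)
 (.leaf 602))
 (.node (.leaf 4029)
 (.leaf 524)))
 (.node (.node (.leaf 3271)
 (.leaf 2967))
 (.node (.leaf 157)
 (.leaf 1285))))
 (.node (.node (.node (.leaf 3014)
 (.leaf 2140))
 (.node (.leaf 3819)
 (.leaf 3512)))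
 (.node (.node (.leaf 2621)
 (.leaf 3063))
 (.node (.leaf 2818)
 (.leaf 83))))))
 (.node (.node (.node (.node (.node (.leaf 1200)
 (.leaf 809))
 (.node (.leaf 241)
 (.leaf 1226)))
 (.node (.node (.leaf 2224)
 (.leaf 3929))
 (.node (.leaf 103)
 (.leaf 990))))
 (.node (.node (.node (.leaf 2897)
 (.leaf 576))
 (.node (.leaf 734)
 (.leaf 2751)))
 (.node (.node (.leaf 1782)
 (.leaf 1030))
 (.node (.leaf 3128)
 (.leaf 2593)))))
 (.node (.node (.node (.node (.leaf 3371)
 (.leaf 168))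
 (.node (.leaf 3129)
 (.leaf 1977)))
 (.node (.node (.leaf 2944)
 (.leaf 3684))
 (.node (.leaf 2260)
 (.leaf 2522))))
 (.node (.node (.node (.leaf 782)
 (.leaf 2051))
 (.node (.leaf 2350)
 (.leaf 721)))
 (.node (.node (.leaf 1873)
 (.leaf 1504))
 (.node (.leaf 1654)
 (.leaf 3547))))))

def tAB61 : RT := .node (.node (.node (.node (.node (.node (.leaf 3165)
 (.leaf 1680))
 (.node (.leaf 1890)
 (.leaf 2205)))
 (.node (.node (.leaf 1369)
 (.leaf 1245))
 (.node (.leaf 51)
 (.leaf 3301))))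
 (.node (.node (.node (.leaf 2123)
 (.leaf 3025))
 (.node (.leaf 3898)
 (.leaf 2832)))
 (.node (.node (.leaf 2384)
 (.leaf 2937))
 (.node (.leaf 3660)
 (.leaf 3527)))))
 (.node (.node (.node (.node (.leaf 346)
 (.leaf 312))
 (.node (.leaf 3836)
 (.leaf 3983)))
 (.node (.node (.leaf 592)
 (.leaf 914))
 (.node (.leaf 3120)
 (.leaf 558))))
 (.node (.node (.node (.leaf 1412)
 (.leaf 3319))
 (.node (.leaf 1046)
 (.leaf 2956)))
 (.node (.node (.leaf 543)
 (.leaf 2532))
 (.node (.leaf 437)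
 (.leaf 1519))))))
 (.node (.node (.node (.node (.node (.leaf 1163)
 (.leaf 3202))
 (.node (.leaf 1713)
 (.leaf 436)))
 (.node (.node (.leaf 3204)
 (.leaf 2752))
 (.node (.leaf 2591)
 (.leaf 3233))))
 (.node (.node (.node (.leaf 2004)
 (.leaf 3830))
 (.node (.leaf 2318)
 (.leaf 2694)))
 (.node (.node (.leaf 2170)
 (.leaf 3172))
 (.node (.leaf 3175)
 (.leaf 1418)))))
 (.node (.node (.node (.node (.leaf 3620)
 (.leaf 500))
 (.node (.leaf 1845)
 (.leaf 2274)))
 (.node (.node (.leaf 227)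
 (.leaf 2865))
 (.node (.leaf 2491)
 (.leaf 465))))
 (.node (.node (.node (.leaf 3465)
 (.leaf 1374))
 (.node (.leaf 722)
 (.leaf 1494)))
 (.node (.node (.leaf 2755)
 (.leaf 2446))
 (.node (.leaf 1937)
 (.leaf 1029))))))

def tAB62 : RT := .node (.node (.node (.node (.node (.node (.leaf 493)
 (.leaf 3995))
 (.node (.leaf 571)
 (.leaf 2134)))
 (.node (.node (.leaf 4015)
 (.leaf 730))
 (.node (.leaf 3008)
 (.leaf 2467))))
 (.node (.node (.node (.leaf 3235)
 (.leaf 256))
 (.node (.leaf 1584)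
 (.leaf 1153)))
 (.node (.node (.leaf 2738)
 (.leaf 1670))
 (.node (.leaf 60)
 (.leaf 3310)))))
 (.node (.node (.node (.node (.leaf 418)
 (.leaf 2992))
 (.node (.leaf 1261)
 (.leaf 206)))
 (.node (.node (.leaf 2722)
 (.leaf 3344))
 (.node (.leaf 211)
 (.leaf 3662))))
 (.node (.node (.node (.leaf 577)
 (.leaf 513))
 (.node (.leaf 2470)
 (.leaf 2597)))
 (.node (.node (.leaf 2266)
 (.leaf 1362))
 (.node (.leaf 1061)
 (.leaf 1294))))))
 (.node (.node (.node (.node (.node (.leaf 434)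
 (.leaf 1232))
 (.node (.leaf 293)
 (.leaf 3616)))
 (.node (.node (.leaf 189)
 (.leaf 1171))
 (.node (.leaf 3374)
 (.leaf 3590))))
 (.node (.node (.node (.leaf 1599)
 (.leaf 3687))
 (.node (.leaf 2509)
 (.leaf 2163)))
 (.node (.node (.leaf 3229)
 (.leaf 3884))
 (.node (.leaf 2420)
 (.leaf 2476)))))
 (.node (.node (.node (.node (.leaf 1886)
 (.leaf 1679))
 (.node (.leaf 2894)
 (.leaf 2574)))
 (.node (.node (.leaf 498)
 (.leaf 607))
 (.node (.leaf 2645)
 (.leaf 2618))))
 (.node (.node (.node (.leaf 2753)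
 (.leaf 2436))
 (.node (.leaf 2731)
 (.leaf 3774)))
 (.node (.node (.leaf 3703)
 (.leaf 2139))
 (.node (.leaf 3851)
 (.leaf 772))))))

def tAB63 : RT := .node (.node (.node (.node (.node (.node (.leaf 2155)
 (.leaf 660))
 (.node (.leaf 178)
 (.leaf 3113)))
 (.node (.node (.leaf 3232)
 (.leaf 2847))
 (.node (.leaf 75)
 (.leaf 2349))))
 (.node (.node (.node (.leaf 516)
 (.leaf 2466))
 (.node (.leaf 1455)
 (.leaf 1018)))
 (.node (.node (.leaf 1623)
 (.leaf 96))
 (.node (.leaf 522)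
 (.leaf 304)))))
 (.node (.node (.node (.node (.leaf 979)
 (.leaf 2964))
 (.node (.leaf 593)
 (.leaf 1789)))
 (.node (.node (.leaf 2684)
 (.leaf 1945))
 (.node (.leaf 868)
 (.leaf 1430))))
 (.node (.node (.node (.leaf 549)
 (.leaf 2179))
 (.node (.leaf 1252)
 (.leaf 1382)))
 (.leaf 0))))
 (.leaf 0)

def tA : RT := .node (.node (.node (.node (.node (.node (tAB0)
 (tAB1))
 (.node (tAB2)
 (tAB3)))
 (.node (.node (tAB4)
 (tAB5))
 (.node (tAB6)
 (tAB7))))
 (.node (.node (.node (tAB8)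
 (tAB9))
 (.node (tAB10)
 (tAB11)))
 (.node (.node (tAB12)
 (tAB13))
 (.node (tAB14)
 (tAB15)))))
 (.node (.node (.node (.node (tAB16)
 (tAB17))
 (.node (tAB18)
 (tAB19)))
 (.node (.node (tAB20)
 (tAB21))
 (.node (tAB22)
 (tAB23))))
 (.node (.node (.node (tAB24)
 (tAB25))
 (.node (tAB26)
 (tAB27)))
 (.node (.node (tAB28)
 (tAB29))
 (.node (tAB30)
 (tAB31))))))
 (.node (.node (.node (.node (.node (tAB32)
 (tAB33))
 (.node (tAB34)
 (tAB35)))
 (.node (.node (tAB36)
 (tAB37))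
 (.node (tAB38)
 (tAB39))))
 (.node (.node (.node (tAB40)
 (tAB41))
 (.node (tAB42)
 (tAB43)))
 (.node (.node (tAB44)
 (tAB45))
 (.node (tAB46)
 (tAB47)))))
 (.node (.node (.node (.node (tAB48)
 (tAB49))
 (.node (tAB50)
 (tAB51)))
 (.node (.node (tAB52)
 (tAB53))
 (.node (tAB54)
 (tAB55))))
 (.node (.node (.node (tAB56)
 (tAB57))
 (.node (tAB58)
 (tAB59)))
 (.node (.node (tAB60)
 (tAB61))
 (.node (tAB62)
 (tAB63))))))

def tBB0 : RT := .node (.node (.node (.node (.node (.node (.leaf 0)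
 (.leaf 2628))
 (.node (.leaf 644)
 (.leaf 592)))
 (.node (.node (.leaf 3467)
 (.leaf 696))
 (.node (.leaf 2945)
 (.leaf 1853))))
 (.node (.node (.node (.leaf 645)
 (.leaf 2217))
 (.node (.leaf 2348)
 (.leaf 2563)))
 (.node (.node (.leaf 1732)
 (.leaf 2323))
 (.node (.leaf 3877)
 (.leaf 810)))))
 (.node (.node (.node (.node (.leaf 4037)
 (.leaf 1162))
 (.node (.leaf 1410)
 (.leaf 1695)))
 (.node (.node (.leaf 1221)
 (.leaf 731))
 (.node (.leaf 2095)
 (.leaf 2230))))
 (.node (.node (.node (.leaf 3553)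
 (.leaf 1098))
 (.node (.leaf 2687)
 (.leaf 948)))
 (.node (.node (.leaf 3389)
 (.leaf 2692))
 (.node (.leaf 1247)
 (.leaf 635))))))
 (.node (.node (.node (.node (.node (.leaf 1570)
 (.leaf 1936))
 (.node (.leaf 3262)
 (.leaf 2397)))
 (.node (.node (.leaf 3216)
 (.leaf 3668))
 (.node (.leaf 2184)
 (.leaf 1605))))
 (.node (.node (.node (.leaf 3572)
 (.leaf 799))
 (.node (.leaf 1640)
 (.leaf 2623)))
 (.node (.node (.leaf 1771)
 (.leaf 3315))
 (.node (.leaf 2747)
 (.leaf 1020)))))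
 (.node (.node (.node (.node (.leaf 2151)
 (.leaf 1151))
 (.node (.leaf 1337)
 (.leaf 1420)))
 (.node (.node (.leaf 61)
 (.leaf 1236))
 (.node (.leaf 4006)
 (.leaf 3655))))
 (.node (.node (.node (.leaf 3839)
 (.leaf 1308))
 (.node (.leaf 791)
 (.leaf 319)))
 (.node (.node (.leaf 153)
 (.leaf 3885))
 (.node (.leaf 3285)
 (.leaf 1926))))))

def tBB1 : RT := .node (.node (.node (.node (.node (.node (.leaf 512)
 (.leaf 1723))
 (.node (.leaf 325)
 (.leaf 2180)))
 (.node (.node (.leaf 1110)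
 (.leaf 3830))
 (.node (.leaf 2935)
 (.leaf 3423))))
 (.node (.node (.node (.leaf 1443)
 (.leaf 3589))
 (.node (.leaf 495)
 (.leaf 1039)))
 (.node (.node (.leaf 2894)
 (.leaf 3763))
 (.node (.leaf 1446)
 (.leaf 3144)))))
 (.node (.node (.node (.node (.leaf 2321)
 (.leaf 1819))
 (.node (.leaf 2827)
 (.leaf 2416)))
 (.node (.node (.leaf 826)
 (.leaf 3693))
 (.node (.leaf 1129)
 (.leaf 3933))))
 (.node (.node (.node (.leaf 525)
 (.leaf 1123))
 (.node (.leaf 1146)
 (.leaf 771)))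
 (.node (.node (.leaf 2757)
 (.leaf 507))
 (.node (.leaf 3453)
 (.leaf 2534))))))
 (.node (.node (.node (.node (.node (.leaf 2600)
 (.leaf 3049))
 (.node (.leaf 1785)
 (.leaf 1401)))
 (.node (.node (.leaf 3092)
 (.leaf 598))
 (.node (.leaf 1271)
 (.leaf 233))))
 (.node (.node (.node (.leaf 864)
 (.leaf 3985))
 (.node (.leaf 57)
 (.leaf 600)))
 (.node (.node (.leaf 2486)
 (.leaf 433))
 (.node (.leaf 1245)
 (.leaf 1335)))))
 (.node (.node (.node (.node (.leaf 1559)
 (.leaf 1108))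
 (.node (.leaf 591)
 (.leaf 932)))
 (.node (.node (.leaf 102)
 (.leaf 775))
 (.node (.leaf 580)
 (.leaf 3897))))
 (.node (.node (.node (.leaf 1975)
 (.leaf 3380))
 (.node (.leaf 340)
 (.leaf 3995)))
 (.node (.node (.leaf 2378)
 (.leaf 1266))
 (.node (.leaf 3259)
 (.leaf 3066))))))

def tBB2 : RT := .node (.node (.node (.node (.node (.node (.leaf 31)
 (.leaf 2498))
 (.node (.leaf 2228)
 (.leaf 2169)))
 (.node (.node (.leaf 2385)
 (.leaf 2587))
 (.node (.leaf 1111)
 (.leaf 1250))))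
 (.node (.node (.node (.leaf 1004)
 (.leaf 1970))
 (.node (.leaf 1448)
 (.leaf 2150)))
 (.node (.node (.leaf 3637)
 (.leaf 803))
 (.node (.leaf 263)
 (.leaf 1969)))))
 (.node (.node (.node (.node (.leaf 392)
 (.leaf 536))
 (.node (.leaf 2402)
 (.leaf 1773)))
 (.node (.node (.leaf 2165)
 (.leaf 2105))
 (.node (.leaf 2014)
 (.leaf 892))))
 (.node (.node (.node (.leaf 4016)
 (.leaf 1544))
 (.node (.leaf 3197)
 (.leaf 3355)))
 (.node (.node (.leaf 85)
 (.leaf 464))
 (.node (.leaf 127)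
 (.leaf 1708))))))
 (.node (.node (.node (.node (.node (.leaf 3136)
 (.leaf 733))
 (.node (.leaf 2247)
 (.leaf 1782)))
 (.node (.node (.leaf 3541)
 (.leaf 1417))
 (.node (.leaf 730)
 (.leaf 1203))))
 (.node (.node (.node (.leaf 1150)
 (.leaf 2240))
 (.node (.leaf 3629)
 (.leaf 3392)))
 (.node (.node (.leaf 2327)
 (.leaf 1978))
 (.node (.leaf 403)
 (.leaf 1479)))))
 (.node (.node (.node (.node (.leaf 710)
 (.leaf 2043))
 (.node (.leaf 278)
 (.leaf 1757)))
 (.node (.node (.leaf 2480)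
 (.leaf 383))
 (.node (.leaf 2502)
 (.leaf 2118))))
 (.node (.node (.node (.leaf 1164)
 (.leaf 3138))
 (.node (.leaf 851)
 (.leaf 2525)))
 (.node (.node (.leaf 989)
 (.leaf 3002))
 (.node (.leaf 280)
 (.leaf 2577))))))

def tBB3 : RT := .node (.node (.node (.node (.node (.node (.leaf 2188)
 (.leaf 3875))
 (.node (.leaf 3677)
 (.leaf 1801)))
 (.node (.node (.leaf 3015)
 (.leaf 3083))
 (.node (.leaf 2439)
 (.leaf 4012))))
 (.node (.node (.node (.leaf 986)
 (.leaf 1421))
 (.node (.leaf 3725)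
 (.leaf 400)))
 (.node (.node (.leaf 1053)
 (.leaf 3800))
 (.node (.leaf 2724)
 (.leaf 3397)))))
 (.node (.node (.node (.node (.leaf 3155)
 (.leaf 823))
 (.node (.leaf 437)
 (.leaf 1117)))
 (.node (.node (.leaf 1452)
 (.leaf 3841))
 (.node (.leaf 3752)
 (.leaf 253))))
 (.node (.node (.node (.leaf 3302)
 (.leaf 3057))
 (.node (.leaf 1883)
 (.leaf 3534)))
 (.node (.node (.leaf 922)
 (.leaf 1314))
 (.node (.leaf 601)
 (.leaf 1216))))))
 (.node (.node (.node (.node (.node (.leaf 3390)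
 (.leaf 2475))
 (.node (.leaf 3340)
 (.leaf 254)))
 (.node (.node (.leaf 2697)
 (.leaf 2423))
 (.node (.leaf 1932)
 (.leaf 1527))))
 (.node (.node (.node (.leaf 47)
 (.leaf 170))
 (.node (.leaf 2795)
 (.leaf 247)))
 (.node (.node (.leaf 2722)
 (.leaf 1347))
 (.node (.leaf 174)
 (.leaf 804)))))
 (.node (.node (.node (.node (.leaf 2265)
 (.leaf 2555))
 (.node (.leaf 3284)
 (.leaf 3058)))
 (.node (.node (.leaf 903)
 (.leaf 1669))
 (.node (.leaf 3454)
 (.leaf 2851))))
 (.node (.node (.node (.leaf 1796)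
 (.leaf 2246))
 (.node (.leaf 2173)
 (.leaf 3306)))
 (.node (.node (.leaf 2109)
 (.leaf 967))
 (.node (.leaf 1602)
 (.leaf 3560))))))

def tBB4 : RT := .node (.node (.node (.node (.node (.node (.leaf 1046)
 (.leaf 713))
 (.node (.leaf 1716)
 (.leaf 163)))
 (.node (.node (.leaf 2263)
 (.leaf 687))
 (.node (.leaf 3574)
 (.leaf 671))))
 (.node (.node (.node (.leaf 3273)
 (.leaf 3794))
 (.node (.leaf 3939)
 (.leaf 3569)))
 (.node (.node (.leaf 2866)
 (.leaf 788))
 (.node (.leaf 768)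
 (.leaf 3472)))))
 (.node (.node (.node (.node (.leaf 1482)
 (.leaf 221))
 (.node (.leaf 1894)
 (.leaf 2927)))
 (.node (.node (.leaf 3635)
 (.leaf 1233))
 (.node (.leaf 656)
 (.leaf 3610))))
 (.node (.node (.node (.leaf 3664)
 (.leaf 3402))
 (.node (.leaf 759)
 (.leaf 1622)))
 (.node (.node (.leaf 2904)
 (.leaf 1195))
 (.node (.leaf 1639)
 (.leaf 1444))))))
 (.node (.node (.node (.node (.node (.leaf 3566)
 (.leaf 2732))
 (.node (.leaf 872)
 (.leaf 2187)))
 (.node (.node (.leaf 101)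
 (.leaf 2903))
 (.node (.leaf 1211)
 (.leaf 1618))))
 (.node (.node (.node (.leaf 16)
 (.leaf 2630))
 (.node (.leaf 42)
 (.leaf 1939)))
 (.node (.node (.leaf 3188)
 (.leaf 3870))
 (.node (.leaf 1058)
 (.leaf 1536)))))
 (.node (.node (.node (.node (.leaf 2980)
 (.leaf 3022))
 (.node (.leaf 404)
 (.leaf 2311)))
 (.node (.node (.leaf 1766)
 (.leaf 2461))
 (.node (.leaf 1676)
 (.leaf 1624))))
 (.node (.node (.node (.leaf 2615)
 (.leaf 3546))
 (.node (.leaf 2601)
 (.leaf 3671)))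
 (.node (.node (.leaf 3316)
 (.leaf 1480))
 (.node (.leaf 1275)
 (.leaf 3623))))))

def tBB5 : RT := .node (.node (.node (.node (.node (.node (.leaf 219)
 (.leaf 627))
 (.node (.leaf 471)
 (.leaf 2404)))
 (.node (.node (.leaf 277)
 (.leaf 1294))
 (.node (.leaf 3644)
 (.leaf 348))))
 (.node (.node (.node (.leaf 203)
 (.leaf 323))
 (.node (.leaf 2620)
 (.leaf 2080)))
 (.node (.node (.leaf 1154)
 (.leaf 1050))
 (.node (.leaf 223)
 (.leaf 1273)))))
 (.node (.node (.node (.node (.leaf 1213)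
 (.leaf 345))
 (.node (.leaf 3872)
 (.leaf 2938)))
 (.node (.node (.leaf 396)
 (.leaf 2302))
 (.node (.leaf 2674)
 (.leaf 2654))))
 (.node (.node (.node (.leaf 3148)
 (.leaf 1359))
 (.node (.leaf 2805)
 (.leaf 92)))
 (.node (.node (.leaf 477)
 (.leaf 944))
 (.node (.leaf 3032)
 (.leaf 1847))))))
 (.node (.node (.node (.node (.node (.leaf 3855)
 (.leaf 2251))
 (.node (.leaf 3646)
 (.leaf 1764)))
 (.node (.node (.leaf 1856)
 (.leaf 1140))
 (.node (.leaf 467)
 (.leaf 787))))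
 (.node (.node (.node (.leaf 978)
 (.leaf 2507))
 (.node (.leaf 239)
 (.leaf 708)))
 (.node (.node (.leaf 3068)
 (.leaf 891))
 (.node (.leaf 1662)
 (.leaf 3517)))))
 (.node (.node (.node (.node (.leaf 1316)
 (.leaf 3753))
 (.node (.leaf 448)
 (.leaf 662)))
 (.node (.node (.leaf 3352)
 (.leaf 231))
 (.node (.leaf 3600)
 (.leaf 351))))
 (.node (.node (.node (.leaf 805)
 (.leaf 3898))
 (.node (.leaf 1225)
 (.leaf 1902)))
 (.node (.node (.leaf 346)
 (.leaf 4044))
 (.node (.leaf 1369)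
 (.leaf 3236))))))

def tBB6 : RT := .node (.node (.node (.node (.node (.node (.leaf 2195)
 (.leaf 1955))
 (.node (.leaf 1063)
 (.leaf 2012)))
 (.node (.node (.leaf 2141)
 (.leaf 3377))
 (.node (.leaf 3237)
 (.leaf 3495))))
 (.node (.node (.node (.leaf 2793)
 (.leaf 111))
 (.node (.leaf 3278)
 (.leaf 516)))
 (.node (.node (.leaf 1072)
 (.leaf 1711))
 (.node (.leaf 3194)
 (.leaf 3037)))))
 (.node (.node (.node (.node (.leaf 428)
 (.leaf 497))
 (.node (.leaf 972)
 (.leaf 3186)))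
 (.node (.node (.leaf 3210)
 (.leaf 3561))
 (.node (.leaf 421)
 (.leaf 3611))))
 (.node (.node (.node (.leaf 1632)
 (.leaf 1890))
 (.node (.leaf 2084)
 (.leaf 1178)))
 (.node (.node (.leaf 299)
 (.leaf 235))
 (.node (.leaf 3661)
 (.leaf 3275))))))
 (.node (.node (.node (.node (.node (.leaf 821)
 (.leaf 2294))
 (.node (.leaf 1418)
 (.leaf 1477)))
 (.node (.node (.leaf 1276)
 (.leaf 2288))
 (.node (.leaf 3253)
 (.leaf 762))))
 (.node (.node (.node (.leaf 3781)
 (.leaf 498))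
 (.node (.leaf 27)
 (.leaf 3882)))
 (.node (.node (.leaf 2898)
 (.leaf 636))
 (.node (.leaf 2089)
 (.leaf 49)))))
 (.node (.node (.node (.node (.leaf 3342)
 (.leaf 2279))
 (.node (.leaf 1790)
 (.leaf 3317)))
 (.node (.node (.leaf 865)
 (.leaf 3708))
 (.node (.leaf 779)
 (.leaf 558))))
 (.node (.node (.node (.leaf 3920)
 (.leaf 792))
 (.node (.leaf 455)
 (.leaf 3690)))
 (.node (.node (.leaf 3457)
 (.leaf 1509))
 (.node (.leaf 2050)
 (.leaf 2010))))))

def tBB7 : RT := .node (.node (.node (.node (.node (.node (.leaf 3438)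
 (.leaf 2108))
 (.node (.leaf 2063)
 (.leaf 11)))
 (.node (.node (.leaf 681)
 (.leaf 1864))
 (.node (.leaf 3079)
 (.leaf 2999))))
 (.node (.node (.node (.leaf 2944)
 (.leaf 3431))
 (.node (.leaf 367)
 (.leaf 3252)))
 (.node (.node (.leaf 3435)
 (.leaf 1921))
 (.node (.leaf 2351)
 (.leaf 2533)))))
 (.node (.node (.node (.node (.leaf 2079)
 (.leaf 3815))
 (.node (.leaf 1512)
 (.leaf 2344)))
 (.node (.node (.leaf 2001)
 (.leaf 2691))
 (.node (.leaf 2403)
 (.leaf 570))))
 (.node (.node (.node (.leaf 1677)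
 (.leaf 1348))
 (.node (.leaf 1797)
 (.leaf 481)))
 (.node (.node (.leaf 542)
 (.leaf 2770))
 (.node (.leaf 3382)
 (.leaf 1613))))))
 (.node (.node (.node (.node (.node (.leaf 3099)
 (.leaf 1844))
 (.node (.leaf 2393)
 (.leaf 1880)))
 (.node (.node (.leaf 3312)
 (.leaf 2068))
 (.node (.leaf 3680)
 (.leaf 3242))))
 (.node (.node (.node (.leaf 1522)
 (.leaf 2843))
 (.node (.leaf 2522)
 (.leaf 712)))
 (.node (.node (.leaf 2852)
 (.leaf 185))
 (.node (.leaf 447)
 (.leaf 2871)))))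
 (.node (.node (.node (.node (.leaf 3011)
 (.leaf 1621))
 (.node (.leaf 1230)
 (.leaf 1504)))
 (.node (.node (.leaf 156)
 (.leaf 629))
 (.node (.leaf 275)
 (.leaf 311))))
 (.node (.node (.node (.leaf 1630)
 (.leaf 3056))
 (.node (.leaf 2965)
 (.leaf 2991)))
 (.node (.node (.leaf 3308)
 (.leaf 56))
 (.node (.leaf 855)
 (.leaf 10))))))

def tBB8 : RT := .node (.node (.node (.node (.node (.node (.leaf 3080)
 (.leaf 2553))
 (.node (.leaf 3540)
 (.leaf 2008)))
 (.node (.node (.leaf 1850)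
 (.leaf 1563))
 (.node (.leaf 3142)
 (.leaf 3042))))
 (.node (.node (.node (.leaf 3615)
 (.leaf 51))
 (.node (.leaf 1127)
 (.leaf 37)))
 (.node (.node (.leaf 2943)
 (.leaf 1980))
 (.node (.leaf 3384)
 (.leaf 2706)))))
 (.node (.node (.node (.node (.leaf 2550)
 (.leaf 524))
 (.node (.leaf 1822)
 (.leaf 1735)))
 (.node (.node (.leaf 3700)
 (.leaf 2693))
 (.node (.leaf 458)
 (.leaf 995))))
 (.node (.node (.node (.leaf 4007)
 (.leaf 1502))
 (.node (.leaf 420)
 (.leaf 2136)))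
 (.node (.node (.leaf 2053)
 (.leaf 1682))
 (.node (.leaf 339)
 (.leaf 2711))))))
 (.node (.node (.node (.node (.node (.leaf 3689)
 (.leaf 194))
 (.node (.leaf 355)
 (.leaf 2511)))
 (.node (.node (.leaf 1270)
 (.leaf 3704))
 (.node (.leaf 272)
 (.leaf 1015))))
 (.node (.node (.node (.leaf 2054)
 (.leaf 2159))
 (.node (.leaf 2356)
 (.leaf 2731)))
 (.node (.node (.leaf 2748)
 (.leaf 3717))
 (.node (.leaf 2730)
 (.leaf 1185)))))
 (.node (.node (.node (.node (.leaf 439)
 (.leaf 2566))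
 (.node (.leaf 3934)
 (.leaf 3738)))
 (.node (.node (.leaf 133)
 (.leaf 1523))
 (.node (.leaf 3373)
 (.leaf 1355))))
 (.node (.node (.node (.leaf 2709)
 (.leaf 1531))
 (.node (.leaf 2320)
 (.leaf 2910)))
 (.node (.node (.leaf 668)
 (.leaf 2372))
 (.node (.leaf 1301)
 (.leaf 2270))))))

def tBB9 : RT := .node (.node (.node (.node (.node (.node (.leaf 384)
 (.leaf 3960))
 (.node (.leaf 1400)
 (.leaf 694)))
 (.node (.node (.leaf 3145)
 (.leaf 2539))
 (.node (.leaf 1539)
 (.leaf 1542))))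
 (.node (.node (.node (.leaf 3911)
 (.leaf 3669))
 (.node (.leaf 3685)
 (.leaf 1114)))
 (.node (.node (.leaf 2668)
 (.leaf 3206))
 (.node (.leaf 503)
 (.leaf 1751)))))
 (.node (.node (.node (.node (.leaf 1407)
 (.leaf 1068))
 (.node (.leaf 1194)
 (.leaf 1576)))
 (.node (.node (.leaf 147)
 (.leaf 2264))
 (.node (.leaf 680)
 (.leaf 746))))
 (.node (.node (.node (.leaf 3766)
 (.leaf 199))
 (.node (.leaf 1780)
 (.leaf 3895)))
 (.node (.node (.leaf 1422)
 (.leaf 1535))
 (.node (.leaf 2354)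
 (.leaf 1136))))))
 (.node (.node (.node (.node (.node (.leaf 1513)
 (.leaf 2540))
 (.node (.leaf 1234)
 (.leaf 2435)))
 (.node (.node (.leaf 2779)
 (.leaf 3388))
 (.node (.leaf 4036)
 (.leaf 3084))))
 (.node (.node (.node (.leaf 665)
 (.leaf 2020))
 (.node (.leaf 3280)
 (.leaf 841)))
 (.node (.node (.leaf 1018)
 (.leaf 2027))
 (.node (.leaf 281)
 (.leaf 2837)))))
 (.node (.node (.node (.node (.leaf 72)
 (.leaf 1979))
 (.node (.leaf 880)
 (.leaf 2206)))
 (.node (.node (.leaf 1460)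
 (.leaf 996))
 (.node (.leaf 450)
 (.leaf 1761))))
 (.node (.node (.node (.leaf 875)
 (.leaf 2978))
 (.node (.leaf 1815)
 (.leaf 2984)))
 (.node (.node (.leaf 2705)
 (.leaf 2922))
 (.node (.leaf 3300)
 (.leaf 2042))))))

def tBB10 : RT := .node (.node (.node (.node (.node (.node (.leaf 3989)
 (.leaf 2252))
 (.node (.leaf 1132)
 (.leaf 3935)))
 (.node (.node (.leaf 881)
 (.leaf 364))
 (.node (.leaf 966)
 (.leaf 2026))))
 (.node (.node (.node (.leaf 1814)
 (.leaf 1419))
 (.node (.leaf 3678)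
 (.leaf 1795)))
 (.node (.node (.leaf 2505)
 (.leaf 2818))
 (.node (.leaf 1426)
 (.leaf 13)))))
 (.node (.node (.node (.node (.leaf 3114)
 (.leaf 1681))
 (.node (.leaf 2155)
 (.leaf 192)))
 (.node (.node (.leaf 1813)
 (.leaf 2349))
 (.node (.leaf 2813)
 (.leaf 1575))))
 (.node (.node (.node (.leaf 3374)
 (.leaf 3552))
 (.node (.leaf 3208)
 (.leaf 2285)))
 (.node (.node (.leaf 2751)
 (.leaf 750))
 (.node (.leaf 3337)
 (.leaf 3802))))))
 (.node (.node (.node (.node (.node (.leaf 4035)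
 (.leaf 1495))
 (.node (.leaf 535)
 (.leaf 1562)))
 (.node (.node (.leaf 55)
 (.leaf 1891))
 (.node (.leaf 577)
 (.leaf 3035))))
 (.node (.node (.node (.leaf 3567)
 (.leaf 1905))
 (.node (.leaf 2599)
 (.leaf 1595)))
 (.node (.node (.leaf 2554)
 (.leaf 1962))
 (.node (.leaf 3912)
 (.leaf 3846)))))
 (.node (.node (.node (.node (.leaf 607)
 (.leaf 754))
 (.node (.leaf 2066)
 (.leaf 1408)))
 (.node (.node (.leaf 2624)
 (.leaf 3506))
 (.node (.leaf 583)
 (.leaf 1807))))
 (.node (.node (.node (.leaf 3175)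
 (.leaf 1705))
 (.node (.leaf 331)
 (.leaf 2434)))
 (.node (.node (.leaf 476)
 (.leaf 2122))
 (.node (.leaf 1546)
 (.leaf 1549))))))

def tBB11 : RT := .node (.node (.node (.node (.node (.node (.leaf 2233)
 (.leaf 350))
 (.node (.leaf 1538)
 (.leaf 3996)))
 (.node (.node (.leaf 3715)
 (.leaf 856))
 (.node (.leaf 1721)
 (.leaf 1246))))
 (.node (.node (.node (.leaf 2198)
 (.leaf 1566))
 (.node (.leaf 2689)
 (.leaf 1537)))
 (.node (.node (.leaf 888)
 (.leaf 1664))
 (.node (.leaf 675)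
 (.leaf 2699)))))
 (.node (.node (.node (.node (.leaf 2768)
 (.leaf 2449))
 (.node (.leaf 2952)
 (.leaf 3078)))
 (.node (.node (.leaf 1974)
 (.leaf 514))
 (.node (.leaf 2766)
 (.leaf 2407))))
 (.node (.node (.node (.leaf 3018)
 (.leaf 3805))
 (.node (.leaf 1085)
 (.leaf 449)))
 (.node (.node (.leaf 2859)
 (.leaf 314))
 (.node (.leaf 1984)
 (.leaf 1659))))))
 (.node (.node (.node (.node (.node (.leaf 1583)
 (.leaf 2716))
 (.node (.leaf 1952)
 (.leaf 1284)))
 (.node (.node (.leaf 836)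
 (.leaf 65))
 (.node (.leaf 2170)
 (.leaf 2293))))
 (.node (.node (.node (.leaf 1232)
 (.leaf 3182))
 (.node (.leaf 3420)
 (.leaf 1065)))
 (.node (.node (.leaf 3845)
 (.leaf 2913))
 (.node (.leaf 1611)
 (.leaf 249)))))
 (.node (.node (.node (.node (.leaf 2817)
 (.leaf 678))
 (.node (.leaf 1812)
 (.leaf 3339)))
 (.node (.node (.leaf 783)
 (.leaf 3749))
 (.node (.leaf 1380)
 (.leaf 19))))
 (.node (.node (.node (.leaf 813)
 (.leaf 1338))
 (.node (.leaf 596)
 (.leaf 1783)))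
 (.node (.node (.leaf 3246)
 (.leaf 3982))
 (.node (.leaf 120)
 (.leaf 3730))))))

def tBB12 : RT := .node (.node (.node (.node (.node (.node (.leaf 1748)
 (.leaf 3327))
 (.node (.leaf 1816)
 (.leaf 3638)))
 (.node (.node (.leaf 462)
 (.leaf 2431))
 (.node (.leaf 3904)
 (.leaf 590))))
 (.node (.node (.node (.leaf 1158)
 (.leaf 1874))
 (.node (.leaf 2561)
 (.leaf 2825)))
 (.node (.node (.leaf 2504)
 (.leaf 2639))
 (.node (.leaf 2398)
 (.leaf 2772)))))
 (.node (.node (.node (.node (.leaf 3658)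
 (.leaf 3823))
 (.node (.leaf 2406)
 (.leaf 857)))
 (.node (.node (.leaf 3129)
 (.leaf 1737))
 (.node (.leaf 1533)
 (.leaf 2777))))
 (.node (.node (.node (.leaf 3386)
 (.leaf 2535))
 (.node (.leaf 925)
 (.leaf 2907)))
 (.node (.node (.leaf 3003)
 (.leaf 559))
 (.node (.leaf 2208)
 (.leaf 1208))))))
 (.node (.node (.node (.node (.node (.leaf 2225)
 (.leaf 655))
 (.node (.leaf 398)
 (.leaf 1758)))
 (.node (.node (.leaf 1290)
 (.leaf 2038))
 (.node (.leaf 1910)
 (.leaf 3902))))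
 (.node (.node (.node (.leaf 2966)
 (.leaf 2596))
 (.node (.leaf 108)
 (.leaf 1011)))
 (.node (.node (.leaf 3921)
 (.leaf 945))
 (.node (.leaf 2636)
 (.leaf 2479)))))
 (.node (.node (.node (.node (.leaf 2338)
 (.leaf 4055))
 (.node (.leaf 137)
 (.leaf 1931)))
 (.node (.node (.leaf 716)
 (.leaf 3134))
 (.node (.leaf 1147)
 (.leaf 3999))))
 (.node (.node (.node (.leaf 2116)
 (.leaf 2037))
 (.node (.leaf 349)
 (.leaf 2286)))
 (.node (.node (.leaf 3430)
 (.leaf 4024))
 (.node (.leaf 3368)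
 (.leaf 3959))))))

def tBB13 : RT := .node (.node (.node (.node (.node (.node (.leaf 2734)
 (.leaf 2828))
 (.node (.leaf 1135)
 (.leaf 2182)))
 (.node (.node (.leaf 1179)
 (.leaf 3031))
 (.node (.leaf 928)
 (.leaf 2157))))
 (.node (.node (.node (.leaf 3441)
 (.leaf 2667))
 (.node (.leaf 3240)
 (.leaf 1372)))
 (.node (.node (.leaf 1860)
 (.leaf 760))
 (.node (.leaf 3699)
 (.leaf 3691)))))
 (.node (.node (.node (.node (.leaf 509)
 (.leaf 883))
 (.node (.leaf 3931)
 (.leaf 2477)))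
 (.node (.node (.leaf 3614)
 (.leaf 1714))
 (.node (.leaf 4048)
 (.leaf 215))))
 (.node (.node (.node (.leaf 1534)
 (.leaf 2780))
 (.node (.leaf 3780)
 (.leaf 1833)))
 (.node (.node (.leaf 2332)
 (.leaf 1387))
 (.node (.leaf 2645)
 (.leaf 1478))))))
 (.node (.node (.node (.node (.node (.leaf 3643)
 (.leaf 4009))
 (.node (.leaf 935)
 (.leaf 1492)))
 (.node (.node (.leaf 1920)
 (.leaf 3224))
 (.node (.leaf 1510)
 (.leaf 3868))))
 (.node (.node (.node (.leaf 2745)
 (.leaf 431))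
 (.node (.leaf 547)
 (.leaf 300)))
 (.node (.node (.leaf 3330)
 (.leaf 3303))
 (.node (.leaf 2275)
 (.leaf 3478)))))
 (.node (.node (.node (.node (.leaf 1138)
 (.leaf 479))
 (.node (.leaf 744)
 (.leaf 1674)))
 (.node (.node (.leaf 1423)
 (.leaf 4022))
 (.node (.leaf 2242)
 (.leaf 3634))))
 (.node (.node (.node (.leaf 1088)
 (.leaf 2648))
 (.node (.leaf 151)
 (.leaf 3741)))
 (.node (.node (.leaf 1239)
 (.leaf 3233))
 (.node (.leaf 2455)
 (.leaf 157))))))

def tBB14 : RT := .node (.node (.node (.node (.node (.node (.leaf 3424)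
 (.leaf 3301))
 (.node (.leaf 1500)
 (.leaf 2573)))
 (.node (.node (.leaf 3624)
 (.leaf 2061))
 (.node (.leaf 2347)
 (.leaf 2101))))
 (.node (.node (.node (.leaf 218)
 (.leaf 238))
 (.node (.leaf 1069)
 (.leaf 1035)))
 (.node (.node (.leaf 1134)
 (.leaf 3748))
 (.node (.leaf 3053)
 (.leaf 3447)))))
 (.node (.node (.node (.node (.leaf 1526)
 (.leaf 3628))
 (.node (.leaf 363)
 (.leaf 475)))
 (.node (.node (.leaf 2914)
 (.leaf 1634))
 (.node (.leaf 2337)
 (.leaf 1464))))
 (.node (.node (.node (.leaf 3609)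
 (.leaf 3461))
 (.node (.leaf 2025)
 (.leaf 933)))
 (.node (.node (.leaf 1999)
 (.leaf 3971))
 (.node (.leaf 1565)
 (.leaf 451))))))
 (.node (.node (.node (.node (.node (.leaf 2432)
 (.leaf 3323))
 (.node (.leaf 3834)
 (.leaf 2749)))
 (.node (.node (.leaf 2759)
 (.leaf 2387))
 (.node (.leaf 3449)
 (.leaf 2798))))
 (.node (.node (.node (.leaf 3641)
 (.leaf 2579))
 (.node (.leaf 870)
 (.leaf 3311)))
 (.node (.node (.leaf 3626)
 (.leaf 3772))
 (.node (.leaf 839)
 (.leaf 1877)))))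
 (.node (.node (.node (.node (.leaf 3579)
 (.leaf 378))
 (.node (.leaf 1267)
 (.leaf 3956)))
 (.node (.node (.leaf 1873)
 (.leaf 1057))
 (.node (.leaf 2897)
 (.leaf 1080))))
 (.node (.node (.node (.leaf 1251)
 (.leaf 4027))
 (.node (.leaf 2842)
 (.leaf 2835)))
 (.node (.node (.leaf 1603)
 (.leaf 3577))
 (.node (.leaf 699)
 (.leaf 2958))))))

def tBB15 : RT := .node (.node (.node (.node (.node (.node (.leaf 3400)
 (.leaf 2211))
 (.node (.leaf 3761)
 (.leaf 1037)))
 (.node (.node (.leaf 1830)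
 (.leaf 86))
 (.node (.leaf 1475)
 (.leaf 545))))
 (.node (.node (.node (.leaf 763)
 (.leaf 876))
 (.node (.leaf 2870)
 (.leaf 1318)))
 (.node (.node (.leaf 130)
 (.leaf 3630))
 (.node (.leaf 2336)
 (.leaf 1471)))))
 (.node (.node (.node (.node (.leaf 1386)
 (.leaf 2144))
 (.node (.leaf 3703)
 (.leaf 3890)))
 (.node (.node (.leaf 2881)
 (.leaf 4034))
 (.node (.leaf 374)
 (.leaf 2609))))
 (.node (.node (.node (.leaf 3460)
 (.leaf 3006))
 (.node (.leaf 1197)
 (.leaf 3158)))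
 (.node (.node (.leaf 3838)
 (.leaf 180))
 (.node (.leaf 929)
 (.leaf 2508))))))
 (.node (.node (.node (.node (.node (.leaf 71)
 (.leaf 2292))
 (.node (.leaf 320)
 (.leaf 3419)))
 (.node (.node (.leaf 332)
 (.leaf 2695))
 (.node (.leaf 938)
 (.leaf 2649))))
 (.node (.node (.node (.leaf 1638)
 (.leaf 2487))
 (.node (.leaf 7)
 (.leaf 3505)))
 (.node (.node (.leaf 2076)
 (.leaf 519))
 (.node (.leaf 3683)
 (.leaf 749)))))
 (.node (.node (.node (.node (.leaf 413)
 (.leaf 3292))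
 (.node (.leaf 2041)
 (.leaf 1650)))
 (.node (.node (.leaf 1280)
 (.leaf 1503))
 (.node (.leaf 2741)
 (.leaf 1567))))
 (.node (.node (.node (.leaf 2857)
 (.leaf 260))
 (.node (.leaf 1770)
 (.leaf 1755)))
 (.node (.node (.leaf 268)
 (.leaf 1100))
 (.node (.leaf 1857)
 (.leaf 3873))))))

def tBB16 : RT := .node (.node (.node (.node (.node (.node (.leaf 993)
 (.leaf 1671))
 (.node (.leaf 2100)
 (.leaf 3222)))
 (.node (.node (.leaf 266)
 (.leaf 3720))
 (.node (.leaf 3888)
 (.leaf 2093))))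
 (.node (.node (.node (.leaf 3091)
 (.leaf 1792))
 (.node (.leaf 2476)
 (.leaf 3965)))
 (.node (.node (.leaf 2284)
 (.leaf 517))
 (.node (.leaf 734)
 (.leaf 3767)))))
 (.node (.node (.node (.node (.leaf 2985)
 (.leaf 3298))
 (.node (.leaf 2518)
 (.leaf 2849)))
 (.node (.node (.leaf 3202)
 (.leaf 143))
 (.node (.leaf 934)
 (.leaf 3211))))
 (.node (.node (.node (.leaf 1200)
 (.leaf 178))
 (.node (.leaf 360)
 (.leaf 3808)))
 (.node (.node (.leaf 3889)
 (.leaf 613))
 (.node (.leaf 3812)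
 (.leaf 252))))))
 (.node (.node (.node (.node (.node (.leaf 2585)
 (.leaf 487))
 (.node (.leaf 361)
 (.leaf 1741)))
 (.node (.node (.leaf 1404)
 (.leaf 2953))
 (.node (.leaf 3060)
 (.leaf 2803))))
 (.node (.node (.node (.leaf 2232)
 (.leaf 3332))
 (.node (.leaf 1454)
 (.leaf 1818)))
 (.node (.node (.leaf 3113)
 (.leaf 2526))
 (.node (.leaf 3993)
 (.leaf 3562)))))
 (.node (.node (.node (.node (.leaf 3131)
 (.leaf 2725))
 (.node (.leaf 3052)
 (.leaf 1744)))
 (.node (.node (.leaf 2268)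
 (.leaf 3892))
 (.node (.leaf 2584)
 (.leaf 463))))
 (.node (.node (.node (.leaf 412)
 (.leaf 1657))
 (.node (.leaf 1260)
 (.leaf 189)))
 (.node (.node (.leaf 2358)
 (.leaf 719))
 (.node (.leaf 1915)
 (.leaf 909))))))

def tBB17 : RT := .node (.node (.node (.node (.node (.node (.leaf 1351)
 (.leaf 250))
 (.node (.leaf 1091)
 (.leaf 401)))
 (.node (.node (.leaf 3918)
 (.leaf 3161))
 (.node (.leaf 1810)
 (.leaf 2117))))
 (.node (.node (.node (.leaf 3994)
 (.leaf 2719))
 (.node (.leaf 1944)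
 (.leaf 440)))
 (.node (.node (.leaf 470)
 (.leaf 2345))
 (.node (.leaf 576)
 (.leaf 1866)))))
 (.node (.node (.node (.node (.leaf 1002)
 (.leaf 2280))
 (.node (.leaf 3849)
 (.leaf 837)))
 (.node (.node (.leaf 854)
 (.leaf 2092))
 (.node (.leaf 21)
 (.leaf 1044))))
 (.node (.node (.node (.leaf 3274)
 (.leaf 2377))
 (.node (.leaf 3809)
 (.leaf 1341)))
 (.node (.node (.leaf 554)
 (.leaf 1704))
 (.node (.leaf 2542)
 (.leaf 3426))))))
 (.node (.node (.node (.node (.node (.leaf 1242)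
 (.leaf 3169))
 (.node (.leaf 347)
 (.leaf 2694)))
 (.node (.node (.leaf 1524)
 (.leaf 2340))
 (.node (.leaf 2652)
 (.leaf 2255))))
 (.node (.node (.node (.leaf 1304)
 (.leaf 1899))
 (.node (.leaf 550)
 (.leaf 1436)))
 (.node (.node (.leaf 3310)
 (.leaf 963))
 (.node (.leaf 3106)
 (.leaf 3468)))))
 (.node (.node (.node (.node (.leaf 141)
 (.leaf 2194))
 (.node (.leaf 853)
 (.leaf 654)))
 (.node (.node (.leaf 1896)
 (.leaf 2060))
 (.node (.leaf 4010)
 (.leaf 2123))))
 (.node (.node (.node (.leaf 3775)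
 (.leaf 1241))
 (.node (.leaf 1145)
 (.leaf 2158)))
 (.node (.node (.leaf 3558)
 (.leaf 2339))
 (.node (.leaf 3474)
 (.leaf 3529))))))

def tBB18 : RT := .node (.node (.node (.node (.node (.node (.leaf 1802)
 (.leaf 1331))
 (.node (.leaf 1171)
 (.leaf 3580)))
 (.node (.node (.leaf 2196)
 (.leaf 822))
 (.node (.leaf 2059)
 (.leaf 2220))))
 (.node (.node (.node (.leaf 1843)
 (.leaf 1950))
 (.node (.leaf 3112)
 (.leaf 159)))
 (.node (.node (.leaf 943)
 (.leaf 1363))
 (.node (.leaf 1759)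
 (.leaf 213)))))
 (.node (.node (.node (.node (.leaf 2858)
 (.leaf 2800))
 (.node (.leaf 3152)
 (.leaf 1093)))
 (.node (.node (.leaf 682)
 (.leaf 2243))
 (.node (.leaf 1062)
 (.leaf 3988))))
 (.node (.node (.node (.leaf 2557)
 (.leaf 642))
 (.node (.leaf 1340)
 (.leaf 991)))
 (.node (.node (.leaf 4011)
 (.leaf 3232))
 (.node (.leaf 1119)
 (.leaf 3089))))))
 (.node (.node (.node (.node (.node (.leaf 3837)
 (.leaf 1859))
 (.node (.leaf 3195)
 (.leaf 1295)))
 (.node (.node (.leaf 4045)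
 (.leaf 3291))
 (.node (.leaf 3511)
 (.leaf 3166))))
 (.node (.node (.node (.leaf 3180)
 (.leaf 2130))
 (.node (.leaf 1184)
 (.leaf 2396)))
 (.node (.node (.leaf 3428)
 (.leaf 1049))
 (.node (.leaf 3409)
 (.leaf 2238)))))
 (.node (.node (.node (.node (.leaf 94)
 (.leaf 270))
 (.node (.leaf 3121)
 (.leaf 2120)))
 (.node (.node (.leaf 3100)
 (.leaf 968))
 (.node (.leaf 3711)
 (.leaf 3147))))
 (.node (.node (.node (.leaf 482)
 (.leaf 3069))
 (.node (.leaf 2039)
 (.leaf 53)))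
 (.node (.node (.leaf 1629)
 (.leaf 3223))
 (.node (.leaf 3157)
 (.leaf 3464))))))

def tBB19 : RT := .node (.node (.node (.node (.node (.node (.leaf 2245)
 (.leaf 3903))
 (.node (.leaf 2833)
 (.leaf 1430)))
 (.node (.node (.leaf 298)
 (.leaf 176))
 (.node (.leaf 167)
 (.leaf 1374))))
 (.node (.node (.node (.leaf 1573)
 (.leaf 2310))
 (.node (.leaf 1067)
 (.leaf 2360)))
 (.node (.node (.leaf 1042)
 (.leaf 2879))
 (.node (.leaf 4042)
 (.leaf 658)))))
 (.node (.node (.node (.node (.leaf 2767)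
 (.leaf 198))
 (.node (.leaf 529)
 (.leaf 3716)))
 (.node (.node (.leaf 212)
 (.leaf 1585))
 (.node (.leaf 653)
 (.leaf 789))))
 (.node (.node (.node (.leaf 3789)
 (.leaf 2666))
 (.node (.leaf 1904)
 (.leaf 410)))
 (.node (.node (.leaf 697)
 (.leaf 3915))
 (.node (.leaf 2330)
 (.leaf 296))))))
 (.node (.node (.node (.node (.node (.leaf 3571)
 (.leaf 3631))
 (.node (.leaf 1553)
 (.leaf 2366)))
 (.node (.node (.leaf 3862)
 (.leaf 2415))
 (.node (.leaf 1214)
 (.leaf 781))))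
 (.node (.node (.node (.leaf 931)
 (.leaf 1697))
 (.node (.leaf 1765)
 (.leaf 2283)))
 (.node (.node (.leaf 1461)
 (.leaf 1428))
 (.node (.leaf 602)
 (.leaf 907)))))
 (.node (.node (.node (.node (.leaf 202)
 (.leaf 3102))
 (.node (.leaf 1367)
 (.leaf 999)))
 (.node (.node (.leaf 3105)
 (.leaf 2723))
 (.node (.leaf 2923)
 (.leaf 3670))))
 (.node (.node (.node (.leaf 25)
 (.leaf 2646))
 (.node (.leaf 3266)
 (.leaf 1323)))
 (.node (.node (.leaf 3535)
 (.leaf 3819))
 (.node (.leaf 1326)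
 (.leaf 689))))))

def tBB20 : RT := .node (.node (.node (.node (.node (.node (.leaf 1607)
 (.leaf 568))
 (.node (.leaf 2885)
 (.leaf 609)))
 (.node (.node (.leaf 829)
 (.leaf 1139))
 (.node (.leaf 1402)
 (.leaf 2269))))
 (.node (.node (.node (.leaf 1429)
 (.leaf 2633))
 (.node (.leaf 3757)
 (.leaf 3)))
 (.node (.node (.leaf 1649)
 (.leaf 3932))
 (.node (.leaf 3694)
 (.leaf 103)))))
 (.node (.node (.node (.node (.leaf 3101)
 (.leaf 2637))
 (.node (.leaf 1130)
 (.leaf 3542)))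
 (.node (.node (.leaf 2318)
 (.leaf 3227))
 (.node (.leaf 3209)
 (.leaf 2496))))
 (.node (.node (.node (.leaf 1774)
 (.leaf 486))
 (.node (.leaf 3436)
 (.leaf 2685)))
 (.node (.node (.leaf 2019)
 (.leaf 1014))
 (.node (.leaf 3916)
 (.leaf 597))))))
 (.node (.node (.node (.node (.node (.leaf 1096)
 (.leaf 2013))
 (.node (.leaf 2316)
 (.leaf 3533)))
 (.node (.node (.leaf 1253)
 (.leaf 2425))
 (.node (.leaf 3835)
 (.leaf 1319))))
 (.node (.node (.node (.leaf 3869)
 (.leaf 3417))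
 (.node (.leaf 745)
 (.leaf 1885)))
 (.node (.node (.leaf 1588)
 (.leaf 485))
 (.node (.leaf 290)
 (.leaf 2548)))))
 (.node (.node (.node (.node (.leaf 236)
 (.leaf 2876))
 (.node (.leaf 1375)
 (.leaf 720)))
 (.node (.node (.leaf 97)
 (.leaf 2052))
 (.node (.leaf 1647)
 (.leaf 3729))))
 (.node (.node (.node (.leaf 2223)
 (.leaf 2023))
 (.node (.leaf 2755)
 (.leaf 992)))
 (.node (.node (.leaf 1505)
 (.leaf 3987))
 (.node (.leaf 1600)
 (.leaf 1528))))))

def tBB21 : RT := .node (.node (.node (.node (.node (.node (.leaf 1604)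
 (.leaf 3399))
 (.node (.leaf 2142)
 (.leaf 3375)))
 (.node (.node (.leaf 1008)
 (.leaf 1012))
 (.node (.leaf 237)
 (.leaf 889))))
 (.node (.node (.node (.leaf 3824)
 (.leaf 2635))
 (.node (.leaf 2824)
 (.leaf 866)))
 (.node (.node (.leaf 3796)
 (.leaf 3949))
 (.node (.leaf 165)
 (.leaf 1619)))))
 (.node (.node (.node (.node (.leaf 115)
 (.leaf 1709))
 (.node (.leaf 2773)
 (.leaf 1278)))
 (.node (.node (.leaf 3422)
 (.leaf 1958))
 (.node (.leaf 2743)
 (.leaf 1371))))
 (.node (.node (.node (.leaf 1116)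
 (.leaf 879))
 (.node (.leaf 243)
 (.leaf 808)))
 (.node (.node (.leaf 2153)
 (.leaf 2048))
 (.node (.leaf 148)
 (.leaf 3504))))))
 (.node (.node (.node (.node (.node (.leaf 793)
 (.leaf 3272))
 (.node (.leaf 2718)
 (.leaf 3086)))
 (.node (.node (.leaf 123)
 (.leaf 2174))
 (.node (.leaf 1484)
 (.leaf 4003))))
 (.node (.node (.node (.leaf 698)
 (.leaf 397))
 (.node (.leaf 1282)
 (.leaf 1013)))
 (.node (.node (.leaf 1876)
 (.leaf 50))
 (.node (.leaf 878)
 (.leaf 1317)))))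
 (.node (.node (.node (.node (.leaf 427)
 (.leaf 242))
 (.node (.leaf 513)
 (.leaf 2277)))
 (.node (.node (.leaf 473)
 (.leaf 2527))
 (.node (.leaf 3065)
 (.leaf 3294))))
 (.node (.node (.node (.leaf 3828)
 (.leaf 3818))
 (.node (.leaf 610)
 (.leaf 3489)))
 (.node (.node (.leaf 767)
 (.leaf 832))
 (.node (.leaf 1005)
 (.leaf 3009))))))

def tBB22 : RT := .node (.node (.node (.node (.node (.node (.leaf 2607)
 (.leaf 3179))
 (.node (.leaf 2641)
 (.leaf 3290)))
 (.node (.node (.leaf 418)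
 (.leaf 3427))
 (.node (.leaf 2889)
 (.leaf 1699))))
 (.node (.node (.node (.leaf 1959)
 (.leaf 572))
 (.node (.leaf 2970)
 (.leaf 394)))
 (.node (.node (.leaf 2335)
 (.leaf 526))
 (.node (.leaf 3522)
 (.leaf 595)))))
 (.node (.node (.node (.node (.leaf 2809)
 (.leaf 256))
 (.node (.leaf 1990)
 (.leaf 3408)))
 (.node (.node (.leaf 1445)
 (.leaf 3650))
 (.node (.leaf 1215)
 (.leaf 2212))))
 (.node (.node (.node (.leaf 3986)
 (.leaf 1181))
 (.node (.leaf 4028)
 (.leaf 1297)))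
 (.node (.node (.leaf 3746)
 (.leaf 1767))
 (.node (.leaf 1992)
 (.leaf 2482))))))
 (.node (.node (.node (.node (.node (.leaf 802)
 (.leaf 1898))
 (.node (.leaf 36)
 (.leaf 63)))
 (.node (.node (.leaf 3088)
 (.leaf 365))
 (.node (.leaf 3510)
 (.leaf 758))))
 (.node (.node (.node (.leaf 858)
 (.leaf 3443))
 (.node (.leaf 82)
 (.leaf 667)))
 (.node (.node (.leaf 3054)
 (.leaf 3353))
 (.node (.leaf 135)
 (.leaf 3776)))))
 (.node (.node (.node (.node (.leaf 3070)
 (.leaf 908))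
 (.node (.leaf 563)
 (.leaf 291)))
 (.node (.node (.leaf 543)
 (.leaf 1941))
 (.node (.leaf 1358)
 (.leaf 1033))))
 (.node (.node (.node (.leaf 2168)
 (.leaf 994))
 (.node (.leaf 630)
 (.leaf 2290)))
 (.node (.node (.leaf 1052)
 (.leaf 1552))
 (.node (.leaf 2171)
 (.leaf 3954))))))

def tBB23 : RT := .node (.node (.node (.node (.node (.node (.leaf 368)
 (.leaf 534))
 (.node (.leaf 2190)
 (.leaf 2260)))
 (.node (.node (.leaf 279)
 (.leaf 2492))
 (.node (.leaf 1249)
 (.leaf 1229))))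
 (.node (.node (.node (.leaf 2291)
 (.leaf 2221))
 (.node (.leaf 3076)
 (.leaf 3445)))
 (.node (.node (.leaf 2181)
 (.leaf 3366))
 (.node (.leaf 294)
 (.leaf 3494)))))
 (.node (.node (.node (.node (.leaf 735)
 (.leaf 1109))
 (.node (.leaf 3250)
 (.leaf 2933)))
 (.node (.node (.leaf 2610)
 (.leaf 333))
 (.node (.leaf 1993)
 (.leaf 1730))))
 (.node (.node (.node (.leaf 1220)
 (.leaf 3405))
 (.node (.leaf 1733)
 (.leaf 469)))
 (.node (.node (.leaf 624)
 (.leaf 2979))
 (.node (.leaf 353)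
 (.leaf 1532))))))
 (.node (.node (.node (.node (.node (.leaf 2655)
 (.leaf 411))
 (.node (.leaf 2390)
 (.leaf 1339)))
 (.node (.node (.leaf 1589)
 (.leaf 3778))
 (.node (.leaf 1312)
 (.leaf 3539))))
 (.node (.node (.node (.leaf 3727)
 (.leaf 2789))
 (.node (.leaf 1472)
 (.leaf 611)))
 (.node (.node (.leaf 743)
 (.leaf 3509))
 (.node (.leaf 2456)
 (.leaf 2485)))))
 (.node (.node (.node (.node (.leaf 651)
 (.leaf 985))
 (.node (.leaf 116)
 (.leaf 700)))
 (.node (.node (.leaf 181)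
 (.leaf 1038))
 (.node (.leaf 381)
 (.leaf 2045))))
 (.node (.node (.node (.leaf 67)
 (.leaf 2210))
 (.node (.leaf 2466)
 (.leaf 521)))
 (.node (.node (.leaf 1693)
 (.leaf 2299))
 (.node (.leaf 961)
 (.leaf 3008))))))

def tBB24 : RT := .node (.node (.node (.node (.node (.node (.leaf 1781)
 (.leaf 1587))
 (.node (.leaf 30)
 (.leaf 406)))
 (.node (.node (.leaf 3979)
 (.leaf 3143))
 (.node (.leaf 2420)
 (.leaf 2740))))
 (.node (.node (.node (.leaf 3527)
 (.leaf 565))
 (.node (.leaf 494)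
 (.leaf 1690)))
 (.node (.node (.leaf 1907)
 (.leaf 1468))
 (.node (.leaf 1433)
 (.leaf 1817)))))
 (.node (.node (.node (.node (.leaf 3627)
 (.leaf 660))
 (.node (.leaf 3801)
 (.leaf 2738)))
 (.node (.node (.leaf 3618)
 (.leaf 1561))
 (.node (.leaf 1148)
 (.leaf 2073))))
 (.node (.node (.node (.leaf 3687)
 (.leaf 2161))
 (.node (.leaf 2509)
 (.leaf 672)))
 (.node (.node (.leaf 2836)
 (.leaf 1798))
 (.node (.leaf 663)
 (.leaf 2069))))))
 (.node (.node (.node (.node (.node (.leaf 3782)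
 (.leaf 3269))
 (.node (.leaf 1628)
 (.leaf 2675)))
 (.node (.node (.leaf 1835)
 (.leaf 2783))
 (.node (.leaf 2754)
 (.leaf 555))))
 (.node (.node (.node (.leaf 2617)
 (.leaf 1483))
 (.node (.leaf 3840)
 (.leaf 2465)))
 (.node (.node (.leaf 2103)
 (.leaf 955))
 (.node (.leaf 371)
 (.leaf 3927)))))
 (.node (.node (.node (.node (.leaf 1393)
 (.leaf 728))
 (.node (.leaf 3957)
 (.leaf 255)))
 (.node (.node (.leaf 860)
 (.leaf 3710))
 (.node (.leaf 3896)
 (.leaf 3764))))
 (.node (.node (.node (.leaf 2070)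
 (.leaf 169))
 (.node (.leaf 511)
 (.leaf 564)))
 (.node (.node (.leaf 3724)
 (.leaf 1609))
 (.node (.leaf 1095)
 (.leaf 1911))))))

def tBB25 : RT := .node (.node (.node (.node (.node (.node (.leaf 2728)
 (.leaf 3407))
 (.node (.leaf 74)
 (.leaf 307)))
 (.node (.node (.leaf 2376)
 (.leaf 3880))
 (.node (.leaf 2968)
 (.leaf 2781))))
 (.node (.node (.node (.leaf 1633)
 (.leaf 626))
 (.node (.leaf 3146)
 (.leaf 154)))
 (.node (.node (.leaf 1463)
 (.leaf 1028))
 (.node (.leaf 1256)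
 (.leaf 2924)))))
 (.node (.node (.node (.node (.leaf 405)
 (.leaf 445))
 (.node (.leaf 1867)
 (.leaf 3653)))
 (.node (.node (.leaf 3620)
 (.leaf 1227))
 (.node (.leaf 3636)
 (.leaf 3754))))
 (.node (.node (.node (.leaf 3827)
 (.leaf 1547))
 (.node (.leaf 556)
 (.leaf 2863)))
 (.node (.node (.leaf 2760)
 (.leaf 1183))
 (.node (.leaf 3483)
 (.leaf 2510))))))
 (.node (.node (.node (.node (.node (.leaf 707)
 (.leaf 923))
 (.node (.leaf 2921)
 (.leaf 35)))
 (.node (.node (.leaf 1142)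
 (.leaf 3790))
 (.node (.leaf 2135)
 (.leaf 3984))))
 (.node (.node (.node (.leaf 541)
 (.leaf 297))
 (.node (.leaf 1036)
 (.leaf 1687)))
 (.node (.node (.leaf 3990)
 (.leaf 2680))
 (.node (.leaf 2679)
 (.leaf 1084)))))
 (.node (.node (.node (.node (.leaf 1626)
 (.leaf 2215))
 (.node (.leaf 2513)
 (.leaf 2414)))
 (.node (.node (.leaf 1165)
 (.leaf 969))
 (.node (.leaf 3701)
 (.leaf 317))))
 (.node (.node (.node (.leaf 2516)
 (.leaf 4020))
 (.node (.leaf 2570)
 (.leaf 2735)))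
 (.node (.node (.leaf 533)
 (.leaf 3481))
 (.node (.leaf 3847)
 (.leaf 3434))))))

def tBB26 : RT := .node (.node (.node (.node (.node (.node (.leaf 3059)
 (.leaf 1277))
 (.node (.leaf 2450)
 (.leaf 2515)))
 (.node (.node (.leaf 234)
 (.leaf 456))
 (.node (.leaf 3709)
 (.leaf 1831))))
 (.node (.node (.node (.leaf 2319)
 (.leaf 679))
 (.node (.leaf 3416)
 (.leaf 207)))
 (.node (.node (.leaf 2831)
 (.leaf 2594))
 (.node (.leaf 2750)
 (.leaf 3848)))))
 (.node (.node (.node (.node (.leaf 225)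
 (.leaf 1551))
 (.node (.leaf 1997)
 (.leaf 3124)))
 (.node (.node (.leaf 112)
 (.leaf 782))
 (.node (.leaf 893)
 (.leaf 3336))))
 (.node (.node (.node (.leaf 4026)
 (.leaf 1521))
 (.node (.leaf 122)
 (.leaf 2104)))
 (.node (.node (.leaf 84)
 (.leaf 2631))
 (.node (.leaf 162)
 (.leaf 3125))))))
 (.node (.node (.node (.node (.node (.leaf 2185)
 (.leaf 3657))
 (.node (.leaf 3647)
 (.leaf 1660)))
 (.node (.node (.leaf 2183)
 (.leaf 3601))
 (.node (.leaf 2565)
 (.leaf 2071))))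
 (.node (.node (.node (.leaf 1394)
 (.leaf 2850))
 (.node (.leaf 2491)
 (.leaf 3856)))
 (.node (.node (.leaf 1299)
 (.leaf 3479))
 (.node (.leaf 1541)
 (.leaf 191)))))
 (.node (.node (.node (.node (.leaf 3000)
 (.leaf 289))
 (.node (.leaf 3617)
 (.leaf 2578)))
 (.node (.node (.leaf 3735)
 (.leaf 2067))
 (.node (.leaf 4025)
 (.leaf 2720))))
 (.node (.node (.node (.leaf 3976)
 (.leaf 603))
 (.node (.leaf 2365)
 (.leaf 3512)))
 (.node (.node (.leaf 1118)
 (.leaf 3110))
 (.node (.leaf 2363)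
 (.leaf 2656))))))

def tBB27 : RT := .node (.node (.node (.node (.node (.node (.leaf 3750)
 (.leaf 508))
 (.node (.leaf 2086)
 (.leaf 3277)))
 (.node (.node (.leaf 1120)
 (.leaf 3268))
 (.node (.leaf 303)
 (.leaf 3606))))
 (.node (.node (.node (.leaf 2357)
 (.leaf 1571))
 (.node (.leaf 1424)
 (.leaf 548)))
 (.node (.node (.leaf 3320)
 (.leaf 1678))
 (.node (.leaf 1599)
 (.leaf 2328)))))
 (.node (.node (.node (.node (.leaf 1525)
 (.leaf 818))
 (.node (.leaf 3584)
 (.leaf 752)))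
 (.node (.node (.leaf 2408)
 (.leaf 1665))
 (.node (.leaf 3321)
 (.leaf 3304))))
 (.node (.node (.node (.leaf 711)
 (.leaf 2007))
 (.node (.leaf 1398)
 (.leaf 3183)))
 (.node (.node (.leaf 2917)
 (.leaf 962))
 (.node (.leaf 224)
 (.leaf 1694))))))
 (.node (.node (.node (.node (.node (.leaf 2199)
 (.leaf 3587))
 (.node (.leaf 825)
 (.leaf 2626)))
 (.node (.node (.leaf 267)
 (.leaf 344))
 (.node (.leaf 3170)
 (.leaf 2874))))
 (.node (.node (.node (.leaf 3154)
 (.leaf 3258))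
 (.node (.leaf 2009)
 (.leaf 3482)))
 (.node (.node (.leaf 919)
 (.leaf 1738))
 (.node (.leaf 840)
 (.leaf 399)))))
 (.node (.node (.node (.node (.leaf 209)
 (.leaf 3557))
 (.node (.leaf 3853)
 (.leaf 1517)))
 (.node (.node (.leaf 2778)
 (.leaf 3537))
 (.node (.leaf 3027)
 (.leaf 2713))))
 (.node (.node (.node (.leaf 831)
 (.leaf 606))
 (.node (.leaf 569)
 (.leaf 2202)))
 (.node (.node (.leaf 1643)
 (.leaf 3975))
 (.node (.leaf 778)
 (.leaf 3714))))))

def tBB28 : RT := .node (.node (.node (.node (.node (.node (.leaf 1048)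
 (.leaf 1861))
 (.node (.leaf 814)
 (.leaf 1985)))
 (.node (.node (.leaf 152)
 (.leaf 2934))
 (.node (.leaf 2519)
 (.leaf 33))))
 (.node (.node (.node (.leaf 3097)
 (.leaf 3433))
 (.node (.leaf 3085)
 (.leaf 3926)))
 (.node (.node (.leaf 3963)
 (.leaf 589))
 (.node (.leaf 1983)
 (.leaf 3095)))))
 (.node (.node (.node (.node (.leaf 2085)
 (.leaf 3314))
 (.node (.leaf 1071)
 (.leaf 1967)))
 (.node (.node (.leaf 1455)
 (.leaf 3836))
 (.node (.leaf 2214)
 (.leaf 3551))))
 (.node (.node (.node (.leaf 1466)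
 (.leaf 1828))
 (.node (.leaf 738)
 (.leaf 2956)))
 (.node (.node (.leaf 3651)
 (.leaf 80))
 (.node (.leaf 2236)
 (.leaf 119))))))
 (.node (.node (.node (.node (.node (.leaf 2640)
 (.leaf 2388))
 (.node (.leaf 1202)
 (.leaf 1434)))
 (.node (.node (.leaf 2399)
 (.leaf 1968))
 (.node (.leaf 2437)
 (.leaf 3858))))
 (.node (.node (.node (.leaf 2254)
 (.leaf 1344))
 (.node (.leaf 622)
 (.leaf 2959)))
 (.node (.node (.leaf 3887)
 (.leaf 914))
 (.node (.leaf 1440)
 (.leaf 2769)))))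
 (.node (.node (.node (.node (.leaf 2111)
 (.leaf 4021))
 (.node (.leaf 2589)
 (.leaf 2305)))
 (.node (.node (.leaf 2669)
 (.leaf 1321))
 (.node (.leaf 3245)
 (.leaf 1222))))
 (.node (.node (.node (.leaf 1360)
 (.leaf 848))
 (.node (.leaf 1392)
 (.leaf 3421)))
 (.node (.node (.leaf 1405)
 (.leaf 1310))
 (.node (.leaf 217)
 (.leaf 1009))))))

def tBB29 : RT := .node (.node (.node (.node (.node (.node (.leaf 58)
 (.leaf 1320))
 (.node (.leaf 3344)
 (.leaf 949)))
 (.node (.node (.leaf 2072)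
 (.leaf 93))
 (.node (.leaf 1888)
 (.leaf 1972))))
 (.node (.node (.node (.leaf 282)
 (.leaf 2334))
 (.node (.leaf 1026)
 (.leaf 3861)))
 (.node (.node (.leaf 1021)
 (.leaf 3475))
 (.node (.leaf 4047)
 (.leaf 2369)))))
 (.node (.node (.node (.node (.leaf 283)
 (.leaf 1489))
 (.node (.leaf 1074)
 (.leaf 3968)))
 (.node (.node (.leaf 1987)
 (.leaf 796))
 (.node (.leaf 3307)
 (.leaf 2140))))
 (.node (.node (.node (.leaf 187)
 (.leaf 2758))
 (.node (.leaf 3771)
 (.leaf 1305)))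
 (.node (.node (.leaf 2056)
 (.leaf 958))
 (.node (.leaf 902)
 (.leaf 179))))))
 (.node (.node (.node (.node (.node (.leaf 220)
 (.leaf 124))
 (.node (.leaf 3811)
 (.leaf 3149)))
 (.node (.node (.leaf 1258)
 (.leaf 960))
 (.node (.leaf 1296)
 (.leaf 442))))
 (.node (.node (.node (.leaf 328)
 (.leaf 4052))
 (.node (.leaf 2497)
 (.leaf 965)))
 (.node (.node (.leaf 3599)
 (.leaf 1152))
 (.node (.leaf 2875)
 (.leaf 2346)))))
 (.node (.node (.node (.node (.leaf 1325)
 (.leaf 3130))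
 (.node (.leaf 459)
 (.leaf 742)))
 (.node (.node (.leaf 3486)
 (.leaf 269))
 (.node (.leaf 2128)
 (.leaf 2714))))
 (.node (.node (.node (.leaf 869)
 (.leaf 3859))
 (.node (.leaf 2088)
 (.leaf 3338)))
 (.node (.node (.leaf 824)
 (.leaf 2531))
 (.node (.leaf 2386)
 (.leaf 2762))))))

def tBB30 : RT := .node (.node (.node (.node (.node (.node (.leaf 990)
 (.leaf 369))
 (.node (.leaf 2352)
 (.leaf 2028)))
 (.node (.node (.leaf 3923)
 (.leaf 801))
 (.node (.leaf 4056)
 (.leaf 3795))))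
 (.node (.node (.node (.leaf 1099)
 (.leaf 3393))
 (.node (.leaf 1447)
 (.leaf 1712)))
 (.node (.node (.leaf 4029)
 (.leaf 1089))
 (.node (.leaf 3279)
 (.leaf 1206)))))
 (.node (.node (.node (.node (.leaf 2296)
 (.leaf 2869))
 (.node (.leaf 3178)
 (.leaf 704)))
 (.node (.node (.leaf 2166)
 (.leaf 1581))
 (.node (.leaf 2391)
 (.leaf 2317))))
 (.node (.node (.node (.leaf 830)
 (.leaf 915))
 (.node (.leaf 461)
 (.leaf 2840)))
 (.node (.node (.leaf 386)
 (.leaf 1385))
 (.node (.leaf 2192)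
 (.leaf 1750))))))
 (.node (.node (.node (.node (.node (.leaf 2324)
 (.leaf 1882))
 (.node (.leaf 3459)
 (.leaf 2627)))
 (.node (.node (.leaf 686)
 (.leaf 1383))
 (.node (.leaf 833)
 (.leaf 3122))))
 (.node (.node (.node (.leaf 761)
 (.leaf 784))
 (.node (.leaf 144)
 (.leaf 2132)))
 (.node (.node (.leaf 2598)
 (.leaf 540))
 (.node (.leaf 1870)
 (.leaf 549)))))
 (.node (.node (.node (.node (.leaf 1490)
 (.leaf 2262))
 (.node (.leaf 3591)
 (.leaf 3734)))
 (.node (.node (.leaf 3575)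
 (.leaf 3334))
 (.node (.leaf 3947)
 (.leaf 1995))))
 (.node (.node (.node (.leaf 1722)
 (.leaf 1415))
 (.node (.leaf 1105)
 (.leaf 2276)))
 (.node (.node (.leaf 1725)
 (.leaf 3214))
 (.node (.leaf 3961)
 (.leaf 1376))))))

def tBB31 : RT := .node (.node (.node (.node (.node (.node (.leaf 2528)
 (.leaf 3041))
 (.node (.leaf 96)
 (.leaf 3164)))
 (.node (.node (.leaf 3181)
 (.leaf 1160))
 (.node (.leaf 725)
 (.leaf 3719))))
 (.node (.node (.node (.leaf 3137)
 (.leaf 2373))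
 (.node (.leaf 478)
 (.leaf 1914)))
 (.node (.node (.leaf 3322)
 (.leaf 1496))
 (.node (.leaf 3286)
 (.leaf 3372)))))
 (.node (.node (.node (.node (.leaf 3477)
 (.leaf 2234))
 (.node (.leaf 921)
 (.leaf 3523)))
 (.node (.node (.leaf 1832)
 (.leaf 285))
 (.node (.leaf 3922)
 (.leaf 780))))
 (.node (.node (.node (.leaf 4057)
 (.leaf 3659))
 (.node (.leaf 1927)
 (.leaf 2701)))
 (.node (.node (.leaf 3404)
 (.leaf 3974))
 (.node (.leaf 2644)
 (.leaf 2761))))))
 (.node (.node (.node (.node (.node (.leaf 3973)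
 (.leaf 726))
 (.node (.leaf 132)
 (.leaf 1827)))
 (.node (.node (.leaf 2717)
 (.leaf 113))
 (.node (.leaf 313)
 (.leaf 3360))))
 (.node (.node (.node (.leaf 3884)
 (.leaf 3490))
 (.node (.leaf 3712)
 (.leaf 2110)))
 (.node (.node (.leaf 709)
 (.leaf 820))
 (.node (.leaf 2205)
 (.leaf 3108)))))
 (.node (.node (.node (.node (.leaf 264)
 (.leaf 2915))
 (.node (.leaf 766)
 (.leaf 3673)))
 (.node (.node (.leaf 1762)
 (.leaf 3004))
 (.node (.leaf 3946)
 (.leaf 2821))))
 (.node (.node (.node (.leaf 703)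
 (.leaf 1789))
 (.node (.leaf 222)
 (.leaf 1438)))
 (.node (.node (.leaf 2974)
 (.leaf 3354))
 (.node (.leaf 1841)
 (.leaf 623))))))

def tBB32 : RT := .node (.node (.node (.node (.node (.node (.leaf 3543)
 (.leaf 2147))
 (.node (.leaf 1248)
 (.leaf 3970)))
 (.node (.node (.leaf 2383)
 (.leaf 32))
 (.node (.leaf 3297)
 (.leaf 897))))
 (.node (.node (.node (.leaf 755)
 (.leaf 1188))
 (.node (.leaf 155)
 (.leaf 382)))
 (.node (.node (.leaf 1908)
 (.leaf 1930))
 (.node (.leaf 2677)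
 (.leaf 3371)))))
 (.node (.node (.node (.node (.leaf 1752)
 (.leaf 3081))
 (.node (.leaf 2427)
 (.leaf 2911)))
 (.node (.node (.leaf 12)
 (.leaf 206))
 (.node (.leaf 3514)
 (.leaf 2186))))
 (.node (.node (.node (.leaf 3909)
 (.leaf 1684))
 (.node (.leaf 834)
 (.leaf 1196)))
 (.node (.node (.leaf 2428)
 (.leaf 390))
 (.node (.leaf 3937)
 (.leaf 1768))))))
 (.node (.node (.node (.node (.node (.leaf 1384)
 (.leaf 1811))
 (.node (.leaf 1261)
 (.leaf 900)))
 (.node (.node (.leaf 1259)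
 (.leaf 2257))
 (.node (.leaf 1043)
 (.leaf 2410))))
 (.node (.node (.node (.leaf 3238)
 (.leaf 3473))
 (.node (.leaf 1092)
 (.leaf 229)))
 (.node (.node (.leaf 2229)
 (.leaf 402))
 (.node (.leaf 2138)
 (.leaf 1574)))))
 (.node (.node (.node (.node (.leaf 868)
 (.leaf 2987))
 (.node (.leaf 2447)
 (.leaf 1564)))
 (.node (.node (.leaf 2453)
 (.leaf 1840))
 (.node (.leaf 2146)
 (.leaf 1055))))
 (.node (.node (.node (.leaf 2490)
 (.leaf 852))
 (.node (.leaf 3913)
 (.leaf 2845)))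
 (.node (.node (.leaf 460)
 (.leaf 3799))
 (.node (.leaf 1231)
 (.leaf 1916))))))

def tBB33 : RT := .node (.node (.node (.node (.node (.node (.leaf 1742)
 (.leaf 3500))
 (.node (.leaf 2364)
 (.leaf 751)))
 (.node (.node (.leaf 244)
 (.leaf 240))
 (.node (.leaf 2572)
 (.leaf 2992))))
 (.node (.node (.node (.leaf 2201)
 (.leaf 3556))
 (.node (.leaf 3507)
 (.leaf 2890)))
 (.node (.node (.leaf 3469)
 (.leaf 2947))
 (.node (.leaf 1332)
 (.leaf 284)))))
 (.node (.node (.node (.node (.leaf 685)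
 (.leaf 1027))
 (.node (.leaf 1673)
 (.leaf 1655)))
 (.node (.node (.leaf 1217)
 (.leaf 2806))
 (.node (.leaf 2830)
 (.leaf 2905))))
 (.node (.node (.node (.leaf 4040)
 (.leaf 2040))
 (.node (.leaf 2549)
 (.leaf 1327)))
 (.node (.node (.leaf 1031)
 (.leaf 2819))
 (.node (.leaf 2997)
 (.leaf 1406))))))
 (.node (.node (.node (.node (.node (.leaf 3821)
 (.leaf 913))
 (.node (.leaf 3319)
 (.leaf 3396)))
 (.node (.node (.leaf 951)
 (.leaf 618))
 (.node (.leaf 490)
 (.leaf 1906))))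
 (.node (.node (.node (.leaf 1848)
 (.leaf 3231))
 (.node (.leaf 3220)
 (.leaf 3925)))
 (.node (.node (.leaf 1590)
 (.leaf 2659))
 (.node (.leaf 3901)
 (.leaf 3958)))))
 (.node (.node (.node (.node (.leaf 2380)
 (.leaf 1895))
 (.node (.leaf 3607)
 (.leaf 1922)))
 (.node (.node (.leaf 530)
 (.leaf 376))
 (.node (.leaf 634)
 (.leaf 518))))
 (.node (.node (.node (.leaf 1746)
 (.leaf 2568))
 (.node (.leaf 1809)
 (.leaf 2812)))
 (.node (.node (.leaf 2776)
 (.leaf 2558))
 (.node (.leaf 3919)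
 (.leaf 69))))))

def tBB34 : RT := .node (.node (.node (.node (.node (.node (.leaf 1839)
 (.leaf 2139))
 (.node (.leaf 1938)
 (.leaf 2784)))
 (.node (.node (.leaf 2929)
 (.leaf 3758))
 (.node (.leaf 2278)
 (.leaf 2916))))
 (.node (.node (.node (.leaf 3520)
 (.leaf 3857))
 (.node (.leaf 251)
 (.leaf 2893)))
 (.node (.node (.leaf 2489)
 (.leaf 614))
 (.node (.leaf 3866)
 (.leaf 3833)))))
 (.node (.node (.node (.node (.leaf 905)
 (.leaf 1945))
 (.node (.leaf 2686)
 (.leaf 3239)))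
 (.node (.node (.leaf 690)
 (.leaf 2154))
 (.node (.leaf 352)
 (.leaf 3028))))
 (.node (.node (.node (.leaf 3205)
 (.leaf 375))
 (.node (.leaf 2746)
 (.leaf 2271)))
 (.node (.node (.leaf 1829)
 (.leaf 407))
 (.node (.leaf 638)
 (.leaf 3047))))))
 (.node (.node (.node (.node (.node (.leaf 2362)
 (.leaf 2861))
 (.node (.leaf 88)
 (.leaf 4023)))
 (.node (.node (.leaf 334)
 (.leaf 1550))
 (.node (.leaf 1615)
 (.leaf 500))))
 (.node (.node (.node (.leaf 2055)
 (.leaf 173))
 (.node (.leaf 1176)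
 (.leaf 1237)))
 (.node (.node (.leaf 3050)
 (.leaf 2721))
 (.node (.leaf 1691)
 (.leaf 1459)))))
 (.node (.node (.node (.node (.leaf 1192)
 (.leaf 3779))
 (.node (.leaf 1173)
 (.leaf 79)))
 (.node (.node (.leaf 1879)
 (.leaf 426))
 (.node (.leaf 723)
 (.leaf 2847))))
 (.node (.node (.node (.leaf 2951)
 (.leaf 2148))
 (.node (.leaf 2213)
 (.leaf 1913)))
 (.node (.node (.leaf 3874)
 (.leaf 22))
 (.node (.leaf 819)
 (.leaf 1825))))))

def tBB35 : RT := .node (.node (.node (.node (.node (.node (.leaf 3358)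
 (.leaf 2764))
 (.node (.leaf 1645)
 (.leaf 1399)))
 (.node (.node (.leaf 4014)
 (.leaf 241))
 (.node (.leaf 308)
 (.leaf 3674))))
 (.node (.node (.node (.leaf 983)
 (.leaf 3165))
 (.node (.leaf 3331)
 (.leaf 3111)))
 (.node (.node (.leaf 161)
 (.leaf 1919))
 (.node (.leaf 3891)
 (.leaf 1745)))))
 (.node (.node (.node (.node (.leaf 3329)
 (.leaf 1706))
 (.node (.leaf 488)
 (.leaf 1144)))
 (.node (.node (.leaf 1107)
 (.leaf 1912))
 (.node (.leaf 1756)
 (.leaf 2287))))
 (.node (.node (.node (.leaf 765)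
 (.leaf 3972))
 (.node (.leaf 1024)
 (.leaf 184)))
 (.node (.node (.leaf 1034)
 (.leaf 1918))
 (.node (.leaf 1884)
 (.leaf 1606))))))
 (.node (.node (.node (.node (.node (.leaf 1205)
 (.leaf 3797))
 (.node (.leaf 226)
 (.leaf 615)))
 (.node (.node (.leaf 3938)
 (.leaf 3554))
 (.node (.leaf 1381)
 (.leaf 2704))))
 (.node (.node (.node (.leaf 693)
 (.leaf 4053))
 (.node (.leaf 674)
 (.leaf 3652)))
 (.node (.node (.leaf 2877)
 (.leaf 1653))
 (.node (.leaf 3333)
 (.leaf 2896)))))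
 (.node (.node (.node (.node (.leaf 2829)
 (.leaf 2912))
 (.node (.leaf 1855)
 (.leaf 2301)))
 (.node (.node (.leaf 2266)
 (.leaf 3023))
 (.node (.leaf 3020)
 (.leaf 1281))))
 (.node (.node (.node (.leaf 246)
 (.leaf 557))
 (.node (.leaf 1554)
 (.leaf 4031)))
 (.node (.node (.leaf 2400)
 (.leaf 1846))
 (.node (.leaf 210)
 (.leaf 2918))))))

def tBB36 : RT := .node (.node (.node (.node (.node (.node (.leaf 78)
 (.leaf 338))
 (.node (.leaf 1487)
 (.leaf 3602)))
 (.node (.node (.leaf 3413)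
 (.leaf 3350))
 (.node (.leaf 3387)
 (.leaf 66))))
 (.node (.node (.node (.leaf 2523)
 (.leaf 1556))
 (.node (.leaf 953)
 (.leaf 1800)))
 (.node (.node (.leaf 1497)
 (.leaf 3787))
 (.node (.leaf 970)
 (.leaf 669)))))
 (.node (.node (.node (.node (.leaf 139)
 (.leaf 3048))
 (.node (.leaf 714)
 (.leaf 2083)))
 (.node (.node (.leaf 3444)
 (.leaf 258))
 (.node (.leaf 1836)
 (.leaf 1679))))
 (.node (.node (.node (.leaf 395)
 (.leaf 3825))
 (.node (.leaf 3493)
 (.leaf 2663)))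
 (.node (.node (.leaf 3656)
 (.leaf 748))
 (.node (.leaf 652)
 (.leaf 2552))))))
 (.node (.node (.node (.node (.node (.leaf 3414)
 (.leaf 691))
 (.node (.leaf 145)
 (.leaf 2514)))
 (.node (.node (.leaf 2094)
 (.leaf 70))
 (.node (.leaf 757)
 (.leaf 3675))))
 (.node (.node (.node (.leaf 492)
 (.leaf 2389))
 (.node (.leaf 362)
 (.leaf 2792)))
 (.node (.node (.leaf 538)
 (.leaf 1940))
 (.node (.leaf 3908)
 (.leaf 1030)))))
 (.node (.node (.node (.node (.leaf 2902)
 (.leaf 1366))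
 (.node (.leaf 790)
 (.leaf 520)))
 (.node (.node (.leaf 2119)
 (.leaf 73))
 (.node (.leaf 2771)
 (.leaf 3456))))
 (.node (.node (.node (.leaf 2814)
 (.leaf 918))
 (.node (.leaf 1971)
 (.leaf 1336)))
 (.node (.node (.leaf 3343)
 (.leaf 2307))
 (.node (.leaf 505)
 (.leaf 3810))))))

def tBB37 : RT := .node (.node (.node (.node (.node (.node (.leaf 2590)
 (.leaf 2036))
 (.node (.leaf 3745)
 (.leaf 39)))
 (.node (.node (.leaf 573)
 (.leaf 316))
 (.node (.leaf 718)
 (.leaf 812))))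
 (.node (.node (.node (.leaf 3696)
 (.leaf 2500))
 (.node (.leaf 3117)
 (.leaf 2621)))
 (.node (.node (.leaf 3264)
 (.leaf 3225))
 (.node (.leaf 3983)
 (.leaf 100)))))
 (.node (.node (.node (.node (.leaf 1175)
 (.leaf 3248))
 (.node (.leaf 3576)
 (.leaf 807)))
 (.node (.node (.leaf 2942)
 (.leaf 2517))
 (.node (.leaf 3046)
 (.leaf 3831))))
 (.node (.node (.node (.leaf 3817)
 (.leaf 1754))
 (.node (.leaf 2418)
 (.leaf 604)))
 (.node (.node (.leaf 984)
 (.leaf 1656))
 (.node (.leaf 1577)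
 (.leaf 2309))))))
 (.node (.node (.node (.node (.node (.leaf 562)
 (.leaf 1306))
 (.node (.leaf 1772)
 (.leaf 850)))
 (.node (.node (.leaf 2683)
 (.leaf 2074))
 (.node (.leaf 2582)
 (.leaf 2736))))
 (.node (.node (.node (.leaf 917)
 (.leaf 648))
 (.node (.leaf 664)
 (.leaf 1586)))
 (.node (.node (.leaf 142)
 (.leaf 1935))
 (.node (.leaf 3093)
 (.leaf 1169)))))
 (.node (.node (.node (.node (.leaf 2371)
 (.leaf 702))
 (.node (.leaf 193)
 (.leaf 1083)))
 (.node (.node (.leaf 2928)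
 (.leaf 2678))
 (.node (.leaf 579)
 (.leaf 2322))))
 (.node (.node (.node (.leaf 1661)
 (.leaf 105))
 (.node (.leaf 911)
 (.leaf 571)))
 (.node (.node (.leaf 612)
 (.leaf 3622))
 (.node (.leaf 2203)
 (.leaf 1209))))))

def tBB38 : RT := .node (.node (.node (.node (.node (.node (.leaf 1115)
 (.leaf 523))
 (.node (.leaf 3458)
 (.leaf 2797)))
 (.node (.node (.leaf 1257)
 (.leaf 29))
 (.node (.leaf 1172)
 (.leaf 1228))))
 (.node (.node (.node (.leaf 1131)
 (.leaf 2448))
 (.node (.leaf 1529)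
 (.leaf 1584)))
 (.node (.node (.leaf 2702)
 (.leaf 1508))
 (.node (.leaf 1449)
 (.leaf 3255)))))
 (.node (.node (.node (.node (.leaf 3370)
 (.leaf 1579))
 (.node (.leaf 3191)
 (.leaf 149)))
 (.node (.node (.leaf 370)
 (.leaf 91))
 (.node (.leaf 2532)
 (.leaf 1128))))
 (.node (.node (.node (.leaf 3718)
 (.leaf 3944))
 (.node (.leaf 2471)
 (.leaf 2443)))
 (.node (.node (.leaf 2235)
 (.leaf 3193))
 (.node (.leaf 2611)
 (.leaf 2787))))))
 (.node (.node (.node (.node (.node (.leaf 4004)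
 (.leaf 4050))
 (.node (.leaf 1040)
 (.leaf 201)))
 (.node (.node (.leaf 2152)
 (.leaf 1207))
 (.node (.leaf 2661)
 (.leaf 1493))))
 (.node (.node (.node (.leaf 273)
 (.leaf 1191))
 (.node (.leaf 906)
 (.leaf 1364)))
 (.node (.node (.leaf 1370)
 (.leaf 75))
 (.node (.leaf 981)
 (.leaf 2306)))))
 (.node (.node (.node (.node (.leaf 1397)
 (.leaf 3061))
 (.node (.leaf 1794)
 (.leaf 1322)))
 (.node (.node (.leaf 2811)
 (.leaf 2097))
 (.node (.leaf 190)
 (.leaf 838))))
 (.node (.node (.node (.leaf 3235)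
 (.leaf 2478))
 (.node (.leaf 2222)
 (.leaf 99)))
 (.node (.node (.leaf 166)
 (.leaf 2547))
 (.node (.leaf 3318)
 (.leaf 2433))))))

def tBB39 : RT := .node (.node (.node (.node (.node (.node (.leaf 1298)
 (.leaf 2990))
 (.node (.leaf 3570)
 (.leaf 2114)))
 (.node (.node (.leaf 721)
 (.leaf 387))
 (.node (.leaf 432)
 (.leaf 3844))))
 (.node (.node (.node (.leaf 3196)
 (.leaf 2077))
 (.node (.leaf 2355)
 (.leaf 1395)))
 (.node (.node (.leaf 676)
 (.leaf 1937))
 (.node (.leaf 2562)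
 (.leaf 1696)))))
 (.node (.node (.node (.node (.leaf 2862)
 (.leaf 2295))
 (.node (.leaf 1960)
 (.leaf 1345)))
 (.node (.node (.leaf 3067)
 (.leaf 2125))
 (.node (.leaf 324)
 (.leaf 2536))))
 (.node (.node (.node (.leaf 1917)
 (.leaf 2538))
 (.node (.leaf 322)
 (.leaf 1507)))
 (.node (.node (.leaf 2788)
 (.leaf 1506))
 (.node (.leaf 1180)
 (.leaf 896))))))
 (.node (.node (.node (.node (.node (.leaf 3952)
 (.leaf 593))
 (.node (.leaf 1159)
 (.leaf 2808)))
 (.node (.node (.leaf 3928)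
 (.leaf 631))
 (.node (.leaf 2595)
 (.leaf 2224))))
 (.node (.node (.node (.leaf 3073)
 (.leaf 3345))
 (.node (.leaf 1102)
 (.leaf 3361)))
 (.node (.node (.leaf 772)
 (.leaf 1357))
 (.node (.leaf 3743)
 (.leaf 3357)))))
 (.node (.node (.node (.node (.leaf 2604)
 (.leaf 3662))
 (.node (.leaf 1361)
 (.leaf 380)))
 (.node (.node (.leaf 107)
 (.leaf 3865))
 (.node (.leaf 87)
 (.leaf 729))))
 (.node (.node (.node (.leaf 1786)
 (.leaf 3455))
 (.node (.leaf 3924)
 (.leaf 1431)))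
 (.node (.node (.leaf 964)
 (.leaf 2172))
 (.node (.leaf 3518)
 (.leaf 1698))))))

def tBB40 : RT := .node (.node (.node (.node (.node (.node (.leaf 2591)
 (.leaf 2353))
 (.node (.leaf 425)
 (.leaf 3466)))
 (.node (.node (.leaf 329)
 (.leaf 1330))
 (.node (.leaf 2844)
 (.leaf 3604))))
 (.node (.node (.node (.leaf 3759)
 (.leaf 2241))
 (.node (.leaf 640)
 (.leaf 769)))
 (.node (.node (.leaf 1703)
 (.leaf 2325))
 (.node (.leaf 2564)
 (.leaf 1720)))))
 (.node (.node (.node (.node (.leaf 301)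
 (.leaf 3160))
 (.node (.leaf 2880)
 (.leaf 2409)))
 (.node (.node (.leaf 586)
 (.leaf 453))
 (.node (.leaf 3192)
 (.leaf 248))))
 (.node (.node (.node (.leaf 1243)
 (.leaf 2445))
 (.node (.leaf 2774)
 (.leaf 306)))
 (.node (.node (.leaf 1427)
 (.leaf 3440))
 (.node (.leaf 3391)
 (.leaf 3792))))))
 (.node (.node (.node (.node (.node (.leaf 3256)
 (.leaf 2909))
 (.node (.leaf 3525)
 (.leaf 3045)))
 (.node (.node (.leaf 3119)
 (.leaf 1411))
 (.node (.leaf 777)
 (.leaf 4049))))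
 (.node (.node (.node (.leaf 1956)
 (.leaf 457))
 (.node (.leaf 1032)
 (.leaf 1141)))
 (.node (.node (.leaf 926)
 (.leaf 211))
 (.node (.leaf 774)
 (.leaf 2107)))))
 (.node (.node (.node (.node (.leaf 2996)
 (.leaf 2000))
 (.node (.leaf 1064)
 (.leaf 946)))
 (.node (.node (.leaf 1642)
 (.leaf 389))
 (.node (.leaf 1342)
 (.leaf 575))))
 (.node (.node (.node (.leaf 3265)
 (.leaf 539))
 (.node (.leaf 126)
 (.leaf 3228)))
 (.node (.node (.leaf 647)
 (.leaf 1458))
 (.node (.leaf 1572)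
 (.leaf 3296))))))

def tBB41 : RT := .node (.node (.node (.node (.node (.node (.leaf 1272)
 (.leaf 160))
 (.node (.leaf 288)
 (.leaf 2237)))
 (.node (.node (.leaf 3681)
 (.leaf 1736))
 (.node (.leaf 4041)
 (.leaf 3341))))
 (.node (.node (.node (.leaf 3648)
 (.leaf 2988))
 (.node (.leaf 2312)
 (.leaf 1947)))
 (.node (.node (.leaf 414)
 (.leaf 3906))
 (.node (.leaf 815)
 (.leaf 952)))))
 (.node (.node (.node (.node (.leaf 452)
 (.leaf 2248))
 (.node (.leaf 1343)
 (.leaf 1520)))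
 (.node (.node (.leaf 3038)
 (.leaf 129))
 (.node (.leaf 1287)
 (.leaf 3254))))
 (.node (.node (.node (.leaf 2029)
 (.leaf 2786))
 (.node (.leaf 2164)
 (.leaf 637)))
 (.node (.node (.leaf 3879)
 (.leaf 2384))
 (.node (.leaf 3107)
 (.leaf 1457))))))
 (.node (.node (.node (.node (.node (.leaf 899)
 (.leaf 3270))
 (.node (.leaf 959)
 (.leaf 741)))
 (.node (.node (.leaf 930)
 (.leaf 4030))
 (.node (.leaf 2065)
 (.leaf 2441))))
 (.node (.node (.node (.leaf 3241)
 (.leaf 3594))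
 (.node (.leaf 2022)
 (.leaf 939)))
 (.node (.node (.leaf 1453)
 (.leaf 3563))
 (.node (.leaf 3616)
 (.leaf 3654)))))
 (.node (.node (.node (.node (.leaf 3021)
 (.leaf 1729))
 (.node (.leaf 2424)
 (.leaf 890)))
 (.node (.node (.leaf 2613)
 (.leaf 2134))
 (.node (.leaf 2839)
 (.leaf 321))))
 (.node (.node (.node (.leaf 3532)
 (.leaf 2446))
 (.node (.leaf 3672)
 (.leaf 2035)))
 (.node (.node (.leaf 2940)
 (.leaf 245))
 (.node (.leaf 2838)
 (.leaf 2226))))))

def tBB42 : RT := .node (.node (.node (.node (.node (.node (.leaf 3707)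
 (.leaf 3502))
 (.node (.leaf 496)
 (.leaf 3271)))
 (.node (.node (.leaf 4015)
 (.leaf 40))
 (.node (.leaf 1324)
 (.leaf 910))))
 (.node (.node (.node (.leaf 2124)
 (.leaf 2546))
 (.node (.leaf 2304)
 (.leaf 419)))
 (.node (.node (.leaf 3640)
 (.leaf 2892))
 (.node (.leaf 45)
 (.leaf 3437)))))
 (.node (.node (.node (.node (.leaf 3660)
 (.leaf 3784))
 (.node (.leaf 616)
 (.leaf 1019)))
 (.node (.node (.leaf 3126)
 (.leaf 811))
 (.node (.leaf 109)
 (.leaf 3109))))
 (.node (.node (.node (.leaf 1878)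
 (.leaf 2207))
 (.node (.leaf 2179)
 (.leaf 809)))
 (.node (.node (.leaf 2834)
 (.leaf 2481))
 (.node (.leaf 643)
 (.leaf 228))))))
 (.node (.node (.node (.node (.node (.leaf 3359)
 (.leaf 3234))
 (.node (.leaf 1163)
 (.leaf 2794)))
 (.node (.node (.leaf 1981)
 (.leaf 795))
 (.node (.leaf 186)
 (.leaf 2671))))
 (.node (.node (.node (.leaf 2003)
 (.leaf 1667))
 (.node (.leaf 3118)
 (.leaf 3969)))
 (.node (.node (.leaf 3007)
 (.leaf 1929))
 (.node (.leaf 3090)
 (.leaf 737)))))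
 (.node (.node (.node (.node (.leaf 3773)
 (.leaf 3894))
 (.node (.leaf 196)
 (.leaf 2650)))
 (.node (.node (.leaf 1644)
 (.leaf 3702))
 (.node (.leaf 2367)
 (.leaf 2790))))
 (.node (.node (.node (.leaf 499)
 (.leaf 1652))
 (.node (.leaf 259)
 (.leaf 1365)))
 (.node (.node (.leaf 1540)
 (.leaf 1731))
 (.node (.leaf 1059)
 (.leaf 2955))))))

def tBB43 : RT := .node (.node (.node (.node (.node (.node (.leaf 1149)
 (.leaf 2820))
 (.node (.leaf 385)
 (.leaf 2752)))
 (.node (.node (.leaf 3633)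
 (.leaf 295))
 (.node (.leaf 756)
 (.leaf 3247))))
 (.node (.node (.node (.leaf 3356)
 (.leaf 2331))
 (.node (.leaf 2603)
 (.leaf 2920)))
 (.node (.node (.leaf 4)
 (.leaf 1868))
 (.node (.leaf 3103)
 (.leaf 3593)))))
 (.node (.node (.node (.node (.leaf 2281)
 (.leaf 1791))
 (.node (.leaf 1928)
 (.leaf 3621)))
 (.node (.node (.leaf 2308)
 (.leaf 2075))
 (.node (.leaf 1)
 (.leaf 2256))))
 (.node (.node (.node (.leaf 650)
 (.leaf 578))
 (.node (.leaf 2341)
 (.leaf 1432)))
 (.node (.node (.leaf 1412)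
 (.leaf 794))
 (.node (.leaf 661)
 (.leaf 2289))))))
 (.node (.node (.node (.node (.node (.leaf 3588)
 (.leaf 3087))
 (.node (.leaf 3418)
 (.leaf 158)))
 (.node (.node (.leaf 3313)
 (.leaf 2673))
 (.node (.leaf 434)
 (.leaf 3451))))
 (.node (.node (.node (.leaf 3379)
 (.leaf 806))
 (.node (.leaf 527)
 (.leaf 3230)))
 (.node (.node (.leaf 2860)
 (.leaf 649))
 (.node (.leaf 2149)
 (.leaf 982)))))
 (.node (.node (.node (.node (.leaf 1514)
 (.leaf 3488))
 (.node (.leaf 3244)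
 (.leaf 1718)))
 (.node (.node (.leaf 1204)
 (.leaf 261))
 (.node (.leaf 940)
 (.leaf 3786))))
 (.node (.node (.node (.leaf 3403)
 (.leaf 423))
 (.node (.leaf 1865)
 (.leaf 3544)))
 (.node (.node (.leaf 502)
 (.leaf 172))
 (.node (.leaf 1090)
 (.leaf 2822))))))

def tBB44 : RT := .node (.node (.node (.node (.node (.node (.leaf 3603)
 (.leaf 3744))
 (.node (.leaf 1946)
 (.leaf 553)))
 (.node (.node (.leaf 3783)
 (.leaf 168))
 (.node (.leaf 3217)
 (.leaf 2163))))
 (.node (.node (.node (.leaf 2998)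
 (.leaf 3385))
 (.node (.leaf 2799)
 (.leaf 3950)))
 (.node (.node (.leaf 3201)
 (.leaf 3115))
 (.node (.leaf 1717)
 (.leaf 76)))))
 (.node (.node (.node (.node (.leaf 2948)
 (.leaf 561))
 (.node (.leaf 2855)
 (.leaf 3012)))
 (.node (.node (.leaf 2436)
 (.leaf 1596))
 (.node (.leaf 438)
 (.leaf 14))))
 (.node (.node (.node (.leaf 1353)
 (.leaf 3497))
 (.node (.leaf 1685)
 (.leaf 3024)))
 (.node (.node (.leaf 2297)
 (.leaf 2361))
 (.node (.leaf 1949)
 (.leaf 2961))))))
 (.node (.node (.node (.node (.node (.leaf 3492)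
 (.leaf 1029))
 (.node (.leaf 1441)
 (.leaf 1396)))
 (.node (.node (.leaf 2672)
 (.leaf 2969))
 (.node (.leaf 416)
 (.leaf 1488))))
 (.node (.node (.node (.leaf 128)
 (.leaf 3583))
 (.node (.leaf 1168)
 (.leaf 341)))
 (.node (.node (.leaf 1986)
 (.leaf 366))
 (.node (.leaf 3736)
 (.leaf 1470)))))
 (.node (.node (.node (.node (.leaf 1834)
 (.leaf 1060))
 (.node (.leaf 3398)
 (.leaf 1077)))
 (.node (.node (.leaf 3295)
 (.leaf 2878))
 (.node (.leaf 2949)
 (.leaf 950))))
 (.node (.node (.node (.leaf 2551)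
 (.leaf 1474))
 (.node (.leaf 3905)
 (.leaf 1390)))
 (.node (.node (.leaf 393)
 (.leaf 677))
 (.node (.leaf 2374)
 (.leaf 1377))))))

def tBB45 : RT := .node (.node (.node (.node (.node (.node (.leaf 2906)
 (.leaf 1702))
 (.node (.leaf 846)
 (.leaf 302)))
 (.node (.node (.leaf 171)
 (.leaf 3198))
 (.node (.leaf 2267)
 (.leaf 2375))))
 (.node (.node (.node (.leaf 979)
 (.leaf 1837))
 (.node (.leaf 2729)
 (.leaf 4054)))
 (.node (.node (.leaf 1112)
 (.leaf 1726))
 (.node (.leaf 3705)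
 (.leaf 1313)))))
 (.node (.node (.node (.node (.leaf 1953)
 (.leaf 227))
 (.node (.leaf 357)
 (.leaf 3843)))
 (.node (.node (.leaf 1793)
 (.leaf 1991))
 (.node (.leaf 3309)
 (.leaf 3034))))
 (.node (.node (.node (.leaf 1291)
 (.leaf 435))
 (.node (.leaf 1713)
 (.leaf 60)))
 (.node (.node (.leaf 2616)
 (.leaf 1166))
 (.node (.leaf 3128)
 (.leaf 2982))))))
 (.node (.node (.node (.node (.node (.leaf 3530)
 (.leaf 2872))
 (.node (.leaf 2614)
 (.leaf 2113)))
 (.node (.node (.leaf 3187)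
 (.leaf 1740))
 (.node (.leaf 974)
 (.leaf 1104))))
 (.node (.node (.node (.leaf 195)
 (.leaf 1201))
 (.node (.leaf 2405)
 (.leaf 3200)))
 (.node (.node (.leaf 937)
 (.leaf 134))
 (.node (.leaf 3590)
 (.leaf 1627)))))
 (.node (.node (.node (.node (.leaf 4038)
 (.leaf 2006))
 (.node (.leaf 1568)
 (.leaf 3777)))
 (.node (.node (.leaf 3665)
 (.leaf 3141))
 (.node (.leaf 1333)
 (.leaf 3917))))
 (.node (.node (.node (.leaf 446)
 (.leaf 2994))
 (.node (.leaf 1545)
 (.leaf 849)))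
 (.node (.node (.leaf 77)
 (.leaf 1378))
 (.node (.leaf 3349)
 (.leaf 3760))))))

def tBB46 : RT := .node (.node (.node (.node (.node (.node (.leaf 941)
 (.leaf 3346))
 (.node (.leaf 2971)
 (.leaf 2848)))
 (.node (.node (.leaf 2467)
 (.leaf 1264))
 (.node (.leaf 2438)
 (.leaf 2670))))
 (.node (.node (.node (.leaf 927)
 (.leaf 1543))
 (.node (.leaf 1558)
 (.leaf 1462)))
 (.node (.node (.leaf 2583)
 (.leaf 1838))
 (.node (.leaf 2588)
 (.leaf 3017)))))
 (.node (.node (.node (.node (.leaf 684)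
 (.leaf 1680))
 (.node (.leaf 980)
 (.leaf 1557)))
 (.node (.node (.leaf 1016)
 (.leaf 3120))
 (.node (.leaf 1403)
 (.leaf 287))))
 (.node (.node (.node (.leaf 3276)
 (.leaf 3243))
 (.node (.leaf 359)
 (.leaf 2977)))
 (.node (.node (.leaf 770)
 (.leaf 1778))
 (.node (.leaf 3094)
 (.leaf 732))))))
 (.node (.node (.node (.node (.node (.leaf 3412)
 (.leaf 1724))
 (.node (.leaf 2011)
 (.leaf 1268)))
 (.node (.node (.leaf 3463)
 (.leaf 2200))
 (.node (.leaf 2062)
 (.leaf 3881))))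
 (.node (.node (.node (.leaf 2102)
 (.leaf 2381))
 (.node (.leaf 3221)
 (.leaf 3249)))
 (.node (.node (.leaf 1373)
 (.leaf 1350))
 (.node (.leaf 1244)
 (.leaf 2329)))))
 (.node (.node (.node (.node (.leaf 1240)
 (.leaf 3559))
 (.node (.leaf 3335)
 (.leaf 2030)))
 (.node (.node (.leaf 1852)
 (.leaf 3667))
 (.node (.leaf 2545)
 (.leaf 2963))))
 (.node (.node (.node (.leaf 208)
 (.leaf 2919))
 (.node (.leaf 588)
 (.leaf 2886)))
 (.node (.node (.leaf 3213)
 (.leaf 1076))
 (.node (.leaf 3762)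
 (.leaf 1715))))))

def tBB47 : RT := .node (.node (.node (.node (.node (.node (.leaf 1976)
 (.leaf 2127))
 (.node (.leaf 3263)
 (.leaf 2429)))
 (.node (.node (.leaf 1082)
 (.leaf 48))
 (.node (.leaf 1494)
 (.leaf 1623))))
 (.node (.node (.node (.leaf 2016)
 (.leaf 3062))
 (.node (.leaf 1893)
 (.leaf 1450)))
 (.node (.node (.leaf 3595)
 (.leaf 3096))
 (.node (.leaf 1153)
 (.leaf 3586)))))
 (.node (.node (.node (.node (.leaf 715)
 (.leaf 3692))
 (.node (.leaf 1683)
 (.leaf 3465)))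
 (.node (.node (.leaf 1362)
 (.leaf 3063))
 (.node (.leaf 2643)
 (.leaf 3369))))
 (.node (.node (.node (.leaf 3476)
 (.leaf 1747))
 (.node (.leaf 2989)
 (.leaf 2597)))
 (.node (.node (.leaf 2967)
 (.leaf 466))
 (.node (.leaf 2854)
 (.leaf 3471))))))
 (.node (.node (.node (.node (.node (.leaf 877)
 (.leaf 3813))
 (.node (.leaf 1943)
 (.leaf 1346)))
 (.node (.node (.leaf 3104)
 (.leaf 3663))
 (.node (.leaf 4032)
 (.leaf 2272))))
 (.node (.node (.node (.leaf 1821)
 (.leaf 3816))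
 (.node (.leaf 2530)
 (.leaf 2469)))
 (.node (.node (.leaf 1707)
 (.leaf 3383))
 (.node (.leaf 1486)
 (.leaf 1951)))))
 (.node (.node (.node (.node (.leaf 1255)
 (.leaf 422))
 (.node (.leaf 3005)
 (.leaf 2733)))
 (.node (.node (.leaf 2081)
 (.leaf 764))
 (.node (.leaf 1356)
 (.leaf 1933))))
 (.node (.node (.node (.leaf 1601)
 (.leaf 41))
 (.node (.leaf 3016)
 (.leaf 3962)))
 (.node (.node (.leaf 1456)
 (.leaf 1010))
 (.node (.leaf 3429)
 (.leaf 1924))))))

def tBB48 : RT := .node (.node (.node (.node (.node (.node (.leaf 736)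
 (.leaf 2544))
 (.node (.leaf 2343)
 (.leaf 3929)))
 (.node (.node (.leaf 1303)
 (.leaf 2946))
 (.node (.leaf 1442)
 (.leaf 3676))))
 (.node (.node (.node (.leaf 3516)
 (.leaf 3977))
 (.node (.leaf 2499)
 (.leaf 491)))
 (.node (.node (.leaf 379)
 (.leaf 3072))
 (.node (.leaf 1887)
 (.leaf 1598)))))
 (.node (.node (.node (.node (.leaf 1957)
 (.leaf 3215))
 (.node (.leaf 3127)
 (.leaf 1900)))
 (.node (.node (.leaf 474)
 (.leaf 4046))
 (.node (.leaf 1501)
 (.leaf 2629))))
 (.node (.node (.node (.leaf 358)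
 (.leaf 3199))
 (.node (.leaf 3666)
 (.leaf 1749)))
 (.node (.node (.leaf 2047)
 (.leaf 1435))
 (.node (.leaf 1056)
 (.leaf 1437))))))
 (.node (.node (.node (.node (.node (.leaf 2954)
 (.leaf 3940))
 (.node (.leaf 2744)
 (.leaf 330)))
 (.node (.node (.leaf 1061)
 (.leaf 1126))
 (.node (.leaf 2442)
 (.leaf 2227))))
 (.node (.node (.node (.leaf 1869)
 (.leaf 2457))
 (.node (.leaf 200)
 (.leaf 3545)))
 (.node (.node (.leaf 454)
 (.leaf 1889))
 (.node (.leaf 3578)
 (.leaf 3899)))))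
 (.node (.node (.node (.node (.leaf 1170)
 (.leaf 3747))
 (.node (.leaf 2421)
 (.leaf 2002)))
 (.node (.node (.leaf 2930)
 (.leaf 2581))
 (.node (.leaf 3755)
 (.leaf 2608))))
 (.node (.node (.node (.leaf 1156)
 (.leaf 2494))
 (.node (.leaf 842)
 (.leaf 1625)))
 (.node (.node (.leaf 3684)
 (.leaf 2941))
 (.node (.leaf 150)
 (.leaf 2167))))))

def tBB49 : RT := .node (.node (.node (.node (.node (.node (.leaf 3682)
 (.leaf 3739))
 (.node (.leaf 2932)
 (.leaf 1133)))
 (.node (.node (.leaf 3470)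
 (.leaf 373))
 (.node (.leaf 1934)
 (.leaf 2995))))
 (.node (.node (.node (.leaf 537)
 (.leaf 3930))
 (.node (.leaf 882)
 (.leaf 131)))
 (.node (.node (.leaf 1805)
 (.leaf 2612))
 (.node (.leaf 574)
 (.leaf 3521)))))
 (.node (.node (.node (.node (.leaf 3484)
 (.leaf 388))
 (.node (.leaf 3132)
 (.leaf 1199)))
 (.node (.node (.leaf 3098)
 (.leaf 844))
 (.node (.leaf 4001)
 (.leaf 1593))))
 (.node (.node (.node (.leaf 2846)
 (.leaf 501))
 (.node (.leaf 1302)
 (.leaf 936)))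
 (.node (.node (.leaf 3851)
 (.leaf 3019))
 (.node (.leaf 1177)
 (.leaf 1734))))))
 (.node (.node (.node (.node (.node (.leaf 3998)
 (.leaf 429))
 (.node (.leaf 3364)
 (.leaf 2559)))
 (.node (.node (.leaf 2647)
 (.leaf 1881))
 (.node (.leaf 2189)
 (.leaf 1465))))
 (.node (.node (.node (.leaf 2888)
 (.leaf 3953))
 (.node (.leaf 484)
 (.leaf 1799)))
 (.node (.node (.leaf 1806)
 (.leaf 3713))
 (.node (.leaf 1826)
 (.leaf 2413)))))
 (.node (.node (.node (.node (.leaf 847)
 (.leaf 1518))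
 (.node (.leaf 1161)
 (.leaf 1700)))
 (.node (.node (.leaf 114)
 (.leaf 608))
 (.node (.leaf 3793)
 (.leaf 871))))
 (.node (.node (.node (.leaf 786)
 (.leaf 436))
 (.node (.leaf 1777)
 (.leaf 947)))
 (.node (.node (.leaf 3568)
 (.leaf 3991))
 (.node (.leaf 409)
 (.leaf 1617))))))

def tBB50 : RT := .node (.node (.node (.node (.node (.node (.leaf 1842)
 (.leaf 3480))
 (.node (.leaf 2742)
 (.leaf 26)))
 (.node (.node (.leaf 1451)
 (.leaf 3159))
 (.node (.leaf 1892)
 (.leaf 1668))))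
 (.node (.node (.node (.leaf 3014)
 (.leaf 2606))
 (.node (.leaf 683)
 (.leaf 3733)))
 (.node (.node (.leaf 3639)
 (.leaf 1871))
 (.node (.leaf 551)
 (.leaf 1047)))))
 (.node (.node (.node (.node (.leaf 3854)
 (.leaf 515))
 (.node (.leaf 1182)
 (.leaf 3226)))
 (.node (.node (.leaf 3367)
 (.leaf 1954))
 (.node (.leaf 3723)
 (.leaf 2087))))
 (.node (.node (.node (.leaf 753)
 (.leaf 2567))
 (.node (.leaf 1823)
 (.leaf 1003)))
 (.node (.node (.leaf 2895)
 (.leaf 2882))
 (.node (.leaf 3769)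
 (.leaf 3722))))))
 (.node (.node (.node (.node (.node (.leaf 468)
 (.leaf 1897))
 (.node (.leaf 2775)
 (.leaf 2658)))
 (.node (.node (.leaf 2541)
 (.leaf 2810))
 (.node (.leaf 2034)
 (.leaf 3826))))
 (.node (.node (.node (.leaf 1824)
 (.leaf 4002))
 (.node (.leaf 797)
 (.leaf 3864)))
 (.node (.node (.leaf 3044)
 (.leaf 2131))
 (.node (.leaf 3619)
 (.leaf 2468)))))
 (.node (.node (.node (.node (.leaf 3039)
 (.leaf 971))
 (.node (.leaf 2576)
 (.leaf 1263)))
 (.node (.node (.leaf 2503)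
 (.leaf 3613))
 (.node (.leaf 2807)
 (.leaf 2936))))
 (.node (.node (.node (.leaf 531)
 (.leaf 2218))
 (.node (.leaf 3679)
 (.leaf 1086)))
 (.node (.node (.leaf 1354)
 (.leaf 2703))
 (.node (.leaf 2592)
 (.leaf 3260))))))

def tBB51 : RT := .node (.node (.node (.node (.node (.node (.leaf 17)
 (.leaf 43))
 (.node (.leaf 3163)
 (.leaf 722)))
 (.node (.node (.leaf 493)
 (.leaf 1051))
 (.node (.leaf 3135)
 (.leaf 2960))))
 (.node (.node (.node (.leaf 2078)
 (.leaf 342))
 (.node (.leaf 3439)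
 (.leaf 3698)))
 (.node (.node (.leaf 2106)
 (.leaf 1106))
 (.node (.leaf 1515)
 (.leaf 2657)))))
 (.node (.node (.node (.node (.leaf 567)
 (.leaf 164))
 (.node (.leaf 2191)
 (.leaf 4017)))
 (.node (.node (.leaf 3177)
 (.leaf 1886))
 (.node (.leaf 2569)
 (.leaf 1862))))
 (.node (.node (.node (.leaf 1041)
 (.leaf 3728))
 (.node (.leaf 1193)
 (.leaf 1779)))
 (.node (.node (.leaf 1719)
 (.leaf 1903))
 (.node (.leaf 3203)
 (.leaf 3167))))))
 (.node (.node (.node (.node (.node (.leaf 3348)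
 (.leaf 2303))
 (.node (.leaf 504)
 (.leaf 1648)))
 (.node (.node (.leaf 3487)
 (.leaf 2411))
 (.node (.leaf 2379)
 (.leaf 2524))))
 (.node (.node (.node (.leaf 632)
 (.leaf 3774))
 (.node (.leaf 183)
 (.leaf 2412)))
 (.node (.node (.leaf 3189)
 (.leaf 1190))
 (.node (.leaf 3688)
 (.leaf 1081)))))
 (.node (.node (.node (.node (.leaf 3212)
 (.leaf 372))
 (.node (.leaf 121)
 (.leaf 417)))
 (.node (.node (.leaf 666)
 (.leaf 1591))
 (.node (.leaf 1851)
 (.leaf 2856))))
 (.node (.node (.node (.leaf 1045)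
 (.leaf 2129))
 (.node (.leaf 2033)
 (.leaf 3695)))
 (.node (.node (.leaf 3863)
 (.leaf 3997))
 (.node (.leaf 1226)
 (.leaf 95))))))

def tBB52 : RT := .node (.node (.node (.node (.node (.node (.leaf 3299)
 (.leaf 3363))
 (.node (.leaf 3204)
 (.leaf 3742)))
 (.node (.node (.leaf 3508)
 (.leaf 3176))
 (.node (.leaf 625)
 (.leaf 3365))))
 (.node (.node (.node (.leaf 977)
 (.leaf 2618))
 (.node (.leaf 670)
 (.leaf 312)))
 (.node (.node (.leaf 3499)
 (.leaf 861))
 (.node (.leaf 3282)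
 (.leaf 6)))))
 (.node (.node (.node (.node (.leaf 2682)
 (.leaf 2537))
 (.node (.leaf 3082)
 (.leaf 1635)))
 (.node (.node (.leaf 3585)
 (.leaf 587))
 (.node (.leaf 657)
 (.leaf 2015))))
 (.node (.node (.node (.leaf 3040)
 (.leaf 2419))
 (.node (.leaf 1491)
 (.leaf 3900)))
 (.node (.node (.leaf 1965)
 (.leaf 104))
 (.node (.leaf 2981)
 (.leaf 1467))))))
 (.node (.node (.node (.node (.node (.leaf 110)
 (.leaf 843))
 (.node (.leaf 2660)
 (.leaf 1481)))
 (.node (.node (.leaf 2115)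
 (.leaf 3788))
 (.node (.leaf 2815)
 (.leaf 3803))))
 (.node (.node (.node (.leaf 692)
 (.leaf 646))
 (.node (.leaf 3351)
 (.leaf 2972)))
 (.node (.node (.leaf 2865)
 (.leaf 140))
 (.node (.leaf 4043)
 (.leaf 293)))))
 (.node (.node (.node (.node (.leaf 2884)
 (.leaf 2853))
 (.node (.leaf 776)
 (.leaf 3645)))
 (.node (.node (.leaf 1548)
 (.leaf 2258))
 (.node (.leaf 3033)
 (.leaf 1476))))
 (.node (.node (.node (.leaf 3550)
 (.leaf 1137))
 (.node (.leaf 2580)
 (.leaf 845)))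
 (.node (.node (.leaf 2684)
 (.leaf 546))
 (.node (.leaf 688)
 (.leaf 3528))))))

def tBB53 : RT := .node (.node (.node (.node (.node (.node (.leaf 727)
 (.leaf 443))
 (.node (.leaf 659)
 (.leaf 3519)))
 (.node (.node (.leaf 973)
 (.leaf 1155))
 (.node (.leaf 1235)
 (.leaf 1143))))
 (.node (.node (.node (.leaf 2219)
 (.leaf 2082))
 (.node (.leaf 2727)
 (.leaf 1167)))
 (.node (.node (.leaf 2470)
 (.leaf 4008))
 (.node (.leaf 415)
 (.leaf 816)))))
 (.node (.node (.node (.node (.leaf 2488)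
 (.leaf 2474))
 (.node (.leaf 2177)
 (.leaf 1610)))
 (.node (.node (.leaf 1580)
 (.leaf 3173))
 (.node (.leaf 552)
 (.leaf 3883))))
 (.node (.node (.node (.leaf 1942)
 (.leaf 2282))
 (.node (.leaf 2462)
 (.leaf 1845)))
 (.node (.node (.leaf 3581)
 (.leaf 1909))
 (.node (.leaf 2231)
 (.leaf 2634))))))
 (.node (.node (.node (.node (.node (.leaf 188)
 (.leaf 2249))
 (.node (.leaf 3526)
 (.leaf 1996)))
 (.node (.node (.leaf 1760)
 (.leaf 3737))
 (.node (.leaf 560)
 (.leaf 641))))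
 (.node (.node (.node (.leaf 2051)
 (.leaf 304))
 (.node (.leaf 904)
 (.leaf 68)))
 (.node (.node (.leaf 2495)
 (.leaf 2696))
 (.node (.leaf 2653)
 (.leaf 633)))))
 (.node (.node (.node (.node (.leaf 1739)
 (.leaf 3966))
 (.node (.leaf 3871)
 (.leaf 3697)))
 (.node (.node (.leaf 3326)
 (.leaf 954))
 (.node (.leaf 1023)
 (.leaf 1637))))
 (.node (.node (.node (.leaf 3967)
 (.leaf 1288))
 (.node (.leaf 3153)
 (.leaf 1973)))
 (.node (.node (.leaf 957)
 (.leaf 1612))
 (.node (.leaf 1409)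
 (.leaf 2605))))))

def tBB54 : RT := .node (.node (.node (.node (.node (.node (.leaf 2018)
 (.leaf 873))
 (.node (.leaf 318)
 (.leaf 472)))
 (.node (.node (.leaf 3168)
 (.leaf 3536))
 (.node (.leaf 15)
 (.leaf 2763))))
 (.node (.node (.node (.leaf 1658)
 (.leaf 1787))
 (.node (.leaf 3267)
 (.leaf 3751)))
 (.node (.node (.leaf 2651)
 (.leaf 2756))
 (.node (.leaf 2460)
 (.leaf 2359)))))
 (.node (.node (.node (.node (.leaf 3942)
 (.leaf 2993))
 (.node (.leaf 1293)
 (.leaf 2160)))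
 (.node (.node (.leaf 2506)
 (.leaf 18))
 (.node (.leaf 3378)
 (.leaf 1097))))
 (.node (.node (.node (.leaf 46)
 (.leaf 2032))
 (.node (.leaf 1578)
 (.leaf 3886)))
 (.node (.node (.leaf 2737)
 (.leaf 3185))
 (.node (.leaf 2253)
 (.leaf 1646))))))
 (.node (.node (.node (.node (.node (.leaf 3612)
 (.leaf 125))
 (.node (.leaf 3564)
 (.leaf 2273)))
 (.node (.node (.leaf 1101)
 (.leaf 4018))
 (.node (.leaf 1982)
 (.leaf 1728))))
 (.node (.node (.node (.leaf 1094)
 (.leaf 1776))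
 (.node (.leaf 34)
 (.leaf 3305)))
 (.node (.node (.leaf 1413)
 (.leaf 3074))
 (.node (.leaf 3951)
 (.leaf 2726)))))
 (.node (.node (.node (.node (.leaf 2962)
 (.leaf 4051))
 (.node (.leaf 9)
 (.leaf 1274)))
 (.node (.node (.leaf 391)
 (.leaf 1961))
 (.node (.leaf 2484)
 (.leaf 2823))))
 (.node (.node (.node (.leaf 942)
 (.leaf 2512))
 (.node (.leaf 2690)
 (.leaf 2004)))
 (.node (.node (.leaf 1569)
 (.leaf 2801))
 (.node (.leaf 3029)
 (.leaf 441))))))

def tBB55 : RT := .node (.node (.node (.node (.node (.node (.leaf 337)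
 (.leaf 1620))
 (.node (.leaf 2625)
 (.leaf 916)))
 (.node (.node (.leaf 4019)
 (.leaf 2986))
 (.node (.leaf 3547)
 (.leaf 1073))))
 (.node (.node (.node (.leaf 1858)
 (.leaf 3592))
 (.node (.leaf 544)
 (.leaf 1309)))
 (.node (.node (.leaf 4033)
 (.leaf 1863))
 (.node (.leaf 5)
 (.leaf 1594)))))
 (.node (.node (.node (.node (.leaf 1469)
 (.leaf 2868))
 (.node (.leaf 2841)
 (.leaf 1289)))
 (.node (.node (.leaf 1285)
 (.leaf 3941))
 (.node (.leaf 1328)
 (.leaf 1511))))
 (.node (.node (.node (.leaf 2698)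
 (.leaf 582))
 (.node (.leaf 90)
 (.leaf 3814)))
 (.node (.node (.leaf 2739)
 (.leaf 1414))
 (.node (.leaf 2832)
 (.leaf 2782))))))
 (.node (.node (.node (.node (.node (.leaf 1269)
 (.leaf 3992))
 (.node (.leaf 2883)
 (.leaf 3162)))
 (.node (.node (.leaf 2057)
 (.leaf 2957))
 (.node (.leaf 2802)
 (.leaf 1966))))
 (.node (.node (.node (.leaf 489)
 (.leaf 3964))
 (.node (.leaf 2259)
 (.leaf 2193)))
 (.node (.node (.leaf 3287)
 (.leaf 1070))
 (.node (.leaf 1763)
 (.leaf 2983)))))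
 (.node (.node (.node (.node (.leaf 887)
 (.leaf 3948))
 (.node (.leaf 3491)
 (.leaf 2098)))
 (.node (.node (.leaf 1977)
 (.leaf 987))
 (.node (.leaf 83)
 (.leaf 3632))))
 (.node (.node (.node (.leaf 335)
 (.leaf 2058))
 (.node (.leaf 828)
 (.leaf 2816)))
 (.node (.node (.leaf 424)
 (.leaf 3573))
 (.node (.leaf 4059)
 (.leaf 465))))))

def tBB56 : RT := .node (.node (.node (.node (.node (.node (.leaf 146)
 (.leaf 2908))
 (.node (.leaf 975)
 (.leaf 1560)))
 (.node (.node (.leaf 2112)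
 (.leaf 695))
 (.node (.leaf 920)
 (.leaf 522))))
 (.node (.node (.node (.leaf 444)
 (.leaf 3411))
 (.node (.leaf 3770)
 (.leaf 2444)))
 (.node (.node (.leaf 3822)
 (.leaf 2099))
 (.node (.leaf 1689)
 (.leaf 1636)))))
 (.node (.node (.node (.node (.leaf 2454)
 (.leaf 1555))
 (.node (.leaf 605)
 (.leaf 1692)))
 (.node (.node (.leaf 1530)
 (.leaf 620))
 (.node (.leaf 3498)
 (.leaf 3281))))
 (.node (.node (.node (.leaf 3150)
 (.leaf 2926))
 (.node (.leaf 997)
 (.leaf 1710)))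
 (.node (.node (.leaf 1473)
 (.leaf 584))
 (.node (.leaf 2156)
 (.leaf 705))))))
 (.node (.node (.node (.node (.node (.leaf 867)
 (.leaf 1597))
 (.node (.leaf 1666)
 (.leaf 617)))
 (.node (.node (.leaf 1022)
 (.leaf 2931))
 (.node (.leaf 1592)
 (.leaf 3251))))
 (.node (.node (.node (.leaf 1925)
 (.leaf 3538))
 (.node (.leaf 3406)
 (.leaf 3123)))
 (.node (.node (.leaf 2176)
 (.leaf 3642))
 (.node (.leaf 2901)
 (.leaf 2090)))))
 (.node (.node (.node (.node (.leaf 1803)
 (.leaf 3261))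
 (.node (.leaf 1753)
 (.leaf 3596)))
 (.node (.node (.leaf 1872)
 (.leaf 3686))
 (.node (.leaf 1103)
 (.leaf 3852))))
 (.node (.node (.node (.leaf 874)
 (.leaf 701))
 (.node (.leaf 3955)
 (.leaf 2560)))
 (.node (.node (.leaf 309)
 (.leaf 62))
 (.node (.leaf 3798)
 (.leaf 1875))))))

def tBB57 : RT := .node (.node (.node (.node (.node (.node (.leaf 3432)
 (.leaf 827))
 (.node (.leaf 1425)
 (.leaf 1279)))
 (.node (.node (.leaf 1078)
 (.leaf 38))
 (.node (.leaf 2864)
 (.leaf 740))))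
 (.node (.node (.node (.leaf 89)
 (.leaf 3597))
 (.node (.leaf 1189)
 (.leaf 3582)))
 (.node (.node (.leaf 214)
 (.leaf 3740))
 (.node (.leaf 3010)
 (.leaf 2571)))))
 (.node (.node (.node (.node (.leaf 3462)
 (.leaf 1498))
 (.node (.leaf 1641)
 (.leaf 2314)))
 (.node (.node (.leaf 2401)
 (.leaf 3207))
 (.node (.leaf 3381)
 (.leaf 2464))))
 (.node (.node (.node (.leaf 2368)
 (.leaf 2574))
 (.node (.leaf 2593)
 (.leaf 912)))
 (.node (.node (.leaf 3075)
 (.leaf 510))
 (.node (.leaf 3257)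
 (.leaf 2126))))))
 (.node (.node (.node (.node (.node (.leaf 1663)
 (.leaf 1988))
 (.node (.leaf 2395)
 (.leaf 2529)))
 (.node (.node (.leaf 895)
 (.leaf 3395))
 (.node (.leaf 3071)
 (.leaf 1079))))
 (.node (.node (.node (.leaf 2473)
 (.leaf 1224))
 (.node (.leaf 717)
 (.leaf 3531)))
 (.node (.node (.leaf 1125)
 (.leaf 4039))
 (.node (.leaf 956)
 (.leaf 3850)))))
 (.node (.node (.node (.node (.leaf 1654)
 (.leaf 52))
 (.node (.leaf 2133)
 (.leaf 1616)))
 (.node (.node (.leaf 2753)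
 (.leaf 859))
 (.node (.leaf 3184)
 (.leaf 2458))))
 (.node (.node (.node (.leaf 1174)
 (.leaf 2370))
 (.node (.leaf 3785)
 (.leaf 118)))
 (.node (.node (.leaf 2975)
 (.leaf 3807))
 (.node (.leaf 1265)
 (.leaf 2707))))))

def tBB58 : RT := .node (.node (.node (.node (.node (.node (.leaf 343)
 (.leaf 2586))
 (.node (.leaf 2145)
 (.leaf 3549)))
 (.node (.node (.leaf 232)
 (.leaf 1218))
 (.node (.leaf 2046)
 (.leaf 2049))))
 (.node (.node (.node (.leaf 673)
 (.leaf 2137))
 (.node (.leaf 581)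
 (.leaf 3055)))
 (.node (.node (.leaf 2804)
 (.leaf 1300))
 (.node (.leaf 706)
 (.leaf 3324)))))
 (.node (.node (.node (.node (.leaf 3140)
 (.leaf 1688))
 (.node (.leaf 924)
 (.leaf 2064)))
 (.node (.node (.leaf 1007)
 (.leaf 1212))
 (.node (.leaf 3446)
 (.leaf 1727))))
 (.node (.node (.node (.leaf 3513)
 (.leaf 8))
 (.node (.leaf 3768)
 (.leaf 785)))
 (.node (.node (.leaf 1439)
 (.leaf 3401))
 (.node (.leaf 44)
 (.leaf 3077))))))
 (.node (.node (.node (.node (.node (.leaf 1994)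
 (.leaf 310))
 (.node (.leaf 528)
 (.leaf 2483)))
 (.node (.node (.leaf 2715)
 (.leaf 739))
 (.node (.leaf 747)
 (.leaf 1998))))
 (.node (.node (.node (.leaf 2710)
 (.leaf 1238))
 (.node (.leaf 1701)
 (.leaf 2426)))
 (.node (.node (.leaf 3156)
 (.leaf 3293))
 (.node (.leaf 1186)
 (.leaf 3051)))))
 (.node (.node (.node (.node (.leaf 1286)
 (.leaf 3910))
 (.node (.leaf 3524)
 (.leaf 204)))
 (.node (.node (.leaf 1000)
 (.leaf 2887))
 (.node (.leaf 3410)
 (.leaf 3503))))
 (.node (.node (.node (.leaf 216)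
 (.leaf 585))
 (.node (.leaf 1388)
 (.leaf 1017)))
 (.node (.node (.leaf 1307)
 (.leaf 3376))
 (.node (.leaf 988)
 (.leaf 3496))))))

def tBB59 : RT := .node (.node (.node (.node (.node (.node (.leaf 1820)
 (.leaf 1334))
 (.node (.leaf 2315)
 (.leaf 3172)))
 (.node (.node (.leaf 54)
 (.leaf 3867))
 (.node (.leaf 2382)
 (.leaf 724))))
 (.node (.node (.node (.leaf 2899)
 (.leaf 639))
 (.node (.leaf 800)
 (.leaf 2143)))
 (.node (.node (.leaf 354)
 (.leaf 1368))
 (.node (.leaf 2708)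
 (.leaf 1686)))))
 (.node (.node (.node (.node (.leaf 2543)
 (.leaf 2688))
 (.node (.leaf 480)
 (.leaf 2417)))
 (.node (.node (.leaf 2622)
 (.leaf 862))
 (.node (.leaf 2937)
 (.leaf 2976))))
 (.node (.node (.node (.leaf 3791)
 (.leaf 1157))
 (.node (.leaf 2712)
 (.leaf 286)))
 (.node (.node (.leaf 2342)
 (.leaf 3732))
 (.node (.leaf 3555)
 (.leaf 2121))))))
 (.node (.node (.node (.node (.node (.leaf 64)
 (.leaf 2239))
 (.node (.leaf 2925)
 (.leaf 976)))
 (.node (.node (.leaf 2162)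
 (.leaf 3030))
 (.node (.leaf 3832)
 (.leaf 3448))))
 (.node (.node (.node (.leaf 1769)
 (.leaf 1948))
 (.node (.leaf 1808)
 (.leaf 265)))
 (.node (.node (.leaf 106)
 (.leaf 3860))
 (.node (.leaf 885)
 (.leaf 177)))))
 (.node (.node (.node (.node (.leaf 2175)
 (.leaf 2900))
 (.node (.leaf 2521)
 (.leaf 3943)))
 (.node (.node (.leaf 356)
 (.leaf 2632))
 (.node (.leaf 2867)
 (.leaf 2939))))
 (.node (.node (.node (.leaf 3218)
 (.leaf 3980))
 (.node (.leaf 408)
 (.leaf 1519)))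
 (.node (.node (.leaf 1066)
 (.leaf 2873))
 (.node (.leaf 2274)
 (.leaf 230))))))

def tBB60 : RT := .node (.node (.node (.node (.node (.node (.leaf 2250)
 (.leaf 2520))
 (.node (.leaf 1254)
 (.leaf 1121)))
 (.node (.node (.leaf 3013)
 (.leaf 2024))
 (.node (.leaf 2493)
 (.leaf 2575))))
 (.node (.node (.node (.leaf 1582)
 (.leaf 1614))
 (.node (.leaf 2096)
 (.leaf 2665)))
 (.node (.node (.leaf 2178)
 (.leaf 3765))
 (.node (.leaf 23)
 (.leaf 3907)))))
 (.node (.node (.node (.node (.leaf 1964)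
 (.leaf 2700))
 (.node (.leaf 2300)
 (.leaf 3289)))
 (.node (.node (.leaf 1788)
 (.leaf 1122))
 (.node (.leaf 835)
 (.leaf 1775))))
 (.node (.node (.node (.leaf 2676)
 (.leaf 3025))
 (.node (.leaf 594)
 (.leaf 1675)))
 (.node (.node (.leaf 2313)
 (.leaf 3151))
 (.node (.leaf 2204)
 (.leaf 3133))))))
 (.node (.node (.node (.node (.node (.leaf 3325)
 (.leaf 798))
 (.node (.leaf 3548)
 (.leaf 315)))
 (.node (.node (.leaf 2556)
 (.leaf 1416))
 (.node (.leaf 2501)
 (.leaf 628))))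
 (.node (.node (.node (.leaf 262)
 (.leaf 4013))
 (.node (.leaf 1743)
 (.leaf 3171)))
 (.node (.node (.leaf 271)
 (.leaf 2681))
 (.node (.leaf 4058)
 (.leaf 1391)))))
 (.node (.node (.node (.node (.leaf 1283)
 (.leaf 3721))
 (.node (.leaf 3649)
 (.leaf 1784)))
 (.node (.node (.leaf 1352)
 (.leaf 1608))
 (.node (.leaf 506)
 (.leaf 3981))))
 (.node (.node (.node (.leaf 2451)
 (.leaf 24))
 (.node (.leaf 138)
 (.leaf 1087)))
 (.node (.node (.leaf 3936)
 (.leaf 2298))
 (.node (.leaf 3893)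
 (.leaf 1963))))))

def tBB61 : RT := .node (.node (.node (.node (.node (.node (.leaf 3806)
 (.leaf 2017))
 (.node (.leaf 274)
 (.leaf 197)))
 (.node (.node (.leaf 3829)
 (.leaf 3842))
 (.node (.leaf 1379)
 (.leaf 1854))))
 (.node (.node (.node (.leaf 2796)
 (.leaf 2430))
 (.node (.leaf 863)
 (.leaf 1389)))
 (.node (.node (.leaf 3001)
 (.leaf 1262))
 (.node (.leaf 3914)
 (.leaf 1252)))))
 (.node (.node (.node (.node (.leaf 327)
 (.leaf 2973))
 (.node (.leaf 2642)
 (.leaf 566)))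
 (.node (.node (.leaf 1499)
 (.leaf 4005))
 (.node (.leaf 1315)
 (.leaf 1901))))
 (.node (.node (.node (.leaf 2826)
 (.leaf 1804))
 (.node (.leaf 3190)
 (.leaf 2765)))
 (.node (.node (.leaf 1210)
 (.leaf 2440))
 (.node (.leaf 1025)
 (.leaf 3442))))))
 (.node (.node (.node (.node (.node (.leaf 3452)
 (.leaf 175))
 (.node (.leaf 2791)
 (.leaf 2)))
 (.node (.node (.leaf 2044)
 (.leaf 1054))
 (.node (.leaf 2333)
 (.leaf 117))))
 (.node (.node (.node (.leaf 1006)
 (.leaf 1631))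
 (.node (.leaf 1223)
 (.leaf 532)))
 (.node (.node (.leaf 28)
 (.leaf 1124))
 (.node (.leaf 3425)
 (.leaf 2091)))))
 (.node (.node (.node (.node (.leaf 1075)
 (.leaf 2459))
 (.node (.leaf 1516)
 (.leaf 1187)))
 (.node (.node (.leaf 1382)
 (.leaf 3978))
 (.node (.leaf 3450)
 (.leaf 3515))))
 (.node (.node (.node (.leaf 2261)
 (.leaf 2638))
 (.node (.leaf 3347)
 (.leaf 3116)))
 (.node (.node (.leaf 3229)
 (.leaf 59))
 (.node (.leaf 894)
 (.leaf 2964))))))

def tBB62 : RT := .node (.node (.node (.node (.node (.node (.leaf 3415)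
 (.leaf 257))
 (.node (.leaf 2350)
 (.leaf 1349)))
 (.node (.node (.leaf 2785)
 (.leaf 2463))
 (.node (.leaf 3283)
 (.leaf 773))))
 (.node (.node (.node (.leaf 2209)
 (.leaf 2662))
 (.node (.leaf 2216)
 (.leaf 3328)))
 (.node (.node (.leaf 182)
 (.leaf 20))
 (.node (.leaf 3565)
 (.leaf 3026)))))
 (.node (.node (.node (.node (.leaf 2197)
 (.leaf 2326))
 (.node (.leaf 136)
 (.leaf 1001)))
 (.node (.node (.leaf 2452)
 (.leaf 1219))
 (.node (.leaf 2031)
 (.leaf 1672))))
 (.node (.node (.node (.leaf 3219)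
 (.leaf 1311))
 (.node (.leaf 4000)
 (.leaf 901)))
 (.node (.node (.leaf 3362)
 (.leaf 1989))
 (.node (.leaf 2005)
 (.leaf 3625))))))
 (.node (.node (.node (.node (.node (.leaf 998)
 (.leaf 599))
 (.node (.leaf 2021)
 (.leaf 3036)))
 (.node (.node (.leaf 2394)
 (.leaf 621))
 (.node (.leaf 377)
 (.leaf 3064))))
 (.node (.node (.node (.leaf 2472)
 (.leaf 326))
 (.node (.leaf 2602)
 (.leaf 1198)))
 (.node (.node (.leaf 3706)
 (.leaf 292))
 (.node (.leaf 2950)
 (.leaf 3876)))))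
 (.node (.node (.node (.node (.leaf 81)
 (.leaf 2619))
 (.node (.leaf 3731)
 (.leaf 3598)))
 (.node (.node (.leaf 619)
 (.leaf 3485))
 (.node (.leaf 817)
 (.leaf 1923))))
 (.node (.node (.node (.leaf 3804)
 (.leaf 2392))
 (.node (.leaf 1329)
 (.leaf 3043)))
 (.node (.node (.leaf 3820)
 (.leaf 1849))
 (.node (.leaf 3878)
 (.leaf 98))))))

def tBB63 : RT := .node (.node (.node (.node (.node (.node (.leaf 483)
 (.leaf 2891))
 (.node (.leaf 3394)
 (.leaf 3139)))
 (.node (.node (.leaf 3174)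
 (.leaf 3726))
 (.node (.leaf 2422)
 (.leaf 1292))))
 (.node (.node (.node (.leaf 884)
 (.leaf 3756))
 (.node (.leaf 3945)
 (.leaf 336)))
 (.node (.node (.leaf 3501)
 (.leaf 1670))
 (.node (.leaf 1651)
 (.leaf 430)))))
 (.node (.node (.node (.node (.leaf 2664)
 (.leaf 2244))
 (.node (.leaf 1113)
 (.leaf 3608)))
 (.node (.node (.leaf 205)
 (.leaf 305))
 (.node (.leaf 886)
 (.leaf 276))))
 (.node (.node (.node (.leaf 898)
 (.leaf 1485))
 (.node (.leaf 3288)
 (.leaf 3605)))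
 (.leaf 0))))
 (.leaf 0)

def tB : RT := .node (.node (.node (.node (.node (.node (tBB0)
 (tBB1))
 (.node (tBB2)
 (tBB3)))
 (.node (.node (tBB4)
 (tBB5))
 (.node (tBB6)
 (tBB7))))
 (.node (.node (.node (tBB8)
 (tBB9))
 (.node (tBB10)
 (tBB11)))
 (.node (.node (tBB12)
 (tBB13))
 (.node (tBB14)
 (tBB15)))))
 (.node (.node (.node (.node (tBB16)
 (tBB17))
 (.node (tBB18)
 (tBB19)))
 (.node (.node (tBB20)
 (tBB21))
 (.node (tBB22)
 (tBB23))))
 (.node (.node (.node (tBB24)
 (tBB25))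
 (.node (tBB26)
 (tBB27)))
 (.node (.node (tBB28)
 (tBB29))
 (.node (tBB30)
 (tBB31))))))
 (.node (.node (.node (.node (.node (tBB32)
 (tBB33))
 (.node (tBB34)
 (tBB35)))
 (.node (.node (tBB36)
 (tBB37))
 (.node (tBB38)
 (tBB39))))
 (.node (.node (.node (tBB40)
 (tBB41))
 (.node (tBB42)
 (tBB43)))
 (.node (.node (tBB44)
 (tBB45))
 (.node (tBB46)
 (tBB47)))))
 (.node (.node (.node (.node (tBB48)
 (tBB49))
 (.node (tBB50)
 (tBB51)))
 (.node (.node (tBB52)
 (tBB53))
 (.node (tBB54)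
 (tBB55))))
 (.node (.node (.node (tBB56)
 (tBB57))
 (.node (tBB58)
 (tBB59)))
 (.node (.node (tBB60)
 (tBB61))
 (.node (tBB62)
 (tBB63))))))

def tAiB0 : RT := .node (.node (.node (.node (.node (.node (.leaf 0)
 (.leaf 724))
 (.node (.leaf 441)
 (.leaf 2917)))
 (.node (.node (.leaf 2883)
 (.leaf 1459))
 (.node (.leaf 1527)
 (.leaf 2480))))
 (.node (.node (.node (.leaf 4)
 (.leaf 1326))
 (.node (.leaf 2786)
 (.leaf 3203)))
 (.node (.node (.leaf 1273)
 (.leaf 3663))
 (.node (.leaf 3745)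
 (.leaf 2379)))))
 (.node (.node (.node (.node (.leaf 257)
 (.leaf 3227))
 (.node (.leaf 183)
 (.leaf 1349)))
 (.node (.node (.leaf 2610)
 (.leaf 1353))
 (.node (.leaf 1427)
 (.leaf 1188))))
 (.node (.node (.node (.leaf 840)
 (.leaf 1705))
 (.node (.leaf 2625)
 (.leaf 104)))
 (.node (.node (.leaf 3361)
 (.leaf 3139))
 (.node (.leaf 2511)
 (.leaf 802))))))
 (.node (.node (.node (.node (.node (.leaf 1959)
 (.leaf 653))
 (.node (.leaf 2271)
 (.leaf 2688)))
 (.node (.node (.leaf 1841)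
 (.leaf 1929))
 (.node (.leaf 69)
 (.leaf 1836))))
 (.node (.node (.node (.leaf 1303)
 (.leaf 2245))
 (.node (.leaf 1447)
 (.leaf 3728)))
 (.node (.node (.leaf 3850)
 (.leaf 2996))
 (.node (.leaf 2742)
 (.leaf 891)))))
 (.node (.node (.node (.node (.leaf 2229)
 (.leaf 2124))
 (.node (.leaf 701)
 (.leaf 3910)))
 (.node (.node (.leaf 1981)
 (.leaf 2110))
 (.node (.leaf 2527)
 (.leaf 1949))))
 (.node (.node (.node (.leaf 605)
 (.leaf 275))
 (.node (.leaf 2935)
 (.leaf 971)))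
 (.node (.node (.leaf 3982)
 (.leaf 966))
 (.node (.leaf 1995)
 (.leaf 3813))))))

def tAiB1 : RT := .node (.node (.node (.node (.node (.node (.leaf 1912)
 (.leaf 461))
 (.node (.leaf 3831)
 (.leaf 2365)))
 (.node (.node (.leaf 1578)
 (.leaf 1111))
 (.node (.leaf 2640)
 (.leaf 2339))))
 (.node (.node (.node (.leaf 1060)
 (.leaf 3640))
 (.node (.leaf 1415)
 (.leaf 4038)))
 (.node (.node (.leaf 2190)
 (.leaf 533))
 (.node (.leaf 561)
 (.leaf 3381)))))
 (.node (.node (.node (.node (.leaf 10)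
 (.leaf 245))
 (.node (.leaf 1687)
 (.leaf 3871)))
 (.node (.node (.leaf 777)
 (.leaf 883))
 (.node (.leaf 575)
 (.leaf 2514))))
 (.node (.node (.node (.leaf 2930)
 (.leaf 1709))
 (.node (.leaf 976)
 (.leaf 748)))
 (.node (.node (.leaf 147)
 (.leaf 3647))
 (.node (.leaf 2260)
 (.leaf 120))))))
 (.node (.node (.node (.node (.node (.leaf 4045)
 (.leaf 3031))
 (.node (.leaf 2119)
 (.leaf 3050)))
 (.node (.node (.leaf 3389)
 (.leaf 1368))
 (.node (.leaf 1520)
 (.leaf 3878))))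
 (.node (.node (.node (.leaf 909)
 (.leaf 2060))
 (.node (.leaf 1903)
 (.leaf 3569)))
 (.node (.node (.leaf 572)
 (.leaf 3143))
 (.node (.leaf 2720)
 (.leaf 2522)))))
 (.node (.node (.node (.node (.leaf 1454)
 (.leaf 3191))
 (.node (.leaf 1431)
 (.leaf 905)))
 (.node (.node (.leaf 1607)
 (.leaf 838))
 (.node (.leaf 2857)
 (.leaf 1142))))
 (.node (.node (.node (.leaf 3691)
 (.leaf 3591))
 (.node (.leaf 2021)
 (.leaf 2618)))
 (.node (.node (.leaf 794)
 (.leaf 508))
 (.node (.leaf 2832)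
 (.leaf 3393))))))

def tAiB2 : RT := .node (.node (.node (.node (.node (.node (.leaf 84)
 (.leaf 2133))
 (.node (.leaf 1967)
 (.leaf 333)))
 (.node (.node (.leaf 2330)
 (.leaf 644))
 (.node (.leaf 560)
 (.leaf 1613))))
 (.node (.node (.node (.leaf 3230)
 (.leaf 1645))
 (.node (.leaf 927)
 (.leaf 16)))
 (.node (.node (.leaf 341)
 (.leaf 1780))
 (.node (.leaf 1169)
 (.leaf 3719)))))
 (.node (.node (.node (.node (.leaf 111)
 (.leaf 1220))
 (.node (.leaf 2176)
 (.leaf 3722)))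
 (.node (.node (.leaf 376)
 (.leaf 3429))
 (.node (.leaf 14)
 (.leaf 3196))))
 (.node (.node (.node (.leaf 3317)
 (.leaf 2303))
 (.node (.leaf 1230)
 (.leaf 6)))
 (.node (.node (.leaf 2277)
 (.leaf 3862))
 (.node (.leaf 2619)
 (.leaf 2313))))))
 (.node (.node (.node (.node (.node (.leaf 1873)
 (.leaf 1871))
 (.node (.leaf 1398)
 (.leaf 1616)))
 (.node (.node (.leaf 3570)
 (.leaf 943))
 (.node (.leaf 1276)
 (.leaf 261))))
 (.node (.node (.node (.leaf 3889)
 (.leaf 2366))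
 (.node (.leaf 1388)
 (.leaf 2900)))
 (.node (.node (.leaf 2816)
 (.leaf 3147))
 (.node (.leaf 2588)
 (.leaf 3695)))))
 (.node (.node (.node (.node (.leaf 3009)
 (.leaf 2829))
 (.node (.leaf 4034)
 (.leaf 1631)))
 (.node (.node (.leaf 963)
 (.leaf 646))
 (.node (.leaf 1128)
 (.leaf 1813))))
 (.node (.node (.node (.leaf 1042)
 (.leaf 1870))
 (.node (.leaf 2836)
 (.leaf 505)))
 (.node (.node (.leaf 2097)
 (.leaf 4004))
 (.node (.leaf 3269)
 (.leaf 1149))))))

def tAiB3 : RT := .node (.node (.node (.node (.node (.node (.leaf 3460)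
 (.leaf 2696))
 (.node (.leaf 2431)
 (.leaf 1082)))
 (.node (.node (.leaf 599)
 (.leaf 418))
 (.node (.leaf 3168)
 (.leaf 2089))))
 (.node (.node (.node (.leaf 188)
 (.leaf 3776))
 (.node (.leaf 281)
 (.leaf 3073)))
 (.node (.node (.leaf 2145)
 (.leaf 3315))
 (.node (.leaf 3987)
 (.leaf 1497)))))
 (.node (.node (.node (.node (.leaf 2238)
 (.leaf 1335))
 (.node (.leaf 2730)
 (.leaf 3990)))
 (.node (.node (.leaf 2104)
 (.leaf 1508))
 (.node (.leaf 3123)
 (.leaf 3807))))
 (.node (.node (.node (.leaf 1374)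
 (.leaf 821))
 (.node (.leaf 2105)
 (.leaf 23)))
 (.node (.node (.leaf 223)
 (.leaf 2153))
 (.node (.leaf 358)
 (.leaf 2505))))))
 (.node (.node (.node (.node (.node (.leaf 1477)
 (.leaf 545))
 (.node (.leaf 1974)
 (.leaf 3956)))
 (.node (.node (.leaf 1016)
 (.leaf 2455))
 (.node (.leaf 1161)
 (.leaf 1900))))
 (.node (.node (.node (.leaf 2390)
 (.leaf 3735))
 (.node (.leaf 2192)
 (.leaf 3162)))
 (.node (.node (.leaf 3129)
 (.leaf 652))
 (.node (.leaf 2488)
 (.leaf 2851)))))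
 (.node (.node (.node (.node (.leaf 796)
 (.leaf 3874))
 (.node (.leaf 2861)
 (.leaf 3504)))
 (.node (.node (.leaf 1741)
 (.leaf 2925))
 (.node (.leaf 1428)
 (.leaf 1171))))
 (.node (.node (.node (.leaf 867)
 (.leaf 1887))
 (.node (.leaf 1467)
 (.leaf 2228)))
 (.node (.node (.leaf 1213)
 (.leaf 1100))
 (.node (.leaf 2987)
 (.leaf 2311))))))

def tAiB4 : RT := .node (.node (.node (.node (.node (.node (.leaf 3977)
 (.leaf 2894))
 (.node (.leaf 2356)
 (.leaf 182)))
 (.node (.node (.leaf 1331)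
 (.leaf 1814))
 (.node (.leaf 2918)
 (.leaf 1280))))
 (.node (.node (.node (.leaf 2854)
 (.leaf 2568))
 (.node (.leaf 610)
 (.leaf 1333)))
 (.node (.node (.leaf 2057)
 (.leaf 1391))
 (.node (.leaf 3376)
 (.leaf 3559)))))
 (.node (.node (.node (.node (.leaf 2602)
 (.leaf 232))
 (.node (.leaf 2014)
 (.leaf 239)))
 (.node (.node (.leaf 2896)
 (.leaf 2486))
 (.node (.leaf 809)
 (.leaf 3411))))
 (.node (.node (.node (.leaf 1387)
 (.leaf 3638))
 (.node (.leaf 2943)
 (.leaf 1195)))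
 (.node (.node (.leaf 3101)
 (.leaf 2735))
 (.node (.leaf 3034)
 (.leaf 2156))))))
 (.node (.node (.node (.node (.node (.leaf 2297)
 (.leaf 3846))
 (.node (.leaf 3327)
 (.leaf 1758)))
 (.node (.node (.leaf 2706)
 (.leaf 4002))
 (.node (.leaf 2137)
 (.leaf 3384))))
 (.node (.node (.node (.leaf 2840)
 (.leaf 3081))
 (.node (.leaf 442)
 (.leaf 3689)))
 (.node (.node (.leaf 2358)
 (.leaf 2016))
 (.node (.leaf 2670)
 (.leaf 1790)))))
 (.node (.node (.node (.node (.leaf 4047)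
 (.leaf 3734))
 (.node (.leaf 2047)
 (.leaf 1389)))
 (.node (.node (.leaf 914)
 (.leaf 263))
 (.node (.leaf 3436)
 (.leaf 3574))))
 (.node (.node (.node (.leaf 3921)
 (.leaf 1411))
 (.node (.leaf 944)
 (.leaf 2292)))
 (.node (.node (.leaf 3419)
 (.leaf 715))
 (.node (.leaf 483)
 (.leaf 2336))))))

def tAiB5 : RT := .node (.node (.node (.node (.node (.node (.leaf 2108)
 (.leaf 2005))
 (.node (.leaf 3042)
 (.leaf 3240)))
 (.node (.node (.leaf 890)
 (.leaf 600))
 (.node (.leaf 76)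
 (.leaf 2745))))
 (.node (.node (.node (.leaf 2497)
 (.leaf 614))
 (.node (.leaf 2591)
 (.leaf 1773)))
 (.node (.node (.leaf 1139)
 (.leaf 2467))
 (.node (.leaf 2188)
 (.leaf 2053)))))
 (.node (.node (.node (.node (.leaf 205)
 (.leaf 2633))
 (.node (.leaf 3770)
 (.leaf 3690)))
 (.node (.node (.leaf 2126)
 (.leaf 1815))
 (.node (.leaf 2141)
 (.leaf 1158))))
 (.node (.node (.node (.leaf 2269)
 (.leaf 2757))
 (.node (.leaf 3920)
 (.leaf 1132)))
 (.node (.node (.leaf 1441)
 (.leaf 3175))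
 (.node (.leaf 1173)
 (.leaf 2733))))))
 (.node (.node (.node (.node (.node (.leaf 164)
 (.leaf 3560))
 (.node (.leaf 1272)
 (.leaf 3847)))
 (.node (.node (.leaf 603)
 (.leaf 649))
 (.node (.leaf 1006)
 (.leaf 1458))))
 (.node (.node (.node (.leaf 168)
 (.leaf 3273))
 (.node (.leaf 2729)
 (.leaf 420)))
 (.node (.node (.leaf 1465)
 (.leaf 703))
 (.node (.leaf 32)
 (.leaf 1998)))))
 (.node (.node (.node (.node (.leaf 1047)
 (.leaf 3078))
 (.node (.leaf 895)
 (.leaf 1970)))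
 (.node (.node (.leaf 1920)
 (.leaf 2478))
 (.node (.leaf 2361)
 (.leaf 978))))
 (.node (.node (.node (.leaf 2362)
 (.leaf 1697))
 (.node (.leaf 2596)
 (.leaf 932)))
 (.node (.node (.leaf 2554)
 (.leaf 241))
 (.node (.leaf 2168)
 (.leaf 1405))))))

def tAiB6 : RT := .node (.node (.node (.node (.node (.node (.leaf 359)
 (.leaf 584))
 (.node (.leaf 254)
 (.leaf 2002)))
 (.node (.node (.leaf 2316)
 (.leaf 1237))
 (.node (.leaf 2278)
 (.leaf 3609))))
 (.node (.node (.node (.leaf 543)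
 (.leaf 525))
 (.node (.leaf 347)
 (.leaf 2859)))
 (.node (.node (.leaf 906)
 (.leaf 1992))
 (.node (.leaf 1916)
 (.leaf 792)))))
 (.node (.node (.node (.node (.leaf 2549)
 (.leaf 1910))
 (.node (.leaf 1157)
 (.leaf 3488)))
 (.node (.node (.leaf 3023)
 (.leaf 3021))
 (.node (.leaf 2656)
 (.leaf 1418))))
 (.node (.node (.node (.leaf 3553)
 (.leaf 1618))
 (.node (.leaf 2897)
 (.leaf 2517)))
 (.node (.node (.leaf 3312)
 (.leaf 3109))
 (.node (.leaf 1955)
 (.leaf 390))))))
 (.node (.node (.node (.node (.node (.leaf 3493)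
 (.leaf 1381))
 (.node (.leaf 3984)
 (.leaf 3179)))
 (.node (.node (.leaf 2777)
 (.leaf 3649))
 (.node (.leaf 1472)
 (.leaf 2291))))
 (.node (.node (.node (.leaf 2482)
 (.leaf 3641))
 (.node (.leaf 3414)
 (.leaf 3676)))
 (.node (.node (.leaf 3680)
 (.leaf 3387))
 (.node (.leaf 3032)
 (.leaf 1240)))))
 (.node (.node (.node (.node (.leaf 2823)
 (.leaf 3383))
 (.node (.leaf 4000)
 (.leaf 769)))
 (.node (.node (.leaf 3939)
 (.leaf 3934))
 (.node (.leaf 2248)
 (.leaf 3540))))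
 (.node (.node (.node (.leaf 3693)
 (.leaf 19))
 (.node (.leaf 1045)
 (.leaf 3054)))
 (.node (.node (.leaf 2283)
 (.leaf 781))
 (.node (.leaf 2822)
 (.leaf 2660))))))

def tAiB7 : RT := .node (.node (.node (.node (.node (.node (.leaf 293)
 (.leaf 1238))
 (.node (.leaf 2010)
 (.leaf 3404)))
 (.node (.node (.leaf 1980)
 (.leaf 3085))
 (.node (.leaf 2235)
 (.leaf 1028))))
 (.node (.node (.node (.leaf 3276)
 (.leaf 437))
 (.node (.leaf 546)
 (.leaf 3392)))
 (.node (.node (.leaf 2924)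
 (.leaf 2035))
 (.node (.leaf 374)
 (.leaf 2129)))))
 (.node (.node (.node (.node (.leaf 2274)
 (.leaf 3959))
 (.node (.leaf 1821)
 (.leaf 1876)))
 (.node (.node (.leaf 510)
 (.leaf 3731))
 (.node (.leaf 3849)
 (.leaf 391))))
 (.node (.node (.node (.leaf 2329)
 (.leaf 2046))
 (.node (.leaf 2122)
 (.leaf 2932)))
 (.node (.node (.leaf 3498)
 (.leaf 628))
 (.node (.leaf 3644)
 (.leaf 344))))))
 (.node (.node (.node (.node (.node (.leaf 3500)
 (.leaf 1023))
 (.node (.leaf 2899)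
 (.leaf 124)))
 (.node (.node (.leaf 2335)
 (.leaf 1756))
 (.node (.leaf 3686)
 (.leaf 1838))))
 (.node (.node (.node (.leaf 1786)
 (.leaf 1146))
 (.node (.leaf 1177)
 (.leaf 2799)))
 (.node (.node (.leaf 3773)
 (.leaf 3968))
 (.node (.leaf 3268)
 (.leaf 1094)))))
 (.node (.node (.node (.node (.leaf 2756)
 (.leaf 3030))
 (.node (.leaf 4020)
 (.leaf 1957)))
 (.node (.node (.leaf 3953)
 (.leaf 2974))
 (.node (.leaf 2547)
 (.leaf 2605))))
 (.node (.node (.node (.leaf 1448)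
 (.leaf 1384))
 (.node (.leaf 3318)
 (.leaf 2603)))
 (.node (.node (.leaf 1986)
 (.leaf 755))
 (.node (.leaf 2319)
 (.leaf 1424))))))

def tAiB8 : RT := .node (.node (.node (.node (.node (.node (.leaf 2334)
 (.leaf 3993))
 (.node (.leaf 2906)
 (.leaf 962)))
 (.node (.node (.leaf 4040)
 (.leaf 2940))
 (.node (.leaf 1911)
 (.leaf 1490))))
 (.node (.node (.node (.leaf 1190)
 (.leaf 2969))
 (.node (.leaf 4046)
 (.leaf 3532)))
 (.node (.node (.leaf 3859)
 (.leaf 1717))
 (.node (.leaf 2304)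
 (.leaf 262)))))
 (.node (.node (.node (.node (.leaf 3771)
 (.leaf 1894))
 (.node (.leaf 2761)
 (.leaf 2954)))
 (.node (.node (.leaf 922)
 (.leaf 2043))
 (.node (.leaf 2463)
 (.leaf 3751))))
 (.node (.node (.node (.leaf 2627)
 (.leaf 1396))
 (.node (.leaf 1739)
 (.leaf 3471)))
 (.node (.node (.leaf 804)
 (.leaf 2828))
 (.node (.leaf 2578)
 (.leaf 3932))))))
 (.node (.node (.node (.node (.node (.leaf 658)
 (.leaf 557))
 (.node (.leaf 2641)
 (.leaf 3301)))
 (.node (.node (.leaf 2138)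
 (.leaf 4056))
 (.node (.leaf 3749)
 (.leaf 1061))))
 (.node (.node (.node (.leaf 2845)
 (.leaf 2847))
 (.node (.leaf 1851)
 (.leaf 3821)))
 (.node (.node (.leaf 1051)
 (.leaf 663))
 (.node (.leaf 3927)
 (.leaf 3788)))))
 (.node (.node (.node (.node (.leaf 3830)
 (.leaf 3041))
 (.node (.leaf 2481)
 (.leaf 989)))
 (.node (.node (.leaf 2469)
 (.leaf 3613))
 (.node (.leaf 1407)
 (.leaf 637))))
 (.node (.node (.node (.leaf 634)
 (.leaf 1321))
 (.node (.leaf 733)
 (.leaf 3970)))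
 (.node (.node (.leaf 2790)
 (.leaf 2941))
 (.node (.leaf 144)
 (.leaf 1968))))))

def tAiB9 : RT := .node (.node (.node (.node (.node (.node (.leaf 3881)
 (.leaf 3992))
 (.node (.leaf 3759)
 (.leaf 3605)))
 (.node (.node (.leaf 1810)
 (.leaf 499))
 (.node (.leaf 2224)
 (.leaf 286))))
 (.node (.node (.node (.leaf 3185)
 (.leaf 88))
 (.node (.leaf 2166)
 (.leaf 3236)))
 (.node (.node (.leaf 3288)
 (.leaf 1783))
 (.node (.leaf 2299)
 (.leaf 1430)))))
 (.node (.node (.node (.node (.leaf 3924)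
 (.leaf 4050))
 (.node (.leaf 2611)
 (.leaf 82)))
 (.node (.node (.leaf 2536)
 (.leaf 1466))
 (.node (.leaf 89)
 (.leaf 1202))))
 (.node (.node (.node (.leaf 667)
 (.leaf 3067))
 (.node (.leaf 3857)
 (.leaf 3710)))
 (.node (.node (.leaf 2550)
 (.leaf 2796))
 (.node (.leaf 381)
 (.leaf 4021))))))
 (.node (.node (.node (.node (.node (.leaf 1907)
 (.leaf 863))
 (.node (.leaf 3248)
 (.leaf 518)))
 (.node (.node (.leaf 1665)
 (.leaf 3633))
 (.node (.leaf 1014)
 (.leaf 1976))))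
 (.node (.node (.node (.leaf 41)
 (.leaf 3543))
 (.node (.leaf 1456)
 (.leaf 2798)))
 (.node (.node (.leaf 2560)
 (.leaf 372))
 (.node (.leaf 2638)
 (.leaf 1022)))))
 (.node (.node (.node (.node (.leaf 830)
 (.leaf 1031))
 (.node (.leaf 3777)
 (.leaf 2381)))
 (.node (.node (.leaf 3332)
 (.leaf 1685))
 (.node (.leaf 1153)
 (.leaf 3761))))
 (.node (.node (.node (.leaf 231)
 (.leaf 1582))
 (.node (.leaf 2143)
 (.leaf 3832)))
 (.node (.node (.leaf 3797)
 (.leaf 2113))
 (.node (.leaf 3511)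
 (.leaf 411))))))

def tAiB10 : RT := .node (.node (.node (.node (.node (.node (.leaf 2410)
 (.leaf 1413))
 (.node (.leaf 1106)
 (.leaf 3346)))
 (.node (.node (.leaf 2200)
 (.leaf 224))
 (.node (.leaf 3164)
 (.leaf 1960))))
 (.node (.node (.node (.leaf 2411)
 (.leaf 2582))
 (.node (.leaf 984)
 (.leaf 1672)))
 (.node (.node (.leaf 1117)
 (.leaf 1159))
 (.node (.leaf 3290)
 (.leaf 1846)))))
 (.node (.node (.node (.node (.leaf 2273)
 (.leaf 2837))
 (.node (.leaf 1984)
 (.leaf 1168)))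
 (.node (.node (.leaf 4033)
 (.leaf 3396))
 (.node (.leaf 3743)
 (.leaf 784))))
 (.node (.node (.node (.leaf 2962)
 (.leaf 3583))
 (.node (.leaf 3614)
 (.leaf 2301)))
 (.node (.node (.leaf 2710)
 (.leaf 2382))
 (.node (.leaf 2011)
 (.leaf 1059))))))
 (.node (.node (.node (.node (.node (.leaf 3833)
 (.leaf 998))
 (.node (.leaf 3408)
 (.leaf 3013)))
 (.node (.node (.leaf 2945)
 (.leaf 3214))
 (.node (.leaf 817)
 (.leaf 2528))))
 (.node (.node (.node (.leaf 1429)
 (.leaf 878))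
 (.node (.leaf 1107)
 (.leaf 850)))
 (.node (.node (.leaf 2495)
 (.leaf 926))
 (.node (.leaf 2139)
 (.leaf 1550)))))
 (.node (.node (.node (.node (.leaf 3524)
 (.leaf 1229))
 (.node (.leaf 1825)
 (.leaf 2538)))
 (.node (.node (.leaf 1155)
 (.leaf 2209))
 (.node (.leaf 1495)
 (.leaf 670))))
 (.node (.node (.node (.leaf 3400)
 (.leaf 773))
 (.node (.leaf 1688)
 (.leaf 3264)))
 (.node (.node (.leaf 1386)
 (.leaf 1776))
 (.node (.leaf 2218)
 (.leaf 2908))))))

def tAiB11 : RT := .node (.node (.node (.node (.node (.node (.leaf 342)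
 (.leaf 1160))
 (.node (.leaf 1302)
 (.leaf 277)))
 (.node (.node (.leaf 2606)
 (.leaf 3033))
 (.node (.leaf 425)
 (.leaf 706))))
 (.node (.node (.node (.leaf 3457)
 (.leaf 1402))
 (.node (.leaf 2030)
 (.leaf 1468)))
 (.node (.node (.leaf 1077)
 (.leaf 375))
 (.node (.leaf 3575)
 (.leaf 1652)))))
 (.node (.node (.node (.node (.leaf 1133)
 (.leaf 3899))
 (.node (.leaf 3962)
 (.leaf 2856)))
 (.node (.node (.leaf 3107)
 (.leaf 2006))
 (.node (.leaf 3075)
 (.leaf 957))))
 (.node (.node (.node (.leaf 2134)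
 (.leaf 2700))
 (.node (.leaf 3973)
 (.leaf 169)))
 (.node (.node (.leaf 3153)
 (.leaf 2770))
 (.node (.leaf 3882)
 (.leaf 3473))))))
 (.node (.node (.node (.node (.node (.leaf 1969)
 (.leaf 1116))
 (.node (.leaf 2191)
 (.leaf 1164)))
 (.node (.node (.leaf 3371)
 (.leaf 3554))
 (.node (.leaf 1831)
 (.leaf 1329))))
 (.node (.node (.node (.leaf 860)
 (.leaf 3601))
 (.node (.leaf 1284)
 (.leaf 3202)))
 (.node (.node (.leaf 260)
 (.leaf 3093))
 (.node (.leaf 2850)
 (.leaf 3117)))))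
 (.node (.node (.node (.node (.leaf 502)
 (.leaf 2933))
 (.node (.leaf 3059)
 (.leaf 2232)))
 (.node (.node (.leaf 2852)
 (.leaf 2114))
 (.node (.leaf 1075)
 (.leaf 3668))))
 (.node (.node (.node (.leaf 3660)
 (.leaf 3746))
 (.node (.leaf 842)
 (.leaf 3787)))
 (.node (.node (.leaf 3526)
 (.leaf 2695))
 (.node (.leaf 3150)
 (.leaf 1673))))))

def tAiB12 : RT := .node (.node (.node (.node (.node (.node (.leaf 305)
 (.leaf 2385))
 (.node (.leaf 3113)
 (.leaf 768)))
 (.node (.node (.leaf 4031)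
 (.leaf 250))
 (.node (.leaf 3824)
 (.leaf 1834))))
 (.node (.node (.node (.leaf 3297)
 (.leaf 1122))
 (.node (.leaf 3775)
 (.leaf 246)))
 (.node (.node (.leaf 2496)
 (.leaf 1518))
 (.node (.leaf 3896)
 (.leaf 2679)))))
 (.node (.node (.node (.node (.leaf 471)
 (.leaf 2439))
 (.node (.leaf 2749)
 (.leaf 2326)))
 (.node (.node (.leaf 3374)
 (.leaf 2919))
 (.node (.leaf 1818)
 (.leaf 3222))))
 (.node (.node (.node (.leaf 364)
 (.leaf 108))
 (.node (.leaf 3762)
 (.leaf 208)))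
 (.node (.node (.leaf 1536)
 (.leaf 1811))
 (.node (.leaf 2882)
 (.leaf 211))))))
 (.node (.node (.node (.node (.node (.leaf 3527)
 (.leaf 30))
 (.node (.leaf 156)
 (.leaf 661)))
 (.node (.node (.leaf 3207)
 (.leaf 2835))
 (.node (.leaf 2617)
 (.leaf 237))))
 (.node (.node (.node (.leaf 3255)
 (.leaf 3873))
 (.node (.leaf 3154)
 (.leaf 209)))
 (.node (.node (.leaf 3213)
 (.leaf 583))
 (.node (.leaf 3246)
 (.leaf 2608)))))
 (.node (.node (.node (.node (.leaf 3006)
 (.leaf 1144))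
 (.node (.leaf 3283)
 (.leaf 3053)))
 (.node (.node (.leaf 424)
 (.leaf 3382))
 (.node (.leaf 3279)
 (.leaf 3068))))
 (.node (.node (.node (.leaf 3470)
 (.leaf 3538))
 (.node (.leaf 3806)
 (.leaf 1346)))
 (.node (.node (.leaf 2967)
 (.leaf 955))
 (.node (.leaf 1435)
 (.leaf 2042))))))

def tAiB13 : RT := .node (.node (.node (.node (.node (.node (.leaf 2716)
 (.leaf 538))
 (.node (.leaf 1148)
 (.leaf 845)))
 (.node (.node (.leaf 3834)
 (.leaf 2724))
 (.node (.leaf 493)
 (.leaf 2))))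
 (.node (.node (.node (.leaf 2972)
 (.leaf 3718))
 (.node (.leaf 3417)
 (.leaf 1150)))
 (.node (.node (.leaf 3186)
 (.leaf 377))
 (.node (.leaf 206)
 (.leaf 131)))))
 (.node (.node (.node (.node (.leaf 44)
 (.leaf 3204))
 (.node (.leaf 3708)
 (.leaf 3701)))
 (.node (.node (.leaf 2901)
 (.leaf 1330))
 (.node (.leaf 153)
 (.leaf 1137))))
 (.node (.node (.node (.leaf 3035)
 (.leaf 1540))
 (.node (.leaf 597)
 (.leaf 2099)))
 (.node (.node (.leaf 1408)
 (.leaf 2054))
 (.node (.leaf 1604)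
 (.leaf 979))))))
 (.node (.node (.node (.node (.node (.leaf 3448)
 (.leaf 999))
 (.node (.leaf 660)
 (.leaf 729)))
 (.node (.node (.leaf 4054)
 (.leaf 1436))
 (.node (.leaf 2325)
 (.leaf 2703))))
 (.node (.node (.node (.leaf 2764)
 (.leaf 271))
 (.node (.leaf 782)
 (.leaf 2665)))
 (.node (.node (.leaf 2215)
 (.leaf 2876))
 (.node (.leaf 474)
 (.leaf 2212)))))
 (.node (.node (.node (.node (.leaf 1114)
 (.leaf 2300))
 (.node (.leaf 3012)
 (.leaf 2982)))
 (.node (.node (.leaf 2157)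
 (.leaf 2697))
 (.node (.leaf 21)
 (.leaf 2965))))
 (.node (.node (.node (.leaf 2421)
 (.leaf 2022))
 (.node (.leaf 2723)
 (.leaf 2080)))
 (.node (.node (.leaf 2620)
 (.leaf 2353))
 (.node (.leaf 3826)
 (.leaf 1694))))))

def tAiB14 : RT := .node (.node (.node (.node (.node (.node (.leaf 2261)
 (.leaf 1761))
 (.node (.leaf 53)
 (.leaf 240)))
 (.node (.node (.leaf 1965)
 (.leaf 1829))
 (.node (.leaf 355)
 (.leaf 1250))))
 (.node (.node (.node (.leaf 2017)
 (.leaf 3047))
 (.node (.leaf 3261)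
 (.leaf 3328)))
 (.node (.node (.leaf 1680)
 (.leaf 3090))
 (.node (.leaf 1823)
 (.leaf 334)))))
 (.node (.node (.node (.node (.leaf 1952)
 (.leaf 3001))
 (.node (.leaf 3925)
 (.leaf 622)))
 (.node (.node (.leaf 2077)
 (.leaf 1865))
 (.node (.leaf 1300)
 (.leaf 1541))))
 (.node (.node (.node (.leaf 2347)
 (.leaf 1875))
 (.node (.leaf 2976)
 (.leaf 1018)))
 (.node (.node (.leaf 477)
 (.leaf 2116))
 (.node (.leaf 2241)
 (.leaf 2521))))))
 (.node (.node (.node (.node (.node (.leaf 3684)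
 (.leaf 1848))
 (.node (.leaf 494)
 (.leaf 3060)))
 (.node (.node (.leaf 719)
 (.leaf 1888))
 (.node (.leaf 737)
 (.leaf 2018))))
 (.node (.node (.node (.leaf 2874)
 (.leaf 2652))
 (.node (.leaf 2631)
 (.leaf 2938)))
 (.node (.node (.leaf 2392)
 (.leaf 215))
 (.node (.leaf 3480)
 (.leaf 2500)))))
 (.node (.node (.node (.node (.leaf 2213)
 (.leaf 2427))
 (.node (.leaf 904)
 (.leaf 2063)))
 (.node (.node (.leaf 3220)
 (.leaf 2131))
 (.node (.leaf 513)
 (.leaf 3760))))
 (.node (.node (.node (.leaf 1653)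
 (.leaf 2672))
 (.node (.leaf 1619)
 (.leaf 1605)))
 (.node (.node (.leaf 1990)
 (.leaf 785))
 (.node (.leaf 2320)
 (.leaf 2566))))))

def tAiB15 : RT := .node (.node (.node (.node (.node (.node (.leaf 2386)
 (.leaf 3477))
 (.node (.leaf 2551)
 (.leaf 2532)))
 (.node (.node (.leaf 2197)
 (.leaf 3373))
 (.node (.leaf 862)
 (.leaf 2240))))
 (.node (.node (.node (.leaf 353)
 (.leaf 3685))
 (.node (.leaf 2509)
 (.leaf 3080)))
 (.node (.node (.leaf 2127)
 (.leaf 1798))
 (.node (.leaf 2826)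
 (.leaf 3339)))))
 (.node (.node (.node (.node (.leaf 1090)
 (.leaf 2817))
 (.node (.leaf 2118)
 (.leaf 4048)))
 (.node (.node (.leaf 3783)
 (.leaf 186))
 (.node (.leaf 1612)
 (.leaf 3232))))
 (.node (.node (.node (.leaf 3584)
 (.leaf 1529))
 (.node (.leaf 2432)
 (.leaf 3375)))
 (.node (.node (.leaf 3226)
 (.leaf 950))
 (.node (.leaf 3879)
 (.leaf 3325))))))
 (.node (.node (.node (.node (.node (.leaf 2834)
 (.leaf 3618))
 (.node (.leaf 2132)
 (.leaf 2788)))
 (.node (.node (.leaf 1678)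
 (.leaf 2771))
 (.node (.leaf 722)
 (.leaf 154))))
 (.node (.node (.node (.leaf 284)
 (.leaf 916))
 (.node (.leaf 1228)
 (.leaf 1327)))
 (.node (.node (.leaf 401)
 (.leaf 1902))
 (.node (.leaf 1646)
 (.leaf 2252)))))
 (.node (.node (.node (.node (.leaf 3166)
 (.leaf 3482))
 (.node (.leaf 313)
 (.leaf 3558)))
 (.node (.node (.leaf 3308)
 (.leaf 415))
 (.node (.leaf 110)
 (.leaf 2964))))
 (.node (.node (.node (.leaf 1087)
 (.leaf 1141))
 (.node (.leaf 4043)
 (.leaf 2888)))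
 (.node (.node (.leaf 3819)
 (.leaf 1590))
 (.node (.leaf 2643)
 (.leaf 620))))))

def tAiB16 : RT := .node (.node (.node (.node (.node (.node (.leaf 2753)
 (.leaf 1444))
 (.node (.leaf 350)
 (.leaf 1842)))
 (.node (.node (.leaf 1081)
 (.leaf 3967))
 (.node (.leaf 3885)
 (.leaf 357))))
 (.node (.node (.node (.leaf 1858)
 (.leaf 482))
 (.node (.leaf 2418)
 (.leaf 2743)))
 (.node (.node (.leaf 813)
 (.leaf 3666))
 (.node (.leaf 3430)
 (.leaf 2512)))))
 (.node (.node (.node (.node (.leaf 3817)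
 (.leaf 1908))
 (.node (.leaf 1698)
 (.leaf 2426)))
 (.node (.node (.leaf 1471)
 (.leaf 952))
 (.node (.leaf 3930)
 (.leaf 1837))))
 (.node (.node (.node (.leaf 577)
 (.leaf 1610))
 (.node (.leaf 3307)
 (.leaf 3190)))
 (.node (.node (.leaf 2473)
 (.leaf 1989))
 (.node (.leaf 3267)
 (.leaf 2565))))))
 (.node (.node (.node (.node (.node (.leaf 2515)
 (.leaf 369))
 (.node (.leaf 1135)
 (.leaf 1404)))
 (.node (.node (.leaf 3061)
 (.leaf 3998))
 (.node (.leaf 1355)
 (.leaf 3309))))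
 (.node (.node (.node (.leaf 317)
 (.leaf 2289))
 (.node (.leaf 3069)
 (.leaf 2645)))
 (.node (.node (.leaf 2247)
 (.leaf 2540))
 (.node (.leaf 2142)
 (.leaf 2995)))))
 (.node (.node (.node (.node (.leaf 426)
 (.leaf 2763))
 (.node (.leaf 3458)
 (.leaf 399)))
 (.node (.node (.leaf 54)
 (.leaf 2443))
 (.node (.leaf 1656)
 (.leaf 1537))))
 (.node (.node (.node (.leaf 2458)
 (.leaf 3508))
 (.node (.leaf 3791)
 (.leaf 3065)))
 (.node (.node (.leaf 2970)
 (.leaf 2994))
 (.node (.leaf 3772)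
 (.leaf 1096))))))

def tAiB17 : RT := .node (.node (.node (.node (.node (.node (.leaf 2765)
 (.leaf 1525))
 (.node (.leaf 212)
 (.leaf 555)))
 (.node (.node (.leaf 2607)
 (.leaf 1904))
 (.node (.leaf 2162)
 (.leaf 3394))))
 (.node (.node (.node (.leaf 3119)
 (.leaf 2508))
 (.node (.leaf 3212)
 (.leaf 2490)))
 (.node (.node (.leaf 2531)
 (.leaf 1397))
 (.node (.leaf 2266)
 (.leaf 2537)))))
 (.node (.node (.node (.node (.leaf 2573)
 (.leaf 3521))
 (.node (.leaf 710)
 (.leaf 3596)))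
 (.node (.node (.leaf 3496)
 (.leaf 2352))
 (.node (.leaf 3398)
 (.leaf 167))))
 (.node (.node (.node (.leaf 754)
 (.leaf 3656))
 (.node (.leaf 2739)
 (.leaf 3843)))
 (.node (.node (.leaf 1382)
 (.leaf 2858))
 (.node (.leaf 641)
 (.leaf 1999))))))
 (.node (.node (.node (.node (.node (.leaf 594)
 (.leaf 3428))
 (.node (.leaf 2754)
 (.leaf 2751)))
 (.node (.node (.leaf 29)
 (.leaf 2975))
 (.node (.leaf 617)
 (.leaf 2999))))
 (.node (.node (.node (.leaf 495)
 (.leaf 1134))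
 (.node (.leaf 3421)
 (.leaf 921)))
 (.node (.node (.leaf 1901)
 (.leaf 2091))
 (.node (.leaf 3576)
 (.leaf 365)))))
 (.node (.node (.node (.node (.leaf 2032)
 (.leaf 3624))
 (.node (.leaf 1357)
 (.leaf 1271)))
 (.node (.node (.leaf 3045)
 (.leaf 297))
 (.node (.leaf 2449)
 (.leaf 1943))))
 (.node (.node (.node (.leaf 2690)
 (.leaf 3319))
 (.node (.leaf 881)
 (.leaf 2216)))
 (.node (.node (.leaf 2276)
 (.leaf 3648))
 (.node (.leaf 3578)
 (.leaf 2993))))))

def tAiB18 : RT := .node (.node (.node (.node (.node (.node (.leaf 2128)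
 (.leaf 3979))
 (.node (.leaf 1603)
 (.leaf 816)))
 (.node (.node (.leaf 783)
 (.leaf 1380))
 (.node (.leaf 1830)
 (.leaf 1994))))
 (.node (.node (.node (.leaf 184)
 (.leaf 3271))
 (.node (.leaf 1278)
 (.leaf 3936)))
 (.node (.node (.leaf 2762)
 (.leaf 1595))
 (.node (.leaf 893)
 (.leaf 521)))))
 (.node (.node (.node (.node (.leaf 3137)
 (.leaf 562))
 (.node (.leaf 3005)
 (.leaf 4005)))
 (.node (.node (.leaf 1909)
 (.leaf 835))
 (.node (.leaf 692)
 (.leaf 668))))
 (.node (.node (.node (.leaf 3763)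
 (.leaf 3405))
 (.node (.leaf 2586)
 (.leaf 3251)))
 (.node (.node (.leaf 226)
 (.leaf 1214))
 (.node (.leaf 3286)
 (.leaf 337))))))
 (.node (.node (.node (.node (.node (.leaf 931)
 (.leaf 3765))
 (.node (.leaf 3423)
 (.leaf 189)))
 (.node (.node (.leaf 3111)
 (.leaf 306))
 (.node (.leaf 475)
 (.leaf 3360))))
 (.node (.node (.node (.leaf 1872)
 (.leaf 3029))
 (.node (.leaf 1700)
 (.leaf 1704)))
 (.node (.node (.leaf 61)
 (.leaf 2087))
 (.node (.leaf 3562)
 (.leaf 2342)))))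
 (.node (.node (.node (.node (.leaf 3872)
 (.leaf 1734))
 (.node (.leaf 1476)
 (.leaf 2784)))
 (.node (.node (.leaf 1993)
 (.leaf 3794))
 (.node (.leaf 918)
 (.leaf 2833))))
 (.node (.node (.node (.leaf 756)
 (.leaf 1763))
 (.node (.leaf 22)
 (.leaf 3440)))
 (.node (.node (.leaf 1878)
 (.leaf 3459))
 (.node (.leaf 808)
 (.leaf 472))))))

def tAiB19 : RT := .node (.node (.node (.node (.node (.node (.leaf 3463)
 (.leaf 3292))
 (.node (.leaf 1050)
 (.leaf 2494)))
 (.node (.node (.leaf 210)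
 (.leaf 977))
 (.node (.leaf 568)
 (.leaf 3158))))
 (.node (.node (.node (.leaf 385)
 (.leaf 1987))
 (.node (.leaf 3875)
 (.leaf 1817)))
 (.node (.node (.leaf 1581)
 (.leaf 126))
 (.node (.leaf 3144)
 (.leaf 734)))))
 (.node (.node (.node (.node (.leaf 4001)
 (.leaf 2567))
 (.node (.leaf 2923)
 (.leaf 172)))
 (.node (.node (.leaf 3329)
 (.leaf 3549))
 (.node (.leaf 443)
 (.leaf 1370))))
 (.node (.node (.node (.leaf 504)
 (.leaf 615))
 (.node (.leaf 618)
 (.leaf 1067)))
 (.node (.node (.leaf 1423)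
 (.leaf 3909))
 (.node (.leaf 3505)
 (.leaf 1575))))))
 (.node (.node (.node (.node (.node (.leaf 3379)
 (.leaf 787))
 (.node (.leaf 3606)
 (.leaf 2231)))
 (.node (.node (.leaf 4058)
 (.leaf 3092))
 (.node (.leaf 1118)
 (.leaf 298))))
 (.node (.node (.node (.leaf 935)
 (.leaf 2986))
 (.node (.leaf 1650)
 (.leaf 3000)))
 (.node (.node (.leaf 3145)
 (.leaf 3986))
 (.node (.leaf 1944)
 (.leaf 2045)))))
 (.node (.node (.node (.node (.leaf 2193)
 (.leaf 1799))
 (.node (.leaf 2775)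
 (.leaf 2507)))
 (.node (.node (.leaf 2814)
 (.leaf 481))
 (.node (.leaf 592)
 (.leaf 50))))
 (.node (.node (.node (.leaf 1287)
 (.leaf 3097))
 (.node (.leaf 1256)
 (.leaf 140)))
 (.node (.node (.leaf 1221)
 (.leaf 1500))
 (.node (.leaf 607)
 (.leaf 1231))))))

def tAiB20 : RT := .node (.node (.node (.node (.node (.node (.leaf 295)
 (.leaf 1450))
 (.node (.leaf 2149)
 (.leaf 798)))
 (.node (.node (.leaf 3627)
 (.leaf 3863))
 (.node (.leaf 671)
 (.leaf 428))))
 (.node (.node (.node (.leaf 3738)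
 (.leaf 3079))
 (.node (.leaf 954)
 (.leaf 457)))
 (.node (.node (.leaf 1788)
 (.leaf 2189))
 (.node (.leaf 3999)
 (.leaf 2031)))))
 (.node (.node (.node (.node (.leaf 1261)
 (.leaf 2475))
 (.node (.leaf 1163)
 (.leaf 467)))
 (.node (.node (.leaf 1350)
 (.leaf 368))
 (.node (.leaf 1766)
 (.leaf 220))))
 (.node (.node (.node (.leaf 1172)
 (.leaf 2338))
 (.node (.leaf 3403)
 (.leaf 1079)))
 (.node (.node (.leaf 3580)
 (.leaf 1586))
 (.node (.leaf 1623)
 (.leaf 815))))))
 (.node (.node (.node (.node (.node (.leaf 964)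
 (.leaf 2979))
 (.node (.leaf 1470)
 (.leaf 790)))
 (.node (.node (.leaf 2424)
 (.leaf 2758))
 (.node (.leaf 2154)
 (.leaf 252))))
 (.node (.node (.node (.leaf 3055)
 (.leaf 1446))
 (.node (.leaf 1412)
 (.leaf 1621)))
 (.node (.node (.leaf 1922)
 (.leaf 3520))
 (.node (.leaf 267)
 (.leaf 565)))))
 (.node (.node (.node (.node (.leaf 1109)
 (.leaf 2750))
 (.node (.leaf 718)
 (.leaf 1475)))
 (.node (.node (.leaf 2199)
 (.leaf 1248))
 (.node (.leaf 1369)
 (.leaf 3199))))
 (.node (.node (.node (.leaf 1451)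
 (.leaf 2296))
 (.node (.leaf 3127)
 (.leaf 1598)))
 (.node (.node (.leaf 1299)
 (.leaf 2526))
 (.node (.leaf 3446)
 (.leaf 1275))))))

def tAiB21 : RT := .node (.node (.node (.node (.node (.node (.leaf 2931)
 (.leaf 801))
 (.node (.leaf 3592)
 (.leaf 45)))
 (.node (.node (.leaf 951)
 (.leaf 958))
 (.node (.leaf 2546)
 (.leaf 2074))))
 (.node (.node (.node (.leaf 3764)
 (.leaf 1120))
 (.node (.leaf 3161)
 (.leaf 1629)))
 (.node (.node (.leaf 657)
 (.leaf 1659))
 (.node (.leaf 919)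
 (.leaf 1251)))))
 (.node (.node (.node (.node (.leaf 1723)
 (.leaf 2989))
 (.node (.leaf 3997)
 (.leaf 2067)))
 (.node (.node (.leaf 345)
 (.leaf 972))
 (.node (.leaf 691)
 (.leaf 696))))
 (.node (.node (.node (.leaf 1175)
 (.leaf 3908))
 (.node (.leaf 2734)
 (.leaf 1393)))
 (.node (.node (.leaf 2214)
 (.leaf 1915))
 (.node (.leaf 3961)
 (.leaf 807))))))
 (.node (.node (.node (.node (.node (.leaf 772)
 (.leaf 3517))
 (.node (.leaf 2632)
 (.leaf 51)))
 (.node (.node (.leaf 3348)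
 (.leaf 2259))
 (.node (.leaf 4059)
 (.leaf 624))))
 (.node (.node (.node (.leaf 3358)
 (.leaf 3739))
 (.node (.leaf 3692)
 (.leaf 503)))
 (.node (.node (.leaf 3795)
 (.leaf 363))
 (.node (.leaf 3174)
 (.leaf 647)))))
 (.node (.node (.node (.node (.leaf 137)
 (.leaf 3106))
 (.node (.leaf 1180)
 (.leaf 1946)))
 (.node (.node (.leaf 145)
 (.leaf 256))
 (.node (.leaf 2279)
 (.leaf 11))))
 (.node (.node (.node (.leaf 889)
 (.leaf 2013))
 (.node (.leaf 3434)
 (.leaf 3422)))
 (.node (.node (.leaf 2222)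
 (.leaf 3501))
 (.node (.leaf 1617)
 (.leaf 688))))))

def tAiB22 : RT := .node (.node (.node (.node (.node (.node (.leaf 705)
 (.leaf 458))
 (.node (.leaf 1749)
 (.leaf 322)))
 (.node (.node (.leaf 3928)
 (.leaf 2841))
 (.node (.leaf 3036)
 (.leaf 1782))))
 (.node (.node (.node (.leaf 1025)
 (.leaf 1223))
 (.node (.leaf 3951)
 (.leaf 1628)))
 (.node (.node (.leaf 1262)
 (.leaf 56))
 (.node (.leaf 1852)
 (.leaf 1306)))))
 (.node (.node (.node (.node (.leaf 3189)
 (.leaf 163))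
 (.node (.leaf 3320)
 (.leaf 825)))
 (.node (.node (.leaf 132)
 (.leaf 858))
 (.node (.leaf 4055)
 (.leaf 819))))
 (.node (.node (.node (.leaf 3737)
 (.leaf 683))
 (.node (.leaf 920)
 (.leaf 2525)))
 (.node (.node (.leaf 1095)
 (.leaf 3781))
 (.node (.leaf 3229)
 (.leaf 564))))))
 (.node (.node (.node (.node (.node (.leaf 1835)
 (.leaf 1577))
 (.node (.leaf 301)
 (.leaf 469)))
 (.node (.node (.leaf 2961)
 (.leaf 2019))
 (.node (.leaf 2782)
 (.leaf 1855))))
 (.node (.node (.node (.leaf 3565)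
 (.leaf 2318))
 (.node (.leaf 3407)
 (.leaf 2787)))
 (.node (.node (.leaf 1373)
 (.leaf 1793))
 (.node (.leaf 3046)
 (.leaf 4042)))))
 (.node (.node (.node (.node (.leaf 3024)
 (.leaf 3291))
 (.node (.leaf 434)
 (.leaf 3095)))
 (.node (.node (.leaf 779)
 (.leaf 1104))
 (.node (.leaf 1714)
 (.leaf 2440))))
 (.node (.node (.node (.leaf 3438)
 (.leaf 2686))
 (.node (.leaf 3502)
 (.leaf 1189)))
 (.node (.node (.leaf 2626)
 (.leaf 2848))
 (.node (.leaf 289)
 (.leaf 2136))))))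

def tAiB23 : RT := .node (.node (.node (.node (.node (.node (.leaf 2544)
 (.leaf 2895))
 (.node (.leaf 412)
 (.leaf 776)))
 (.node (.node (.leaf 1686)
 (.leaf 1576))
 (.node (.leaf 1727)
 (.leaf 3688))))
 (.node (.node (.node (.leaf 33)
 (.leaf 1363))
 (.node (.leaf 1826)
 (.leaf 2821)))
 (.node (.node (.leaf 3378)
 (.leaf 419))
 (.node (.leaf 2430)
 (.leaf 1399)))))
 (.node (.node (.node (.node (.leaf 1988)
 (.leaf 3221))
 (.node (.leaf 2257)
 (.leaf 1097)))
 (.node (.node (.leaf 486)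
 (.leaf 2598))
 (.node (.leaf 3963)
 (.leaf 3503))))
 (.node (.node (.node (.leaf 194)
 (.leaf 786))
 (.node (.leaf 3564)
 (.leaf 1695)))
 (.node (.node (.leaf 3646)
 (.leaf 3802))
 (.node (.leaf 3198)
 (.leaf 1464))))))
 (.node (.node (.node (.node (.node (.leaf 3901)
 (.leaf 1633))
 (.node (.leaf 2315)
 (.leaf 997)))
 (.node (.node (.leaf 414)
 (.leaf 253))
 (.node (.leaf 3725)
 (.leaf 1211))))
 (.node (.node (.node (.leaf 1742)
 (.leaf 1091))
 (.node (.leaf 96)
 (.leaf 1939)))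
 (.node (.node (.leaf 2309)
 (.leaf 1473))
 (.node (.leaf 699)
 (.leaf 3935)))))
 (.node (.node (.node (.node (.leaf 316)
 (.leaf 1566))
 (.node (.leaf 2636)
 (.leaf 1828)))
 (.node (.node (.leaf 148)
 (.leaf 595))
 (.node (.leaf 1036)
 (.leaf 2846))))
 (.node (.node (.node (.leaf 2966)
 (.leaf 1356))
 (.node (.leaf 2693)
 (.leaf 81)))
 (.node (.node (.leaf 2376)
 (.leaf 3362))
 (.node (.leaf 2673)
 (.leaf 941))))))

def tAiB24 : RT := .node (.node (.node (.node (.node (.node (.leaf 659)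
 (.leaf 856))
 (.node (.leaf 844)
 (.leaf 3827)))
 (.node (.node (.leaf 1608)
 (.leaf 3011))
 (.node (.leaf 632)
 (.leaf 2668))))
 (.node (.node (.node (.leaf 2265)
 (.leaf 329))
 (.node (.leaf 3437)
 (.leaf 2949)))
 (.node (.node (.leaf 207)
 (.leaf 2564))
 (.node (.leaf 2076)
 (.leaf 3086)))))
 (.node (.node (.node (.node (.leaf 1341)
 (.leaf 1455))
 (.node (.leaf 3278)
 (.leaf 2483)))
 (.node (.node (.leaf 2903)
 (.leaf 3670))
 (.node (.leaf 693)
 (.leaf 2792))))
 (.node (.node (.node (.leaf 3037)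
 (.leaf 288))
 (.node (.leaf 160)
 (.leaf 3561)))
 (.node (.node (.leaf 259)
 (.leaf 886))
 (.node (.leaf 767)
 (.leaf 1759))))))
 (.node (.node (.node (.node (.node (.leaf 1689)
 (.leaf 2284))
 (.node (.leaf 1336)
 (.leaf 2543)))
 (.node (.node (.leaf 633)
 (.leaf 218))
 (.node (.leaf 2095)
 (.leaf 3468))))
 (.node (.node (.node (.leaf 969)
 (.leaf 3118))
 (.node (.leaf 897)
 (.leaf 1597)))
 (.node (.node (.leaf 2287)
 (.leaf 3120))
 (.node (.leaf 1074)
 (.leaf 2115)))))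
 (.node (.node (.node (.node (.leaf 3978)
 (.leaf 2892))
 (.node (.leaf 3209)
 (.leaf 2701)))
 (.node (.node (.leaf 236)
 (.leaf 1667))
 (.node (.leaf 529)
 (.leaf 2399))))
 (.node (.node (.node (.leaf 431)
 (.leaf 2158))
 (.node (.leaf 2357)
 (.leaf 1292)))
 (.node (.node (.leaf 217)
 (.leaf 2003))
 (.node (.leaf 2746)
 (.leaf 4008))))))

def tAiB25 : RT := .node (.node (.node (.node (.node (.node (.leaf 3752)
 (.leaf 2307))
 (.node (.leaf 303)
 (.leaf 731)))
 (.node (.node (.leaf 27)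
 (.leaf 1602))
 (.node (.leaf 3323)
 (.leaf 2146))))
 (.node (.node (.node (.leaf 3536)
 (.leaf 304))
 (.node (.leaf 338)
 (.leaf 2545)))
 (.node (.node (.leaf 2773)
 (.leaf 1554))
 (.node (.leaf 3253)
 (.leaf 3818)))))
 (.node (.node (.node (.node (.leaf 2523)
 (.leaf 2180))
 (.node (.leaf 219)
 (.leaf 3507)))
 (.node (.node (.leaf 326)
 (.leaf 1011))
 (.node (.leaf 430)
 (.leaf 4044))))
 (.node (.node (.node (.leaf 1569)
 (.leaf 757))
 (.node (.leaf 738)
 (.leaf 1683)))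
 (.node (.node (.leaf 2073)
 (.leaf 128))
 (.node (.leaf 1785)
 (.leaf 1509))))))
 (.node (.node (.node (.node (.node (.leaf 3022)
 (.leaf 1647))
 (.node (.leaf 2172)
 (.leaf 1833)))
 (.node (.node (.leaf 1533)
 (.leaf 1693))
 (.node (.leaf 1924)
 (.leaf 923))))
 (.node (.node (.node (.leaf 1359)
 (.leaf 2748))
 (.node (.leaf 3844)
 (.leaf 1481)))
 (.node (.node (.leaf 202)
 (.leaf 225))
 (.node (.leaf 2675)
 (.leaf 3793)))))
 (.node (.node (.node (.node (.leaf 1478)
 (.leaf 28))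
 (.node (.leaf 635)
 (.leaf 234)))
 (.node (.node (.leaf 136)
 (.leaf 2159))
 (.node (.leaf 3902)
 (.leaf 3262))))
 (.node (.node (.node (.leaf 204)
 (.leaf 476))
 (.node (.leaf 159)
 (.leaf 2464)))
 (.node (.node (.leaf 1366)
 (.leaf 1933))
 (.node (.leaf 2779)
 (.leaf 1917))))))

def tAiB26 : RT := .node (.node (.node (.node (.node (.node (.leaf 3555)
 (.leaf 1093))
 (.node (.leaf 517)
 (.leaf 249)))
 (.node (.node (.leaf 2574)
 (.leaf 166))
 (.node (.leaf 3981)
 (.leaf 2604))))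
 (.node (.node (.node (.leaf 2978)
 (.leaf 3377))
 (.node (.leaf 3019)
 (.leaf 142)))
 (.node (.node (.leaf 1119)
 (.leaf 714))
 (.node (.leaf 99)
 (.leaf 4017)))))
 (.node (.node (.node (.node (.leaf 3905)
 (.leaf 736))
 (.node (.leaf 3062)
 (.leaf 2328)))
 (.node (.node (.leaf 1713)
 (.leaf 416))
 (.node (.leaf 165)
 (.leaf 750))))
 (.node (.node (.node (.leaf 569)
 (.leaf 1343))
 (.node (.leaf 933)
 (.leaf 1245)))
 (.node (.node (.leaf 1416)
 (.leaf 3825))
 (.node (.leaf 1103)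
 (.leaf 339))))))
 (.node (.node (.node (.node (.node (.leaf 1804)
 (.leaf 2920))
 (.node (.leaf 336)
 (.leaf 1304)))
 (.node (.node (.leaf 63)
 (.leaf 1463))
 (.node (.leaf 2726)
 (.leaf 2843))))
 (.node (.node (.node (.leaf 2740)
 (.leaf 3056))
 (.node (.leaf 2585)
 (.leaf 3272)))
 (.node (.node (.leaf 283)
 (.leaf 789))
 (.node (.leaf 3420)
 (.leaf 682)))))
 (.node (.node (.node (.node (.leaf 2441)
 (.leaf 3938))
 (.node (.leaf 3622)
 (.leaf 3782)))
 (.node (.node (.leaf 3131)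
 (.leaf 468))
 (.node (.leaf 1503)
 (.leaf 2161))))
 (.node (.node (.node (.leaf 654)
 (.leaf 1991))
 (.node (.leaf 452)
 (.leaf 1434)))
 (.node (.node (.leaf 3306)
 (.leaf 1794))
 (.node (.leaf 463)
 (.leaf 2151))))))

def tAiB27 : RT := .node (.node (.node (.node (.node (.node (.leaf 567)
 (.leaf 1409))
 (.node (.leaf 340)
 (.leaf 1289)))
 (.node (.node (.leaf 3796)
 (.leaf 462))
 (.node (.leaf 3146)
 (.leaf 439))))
 (.node (.node (.node (.leaf 847)
 (.leaf 3443))
 (.node (.leaf 107)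
 (.leaf 2827)))
 (.node (.node (.leaf 1850)
 (.leaf 3497))
 (.node (.leaf 1899)
 (.leaf 43)))))
 (.node (.node (.node (.node (.leaf 2295)
 (.leaf 3547))
 (.node (.leaf 3628)
 (.leaf 325)))
 (.node (.node (.leaf 2165)
 (.leaf 3557))
 (.node (.leaf 1869)
 (.leaf 444))))
 (.node (.node (.node (.leaf 1247)
 (.leaf 1746))
 (.node (.leaf 2487)
 (.leaf 2332)))
 (.node (.node (.leaf 3135)
 (.leaf 3313))
 (.node (.leaf 2055)
 (.leaf 788))))))
 (.node (.node (.node (.node (.node (.leaf 2864)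
 (.leaf 3556))
 (.node (.leaf 65)
 (.leaf 509)))
 (.node (.node (.leaf 726)
 (.leaf 967))
 (.node (.leaf 66)
 (.leaf 2744))))
 (.node (.node (.node (.leaf 857)
 (.leaf 2374))
 (.node (.leaf 1032)
 (.leaf 2887)))
 (.node (.node (.leaf 1519)
 (.leaf 1235))
 (.node (.leaf 1488)
 (.leaf 2635)))))
 (.node (.node (.node (.node (.leaf 1553)
 (.leaf 308))
 (.node (.leaf 1676)
 (.leaf 90)))
 (.node (.node (.leaf 3057)
 (.leaf 3664))
 (.node (.leaf 3884)
 (.leaf 242))))
 (.node (.node (.node (.leaf 2947)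
 (.leaf 2820))
 (.node (.leaf 389)
 (.leaf 1208)))
 (.node (.node (.leaf 751)
 (.leaf 4051))
 (.node (.leaf 1338)
 (.leaf 492))))))

def tAiB28 : RT := .node (.node (.node (.node (.node (.node (.leaf 650)
 (.leaf 2437))
 (.node (.leaf 1905)
 (.leaf 2112)))
 (.node (.node (.leaf 1143)
 (.leaf 2201))
 (.node (.leaf 3335)
 (.leaf 1914))))
 (.node (.node (.node (.leaf 1795)
 (.leaf 24))
 (.node (.leaf 25)
 (.leaf 2692)))
 (.node (.node (.leaf 990)
 (.leaf 2220))
 (.node (.leaf 530)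
 (.leaf 2280)))))
 (.node (.node (.node (.node (.leaf 3395)
 (.leaf 18))
 (.node (.leaf 2541)
 (.leaf 1516)))
 (.node (.node (.leaf 1065)
 (.leaf 2580))
 (.node (.leaf 2317)
 (.leaf 1898))))
 (.node (.node (.node (.leaf 563)
 (.leaf 2121))
 (.node (.leaf 3548)
 (.leaf 174)))
 (.node (.node (.leaf 2819)
 (.leaf 1777))
 (.node (.leaf 1937)
 (.leaf 2630))))))
 (.node (.node (.node (.node (.node (.leaf 1165)
 (.leaf 2314))
 (.node (.leaf 3792)
 (.leaf 3134)))
 (.node (.node (.leaf 264)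
 (.leaf 3244))
 (.node (.leaf 1524)
 (.leaf 515))))
 (.node (.node (.node (.leaf 315)
 (.leaf 3779))
 (.node (.leaf 3522)
 (.leaf 975)))
 (.node (.node (.leaf 3043)
 (.leaf 730))
 (.node (.leaf 596)
 (.leaf 180)))))
 (.node (.node (.node (.node (.leaf 1789)
 (.leaf 942))
 (.node (.leaf 3854)
 (.leaf 3629)))
 (.node (.node (.leaf 2663)
 (.leaf 3954))
 (.node (.leaf 1812)
 (.leaf 995))))
 (.node (.node (.node (.leaf 2445)
 (.leaf 2270))
 (.node (.leaf 1738)
 (.leaf 7)))
 (.node (.node (.leaf 3152)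
 (.leaf 105))
 (.node (.leaf 2027)
 (.leaf 3753))))))

def tAiB29 : RT := .node (.node (.node (.node (.node (.node (.leaf 1845)
 (.leaf 535))
 (.node (.leaf 3516)
 (.leaf 2187)))
 (.node (.node (.leaf 3)
 (.leaf 2025))
 (.node (.leaf 707)
 (.leaf 1102))))
 (.node (.node (.node (.leaf 1058)
 (.leaf 1866))
 (.node (.leaf 1716)
 (.leaf 908)))
 (.node (.node (.leaf 1675)
 (.leaf 1371))
 (.node (.leaf 1751)
 (.leaf 2378)))))
 (.node (.node (.node (.node (.leaf 676)
 (.leaf 3900))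
 (.node (.leaf 2041)
 (.leaf 3835)))
 (.node (.node (.leaf 1002)
 (.leaf 1358))
 (.node (.leaf 1771)
 (.leaf 80))))
 (.node (.node (.node (.leaf 1038)
 (.leaf 1069))
 (.node (.leaf 170)
 (.leaf 2539)))
 (.node (.node (.leaf 3416)
 (.leaf 3311))
 (.node (.leaf 4016)
 (.leaf 570))))))
 (.node (.node (.node (.node (.node (.leaf 3258)
 (.leaf 1099))
 (.node (.leaf 3906)
 (.leaf 2253)))
 (.node (.node (.leaf 102)
 (.leaf 501))
 (.node (.leaf 581)
 (.leaf 1557))))
 (.node (.node (.node (.leaf 130)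
 (.leaf 2453))
 (.node (.leaf 3839)
 (.leaf 3259)))
 (.node (.node (.leaf 2007)
 (.leaf 235))
 (.node (.leaf 3837)
 (.leaf 2349)))))
 (.node (.node (.node (.node (.leaf 2098)
 (.leaf 2958))
 (.node (.leaf 2125)
 (.leaf 3535)))
 (.node (.node (.leaf 1312)
 (.leaf 93))
 (.node (.leaf 1267)
 (.leaf 961))))
 (.node (.node (.node (.leaf 2069)
 (.leaf 3709))
 (.node (.leaf 466)
 (.leaf 1406)))
 (.node (.node (.leaf 314)
 (.leaf 2050))
 (.node (.leaf 1420)
 (.leaf 2557))))))

def tAiB30 : RT := .node (.node (.node (.node (.node (.node (.leaf 1747)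
 (.leaf 1057))
 (.node (.leaf 2364)
 (.leaf 1290)))
 (.node (.node (.leaf 3702)
 (.leaf 1236))
 (.node (.leaf 655)
 (.leaf 694))))
 (.node (.node (.node (.leaf 1004)
 (.leaf 2977))
 (.node (.leaf 3157)
 (.leaf 3415)))
 (.node (.node (.leaf 3733)
 (.leaf 3170))
 (.node (.leaf 2258)
 (.leaf 272)))))
 (.node (.node (.node (.node (.leaf 1483)
 (.leaf 3966))
 (.node (.leaf 2293)
 (.leaf 2234)))
 (.node (.node (.leaf 2242)
 (.leaf 1376))
 (.node (.leaf 2951)
 (.leaf 3401))))
 (.node (.node (.node (.leaf 1764)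
 (.leaf 4053))
 (.node (.leaf 143)
 (.leaf 203)))
 (.node (.node (.leaf 2727)
 (.leaf 181))
 (.node (.leaf 2275)
 (.leaf 3608))))))
 (.node (.node (.node (.node (.node (.leaf 1206)
 (.leaf 1754))
 (.node (.leaf 793)
 (.leaf 92)))
 (.node (.node (.leaf 1775)
 (.leaf 1703))
 (.node (.leaf 1203)
 (.leaf 47))))
 (.node (.node (.node (.leaf 1772)
 (.leaf 841))
 (.node (.leaf 574)
 (.leaf 362)))
 (.node (.node (.leaf 1682)
 (.leaf 2363))
 (.node (.leaf 934)
 (.leaf 409)))))
 (.node (.node (.node (.node (.leaf 514)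
 (.leaf 354))
 (.node (.leaf 1291)
 (.leaf 3736)))
 (.node (.node (.leaf 2810)
 (.leaf 361))
 (.node (.leaf 1101)
 (.leaf 717))))
 (.node (.node (.node (.leaf 3662)
 (.leaf 3891))
 (.node (.leaf 1136)
 (.leaf 3630)))
 (.node (.node (.leaf 2831)
 (.leaf 780))
 (.node (.leaf 552)
 (.leaf 216))))))

def tAiB31 : RT := .node (.node (.node (.node (.node (.node (.leaf 3330)
 (.leaf 1480))
 (.node (.leaf 2185)
 (.leaf 2354)))
 (.node (.node (.leaf 2267)
 (.leaf 1037))
 (.node (.leaf 2282)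
 (.leaf 480))))
 (.node (.node (.node (.leaf 48)
 (.leaf 349))
 (.node (.leaf 1985)
 (.leaf 959)))
 (.node (.node (.leaf 2298)
 (.leaf 497))
 (.node (.leaf 1913)
 (.leaf 1460)))))
 (.node (.node (.node (.node (.leaf 1372)
 (.leaf 36))
 (.node (.leaf 1579)
 (.leaf 1774)))
 (.node (.node (.leaf 3944)
 (.leaf 192))
 (.node (.leaf 2542)
 (.leaf 3659))))
 (.node (.node (.node (.leaf 1003)
 (.leaf 3513))
 (.node (.leaf 3233)
 (.leaf 2649)))
 (.node (.node (.leaf 3577)
 (.leaf 3766))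
 (.node (.leaf 645)
 (.leaf 627))))))
 (.node (.node (.node (.node (.node (.leaf 201)
 (.leaf 1296))
 (.node (.leaf 1728)
 (.leaf 1044)))
 (.node (.node (.leaf 3116)
 (.leaf 1040))
 (.node (.leaf 2033)
 (.leaf 392))))
 (.node (.node (.node (.leaf 3784)
 (.leaf 285))
 (.node (.leaf 1563)
 (.leaf 1191)))
 (.node (.node (.leaf 1348)
 (.leaf 3451))
 (.node (.leaf 64)
 (.leaf 1801)))))
 (.node (.node (.node (.node (.leaf 3070)
 (.leaf 2160))
 (.node (.leaf 423)
 (.leaf 1885)))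
 (.node (.node (.leaf 901)
 (.leaf 2548))
 (.node (.leaf 613)
 (.leaf 3331))))
 (.node (.node (.node (.leaf 2946)
 (.leaf 1010))
 (.node (.leaf 2518)
 (.leaf 3082)))
 (.node (.node (.leaf 149)
 (.leaf 3472))
 (.node (.leaf 3338)
 (.leaf 3010))))))

def tAiB32 : RT := .node (.node (.node (.node (.node (.node (.leaf 58)
 (.leaf 403))
 (.node (.leaf 2657)
 (.leaf 3897)))
 (.node (.node (.leaf 2207)
 (.leaf 2956))
 (.node (.leaf 2206)
 (.leaf 3231))))
 (.node (.node (.node (.leaf 1442)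
 (.leaf 1657))
 (.node (.leaf 3774)
 (.leaf 199)))
 (.node (.node (.leaf 3804)
 (.leaf 1064))
 (.node (.leaf 2101)
 (.leaf 2928)))))
 (.node (.node (.node (.node (.leaf 2866)
 (.leaf 770))
 (.node (.leaf 3299)
 (.leaf 1740)))
 (.node (.node (.leaf 1485)
 (.leaf 3758))
 (.node (.leaf 3424)
 (.leaf 1183))))
 (.node (.node (.node (.leaf 121)
 (.leaf 1820))
 (.node (.leaf 3658)
 (.leaf 1068)))
 (.node (.node (.leaf 524)
 (.leaf 2556))
 (.node (.leaf 1009)
 (.leaf 1041))))))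
 (.node (.node (.node (.node (.node (.leaf 936)
 (.leaf 3165))
 (.node (.leaf 1523)
 (.leaf 3810)))
 (.node (.node (.leaf 1507)
 (.leaf 1316))
 (.node (.leaf 3237)
 (.leaf 3809))))
 (.node (.node (.node (.leaf 1847)
 (.leaf 3599))
 (.node (.leaf 2498)
 (.leaf 672)))
 (.node (.node (.leaf 3370)
 (.leaf 1561))
 (.node (.leaf 3616)
 (.leaf 2875)))))
 (.node (.node (.node (.node (.leaf 273)
 (.leaf 2664))
 (.node (.leaf 1086)
 (.leaf 3483)))
 (.node (.node (.leaf 3712)
 (.leaf 478))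
 (.node (.leaf 848)
 (.leaf 1113))))
 (.node (.node (.node (.leaf 187)
 (.leaf 3619))
 (.node (.leaf 2170)
 (.leaf 1063)))
 (.node (.node (.leaf 1538)
 (.leaf 945))
 (.node (.leaf 1000)
 (.leaf 1750))))))

def tAiB33 : RT := .node (.node (.node (.node (.node (.node (.leaf 3586)
 (.leaf 3519))
 (.node (.leaf 3634)
 (.leaf 763)))
 (.node (.node (.leaf 268)
 (.leaf 1124))
 (.node (.leaf 872)
 (.leaf 1666))))
 (.node (.node (.node (.leaf 1951)
 (.leaf 1205))
 (.node (.leaf 1432)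
 (.leaf 3912)))
 (.node (.node (.leaf 2902)
 (.leaf 3249))
 (.node (.leaf 604)
 (.leaf 2646)))))
 (.node (.node (.node (.node (.leaf 843)
 (.leaf 2613))
 (.node (.leaf 2842)
 (.leaf 78)))
 (.node (.node (.leaf 2186)
 (.leaf 1637))
 (.node (.leaf 3971)
 (.leaf 3235))))
 (.node (.node (.node (.leaf 2460)
 (.leaf 1352))
 (.node (.leaf 2034)
 (.leaf 4029)))
 (.node (.node (.leaf 3865)
 (.leaf 3730))
 (.node (.leaf 1176)
 (.leaf 2587))))))
 (.node (.node (.node (.node (.node (.leaf 2462)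
 (.leaf 1636))
 (.node (.leaf 1364)
 (.leaf 1194)))
 (.node (.node (.leaf 924)
 (.leaf 1210))
 (.node (.leaf 1365)
 (.leaf 3136))))
 (.node (.node (.node (.leaf 2677)
 (.leaf 440))
 (.node (.leaf 1769)
 (.leaf 4032)))
 (.node (.node (.leaf 438)
 (.leaf 2040))
 (.node (.leaf 723)
 (.leaf 1548)))))
 (.node (.node (.node (.node (.leaf 3016)
 (.leaf 865))
 (.node (.leaf 1469)
 (.leaf 4011)))
 (.node (.node (.leaf 3665)
 (.leaf 551))
 (.node (.leaf 1279)
 (.leaf 1403))))
 (.node (.node (.node (.leaf 1332)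
 (.leaf 1752))
 (.node (.leaf 3948)
 (.leaf 2179)))
 (.node (.node (.leaf 2501)
 (.leaf 2194))
 (.node (.leaf 3342)
 (.leaf 1395))))))

def tAiB34 : RT := .node (.node (.node (.node (.node (.node (.leaf 896)
 (.leaf 2340))
 (.node (.leaf 3051)
 (.leaf 4057)))
 (.node (.node (.leaf 1724)
 (.leaf 2516))
 (.node (.leaf 429)
 (.leaf 2169))))
 (.node (.node (.node (.leaf 3544)
 (.leaf 1007))
 (.node (.leaf 1125)
 (.leaf 3238)))
 (.node (.node (.leaf 947)
 (.leaf 2815))
 (.node (.leaf 139)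
 (.leaf 3823)))))
 (.node (.node (.node (.node (.leaf 1670)
 (.leaf 528))
 (.node (.leaf 3842)
 (.leaf 1298)))
 (.node (.node (.leaf 2794)
 (.leaf 1862))
 (.node (.leaf 712)
 (.leaf 532))))
 (.node (.node (.node (.leaf 1274)
 (.leaf 3142))
 (.node (.leaf 974)
 (.leaf 743)))
 (.node (.node (.leaf 1691)
 (.leaf 3907))
 (.node (.leaf 1219)
 (.leaf 1437))))))
 (.node (.node (.node (.node (.node (.leaf 2921)
 (.leaf 2155))
 (.node (.leaf 1301)
 (.leaf 2659)))
 (.node (.node (.leaf 2535)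
 (.leaf 2893))
 (.node (.leaf 328)
 (.leaf 1360))))
 (.node (.node (.node (.leaf 395)
 (.leaf 3705))
 (.node (.leaf 1026)
 (.leaf 1501)))
 (.node (.node (.leaf 3366)
 (.leaf 479))
 (.node (.leaf 1975)
 (.leaf 2056)))))
 (.node (.node (.node (.node (.leaf 3876)
 (.leaf 3785))
 (.node (.leaf 2448)
 (.leaf 1305)))
 (.node (.node (.leaf 2484)
 (.leaf 917))
 (.node (.leaf 2373)
 (.leaf 625))))
 (.node (.node (.node (.leaf 1638)
 (.leaf 3579))
 (.node (.leaf 2936)
 (.leaf 2655)))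
 (.node (.node (.leaf 2559)
 (.leaf 2865))
 (.node (.leaf 1982)
 (.leaf 1121))))))

def tAiB35 : RT := .node (.node (.node (.node (.node (.node (.leaf 1383)
 (.leaf 2144))
 (.node (.leaf 3372)
 (.leaf 3767)))
 (.node (.node (.leaf 2092)
 (.leaf 3225))
 (.node (.leaf 558)
 (.leaf 1941))))
 (.node (.node (.node (.leaf 251)
 (.leaf 2890))
 (.node (.leaf 1824)
 (.leaf 1926)))
 (.node (.node (.leaf 2111)
 (.leaf 1562))
 (.node (.leaf 616)
 (.leaf 302)))))
 (.node (.node (.node (.node (.leaf 2391)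
 (.leaf 3017))
 (.node (.leaf 70)
 (.leaf 1019)))
 (.node (.node (.leaf 3894)
 (.leaf 2671))
 (.node (.leaf 602)
 (.leaf 2333))))
 (.node (.node (.node (.leaf 2785)
 (.leaf 2719))
 (.node (.leaf 3996)
 (.leaf 3149)))
 (.node (.node (.leaf 3300)
 (.leaf 1027))
 (.node (.leaf 3840)
 (.leaf 828))))))
 (.node (.node (.node (.node (.node (.leaf 3178)
 (.leaf 576))
 (.node (.leaf 3955)
 (.leaf 327)))
 (.node (.node (.leaf 2434)
 (.leaf 747))
 (.node (.leaf 3115)
 (.leaf 875))))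
 (.node (.node (.node (.leaf 1884)
 (.leaf 196))
 (.node (.leaf 2968)
 (.leaf 3412)))
 (.node (.node (.leaf 1035)
 (.leaf 3588))
 (.node (.leaf 2870)
 (.leaf 3254)))))
 (.node (.node (.node (.node (.leaf 3128)
 (.leaf 642))
 (.node (.leaf 612)
 (.leaf 3518)))
 (.node (.node (.leaf 2384)
 (.leaf 1620))
 (.node (.leaf 1115)
 (.leaf 3260))))
 (.node (.node (.node (.leaf 1627)
 (.leaf 446))
 (.node (.leaf 2889)
 (.leaf 2776)))
 (.node (.node (.leaf 3103)
 (.leaf 230))
 (.node (.leaf 1706)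
 (.leaf 1071))))))

def tAiB36 : RT := .node (.node (.node (.node (.node (.node (.leaf 2808)
 (.leaf 2436))
 (.node (.leaf 1024)
 (.leaf 1779)))
 (.node (.node (.leaf 3655)
 (.leaf 759))
 (.node (.leaf 740)
 (.leaf 2959))))
 (.node (.node (.node (.leaf 2195)
 (.leaf 1498))
 (.node (.leaf 1151)
 (.leaf 2072)))
 (.node (.node (.leaf 2398)
 (.leaf 619))
 (.node (.leaf 3946)
 (.leaf 2873)))))
 (.node (.node (.node (.node (.leaf 1679)
 (.leaf 852))
 (.node (.leaf 2884)
 (.leaf 13)))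
 (.node (.node (.leaf 1449)
 (.leaf 3815))
 (.node (.leaf 579)
 (.leaf 366))))
 (.node (.node (.node (.leaf 2020)
 (.leaf 582))
 (.node (.leaf 1354)
 (.leaf 2738)))
 (.node (.node (.leaf 1187)
 (.leaf 1953))
 (.node (.leaf 2942)
 (.leaf 2644))))))
 (.node (.node (.node (.node (.node (.leaf 1362)
 (.leaf 2849))
 (.node (.leaf 1640)
 (.leaf 1073)))
 (.node (.node (.leaf 2256)
 (.leaf 17))
 (.node (.leaf 2980)
 (.leaf 1844))))
 (.node (.node (.node (.leaf 761)
 (.leaf 3487))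
 (.node (.leaf 1167)
 (.leaf 490)))
 (.node (.node (.leaf 1181)
 (.leaf 4039))
 (.node (.leaf 3898)
 (.leaf 2684)))))
 (.node (.node (.node (.node (.leaf 3812)
 (.leaf 3711))
 (.node (.leaf 77)
 (.leaf 3568)))
 (.node (.node (.leaf 2806)
 (.leaf 1410))
 (.node (.leaf 1626)
 (.leaf 8))))
 (.node (.node (.node (.leaf 1154)
 (.leaf 894))
 (.node (.leaf 721)
 (.leaf 2036)))
 (.node (.node (.leaf 1966)
 (.leaf 2839))
 (.node (.leaf 2360)
 (.leaf 2175))))))

def tAiB37 : RT := .node (.node (.node (.node (.node (.node (.leaf 2182)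
 (.leaf 1918))
 (.node (.leaf 2071)
 (.leaf 3003)))
 (.node (.node (.leaf 2855)
 (.leaf 1021))
 (.node (.leaf 1491)
 (.leaf 1979))))
 (.node (.node (.node (.leaf 2563)
 (.leaf 3108))
 (.node (.leaf 296)
 (.leaf 3156)))
 (.node (.node (.leaf 1224)
 (.leaf 827))
 (.node (.leaf 3228)
 (.leaf 2049)))))
 (.node (.node (.node (.node (.leaf 3916)
 (.leaf 2302))
 (.node (.leaf 1244)
 (.leaf 1792)))
 (.node (.node (.leaf 3713)
 (.leaf 2084))
 (.node (.leaf 3625)
 (.leaf 553))))
 (.node (.node (.node (.leaf 3720)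
 (.leaf 1233))
 (.node (.leaf 117)
 (.leaf 3650)))
 (.node (.node (.leaf 3173)
 (.leaf 2909))
 (.node (.leaf 1241)
 (.leaf 3467))))))
 (.node (.node (.node (.node (.node (.leaf 348)
 (.leaf 1085))
 (.node (.leaf 2628)
 (.leaf 2285)))
 (.node (.node (.leaf 516)
 (.leaf 2818))
 (.node (.leaf 708)
 (.leaf 3355))))
 (.node (.node (.node (.leaf 638)
 (.leaf 3645))
 (.node (.leaf 386)
 (.leaf 3669)))
 (.node (.node (.leaf 3250)
 (.leaf 2529))
 (.node (.leaf 1479)
 (.leaf 498)))))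
 (.node (.node (.node (.node (.leaf 3461)
 (.leaf 3028))
 (.node (.leaf 2715)
 (.leaf 2429)))
 (.node (.node (.leaf 4014)
 (.leaf 968))
 (.node (.leaf 2803)
 (.leaf 795))))
 (.node (.node (.node (.leaf 2838)
 (.leaf 3816))
 (.node (.leaf 3707)
 (.leaf 465)))
 (.node (.node (.leaf 1486)
 (.leaf 3672))
 (.node (.leaf 2863)
 (.leaf 2068))))))

def tAiB38 : RT := .node (.node (.node (.node (.node (.node (.leaf 2694)
 (.leaf 2853))
 (.node (.leaf 331)
 (.leaf 2028)))
 (.node (.node (.leaf 4025)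
 (.leaf 810))
 (.node (.leaf 3167)
 (.leaf 2689))))
 (.node (.node (.node (.leaf 940)
 (.leaf 2420))
 (.node (.leaf 2219)
 (.leaf 1204)))
 (.node (.node (.leaf 2682)
 (.leaf 3531))
 (.node (.leaf 3965)
 (.leaf 379)))))
 (.node (.node (.node (.node (.leaf 1484)
 (.leaf 71))
 (.node (.leaf 1931)
 (.leaf 2123)))
 (.node (.node (.leaf 1034)
 (.leaf 2862))
 (.node (.leaf 2164)
 (.leaf 2103))))
 (.node (.node (.node (.leaf 689)
 (.leaf 580))
 (.node (.leaf 1671)
 (.leaf 1152)))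
 (.node (.node (.leaf 470)
 (.leaf 2800))
 (.node (.leaf 3148)
 (.leaf 1162))))))
 (.node (.node (.node (.node (.node (.leaf 1600)
 (.leaf 3126))
 (.node (.leaf 4041)
 (.leaf 3975)))
 (.node (.node (.leaf 1337)
 (.leaf 3352))
 (.node (.leaf 3994)
 (.leaf 3099))))
 (.node (.node (.node (.leaf 247)
 (.leaf 3124))
 (.node (.leaf 2681)
 (.leaf 3744)))
 (.node (.node (.leaf 4015)
 (.leaf 1877))
 (.node (.leaf 3697)
 (.leaf 1344)))))
 (.node (.node (.node (.node (.leaf 3219)
 (.leaf 3456))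
 (.node (.leaf 2400)
 (.leaf 496)))
 (.node (.node (.leaf 2597)
 (.leaf 744))
 (.node (.leaf 1654)
 (.leaf 799))))
 (.node (.node (.node (.leaf 9)
 (.leaf 1712))
 (.node (.leaf 3385)
 (.leaf 3958)))
 (.node (.node (.leaf 1088)
 (.leaf 2678))
 (.node (.leaf 3413)
 (.leaf 866))))))

def tAiB39 : RT := .node (.node (.node (.node (.node (.node (.leaf 1532)
 (.leaf 3694))
 (.node (.leaf 1318)
 (.leaf 2952)))
 (.node (.node (.leaf 451)
 (.leaf 639))
 (.node (.leaf 988)
 (.leaf 3326))))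
 (.node (.node (.node (.leaf 2281)
 (.leaf 2310))
 (.node (.leaf 1192)
 (.leaf 965)))
 (.node (.node (.leaf 292)
 (.leaf 4010))
 (.node (.leaf 925)
 (.leaf 752)))))
 (.node (.node (.node (.node (.leaf 2650)
 (.leaf 1242))
 (.node (.leaf 1076)
 (.leaf 2414)))
 (.node (.node (.leaf 3581)
 (.leaf 2372))
 (.node (.leaf 1544)
 (.leaf 2184))))
 (.node (.node (.node (.leaf 3687)
 (.leaf 1049))
 (.node (.leaf 3895)
 (.leaf 383)))
 (.node (.node (.leaf 3211)
 (.leaf 1294))
 (.node (.leaf 3345)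
 (.leaf 3347))))))
 (.node (.node (.node (.node (.node (.leaf 3210)
 (.leaf 60))
 (.node (.leaf 2491)
 (.leaf 2699)))
 (.node (.node (.leaf 3933)
 (.leaf 2250))
 (.node (.leaf 2082)
 (.leaf 1791))))
 (.node (.node (.node (.leaf 1400)
 (.leaf 2997))
 (.node (.leaf 882)
 (.leaf 2795)))
 (.node (.node (.leaf 3595)
 (.leaf 3304))
 (.node (.leaf 2674)
 (.leaf 2324)))))
 (.node (.node (.node (.node (.leaf 1512)
 (.leaf 3587))
 (.node (.leaf 3700)
 (.leaf 3814)))
 (.node (.node (.leaf 662)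
 (.leaf 3757))
 (.node (.leaf 75)
 (.leaf 3418))))
 (.node (.node (.node (.leaf 3741)
 (.leaf 2226))
 (.node (.leaf 1080)
 (.leaf 280)))
 (.node (.node (.leaf 3058)
 (.leaf 3621))
 (.node (.leaf 1313)
 (.leaf 2881))))))

def tAiB40 : RT := .node (.node (.node (.node (.node (.node (.leaf 3789)
 (.leaf 2288))
 (.node (.leaf 713)
 (.leaf 854)))
 (.node (.node (.leaf 3094)
 (.leaf 193))
 (.node (.leaf 2120)
 (.leaf 459))))
 (.node (.node (.node (.leaf 2571)
 (.leaf 2904))
 (.node (.leaf 1310)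
 (.leaf 2885)))
 (.node (.node (.leaf 1265)
 (.leaf 1260))
 (.node (.leaf 4019)
 (.leaf 2872)))))
 (.node (.node (.node (.node (.leaf 100)
 (.leaf 1378))
 (.node (.leaf 2629)
 (.leaf 536)))
 (.node (.node (.leaf 1923)
 (.leaf 1513))
 (.node (.leaf 2227)
 (.leaf 2493))))
 (.node (.node (.node (.leaf 871)
 (.leaf 123))
 (.node (.leaf 2117)
 (.leaf 608)))
 (.node (.node (.leaf 578)
 (.leaf 3380))
 (.node (.leaf 407)
 (.leaf 3942))))))
 (.node (.node (.node (.node (.node (.leaf 2793)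
 (.leaf 3887))
 (.node (.leaf 3486)
 (.leaf 3639)))
 (.node (.node (.leaf 2286)
 (.leaf 3995))
 (.node (.leaf 31)
 (.leaf 678))))
 (.node (.node (.node (.leaf 3040)
 (.leaf 3088))
 (.node (.leaf 591)
 (.leaf 3223)))
 (.node (.node (.leaf 1684)
 (.leaf 1677))
 (.node (.leaf 332)
 (.leaf 1215)))))
 (.node (.node (.node (.node (.leaf 1711)
 (.leaf 3052))
 (.node (.leaf 2167)
 (.leaf 1005)))
 (.node (.node (.leaf 2322)
 (.leaf 2472))
 (.node (.leaf 1015)
 (.leaf 2937))))
 (.node (.node (.node (.leaf 2255)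
 (.leaf 2383))
 (.node (.leaf 4023)
 (.leaf 2290)))
 (.node (.node (.leaf 1919)
 (.leaf 3868))
 (.node (.leaf 3589)
 (.leaf 3539))))))

def tAiB41 : RT := .node (.node (.node (.node (.node (.node (.leaf 3704)
 (.leaf 3224))
 (.node (.leaf 2150)
 (.leaf 1285)))
 (.node (.node (.leaf 899)
 (.leaf 797))
 (.node (.leaf 3287)
 (.leaf 464))))
 (.node (.node (.node (.leaf 1264)
 (.leaf 2717))
 (.node (.leaf 3667)
 (.leaf 3729)))
 (.node (.node (.leaf 3836)
 (.leaf 3159))
 (.node (.leaf 2950)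
 (.leaf 1174)))))
 (.node (.node (.node (.node (.leaf 3324)
 (.leaf 3435))
 (.node (.leaf 542)
 (.leaf 2367)))
 (.node (.node (.leaf 2802)
 (.leaf 4022))
 (.node (.leaf 3732)
 (.leaf 2009))))
 (.node (.node (.node (.leaf 1762)
 (.leaf 1066))
 (.node (.leaf 2910)
 (.leaf 1950)))
 (.node (.node (.leaf 544)
 (.leaf 3367))
 (.node (.leaf 3626)
 (.leaf 2513))))))
 (.node (.node (.node (.node (.node (.leaf 279)
 (.leaf 1227))
 (.node (.leaf 2178)
 (.leaf 1433)))
 (.node (.node (.leaf 3295)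
 (.leaf 2454))
 (.node (.leaf 1816)
 (.leaf 2506))))
 (.node (.node (.node (.leaf 1462)
 (.leaf 1225))
 (.node (.leaf 1942)
 (.leaf 3242)))
 (.node (.node (.leaf 3714)
 (.leaf 1317))
 (.node (.leaf 360)
 (.leaf 1438)))))
 (.node (.node (.node (.node (.leaf 2722)
 (.leaf 2369))
 (.node (.leaf 2039)
 (.leaf 1648)))
 (.node (.node (.leaf 2152)
 (.leaf 1499))
 (.node (.leaf 3247)
 (.leaf 590))))
 (.node (.node (.node (.leaf 2797)
 (.leaf 3855))
 (.node (.leaf 3020)
 (.leaf 2898)))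
 (.node (.node (.leaf 4052)
 (.leaf 3200))
 (.node (.leaf 3194)
 (.leaf 3492))))))

def tAiB42 : RT := .node (.node (.node (.node (.node (.node (.leaf 2181)
 (.leaf 832))
 (.node (.leaf 1461)
 (.leaf 1796)))
 (.node (.node (.leaf 2474)
 (.leaf 2305))
 (.node (.leaf 3947)
 (.leaf 606))))
 (.node (.node (.node (.leaf 1394)
 (.leaf 2718))
 (.node (.leaf 3512)
 (.leaf 3063)))
 (.node (.node (.leaf 1767)
 (.leaf 1522))
 (.node (.leaf 3572)
 (.leaf 2868)))))
 (.node (.node (.node (.node (.leaf 2254)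
 (.leaf 2012))
 (.node (.leaf 3674)
 (.leaf 3756)))
 (.node (.node (.leaf 753)
 (.leaf 400))
 (.node (.leaf 1013)
 (.leaf 3454))))
 (.node (.node (.node (.leaf 868)
 (.leaf 85))
 (.node (.leaf 1963)
 (.leaf 2351)))
 (.node (.node (.leaf 1630)
 (.leaf 511))
 (.node (.leaf 83)
 (.leaf 3682))))))
 (.node (.node (.node (.node (.node (.leaf 3598)
 (.leaf 3386))
 (.node (.leaf 3988)
 (.leaf 3172)))
 (.node (.node (.leaf 556)
 (.leaf 87))
 (.node (.leaf 907)
 (.leaf 1033))))
 (.node (.node (.node (.leaf 2593)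
 (.leaf 1452))
 (.node (.leaf 1323)
 (.leaf 4026)))
 (.node (.node (.leaf 3256)
 (.leaf 2052))
 (.node (.leaf 1216)
 (.leaf 2955)))))
 (.node (.node (.node (.node (.leaf 2654)
 (.leaf 2621))
 (.node (.leaf 3980)
 (.leaf 3838)))
 (.node (.node (.leaf 3402)
 (.leaf 2083))
 (.node (.leaf 2973)
 (.leaf 1130))))
 (.node (.node (.node (.leaf 1895)
 (.leaf 3431))
 (.node (.leaf 3096)
 (.leaf 1570)))
 (.node (.node (.leaf 735)
 (.leaf 1255))
 (.node (.leaf 3265)
 (.leaf 3883))))))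

def tAiB43 : RT := .node (.node (.node (.node (.node (.node (.leaf 3941)
 (.leaf 4024))
 (.node (.leaf 3716)
 (.leaf 3964)))
 (.node (.node (.leaf 3607)
 (.leaf 116))
 (.node (.leaf 1342)
 (.leaf 1266))))
 (.node (.node (.node (.leaf 1419)
 (.leaf 324))
 (.node (.leaf 948)
 (.leaf 630)))
 (.node (.node (.leaf 1286)
 (.leaf 2140))
 (.node (.leaf 2944)
 (.leaf 1927)))))
 (.node (.node (.node (.node (.leaf 2878)
 (.leaf 550))
 (.node (.leaf 3677)
 (.leaf 2205)))
 (.node (.node (.leaf 1768)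
 (.leaf 2388))
 (.node (.leaf 1863)
 (.leaf 2905))))
 (.node (.node (.node (.leaf 1935)
 (.leaf 3364))
 (.node (.leaf 1297)
 (.leaf 3044)))
 (.node (.node (.leaf 1546)
 (.leaf 3399))
 (.node (.leaf 3474)
 (.leaf 380))))))
 (.node (.node (.node (.node (.node (.leaf 290)
 (.leaf 3499))
 (.node (.leaf 1868)
 (.leaf 3163)))
 (.node (.node (.leaf 1932)
 (.leaf 3721))
 (.node (.leaf 98)
 (.leaf 741))))
 (.node (.node (.node (.leaf 1440)
 (.leaf 2008))
 (.node (.leaf 745)
 (.leaf 762)))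
 (.node (.node (.leaf 1140)
 (.leaf 1282))
 (.node (.leaf 1856)
 (.leaf 2661)))))
 (.node (.node (.node (.node (.leaf 2809)
 (.leaf 1222))
 (.node (.leaf 2211)
 (.leaf 3615)))
 (.node (.node (.leaf 248)
 (.leaf 3039))
 (.node (.leaf 1054)
 (.leaf 119))))
 (.node (.node (.node (.leaf 3368)
 (.leaf 949))
 (.node (.leaf 3138)
 (.leaf 3025)))
 (.node (.node (.leaf 2934)
 (.leaf 2468))
 (.node (.leaf 3798)
 (.leaf 695))))))

def tAiB44 : RT := .node (.node (.node (.node (.node (.node (.leaf 849)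
 (.leaf 3270))
 (.node (.leaf 3870)
 (.leaf 818)))
 (.node (.node (.leaf 1084)
 (.leaf 1661))
 (.node (.leaf 2233)
 (.leaf 417))))
 (.node (.node (.node (.leaf 1668)
 (.leaf 2825))
 (.node (.leaf 3305)
 (.leaf 3038)))
 (.node (.node (.leaf 2805)
 (.leaf 1948))
 (.node (.leaf 2804)
 (.leaf 1928)))))
 (.node (.node (.node (.node (.leaf 3915)
 (.leaf 1185))
 (.node (.leaf 3349)
 (.leaf 1644)))
 (.node (.node (.leaf 1641)
 (.leaf 1947))
 (.node (.leaf 985)
 (.leaf 1860))))
 (.node (.node (.node (.leaf 2615)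
 (.leaf 318))
 (.node (.leaf 3551)
 (.leaf 3130)))
 (.node (.node (.leaf 2811)
 (.leaf 26))
 (.node (.leaf 2577)
 (.leaf 4037))))))
 (.node (.node (.node (.node (.node (.leaf 3490)
 (.leaf 640))
 (.node (.leaf 2435)
 (.leaf 939)))
 (.node (.node (.leaf 3698)
 (.leaf 2572))
 (.node (.leaf 2534)
 (.leaf 2408))))
 (.node (.node (.node (.leaf 1745)
 (.leaf 3623))
 (.node (.leaf 3239)
 (.leaf 2759)))
 (.node (.node (.leaf 674)
 (.leaf 956))
 (.node (.leaf 2470)
 (.leaf 1591)))))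
 (.node (.node (.node (.node (.leaf 2024)
 (.leaf 3957))
 (.node (.leaf 3445)
 (.leaf 685)))
 (.node (.node (.leaf 3552)
 (.leaf 3786))
 (.node (.leaf 3076)
 (.leaf 2423))))
 (.node (.node (.node (.leaf 1534)
 (.leaf 3848))
 (.node (.leaf 2401)
 (.leaf 115)))
 (.node (.node (.leaf 2562)
 (.leaf 1806))
 (.node (.leaf 3442)
 (.leaf 3077))))))

def tAiB45 : RT := .node (.node (.node (.node (.node (.node (.leaf 1514)
 (.leaf 3529))
 (.node (.leaf 2345)
 (.leaf 274)))
 (.node (.node (.leaf 2450)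
 (.leaf 2223))
 (.node (.leaf 2243)
 (.leaf 413))))
 (.node (.node (.node (.leaf 2752)
 (.leaf 2778))
 (.node (.leaf 3303)
 (.leaf 2530)))
 (.node (.node (.leaf 946)
 (.leaf 3026))
 (.node (.leaf 4018)
 (.leaf 2096)))))
 (.node (.node (.node (.node (.leaf 2174)
 (.leaf 3880))
 (.node (.leaf 3296)
 (.leaf 1543)))
 (.node (.node (.leaf 1730)
 (.leaf 2447))
 (.node (.leaf 39)
 (.leaf 869))))
 (.node (.node (.node (.leaf 548)
 (.leaf 3337))
 (.node (.leaf 294)
 (.leaf 3541)))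
 (.node (.node (.leaf 1572)
 (.leaf 2198))
 (.node (.leaf 3449)
 (.leaf 3217))))))
 (.node (.node (.node (.node (.node (.leaf 3550)
 (.leaf 3089))
 (.node (.leaf 198)
 (.leaf 1973)))
 (.node (.node (.leaf 3018)
 (.leaf 2990))
 (.node (.leaf 3188)
 (.leaf 2662))))
 (.node (.node (.node (.leaf 2653)
 (.leaf 1029))
 (.node (.leaf 3105)
 (.leaf 3427)))
 (.node (.node (.leaf 2609)
 (.leaf 3192))
 (.node (.leaf 2346)
 (.leaf 2911)))))
 (.node (.node (.node (.node (.leaf 2772)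
 (.leaf 2102))
 (.node (.leaf 855)
 (.leaf 636)))
 (.node (.node (.leaf 3604)
 (.leaf 2395))
 (.node (.leaf 2093)
 (.leaf 1126))))
 (.node (.node (.node (.leaf 2461)
 (.leaf 3917))
 (.node (.leaf 2915)
 (.leaf 2210)))
 (.node (.node (.leaf 3611)
 (.leaf 3183))
 (.node (.leaf 2992)
 (.leaf 3852))))))

def tAiB46 : RT := .node (.node (.node (.node (.node (.node (.leaf 3892)
 (.leaf 2004))
 (.node (.leaf 3102)
 (.leaf 987)))
 (.node (.node (.leaf 2558)
 (.leaf 643))
 (.node (.leaf 1542)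
 (.leaf 960))))
 (.node (.node (.node (.leaf 970)
 (.leaf 2780))
 (.node (.leaf 3004)
 (.leaf 2163)))
 (.node (.node (.leaf 3931)
 (.leaf 1715))
 (.node (.leaf 3750)
 (.leaf 725)))))
 (.node (.node (.node (.node (.leaf 1258)
 (.leaf 310))
 (.node (.leaf 3252)
 (.leaf 3481)))
 (.node (.node (.leaf 4049)
 (.leaf 3533))
 (.node (.leaf 1565)
 (.leaf 3861))))
 (.node (.node (.node (.leaf 367)
 (.leaf 1867))
 (.node (.leaf 727)
 (.leaf 1720)))
 (.node (.node (.leaf 3537)
 (.leaf 698))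
 (.node (.leaf 42)
 (.leaf 1443))))))
 (.node (.node (.node (.node (.node (.leaf 3388)
 (.leaf 3390))
 (.node (.leaf 3072)
 (.leaf 3856)))
 (.node (.node (.leaf 1199)
 (.leaf 2321))
 (.node (.leaf 732)
 (.leaf 3748))))
 (.node (.node (.node (.leaf 5)
 (.leaf 1954))
 (.node (.leaf 1232)
 (.leaf 3597)))
 (.node (.node (.leaf 531)
 (.leaf 3681))
 (.node (.leaf 1743)
 (.leaf 1425)))))
 (.node (.node (.node (.node (.leaf 3985)
 (.leaf 1489))
 (.node (.leaf 2327)
 (.leaf 52)))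
 (.node (.node (.leaf 1179)
 (.leaf 1822))
 (.node (.leaf 3715)
 (.leaf 996))))
 (.node (.node (.node (.leaf 915)
 (.leaf 3180))
 (.node (.leaf 739)
 (.leaf 1755)))
 (.node (.node (.leaf 820)
 (.leaf 3683))
 (.node (.leaf 2639)
 (.leaf 1956))))))

def tAiB47 : RT := .node (.node (.node (.node (.node (.node (.leaf 3974)
 (.leaf 388))
 (.node (.leaf 1309)
 (.leaf 887)))
 (.node (.node (.leaf 3341)
 (.leaf 1198))
 (.node (.leaf 3864)
 (.leaf 3675))))
 (.node (.node (.node (.leaf 2781)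
 (.leaf 1921))
 (.node (.leaf 1655)
 (.leaf 3727)))
 (.node (.node (.leaf 410)
 (.leaf 3528))
 (.node (.leaf 2058)
 (.leaf 2789)))))
 (.node (.node (.node (.node (.leaf 3475)
 (.leaf 3913))
 (.node (.leaf 811)
 (.leaf 1760)))
 (.node (.node (.leaf 3282)
 (.leaf 402))
 (.node (.leaf 500)
 (.leaf 2263))))
 (.node (.node (.node (.leaf 800)
 (.leaf 1445))
 (.node (.leaf 2634)
 (.leaf 1583)))
 (.node (.node (.leaf 221)
 (.leaf 158))
 (.node (.leaf 1056)
 (.leaf 3530))))))
 (.node (.node (.node (.node (.node (.leaf 1596)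
 (.leaf 1515))
 (.node (.leaf 2078)
 (.leaf 197)))
 (.node (.node (.leaf 455)
 (.leaf 1883))
 (.node (.leaf 629)
 (.leaf 1808))))
 (.node (.node (.node (.leaf 3280)
 (.leaf 2396))
 (.node (.leaf 3140)
 (.leaf 2428)))
 (.node (.node (.leaf 1892)
 (.leaf 3515))
 (.node (.leaf 488)
 (.leaf 3723)))))
 (.node (.node (.node (.node (.leaf 1008)
 (.leaf 489))
 (.node (.leaf 1624)
 (.leaf 2637)))
 (.node (.node (.leaf 2926)
 (.leaf 2370))
 (.node (.leaf 3314)
 (.leaf 3869))))
 (.node (.node (.node (.leaf 1938)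
 (.leaf 35))
 (.node (.leaf 2524)
 (.leaf 938)))
 (.node (.node (.leaf 2721)
 (.leaf 266))
 (.node (.leaf 393)
 (.leaf 2600))))))

def tAiB48 : RT := .node (.node (.node (.node (.node (.node (.leaf 758)
 (.leaf 2085))
 (.node (.leaf 3594)
 (.leaf 2575)))
 (.node (.node (.leaf 1178)
 (.leaf 1692))
 (.node (.leaf 1504)
 (.leaf 2533))))
 (.node (.node (.node (.leaf 3441)
 (.leaf 2109))
 (.node (.leaf 162)
 (.leaf 2877)))
 (.node (.node (.leaf 2658)
 (.leaf 1925))
 (.node (.leaf 127)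
 (.leaf 3453)))))
 (.node (.node (.node (.node (.leaf 484)
 (.leaf 67))
 (.node (.leaf 1781)
 (.leaf 3275)))
 (.node (.node (.leaf 526)
 (.leaf 519))
 (.node (.leaf 1207)
 (.leaf 1517))))
 (.node (.node (.node (.leaf 3141)
 (.leaf 12))
 (.node (.leaf 1839)
 (.leaf 3426)))
 (.node (.node (.leaf 1896)
 (.leaf 711))
 (.node (.leaf 2177)
 (.leaf 2451))))))
 (.node (.node (.node (.node (.node (.leaf 3100)
 (.leaf 2569))
 (.node (.leaf 125)
 (.leaf 2026)))
 (.node (.node (.leaf 177)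
 (.leaf 2732))
 (.node (.leaf 141)
 (.leaf 3661))))
 (.node (.node (.node (.leaf 929)
 (.leaf 4035))
 (.node (.leaf 1043)
 (.leaf 1186)))
 (.node (.node (.leaf 679)
 (.leaf 1731))
 (.node (.leaf 2988)
 (.leaf 3340)))))
 (.node (.node (.node (.node (.leaf 3926)
 (.leaf 1108))
 (.node (.leaf 1511)
 (.leaf 2584)))
 (.node (.node (.leaf 3112)
 (.leaf 3184))
 (.node (.leaf 2015)
 (.leaf 1131))))
 (.node (.node (.node (.leaf 3886)
 (.leaf 3890))
 (.node (.leaf 2230)
 (.leaf 3455)))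
 (.node (.node (.leaf 2489)
 (.leaf 2736))
 (.node (.leaf 176)
 (.leaf 2912))))))

def tAiB49 : RT := .node (.node (.node (.node (.node (.node (.leaf 1539)
 (.leaf 2476))
 (.node (.leaf 1092)
 (.leaf 3298)))
 (.node (.node (.leaf 34)
 (.leaf 200))
 (.node (.leaf 3293)
 (.leaf 720))))
 (.node (.node (.node (.leaf 2348)
 (.leaf 2407))
 (.node (.leaf 2769)
 (.leaf 1147)))
 (.node (.node (.leaf 3310)
 (.leaf 2446))
 (.node (.leaf 2375)
 (.leaf 2204)))))
 (.node (.node (.node (.node (.leaf 2914)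
 (.leaf 2456))
 (.node (.leaf 421)
 (.leaf 97)))
 (.node (.node (.leaf 1263)
 (.leaf 2867))
 (.node (.leaf 573)
 (.leaf 2824))))
 (.node (.node (.node (.leaf 3133)
 (.leaf 1778))
 (.node (.leaf 586)
 (.leaf 1599)))
 (.node (.node (.leaf 2066)
 (.leaf 3904))
 (.node (.leaf 2048)
 (.leaf 2331))))))
 (.node (.node (.node (.node (.node (.leaf 1552)
 (.leaf 2397))
 (.node (.leaf 1936)
 (.leaf 993)))
 (.node (.node (.leaf 3949)
 (.leaf 3343))
 (.node (.leaf 2380)
 (.leaf 3950))))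
 (.node (.node (.node (.leaf 3678)
 (.leaf 547))
 (.node (.leaf 3585)
 (.leaf 1506)))
 (.node (.node (.leaf 3257)
 (.leaf 103))
 (.node (.leaf 2503)
 (.leaf 185)))))
 (.node (.node (.node (.node (.leaf 2000)
 (.leaf 2001))
 (.node (.leaf 1558)
 (.leaf 826)))
 (.node (.node (.leaf 3822)
 (.leaf 72))
 (.node (.leaf 1737)
 (.leaf 2755))))
 (.node (.node (.node (.leaf 453)
 (.leaf 112))
 (.node (.leaf 651)
 (.leaf 864)))
 (.node (.node (.leaf 406)
 (.leaf 1736))
 (.node (.leaf 2037)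
 (.leaf 3450))))))

def tAiB50 : RT := .node (.node (.node (.node (.node (.node (.leaf 2595)
 (.leaf 449))
 (.node (.leaf 3937)
 (.leaf 2991)))
 (.node (.node (.leaf 3940)
 (.leaf 1253))
 (.node (.leaf 1549)
 (.leaf 1414))))
 (.node (.node (.node (.leaf 3197)
 (.leaf 3336))
 (.node (.leaf 2813)
 (.leaf 2622)))
 (.node (.node (.leaf 1809)
 (.leaf 1674))
 (.node (.leaf 408)
 (.leaf 173)))))
 (.node (.node (.node (.node (.leaf 3084)
 (.leaf 3510))
 (.node (.leaf 3322)
 (.leaf 837)))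
 (.node (.node (.leaf 3542)
 (.leaf 3851))
 (.node (.leaf 540)
 (.leaf 40))))
 (.node (.node (.node (.leaf 3466)
 (.leaf 3768))
 (.node (.leaf 2725)
 (.leaf 179)))
 (.node (.node (.leaf 2731)
 (.leaf 4012))
 (.node (.leaf 3266)
 (.leaf 903))))))
 (.node (.node (.node (.node (.node (.leaf 4036)
 (.leaf 3943))
 (.node (.leaf 3066)
 (.leaf 3976)))
 (.node (.node (.leaf 2466)
 (.leaf 1701))
 (.node (.leaf 2960)
 (.leaf 3091))))
 (.node (.node (.node (.leaf 2135)
 (.leaf 157))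
 (.node (.leaf 1345)
 (.leaf 3828)))
 (.node (.node (.leaf 3509)
 (.leaf 1940))
 (.node (.leaf 312)
 (.leaf 1052)))))
 (.node (.node (.node (.node (.leaf 1293)
 (.leaf 2570))
 (.node (.leaf 2766)
 (.leaf 675)))
 (.node (.node (.leaf 114)
 (.leaf 3495))
 (.node (.leaf 982)
 (.leaf 1719))))
 (.node (.node (.node (.leaf 2891)
 (.leaf 1295))
 (.node (.leaf 2070)
 (.leaf 2203)))
 (.node (.node (.leaf 2492)
 (.leaf 1053))
 (.node (.leaf 1574)
 (.leaf 1864))))))

def tAiB51 : RT := .node (.node (.node (.node (.node (.node (.leaf 2998)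
 (.leaf 422))
 (.node (.leaf 2981)
 (.leaf 2389)))
 (.node (.node (.leaf 448)
 (.leaf 3281))
 (.node (.leaf 766)
 (.leaf 3860))))
 (.node (.node (.node (.leaf 1757)
 (.leaf 1664))
 (.node (.leaf 86)
 (.leaf 2038)))
 (.node (.node (.leaf 1890)
 (.leaf 265))
 (.node (.leaf 2272)
 (.leaf 1651)))))
 (.node (.node (.node (.node (.leaf 454)
 (.leaf 2413))
 (.node (.leaf 2907)
 (.leaf 2442)))
 (.node (.node (.leaf 791)
 (.leaf 2520))
 (.node (.leaf 2094)
 (.leaf 680))))
 (.node (.node (.node (.leaf 3803)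
 (.leaf 3717))
 (.node (.leaf 2510)
 (.leaf 709)))
 (.node (.node (.leaf 3014)
 (.leaf 1696))
 (.node (.leaf 2983)
 (.leaf 1252))))))
 (.node (.node (.node (.node (.node (.leaf 3534)
 (.leaf 321))
 (.node (.leaf 378)
 (.leaf 2306)))
 (.node (.node (.leaf 300)
 (.leaf 3911))
 (.node (.leaf 2239)
 (.leaf 687))))
 (.node (.node (.node (.leaf 1983)
 (.leaf 3049))
 (.node (.leaf 2714)
 (.leaf 3243)))
 (.node (.node (.leaf 287)
 (.leaf 243))
 (.node (.leaf 3983)
 (.leaf 2579)))))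
 (.node (.node (.node (.node (.leaf 3439)
 (.leaf 3122))
 (.node (.leaf 684)
 (.leaf 2485)))
 (.node (.node (.leaf 2262)
 (.leaf 1493))
 (.node (.leaf 3302)
 (.leaf 3929))))
 (.node (.node (.node (.leaf 1531)
 (.leaf 323))
 (.node (.leaf 1962)
 (.leaf 2147)))
 (.node (.node (.leaf 2044)
 (.leaf 873))
 (.node (.leaf 2477)
 (.leaf 3205))))))

def tAiB52 : RT := .node (.node (.node (.node (.node (.node (.leaf 15)
 (.leaf 1426))
 (.node (.leaf 3356)
 (.leaf 2171)))
 (.node (.node (.leaf 1893)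
 (.leaf 1971))
 (.node (.leaf 3008)
 (.leaf 2957))))
 (.node (.node (.node (.leaf 697)
 (.leaf 3215))
 (.node (.leaf 1234)
 (.leaf 611)))
 (.node (.node (.leaf 3494)
 (.leaf 3171))
 (.node (.leaf 1334)
 (.leaf 2208)))))
 (.node (.node (.node (.node (.leaf 3989)
 (.leaf 3087))
 (.node (.leaf 3643)
 (.leaf 3478)))
 (.node (.node (.leaf 2246)
 (.leaf 771))
 (.node (.leaf 1209)
 (.leaf 3409))))
 (.node (.node (.node (.leaf 1797)
 (.leaf 1510))
 (.node (.leaf 2444)
 (.leaf 2599)))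
 (.node (.node (.leaf 1594)
 (.leaf 233))
 (.node (.leaf 1601)
 (.leaf 2709))))))
 (.node (.node (.node (.node (.node (.leaf 1732)
 (.leaf 1964))
 (.node (.leaf 892)
 (.leaf 523)))
 (.node (.node (.leaf 3571)
 (.leaf 3048))
 (.node (.leaf 106)
 (.leaf 702))))
 (.node (.node (.node (.leaf 1958)
 (.leaf 2807))
 (.node (.leaf 405)
 (.leaf 3888)))
 (.node (.node (.leaf 2651)
 (.leaf 1722))
 (.node (.leaf 4006)
 (.leaf 626)))))
 (.node (.node (.node (.node (.leaf 3083)
 (.leaf 1662))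
 (.node (.leaf 1201)
 (.leaf 2927)))
 (.node (.node (.leaf 46)
 (.leaf 1934))
 (.node (.leaf 3778)
 (.leaf 1660))))
 (.node (.node (.node (.leaf 823)
 (.leaf 3740))
 (.node (.leaf 1020)
 (.leaf 1482)))
 (.node (.node (.leaf 2590)
 (.leaf 2879))
 (.node (.leaf 1859)
 (.leaf 851))))))

def tAiB53 : RT := .node (.node (.node (.node (.node (.node (.leaf 396)
 (.leaf 2747))
 (.node (.leaf 1891)
 (.leaf 2916)))
 (.node (.node (.leaf 3285)
 (.leaf 1129))
 (.node (.leaf 2062)
 (.leaf 487))))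
 (.node (.node (.node (.leaf 1367)
 (.leaf 1246))
 (.node (.leaf 3098)
 (.leaf 2173)))
 (.node (.node (.leaf 2504)
 (.leaf 1615))
 (.node (.leaf 986)
 (.leaf 1307)))))
 (.node (.node (.node (.node (.leaf 244)
 (.leaf 2419))
 (.node (.leaf 73)
 (.leaf 3631)))
 (.node (.node (.leaf 1417)
 (.leaf 2225))
 (.node (.leaf 1385)
 (.leaf 1138))))
 (.node (.node (.node (.leaf 3208)
 (.leaf 1421))
 (.node (.leaf 2459)
 (.leaf 2698)))
 (.node (.node (.leaf 1832)
 (.leaf 1001))
 (.node (.leaf 3637)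
 (.leaf 101))))))
 (.node (.node (.node (.node (.node (.leaf 1690)
 (.leaf 2830))
 (.node (.leaf 435)
 (.leaf 3289)))
 (.node (.node (.leaf 1571)
 (.leaf 522))
 (.node (.leaf 2963)
 (.leaf 1377))))
 (.node (.node (.node (.leaf 1288)
 (.leaf 910))
 (.node (.leaf 2711)
 (.leaf 1379)))
 (.node (.node (.leaf 2576)
 (.leaf 2059))
 (.node (.leaf 3755)
 (.leaf 1474)))))
 (.node (.node (.node (.node (.leaf 1314)
 (.leaf 2479))
 (.node (.leaf 1547)
 (.leaf 554)))
 (.node (.node (.leaf 2869)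
 (.leaf 1729))
 (.node (.leaf 571)
 (.leaf 3635))))
 (.node (.node (.node (.leaf 3121)
 (.leaf 3354))
 (.node (.leaf 398)
 (.leaf 3201)))
 (.node (.node (.leaf 930)
 (.leaf 1422))
 (.node (.leaf 3316)
 (.leaf 2051))))))

def tAiB54 : RT := .node (.node (.node (.node (.node (.node (.leaf 3506)
 (.leaf 1072))
 (.node (.leaf 3263)
 (.leaf 1632)))
 (.node (.node (.leaf 3464)
 (.leaf 3582))
 (.node (.leaf 319)
 (.leaf 151))))
 (.node (.node (.node (.leaf 91)
 (.leaf 3960))
 (.node (.leaf 2871)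
 (.leaf 3216)))
 (.node (.node (.leaf 2088)
 (.leaf 1526))
 (.node (.leaf 534)
 (.leaf 833)))))
 (.node (.node (.node (.node (.leaf 2702)
 (.leaf 665))
 (.node (.leaf 2589)
 (.leaf 3365)))
 (.node (.node (.leaf 3176)
 (.leaf 3651))
 (.node (.leaf 3523)
 (.leaf 3160))))
 (.node (.node (.node (.leaf 1390)
 (.leaf 1270))
 (.node (.leaf 427)
 (.leaf 1733)))
 (.node (.node (.leaf 2075)
 (.leaf 456))
 (.node (.leaf 2264)
 (.leaf 760))))))
 (.node (.node (.node (.node (.node (.leaf 806)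
 (.leaf 3177))
 (.node (.leaf 1226)
 (.leaf 1243)))
 (.node (.node (.leaf 3132)
 (.leaf 566))
 (.node (.leaf 1567)
 (.leaf 3485))))
 (.node (.node (.node (.leaf 3195)
 (.leaf 2712))
 (.node (.leaf 2971)
 (.leaf 3593)))
 (.node (.node (.leaf 3125)
 (.leaf 1487))
 (.node (.leaf 3780)
 (.leaf 109)))))
 (.node (.node (.node (.node (.leaf 879)
 (.leaf 3334))
 (.node (.leaf 1879)
 (.leaf 1098)))
 (.node (.node (.leaf 1521)
 (.leaf 704))
 (.node (.leaf 238)
 (.leaf 3790))))
 (.node (.node (.node (.leaf 3867)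
 (.leaf 1588))
 (.node (.leaf 2086)
 (.leaf 1166)))
 (.node (.node (.leaf 3652)
 (.leaf 3245))
 (.node (.leaf 2552)
 (.leaf 133))))))

def tAiB55 : RT := .node (.node (.node (.node (.node (.node (.leaf 1606)
 (.leaf 2812))
 (.node (.leaf 1123)
 (.leaf 2502)))
 (.node (.node (.leaf 3193)
 (.leaf 2107))
 (.node (.leaf 1277)
 (.leaf 3919))))
 (.node (.node (.node (.leaf 991)
 (.leaf 3015))
 (.node (.leaf 1805)
 (.leaf 2583)))
 (.node (.node (.leaf 213)
 (.leaf 3182))
 (.node (.leaf 2939)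
 (.leaf 1849)))))
 (.node (.node (.node (.node (.leaf 911)
 (.leaf 3800))
 (.node (.leaf 728)
 (.leaf 537)))
 (.node (.node (.leaf 1735)
 (.leaf 113))
 (.node (.leaf 870)
 (.leaf 1802))))
 (.node (.node (.node (.leaf 2519)
 (.leaf 1200))
 (.node (.leaf 2880)
 (.leaf 3903)))
 (.node (.node (.leaf 214)
 (.leaf 2029))
 (.node (.leaf 2616)
 (.leaf 1568))))))
 (.node (.node (.node (.node (.node (.leaf 3754)
 (.leaf 2425))
 (.node (.leaf 2592)
 (.leaf 57)))
 (.node (.node (.leaf 2221)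
 (.leaf 937))
 (.node (.leaf 2623)
 (.leaf 3845))))
 (.node (.node (.node (.leaf 812)
 (.leaf 2416))
 (.node (.leaf 3391)
 (.leaf 3491)))
 (.node (.node (.leaf 836)
 (.leaf 3799))
 (.node (.leaf 150)
 (.leaf 2553)))))
 (.node (.node (.node (.node (.leaf 3333)
 (.leaf 874))
 (.node (.leaf 1319)
 (.leaf 299)))
 (.node (.node (.leaf 1702)
 (.leaf 1622))
 (.node (.leaf 2355)
 (.leaf 2337))))
 (.node (.node (.node (.leaf 3321)
 (.leaf 1340))
 (.node (.leaf 742)
 (.leaf 1105)))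
 (.node (.node (.leaf 1585)
 (.leaf 3462))
 (.node (.leaf 928)
 (.leaf 1046))))))

def tAiB56 : RT := .node (.node (.node (.node (.node (.node (.leaf 178)
 (.leaf 2581))
 (.node (.leaf 1726)
 (.leaf 307)))
 (.node (.node (.leaf 2860)
 (.leaf 351))
 (.node (.leaf 4007)
 (.leaf 1496))))
 (.node (.node (.node (.leaf 953)
 (.leaf 1784))
 (.node (.leaf 992)
 (.leaf 1530)))
 (.node (.node (.leaf 512)
 (.leaf 853))
 (.node (.leaf 1889)
 (.leaf 1328)))))
 (.node (.node (.node (.node (.leaf 3155)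
 (.leaf 1283))
 (.node (.leaf 3363)
 (.leaf 3602)))
 (.node (.node (.leaf 3573)
 (.leaf 311))
 (.node (.leaf 3359)
 (.leaf 3671))))
 (.node (.node (.node (.leaf 2929)
 (.leaf 3726))
 (.node (.leaf 981)
 (.leaf 2985)))
 (.node (.node (.leaf 1589)
 (.leaf 1886))
 (.node (.leaf 1492)
 (.leaf 1269))))))
 (.node (.node (.node (.node (.node (.leaf 4003)
 (.leaf 2236))
 (.node (.leaf 433)
 (.leaf 1997)))
 (.node (.node (.leaf 3952)
 (.leaf 1078))
 (.node (.leaf 1339)
 (.leaf 805))))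
 (.node (.node (.node (.leaf 585)
 (.leaf 2984))
 (.node (.leaf 3563)
 (.leaf 778)))
 (.node (.node (.leaf 775)
 (.leaf 3357))
 (.node (.leaf 1669)
 (.leaf 1239)))))
 (.node (.node (.node (.node (.leaf 2704)
 (.leaf 1375))
 (.node (.leaf 3632)
 (.leaf 3002)))
 (.node (.node (.leaf 1505)
 (.leaf 681))
 (.node (.leaf 3353)
 (.leaf 1744))))
 (.node (.node (.node (.leaf 3218)
 (.leaf 2251))
 (.node (.leaf 593)
 (.leaf 122)))
 (.node (.node (.leaf 2106)
 (.leaf 1308))
 (.node (.leaf 2676)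
 (.leaf 3696))))))

def tAiB57 : RT := .node (.node (.node (.node (.node (.node (.leaf 370)
 (.leaf 746))
 (.node (.leaf 1592)
 (.leaf 1559)))
 (.node (.node (.leaf 2669)
 (.leaf 824))
 (.node (.leaf 3169)
 (.leaf 1322))))
 (.node (.node (.node (.leaf 3617)
 (.leaf 1196))
 (.node (.leaf 1587)
 (.leaf 1259)))
 (.node (.node (.leaf 3918)
 (.leaf 3104))
 (.node (.leaf 3991)
 (.leaf 902)))))
 (.node (.node (.node (.node (.leaf 3657)
 (.leaf 1609))
 (.node (.leaf 2393)
 (.leaf 3545)))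
 (.node (.node (.leaf 2624)
 (.leaf 1351))
 (.node (.leaf 3425)
 (.leaf 880))))
 (.node (.node (.node (.leaf 447)
 (.leaf 3841))
 (.node (.leaf 2090)
 (.leaf 229)))
 (.node (.node (.leaf 1874)
 (.leaf 1320))
 (.node (.leaf 49)
 (.leaf 55))))))
 (.node (.node (.node (.node (.node (.leaf 2844)
 (.leaf 1017))
 (.node (.leaf 2312)
 (.leaf 171)))
 (.node (.node (.leaf 3893)
 (.leaf 2359))
 (.node (.leaf 1996)
 (.leaf 4009))))
 (.node (.node (.node (.leaf 539)
 (.leaf 1611))
 (.node (.leaf 764)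
 (.leaf 473)))
 (.node (.node (.leaf 3724)
 (.leaf 3284))
 (.node (.leaf 1721)
 (.leaf 1614)))))
 (.node (.node (.node (.node (.leaf 1897)
 (.leaf 330))
 (.node (.leaf 1906)
 (.leaf 432)))
 (.node (.node (.leaf 587)
 (.leaf 1347))
 (.node (.leaf 3620)
 (.leaf 4028))))
 (.node (.node (.node (.leaf 2642)
 (.leaf 1765))
 (.node (.leaf 155)
 (.leaf 1580)))
 (.node (.node (.leaf 2601)
 (.leaf 589))
 (.node (.leaf 1110)
 (.leaf 664))))))

def tAiB58 : RT := .node (.node (.node (.node (.node (.node (.leaf 2728)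
 (.leaf 3114))
 (.node (.leaf 2377)
 (.leaf 3546)))
 (.node (.node (.leaf 2404)
 (.leaf 3805))
 (.node (.leaf 3653)
 (.leaf 2237))))
 (.node (.node (.node (.leaf 1197)
 (.leaf 2249))
 (.node (.leaf 3603)
 (.leaf 3612)))
 (.node (.node (.leaf 161)
 (.leaf 118))
 (.node (.leaf 1392)
 (.leaf 346)))))
 (.node (.node (.node (.node (.leaf 2913)
 (.leaf 774))
 (.node (.leaf 900)
 (.leaf 3566)))
 (.node (.node (.leaf 2061)
 (.leaf 2183))
 (.node (.leaf 2350)
 (.leaf 450))))
 (.node (.node (.node (.leaf 1249)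
 (.leaf 20))
 (.node (.leaf 2417)
 (.leaf 3654)))
 (.node (.node (.leaf 1545)
 (.leaf 2922))
 (.node (.leaf 1854)
 (.leaf 371))))))
 (.node (.node (.node (.node (.node (.leaf 666)
 (.leaf 994))
 (.node (.leaf 1324)
 (.leaf 2100)))
 (.node (.node (.leaf 2422)
 (.leaf 3567))
 (.node (.leaf 2323)
 (.leaf 1663))))
 (.node (.node (.node (.leaf 2612)
 (.leaf 2148))
 (.node (.leaf 1315)
 (.leaf 2452)))
 (.node (.node (.leaf 2343)
 (.leaf 291))
 (.node (.leaf 2555)
 (.leaf 822)))))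
 (.node (.node (.node (.node (.leaf 1089)
 (.leaf 2667))
 (.node (.leaf 3590)
 (.leaf 656)))
 (.node (.node (.leaf 559)
 (.leaf 1145))
 (.node (.leaf 2948)
 (.leaf 3636))))
 (.node (.node (.node (.leaf 1625)
 (.leaf 3410))
 (.node (.leaf 129)
 (.leaf 3706)))
 (.node (.node (.leaf 1560)
 (.leaf 3525))
 (.node (.leaf 4027)
 (.leaf 1453))))))

def tAiB59 : RT := .node (.node (.node (.node (.node (.node (.leaf 3277)
 (.leaf 2594))
 (.node (.leaf 335)
 (.leaf 2368)))
 (.node (.node (.leaf 3433)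
 (.leaf 3234))
 (.node (.leaf 1218)
 (.leaf 3452))))
 (.node (.node (.node (.leaf 2647)
 (.leaf 1882))
 (.node (.leaf 1881)
 (.leaf 1281)))
 (.node (.node (.leaf 3274)
 (.leaf 3294))
 (.node (.leaf 1634)
 (.leaf 59)))))
 (.node (.node (.node (.node (.leaf 227)
 (.leaf 2065))
 (.node (.leaf 1857)
 (.leaf 861)))
 (.node (.node (.leaf 3151)
 (.leaf 195))
 (.node (.leaf 1112)
 (.leaf 2708))))
 (.node (.node (.node (.leaf 913)
 (.leaf 1725))
 (.node (.leaf 2760)
 (.leaf 2457)))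
 (.node (.node (.leaf 3642)
 (.leaf 95))
 (.node (.leaf 1217)
 (.leaf 1880))))))
 (.node (.node (.node (.node (.node (.leaf 1972)
 (.leaf 3514))
 (.node (.leaf 1573)
 (.leaf 3350)))
 (.node (.node (.leaf 2953)
 (.leaf 282))
 (.node (.leaf 631)
 (.leaf 3447))))
 (.node (.node (.node (.leaf 3747)
 (.leaf 2768))
 (.node (.leaf 876)
 (.leaf 3866)))
 (.node (.node (.leaf 152)
 (.leaf 135))
 (.node (.leaf 1710)
 (.leaf 673)))))
 (.node (.node (.node (.node (.leaf 1182)
 (.leaf 138))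
 (.node (.leaf 3241)
 (.leaf 222)))
 (.node (.node (.leaf 3853)
 (.leaf 1030))
 (.node (.leaf 3945)
 (.leaf 898))))
 (.node (.node (.node (.leaf 37)
 (.leaf 2767))
 (.node (.leaf 2438)
 (.leaf 829)))
 (.node (.node (.leaf 3922)
 (.leaf 1528))
 (.node (.leaf 1945)
 (.leaf 2130))))))

def tAiB60 : RT := .node (.node (.node (.node (.node (.node (.leaf 2801)
 (.leaf 2691))
 (.node (.leaf 2666)
 (.leaf 980)))
 (.node (.node (.leaf 2774)
 (.leaf 2244))
 (.node (.leaf 1707)
 (.leaf 3801))))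
 (.node (.node (.node (.leaf 1978)
 (.leaf 1457))
 (.node (.leaf 62)
 (.leaf 4030)))
 (.node (.node (.leaf 1325)
 (.leaf 973))
 (.node (.leaf 68)
 (.leaf 2737)))))
 (.node (.node (.node (.node (.leaf 134)
 (.leaf 877))
 (.node (.leaf 1840)
 (.leaf 404)))
 (.node (.node (.leaf 621)
 (.leaf 1127))
 (.node (.leaf 859)
 (.leaf 2648))))
 (.node (.node (.node (.leaf 2412)
 (.leaf 2685))
 (.node (.leaf 309)
 (.leaf 460)))
 (.node (.node (.leaf 1257)
 (.leaf 2341))
 (.node (.leaf 803)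
 (.leaf 1853))))))
 (.node (.node (.node (.node (.node (.leaf 3469)
 (.leaf 343))
 (.node (.leaf 765)
 (.leaf 1564)))
 (.node (.node (.leaf 3808)
 (.leaf 3206))
 (.node (.leaf 690)
 (.leaf 1439))))
 (.node (.node (.node (.leaf 1039)
 (.leaf 2561))
 (.node (.leaf 394)
 (.leaf 846)))
 (.node (.node (.leaf 4013)
 (.leaf 491))
 (.node (.leaf 1070)
 (.leaf 677)))))
 (.node (.node (.node (.node (.leaf 507)
 (.leaf 485))
 (.node (.leaf 3027)
 (.leaf 3351)))
 (.node (.node (.leaf 3187)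
 (.leaf 1))
 (.node (.leaf 3465)
 (.leaf 3769))))
 (.node (.node (.node (.leaf 1643)
 (.leaf 397))
 (.node (.leaf 3914)
 (.leaf 278)))
 (.node (.node (.leaf 1556)
 (.leaf 749))
 (.node (.leaf 2079)
 (.leaf 669))))))

def tAiB61 : RT := .node (.node (.node (.node (.node (.node (.leaf 2081)
 (.leaf 1184))
 (.node (.leaf 549)
 (.leaf 258)))
 (.node (.node (.leaf 2499)
 (.leaf 3742))
 (.node (.leaf 2064)
 (.leaf 686))))
 (.node (.node (.node (.leaf 3110)
 (.leaf 1681))
 (.node (.leaf 3074)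
 (.leaf 2713)))
 (.node (.node (.leaf 527)
 (.leaf 700))
 (.node (.leaf 2196)
 (.leaf 520)))))
 (.node (.node (.node (.node (.leaf 888)
 (.leaf 716))
 (.node (.leaf 648)
 (.leaf 1930)))
 (.node (.node (.leaf 1535)
 (.leaf 2433))
 (.node (.leaf 2705)
 (.leaf 983))))
 (.node (.node (.node (.leaf 269)
 (.leaf 3877))
 (.node (.leaf 3610)
 (.leaf 3071)))
 (.node (.node (.leaf 2023)
 (.leaf 1708))
 (.node (.leaf 1502)
 (.leaf 2308))))))
 (.node (.node (.node (.node (.node (.leaf 831)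
 (.leaf 3820))
 (.node (.leaf 1584)
 (.leaf 320)))
 (.node (.node (.leaf 834)
 (.leaf 3344))
 (.node (.leaf 373)
 (.leaf 1048))))
 (.node (.node (.node (.leaf 2707)
 (.leaf 1401))
 (.node (.leaf 506)
 (.leaf 2387)))
 (.node (.node (.leaf 356)
 (.leaf 270))
 (.node (.leaf 814)
 (.leaf 382)))))
 (.node (.node (.node (.node (.leaf 3811)
 (.leaf 2741))
 (.node (.leaf 38)
 (.leaf 1748)))
 (.node (.node (.leaf 1635)
 (.leaf 623))
 (.node (.leaf 1212)
 (.leaf 1361))))
 (.node (.node (.node (.leaf 1861)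
 (.leaf 588))
 (.node (.leaf 2268)
 (.leaf 3397)))
 (.node (.node (.leaf 3432)
 (.leaf 387))
 (.node (.leaf 191)
 (.leaf 2202))))))

def tAiB62 : RT := .node (.node (.node (.node (.node (.node (.leaf 2371)
 (.leaf 1012))
 (.node (.leaf 1770)
 (.leaf 2680)))
 (.node (.node (.leaf 2402)
 (.leaf 2683))
 (.node (.leaf 3673)
 (.leaf 1807))))
 (.node (.node (.node (.leaf 1494)
 (.leaf 1055))
 (.node (.leaf 2783)
 (.leaf 3369)))
 (.node (.node (.leaf 1658)
 (.leaf 1819))
 (.node (.leaf 74)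
 (.leaf 3923)))))
 (.node (.node (.node (.node (.leaf 3476)
 (.leaf 1311))
 (.node (.leaf 2409)
 (.leaf 1753)))
 (.node (.node (.leaf 2465)
 (.leaf 3699))
 (.node (.leaf 3600)
 (.leaf 1827))))
 (.node (.node (.node (.leaf 1843)
 (.leaf 598))
 (.node (.leaf 1699)
 (.leaf 3969)))
 (.node (.node (.leaf 384)
 (.leaf 1083))
 (.node (.leaf 601)
 (.leaf 2217))))))
 (.node (.node (.node (.node (.node (.leaf 1642)
 (.leaf 1803))
 (.node (.leaf 2294)
 (.leaf 3007)))
 (.node (.node (.leaf 2394)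
 (.leaf 1800))
 (.node (.leaf 228)
 (.leaf 1254))))
 (.node (.node (.node (.leaf 1551)
 (.leaf 3703))
 (.node (.leaf 276)
 (.leaf 94)))
 (.node (.node (.leaf 1639)
 (.leaf 190))
 (.node (.leaf 609)
 (.leaf 3972)))))
 (.node (.node (.node (.node (.leaf 2791)
 (.leaf 2415))
 (.node (.leaf 3064)
 (.leaf 1268)))
 (.node (.node (.leaf 839)
 (.leaf 1961))
 (.node (.leaf 3479)
 (.leaf 2471))))
 (.node (.node (.node (.leaf 3679)
 (.leaf 3444))
 (.node (.leaf 1593)
 (.leaf 352)))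
 (.node (.node (.leaf 2405)
 (.leaf 3858))
 (.node (.leaf 3181)
 (.leaf 2614))))))

def tAiB63 : RT := .node (.node (.node (.node (.node (.node (.leaf 436)
 (.leaf 1649))
 (.node (.leaf 3406)
 (.leaf 2886)))
 (.node (.node (.leaf 1193)
 (.leaf 884))
 (.node (.leaf 1170)
 (.leaf 541))))
 (.node (.node (.node (.leaf 1062)
 (.leaf 912))
 (.node (.leaf 2406)
 (.leaf 146)))
 (.node (.node (.leaf 1787)
 (.leaf 445))
 (.node (.leaf 79)
 (.leaf 3829)))))
 (.node (.node (.node (.node (.leaf 2687)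
 (.leaf 3484))
 (.node (.leaf 885)
 (.leaf 3489)))
 (.node (.node (.leaf 1718)
 (.leaf 1555))
 (.node (.leaf 2403)
 (.leaf 1156))))
 (.node (.node (.node (.leaf 175)
 (.leaf 255))
 (.node (.leaf 1977)
 (.leaf 2344)))
 (.leaf 0))))
 (.leaf 0)

def tAi : RT := .node (.node (.node (.node (.node (.node (tAiB0)
 (tAiB1))
 (.node (tAiB2)
 (tAiB3)))
 (.node (.node (tAiB4)
 (tAiB5))
 (.node (tAiB6)
 (tAiB7))))
 (.node (.node (.node (tAiB8)
 (tAiB9))
 (.node (tAiB10)
 (tAiB11)))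
 (.node (.node (tAiB12)
 (tAiB13))
 (.node (tAiB14)
 (tAiB15)))))
 (.node (.node (.node (.node (tAiB16)
 (tAiB17))
 (.node (tAiB18)
 (tAiB19)))
 (.node (.node (tAiB20)
 (tAiB21))
 (.node (tAiB22)
 (tAiB23))))
 (.node (.node (.node (tAiB24)
 (tAiB25))
 (.node (tAiB26)
 (tAiB27)))
 (.node (.node (tAiB28)
 (tAiB29))
 (.node (tAiB30)
 (tAiB31))))))
 (.node (.node (.node (.node (.node (tAiB32)
 (tAiB33))
 (.node (tAiB34)
 (tAiB35)))
 (.node (.node (tAiB36)
 (tAiB37))
 (.node (tAiB38)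
 (tAiB39))))
 (.node (.node (.node (tAiB40)
 (tAiB41))
 (.node (tAiB42)
 (tAiB43)))
 (.node (.node (tAiB44)
 (tAiB45))
 (.node (tAiB46)
 (tAiB47)))))
 (.node (.node (.node (.node (tAiB48)
 (tAiB49))
 (.node (tAiB50)
 (tAiB51)))
 (.node (.node (tAiB52)
 (tAiB53))
 (.node (tAiB54)
 (tAiB55))))
 (.node (.node (.node (tAiB56)
 (tAiB57))
 (.node (tAiB58)
 (tAiB59)))
 (.node (.node (tAiB60)
 (tAiB61))
 (.node (tAiB62)
 (tAiB63))))))

def tBiB0 : RT := .node (.node (.node (.node (.node (.node (.leaf 0)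
 (.leaf 2774))
 (.node (.leaf 3939)
 (.leaf 1291)))
 (.node (.node (.leaf 2764)
 (.leaf 3534))
 (.node (.leaf 3343)
 (.leaf 1002))))
 (.node (.node (.node (.leaf 3737)
 (.leaf 3506))
 (.node (.leaf 511)
 (.leaf 451)))
 (.node (.node (.leaf 2068)
 (.leaf 655))
 (.node (.leaf 2839)
 (.leaf 3462)))))
 (.node (.node (.node (.node (.leaf 296)
 (.leaf 3264))
 (.node (.leaf 3477)
 (.leaf 759)))
 (.node (.node (.leaf 3981)
 (.leaf 1110))
 (.node (.leaf 2237)
 (.leaf 3854))))
 (.node (.node (.node (.leaf 3897)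
 (.leaf 1272))
 (.node (.leaf 3203)
 (.leaf 426)))
 (.node (.node (.leaf 3948)
 (.leaf 2437))
 (.node (.leaf 1538)
 (.leaf 128))))))
 (.node (.node (.node (.node (.node (.leaf 2053)
 (.leaf 1799))
 (.node (.leaf 3498)
 (.leaf 1635)))
 (.node (.node (.leaf 1442)
 (.leaf 523))
 (.node (.leaf 3653)
 (.leaf 2371))))
 (.node (.node (.node (.leaf 2693)
 (.leaf 3065))
 (.node (.leaf 298)
 (.leaf 3265)))
 (.node (.node (.leaf 3742)
 (.leaf 2702))
 (.node (.leaf 3480)
 (.leaf 232)))))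
 (.node (.node (.node (.node (.leaf 3013)
 (.leaf 431))
 (.node (.leaf 1389)
 (.leaf 521)))
 (.node (.node (.leaf 3697)
 (.leaf 1211))
 (.node (.leaf 3780)
 (.leaf 676))))
 (.node (.node (.node (.leaf 509)
 (.leaf 106))
 (.node (.leaf 1856)
 (.leaf 3965)))
 (.node (.node (.leaf 2907)
 (.leaf 52))
 (.node (.leaf 3645)
 (.leaf 1443))))))

def tBiB1 : RT := .node (.node (.node (.node (.node (.node (.leaf 3808)
 (.leaf 741))
 (.node (.leaf 2311)
 (.leaf 1528)))
 (.node (.node (.leaf 3435)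
 (.leaf 2175))
 (.node (.leaf 2341)
 (.leaf 992))))
 (.node (.node (.node (.leaf 624)
 (.leaf 2357))
 (.node (.leaf 1602)
 (.leaf 2477)))
 (.node (.node (.leaf 2831)
 (.leaf 2940))
 (.node (.leaf 2304)
 (.leaf 2227)))))
 (.node (.node (.node (.node (.leaf 1821)
 (.leaf 4016))
 (.node (.leaf 1450)
 (.leaf 3574)))
 (.node (.node (.leaf 1692)
 (.leaf 156))
 (.node (.leaf 965)
 (.leaf 2550))))
 (.node (.node (.node (.leaf 2210)
 (.leaf 3656))
 (.node (.leaf 3546)
 (.leaf 2453)))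
 (.node (.node (.leaf 347)
 (.leaf 1861))
 (.node (.leaf 1200)
 (.leaf 3327))))))
 (.node (.node (.node (.node (.node (.leaf 1986)
 (.leaf 1332))
 (.node (.leaf 4031)
 (.leaf 2491)))
 (.node (.node (.leaf 2383)
 (.leaf 292))
 (.node (.leaf 116)
 (.leaf 1295))))
 (.node (.node (.node (.leaf 3357)
 (.leaf 2425))
 (.node (.leaf 3820)
 (.leaf 2548)))
 (.node (.node (.leaf 810)
 (.leaf 2710))
 (.node (.leaf 3360)
 (.leaf 393)))))
 (.node (.node (.node (.node (.leaf 1684)
 (.leaf 2021))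
 (.node (.leaf 3188)
 (.leaf 1360)))
 (.node (.node (.leaf 1522)
 (.leaf 3943))
 (.node (.leaf 3707)
 (.leaf 1823))))
 (.node (.node (.node (.leaf 766)
 (.leaf 3314))
 (.node (.leaf 1690)
 (.leaf 1380)))
 (.node (.node (.leaf 1889)
 (.leaf 3489))
 (.node (.leaf 2618)
 (.leaf 158))))))

def tBiB2 : RT := .node (.node (.node (.node (.node (.node (.leaf 2856)
 (.leaf 2645))
 (.node (.leaf 972)
 (.leaf 3147)))
 (.node (.node (.leaf 2018)
 (.leaf 564))
 (.node (.leaf 2925)
 (.leaf 1454))))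
 (.node (.node (.node (.leaf 3986)
 (.leaf 818))
 (.node (.leaf 3898)
 (.leaf 2320)))
 (.node (.node (.leaf 3373)
 (.leaf 1136))
 (.node (.leaf 2412)
 (.leaf 1045)))))
 (.node (.node (.node (.node (.leaf 1962)
 (.leaf 2338))
 (.node (.leaf 3584)
 (.leaf 596)))
 (.node (.node (.leaf 1374)
 (.leaf 2451))
 (.node (.leaf 3134)
 (.leaf 890))))
 (.node (.node (.node (.leaf 1796)
 (.leaf 60))
 (.node (.leaf 1611)
 (.leaf 2058)))
 (.node (.node (.leaf 500)
 (.leaf 895))
 (.node (.leaf 2787)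
 (.leaf 1163))))))
 (.node (.node (.node (.node (.node (.leaf 2625)
 (.leaf 2252))
 (.node (.leaf 1694)
 (.leaf 259)))
 (.node (.node (.leaf 3281)
 (.leaf 1358))
 (.node (.leaf 2492)
 (.leaf 1222))))
 (.node (.node (.node (.leaf 2821)
 (.leaf 1593))
 (.node (.leaf 233)
 (.leaf 2884)))
 (.node (.node (.leaf 2813)
 (.leaf 2217))
 (.node (.leaf 238)
 (.leaf 3937)))))
 (.node (.node (.node (.node (.leaf 1221)
 (.leaf 3823))
 (.node (.leaf 1049)
 (.leaf 1887)))
 (.node (.node (.leaf 989)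
 (.leaf 1524))
 (.node (.leaf 3980)
 (.leaf 3306))))
 (.node (.node (.node (.leaf 2267)
 (.leaf 493))
 (.node (.leaf 2726)
 (.leaf 1880)))
 (.node (.node (.leaf 3424)
 (.leaf 1083))
 (.node (.leaf 2486)
 (.leaf 1711))))))

def tBiB3 : RT := .node (.node (.node (.node (.node (.node (.leaf 659)
 (.leaf 2418))
 (.node (.leaf 545)
 (.leaf 2920)))
 (.node (.node (.leaf 2738)
 (.leaf 3907))
 (.node (.leaf 1233)
 (.leaf 601))))
 (.node (.node (.node (.leaf 3114)
 (.leaf 2467))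
 (.node (.leaf 1264)
 (.leaf 328)))
 (.node (.node (.leaf 3763)
 (.leaf 4052))
 (.node (.leaf 2069)
 (.leaf 1675)))))
 (.node (.node (.node (.node (.leaf 3000)
 (.leaf 1776))
 (.node (.leaf 2302)
 (.leaf 2605)))
 (.node (.node (.leaf 1236)
 (.leaf 1167))
 (.node (.leaf 3660)
 (.leaf 855))))
 (.node (.node (.node (.leaf 3768)
 (.leaf 1854))
 (.node (.leaf 904)
 (.leaf 320)))
 (.node (.node (.leaf 1888)
 (.leaf 273))
 (.node (.leaf 2042)
 (.leaf 334))))))
 (.node (.node (.node (.node (.node (.leaf 1758)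
 (.leaf 1680))
 (.node (.leaf 2274)
 (.leaf 2897)))
 (.node (.node (.leaf 2719)
 (.leaf 2091))
 (.node (.leaf 3839)
 (.leaf 373))))
 (.node (.node (.node (.leaf 3716)
 (.leaf 103))
 (.node (.leaf 1668)
 (.leaf 413)))
 (.node (.node (.leaf 1328)
 (.leaf 1350))
 (.node (.leaf 905)
 (.leaf 362)))))
 (.node (.node (.node (.node (.leaf 2117)
 (.leaf 2245))
 (.node (.leaf 1393)
 (.leaf 1370)))
 (.node (.node (.leaf 2116)
 (.leaf 2685))
 (.node (.leaf 2296)
 (.leaf 235))))
 (.node (.node (.node (.leaf 2583)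
 (.leaf 751))
 (.node (.leaf 1089)
 (.leaf 2186)))
 (.node (.node (.leaf 1055)
 (.leaf 215))
 (.node (.leaf 227)
 (.leaf 1587))))))

def tBiB4 : RT := .node (.node (.node (.node (.node (.node (.leaf 1425)
 (.leaf 3969))
 (.node (.leaf 2325)
 (.leaf 2746)))
 (.node (.node (.leaf 1017)
 (.leaf 2805))
 (.node (.leaf 3880)
 (.leaf 142))))
 (.node (.node (.node (.leaf 2032)
 (.leaf 3819))
 (.node (.leaf 1028)
 (.leaf 1764)))
 (.node (.node (.leaf 1020)
 (.leaf 1909))
 (.node (.leaf 1201)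
 (.leaf 3884)))))
 (.node (.node (.node (.node (.leaf 550)
 (.leaf 2472))
 (.node (.leaf 3906)
 (.leaf 502)))
 (.node (.node (.leaf 4055)
 (.leaf 324))
 (.node (.leaf 178)
 (.leaf 1476))))
 (.node (.node (.node (.leaf 190)
 (.leaf 622))
 (.node (.leaf 1864)
 (.leaf 1872)))
 (.node (.node (.leaf 2127)
 (.leaf 2005))
 (.node (.leaf 3803)
 (.leaf 2967))))))
 (.node (.node (.node (.node (.node (.leaf 2626)
 (.leaf 1713))
 (.node (.leaf 1326)
 (.leaf 1459)))
 (.node (.node (.leaf 4013)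
 (.leaf 3375))
 (.node (.leaf 1486)
 (.leaf 2757))))
 (.node (.node (.node (.leaf 1247)
 (.leaf 1641))
 (.node (.leaf 1220)
 (.leaf 412)))
 (.node (.node (.leaf 875)
 (.leaf 2576))
 (.node (.leaf 2883)
 (.leaf 1734)))))
 (.node (.node (.node (.node (.leaf 3433)
 (.leaf 4053))
 (.node (.leaf 2587)
 (.leaf 1603)))
 (.node (.node (.leaf 2246)
 (.leaf 3644))
 (.node (.leaf 3745)
 (.leaf 503))))
 (.node (.node (.node (.leaf 3339)
 (.leaf 2022))
 (.node (.leaf 733)
 (.leaf 3875)))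
 (.node (.node (.leaf 2373)
 (.leaf 1655))
 (.node (.leaf 3458)
 (.leaf 59))))))

def tBiB5 : RT := .node (.node (.node (.node (.node (.node (.leaf 994)
 (.leaf 2679))
 (.node (.leaf 2522)
 (.leaf 329)))
 (.node (.node (.leaf 2518)
 (.leaf 66))
 (.node (.leaf 4009)
 (.leaf 3920))))
 (.node (.node (.node (.leaf 1896)
 (.leaf 2564))
 (.node (.leaf 3107)
 (.leaf 698)))
 (.node (.node (.leaf 996)
 (.leaf 1493))
 (.node (.leaf 2212)
 (.leaf 3576)))))
 (.node (.node (.node (.node (.leaf 4043)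
 (.leaf 3520))
 (.node (.leaf 2305)
 (.leaf 542)))
 (.node (.node (.leaf 122)
 (.leaf 2859))
 (.node (.leaf 3273)
 (.leaf 3712))))
 (.node (.node (.node (.leaf 1765)
 (.leaf 337))
 (.node (.leaf 380)
 (.leaf 1122)))
 (.node (.node (.leaf 327)
 (.leaf 826))
 (.node (.leaf 705)
 (.leaf 375))))))
 (.node (.node (.node (.node (.node (.leaf 2198)
 (.leaf 1502))
 (.node (.leaf 3788)
 (.leaf 546)))
 (.node (.node (.leaf 3828)
 (.leaf 2898))
 (.node (.leaf 3096)
 (.leaf 2970))))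
 (.node (.node (.node (.leaf 1050)
 (.leaf 1058))
 (.node (.leaf 2346)
 (.leaf 914)))
 (.node (.node (.leaf 645)
 (.leaf 1445))
 (.node (.leaf 2861)
 (.leaf 458)))))
 (.node (.node (.node (.node (.leaf 1472)
 (.leaf 1921))
 (.node (.leaf 2452)
 (.leaf 1582)))
 (.node (.node (.leaf 3313)
 (.leaf 3141))
 (.node (.leaf 982)
 (.leaf 2201))))
 (.node (.node (.node (.leaf 2165)
 (.leaf 4006))
 (.node (.leaf 945)
 (.leaf 3084)))
 (.node (.node (.leaf 2547)
 (.leaf 1526))
 (.node (.leaf 2059)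
 (.leaf 181))))))

def tBiB6 : RT := .node (.node (.node (.node (.node (.node (.leaf 576)
 (.leaf 2754))
 (.node (.leaf 1948)
 (.leaf 2501)))
 (.node (.node (.leaf 3153)
 (.leaf 2613))
 (.node (.leaf 2077)
 (.leaf 3508))))
 (.node (.node (.node (.leaf 144)
 (.leaf 2876))
 (.node (.leaf 1419)
 (.leaf 2328)))
 (.node (.node (.leaf 340)
 (.leaf 1385))
 (.node (.leaf 802)
 (.leaf 1775)))))
 (.node (.node (.node (.node (.leaf 203)
 (.leaf 1091))
 (.node (.leaf 2093)
 (.leaf 174)))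
 (.node (.node (.leaf 306)
 (.leaf 1616))
 (.node (.leaf 1539)
 (.leaf 2205))))
 (.node (.node (.node (.leaf 3834)
 (.leaf 3198))
 (.node (.leaf 1243)
 (.leaf 1505)))
 (.node (.node (.leaf 1080)
 (.leaf 1008))
 (.node (.leaf 2636)
 (.leaf 3406))))))
 (.node (.node (.node (.node (.node (.leaf 2854)
 (.leaf 3315))
 (.node (.leaf 1412)
 (.leaf 2699)))
 (.node (.node (.leaf 538)
 (.leaf 406))
 (.node (.leaf 3057)
 (.leaf 2809))))
 (.node (.node (.node (.leaf 3580)
 (.leaf 2562))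
 (.node (.leaf 2229)
 (.leaf 1392)))
 (.node (.node (.leaf 400)
 (.leaf 3169))
 (.node (.leaf 4047)
 (.leaf 873)))))
 (.node (.node (.node (.node (.leaf 2502)
 (.leaf 109))
 (.node (.leaf 2790)
 (.leaf 2905)))
 (.node (.node (.leaf 3193)
 (.leaf 210))
 (.node (.leaf 2838)
 (.leaf 560))))
 (.node (.node (.node (.leaf 1099)
 (.leaf 3519))
 (.node (.leaf 1895)
 (.leaf 3393)))
 (.node (.node (.leaf 3592)
 (.leaf 1617))
 (.node (.leaf 2936)
 (.leaf 494))))))

def tBiB7 : RT := .node (.node (.node (.node (.node (.node (.leaf 370)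
 (.leaf 731))
 (.node (.leaf 630)
 (.leaf 927)))
 (.node (.node (.leaf 2640)
 (.leaf 2581))
 (.node (.leaf 3116)
 (.leaf 442))))
 (.node (.node (.node (.leaf 1669)
 (.leaf 2601))
 (.node (.leaf 534)
 (.leaf 1906)))
 (.node (.node (.leaf 2108)
 (.leaf 1946))
 (.node (.leaf 772)
 (.leaf 1079)))))
 (.node (.node (.node (.node (.leaf 157)
 (.leaf 3583))
 (.node (.leaf 3037)
 (.leaf 358)))
 (.node (.node (.leaf 3232)
 (.leaf 1499))
 (.node (.leaf 1100)
 (.leaf 322))))
 (.node (.node (.node (.leaf 3459)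
 (.leaf 1396))
 (.node (.leaf 3092)
 (.leaf 915)))
 (.node (.node (.leaf 700)
 (.leaf 348))
 (.node (.leaf 1994)
 (.leaf 881))))))
 (.node (.node (.node (.node (.node (.leaf 3794)
 (.leaf 475))
 (.node (.leaf 1208)
 (.leaf 4032)))
 (.node (.node (.leaf 3178)
 (.leaf 1325))
 (.node (.leaf 1305)
 (.leaf 1057))))
 (.node (.node (.node (.leaf 2258)
 (.leaf 3560))
 (.node (.leaf 2150)
 (.leaf 3083)))
 (.node (.node (.leaf 2344)
 (.leaf 3268))
 (.node (.leaf 1546)
 (.leaf 74)))))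
 (.node (.node (.node (.node (.leaf 2690)
 (.leaf 401))
 (.node (.leaf 425)
 (.leaf 2744)))
 (.node (.node (.leaf 2215)
 (.leaf 3161))
 (.node (.leaf 2812)
 (.leaf 590))))
 (.node (.node (.node (.leaf 3298)
 (.leaf 2366))
 (.node (.leaf 3894)
 (.leaf 93)))
 (.node (.node (.leaf 1729)
 (.leaf 848))
 (.node (.leaf 3677)
 (.leaf 1594))))))

def tBiB8 : RT := .node (.node (.node (.node (.node (.node (.leaf 64)
 (.leaf 1394))
 (.node (.leaf 725)
 (.leaf 3217)))
 (.node (.node (.leaf 395)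
 (.leaf 1037))
 (.node (.leaf 2167)
 (.leaf 1005))))
 (.node (.node (.node (.leaf 2355)
 (.leaf 1531))
 (.node (.leaf 3591)
 (.leaf 2433)))
 (.node (.node (.leaf 529)
 (.leaf 88))
 (.node (.leaf 1421)
 (.leaf 2794)))))
 (.node (.node (.node (.node (.leaf 3746)
 (.leaf 1234))
 (.node (.leaf 2164)
 (.leaf 3256)))
 (.node (.node (.leaf 3947)
 (.leaf 1660))
 (.node (.leaf 1473)
 (.leaf 674))))
 (.node (.node (.node (.leaf 145)
 (.leaf 3144))
 (.node (.leaf 2348)
 (.leaf 2617)))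
 (.node (.node (.leaf 1965)
 (.leaf 1640))
 (.node (.leaf 476)
 (.leaf 1460))))))
 (.node (.node (.node (.node (.node (.leaf 3530)
 (.leaf 967))
 (.node (.leaf 3389)
 (.leaf 874)))
 (.node (.node (.leaf 1739)
 (.leaf 1967))
 (.node (.leaf 1130)
 (.leaf 3214))))
 (.node (.node (.node (.leaf 3414)
 (.leaf 2819))
 (.node (.leaf 1116)
 (.leaf 1575)))
 (.node (.node (.leaf 1626)
 (.leaf 2297))
 (.node (.leaf 439)
 (.leaf 797)))))
 (.node (.node (.node (.node (.leaf 3430)
 (.leaf 2833))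
 (.node (.leaf 2400)
 (.leaf 1458)))
 (.node (.node (.leaf 1595)
 (.leaf 1545))
 (.node (.leaf 3923)
 (.leaf 3280))))
 (.node (.node (.node (.leaf 1281)
 (.leaf 1786))
 (.node (.leaf 471)
 (.leaf 2427)))
 (.node (.node (.leaf 1417)
 (.leaf 2372))
 (.node (.leaf 3150)
 (.leaf 2615))))))

def tBiB9 : RT := .node (.node (.node (.node (.node (.node (.leaf 1102)
 (.leaf 678))
 (.node (.leaf 2777)
 (.leaf 2422)))
 (.node (.node (.leaf 118)
 (.leaf 3722))
 (.node (.leaf 3545)
 (.leaf 694))))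
 (.node (.node (.node (.leaf 3613)
 (.leaf 3769))
 (.node (.leaf 2580)
 (.leaf 3349)))
 (.node (.node (.leaf 3002)
 (.leaf 1805))
 (.node (.leaf 775)
 (.leaf 114)))))
 (.node (.node (.node (.node (.leaf 3)
 (.leaf 2529))
 (.node (.leaf 3866)
 (.leaf 1423)))
 (.node (.node (.leaf 762)
 (.leaf 1311))
 (.node (.leaf 101)
 (.leaf 4001))))
 (.node (.node (.node (.leaf 107)
 (.leaf 222))
 (.node (.leaf 1262)
 (.leaf 1721)))
 (.node (.node (.leaf 2395)
 (.leaf 3602))
 (.node (.leaf 1785)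
 (.leaf 688))))))
 (.node (.node (.node (.node (.node (.leaf 3189)
 (.leaf 1283))
 (.node (.leaf 1402)
 (.leaf 1515)))
 (.node (.node (.leaf 2428)
 (.leaf 1053))
 (.node (.leaf 2189)
 (.leaf 2275))))
 (.node (.node (.node (.leaf 2706)
 (.leaf 3619))
 (.node (.leaf 2149)
 (.leaf 4020)))
 (.node (.node (.leaf 3605)
 (.leaf 4005))
 (.node (.leaf 1834)
 (.leaf 2047)))))
 (.node (.node (.node (.node (.leaf 1500)
 (.leaf 3334))
 (.node (.leaf 1609)
 (.leaf 321)))
 (.node (.node (.leaf 3879)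
 (.leaf 501))
 (.node (.leaf 1466)
 (.leaf 2533))))
 (.node (.node (.node (.leaf 3304)
 (.leaf 3439))
 (.node (.leaf 2166)
 (.leaf 31)))
 (.node (.node (.leaf 429)
 (.leaf 2651))
 (.node (.leaf 2206)
 (.leaf 3785))))))

def tBiB10 : RT := .node (.node (.node (.node (.node (.node (.leaf 2570)
 (.leaf 3431))
 (.node (.leaf 1177)
 (.leaf 2718)))
 (.node (.node (.leaf 2)
 (.leaf 8))
 (.node (.leaf 3369)
 (.leaf 2620))))
 (.node (.node (.node (.leaf 2409)
 (.leaf 2797))
 (.node (.leaf 2776)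
 (.leaf 1520)))
 (.node (.node (.leaf 2334)
 (.leaf 1238))
 (.node (.leaf 1139)
 (.leaf 801)))))
 (.node (.node (.node (.node (.leaf 278)
 (.leaf 3350))
 (.node (.leaf 1231)
 (.leaf 3394)))
 (.node (.node (.leaf 1553)
 (.leaf 2782))
 (.node (.leaf 371)
 (.leaf 1566))))
 (.node (.node (.node (.leaf 2410)
 (.leaf 616))
 (.node (.leaf 3316)
 (.leaf 1451)))
 (.node (.node (.leaf 572)
 (.leaf 2319))
 (.node (.leaf 3338)
 (.leaf 263))))))
 (.node (.node (.node (.node (.node (.leaf 1563)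
 (.leaf 3720))
 (.node (.leaf 2282)
 (.leaf 718)))
 (.node (.node (.leaf 2508)
 (.leaf 2877))
 (.node (.leaf 753)
 (.leaf 1673))))
 (.node (.node (.node (.leaf 598)
 (.leaf 452))
 (.node (.leaf 1172)
 (.leaf 3210)))
 (.node (.node (.leaf 2960)
 (.leaf 2128))
 (.node (.leaf 1956)
 (.leaf 261)))))
 (.node (.node (.node (.node (.leaf 3390)
 (.leaf 1279))
 (.node (.leaf 2196)
 (.leaf 2337)))
 (.node (.node (.leaf 3368)
 (.leaf 2280))
 (.node (.leaf 579)
 (.leaf 3589))))
 (.node (.node (.node (.leaf 5)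
 (.leaf 1244))
 (.node (.leaf 1384)
 (.leaf 958)))
 (.node (.node (.leaf 1523)
 (.leaf 3641))
 (.node (.leaf 2417)
 (.leaf 2040))))))

def tBiB11 : RT := .node (.node (.node (.node (.node (.node (.leaf 1939)
 (.leaf 3615))
 (.node (.leaf 3726)
 (.leaf 1632)))
 (.node (.node (.leaf 363)
 (.leaf 2028))
 (.node (.leaf 176)
 (.leaf 1752))))
 (.node (.node (.node (.leaf 491)
 (.leaf 257))
 (.node (.leaf 2322)
 (.leaf 3024)))
 (.node (.node (.leaf 820)
 (.leaf 3690))
 (.node (.leaf 2374)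
 (.leaf 1085)))))
 (.node (.node (.node (.node (.leaf 1331)
 (.leaf 2500))
 (.node (.leaf 3267)
 (.leaf 2230)))
 (.node (.node (.leaf 3783)
 (.leaf 1990))
 (.node (.leaf 2017)
 (.leaf 3392))))
 (.node (.node (.node (.leaf 1585)
 (.leaf 2551))
 (.node (.leaf 166)
 (.leaf 21)))
 (.node (.node (.leaf 2975)
 (.leaf 161))
 (.node (.leaf 1038)
 (.leaf 1488))))))
 (.node (.node (.node (.node (.node (.leaf 3072)
 (.leaf 2735))
 (.node (.leaf 1818)
 (.leaf 3749)))
 (.node (.node (.leaf 3655)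
 (.leaf 2659))
 (.node (.leaf 1907)
 (.leaf 1516))))
 (.node (.node (.node (.leaf 882)
 (.leaf 1322))
 (.node (.leaf 599)
 (.leaf 3750)))
 (.node (.node (.leaf 2333)
 (.leaf 1007))
 (.node (.leaf 669)
 (.leaf 2115)))))
 (.node (.node (.node (.node (.leaf 1747)
 (.leaf 3224))
 (.node (.leaf 689)
 (.leaf 2056)))
 (.node (.node (.leaf 2758)
 (.leaf 2342))
 (.node (.leaf 1447)
 (.leaf 282))))
 (.node (.node (.node (.leaf 845)
 (.leaf 1960))
 (.node (.leaf 423)
 (.leaf 968)))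
 (.node (.node (.leaf 3061)
 (.leaf 2264))
 (.node (.leaf 2034)
 (.leaf 1404))))))

def tBiB12 : RT := .node (.node (.node (.node (.node (.node (.leaf 270)
 (.leaf 2571))
 (.node (.leaf 2972)
 (.leaf 91)))
 (.node (.node (.leaf 2540)
 (.leaf 3975))
 (.node (.leaf 2606)
 (.leaf 117))))
 (.node (.node (.node (.leaf 3378)
 (.leaf 2598))
 (.node (.leaf 1790)
 (.leaf 438)))
 (.node (.node (.leaf 2007)
 (.leaf 1255))
 (.node (.leaf 1685)
 (.leaf 756)))))
 (.node (.node (.node (.node (.leaf 1961)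
 (.leaf 3739))
 (.node (.leaf 3192)
 (.leaf 359)))
 (.node (.node (.leaf 269)
 (.leaf 1239))
 (.node (.leaf 2354)
 (.leaf 58))))
 (.node (.node (.node (.leaf 441)
 (.leaf 1376))
 (.node (.leaf 2781)
 (.leaf 2725)))
 (.node (.node (.leaf 1877)
 (.leaf 3242))
 (.node (.leaf 3873)
 (.leaf 41))))))
 (.node (.node (.node (.node (.node (.leaf 3786)
 (.leaf 1925))
 (.node (.leaf 1440)
 (.leaf 141)))
 (.node (.node (.leaf 239)
 (.leaf 376))
 (.node (.leaf 2793)
 (.leaf 2387))))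
 (.node (.node (.node (.leaf 1371)
 (.leaf 2715))
 (.node (.leaf 15)
 (.leaf 2709)))
 (.node (.node (.leaf 2375)
 (.leaf 760))
 (.node (.leaf 1794)
 (.leaf 2638)))))
 (.node (.node (.node (.node (.leaf 3407)
 (.leaf 4022))
 (.node (.leaf 1745)
 (.leaf 2238)))
 (.node (.node (.leaf 2029)
 (.leaf 416))
 (.node (.leaf 1157)
 (.leaf 209))))
 (.node (.node (.node (.leaf 1916)
 (.leaf 1762))
 (.node (.leaf 84)
 (.leaf 3649)))
 (.node (.node (.leaf 3578)
 (.leaf 1284))
 (.node (.leaf 1944)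
 (.leaf 1784))))))

def tBiB13 : RT := .node (.node (.node (.node (.node (.node (.leaf 1405)
 (.leaf 1958))
 (.node (.leaf 2074)
 (.leaf 3862)))
 (.node (.node (.leaf 740)
 (.leaf 1107))
 (.node (.leaf 2487)
 (.leaf 942))))
 (.node (.node (.node (.leaf 1774)
 (.leaf 619))
 (.node (.leaf 3130)
 (.leaf 3361)))
 (.node (.node (.leaf 3157)
 (.leaf 3387))
 (.node (.leaf 2882)
 (.leaf 3184)))))
 (.node (.node (.node (.node (.leaf 1849)
 (.leaf 2939))
 (.node (.leaf 2403)
 (.leaf 186)))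
 (.node (.node (.leaf 2105)
 (.leaf 1138))
 (.node (.leaf 1108)
 (.leaf 510))))
 (.node (.node (.node (.leaf 709)
 (.leaf 787))
 (.node (.leaf 1448)
 (.leaf 3701)))
 (.node (.node (.leaf 1588)
 (.leaf 3341))
 (.node (.leaf 3797)
 (.leaf 3914))))))
 (.node (.node (.node (.node (.node (.leaf 104)
 (.leaf 436))
 (.node (.leaf 1355)
 (.leaf 3616)))
 (.node (.node (.leaf 2096)
 (.leaf 1912))
 (.node (.leaf 938)
 (.leaf 3191))))
 (.node (.node (.node (.leaf 290)
 (.leaf 3457))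
 (.node (.leaf 3640)
 (.leaf 632)))
 (.node (.node (.leaf 969)
 (.leaf 3040))
 (.node (.leaf 1390)
 (.leaf 1369)))))
 (.node (.node (.node (.node (.leaf 626)
 (.leaf 644))
 (.node (.leaf 3146)
 (.leaf 849)))
 (.node (.node (.leaf 4040)
 (.leaf 3822))
 (.node (.leaf 4054)
 (.leaf 3568))))
 (.node (.node (.node (.leaf 716)
 (.leaf 1351))
 (.node (.leaf 2675)
 (.leaf 365)))
 (.node (.node (.leaf 151)
 (.leaf 1686))
 (.node (.leaf 3966)
 (.leaf 3684))))))

def tBiB14 : RT := .node (.node (.node (.node (.node (.node (.leaf 2527)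
 (.leaf 2055))
 (.node (.leaf 4056)
 (.leaf 2656)))
 (.node (.node (.leaf 2083)
 (.leaf 3995))
 (.node (.leaf 1886)
 (.leaf 244))))
 (.node (.node (.node (.leaf 3434)
 (.leaf 2192))
 (.node (.leaf 2474)
 (.leaf 1263)))
 (.node (.node (.leaf 1457)
 (.leaf 1087))
 (.node (.leaf 2695)
 (.leaf 2426)))))
 (.node (.node (.node (.node (.leaf 3675)
 (.leaf 2145))
 (.node (.leaf 1837)
 (.leaf 1945)))
 (.node (.node (.leaf 3523)
 (.leaf 2408))
 (.node (.leaf 2361)
 (.leaf 1772))))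
 (.node (.node (.node (.leaf 3590)
 (.leaf 2002))
 (.node (.leaf 220)
 (.leaf 1633)))
 (.node (.node (.leaf 3730)
 (.leaf 794))
 (.node (.leaf 2604)
 (.leaf 2952))))))
 (.node (.node (.node (.node (.node (.leaf 838)
 (.leaf 990))
 (.node (.leaf 2660)
 (.leaf 1256)))
 (.node (.node (.leaf 115)
 (.leaf 923))
 (.node (.leaf 1046)
 (.leaf 866))))
 (.node (.node (.node (.leaf 3163)
 (.leaf 2924))
 (.node (.leaf 998)
 (.leaf 2667)))
 (.node (.node (.leaf 2806)
 (.leaf 2944))
 (.node (.leaf 3512)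
 (.leaf 1164)))))
 (.node (.node (.node (.node (.leaf 349)
 (.leaf 813))
 (.node (.leaf 2611)
 (.leaf 3195)))
 (.node (.node (.leaf 27)
 (.leaf 1859))
 (.node (.leaf 2871)
 (.leaf 2148))))
 (.node (.node (.node (.leaf 2639)
 (.leaf 2314))
 (.node (.leaf 3445)
 (.leaf 1581)))
 (.node (.node (.leaf 3694)
 (.leaf 3452))
 (.node (.leaf 1885)
 (.leaf 2658))))))

def tBiB15 : RT := .node (.node (.node (.node (.node (.node (.leaf 1893)
 (.leaf 1534))
 (.node (.leaf 1757)
 (.leaf 1133)))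
 (.node (.node (.leaf 2556)
 (.leaf 1899))
 (.node (.leaf 646)
 (.leaf 253))))
 (.node (.node (.node (.leaf 1205)
 (.leaf 1653))
 (.node (.leaf 2318)
 (.leaf 3249)))
 (.node (.node (.leaf 402)
 (.leaf 3396))
 (.node (.leaf 2918)
 (.leaf 3586)))))
 (.node (.node (.node (.node (.leaf 3811)
 (.leaf 3336))
 (.node (.leaf 360)
 (.leaf 2888)))
 (.node (.node (.leaf 2962)
 (.leaf 2478))
 (.node (.leaf 2799)
 (.leaf 2248))))
 (.node (.node (.node (.leaf 2396)
 (.leaf 1521))
 (.node (.leaf 200)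
 (.leaf 3573)))
 (.node (.node (.leaf 3774)
 (.leaf 188))
 (.node (.leaf 1920)
 (.leaf 1179))))))
 (.node (.node (.node (.node (.node (.leaf 1339)
 (.leaf 1024))
 (.node (.leaf 1465)
 (.leaf 535)))
 (.node (.node (.leaf 629)
 (.leaf 3610))
 (.node (.leaf 4000)
 (.leaf 1267))))
 (.node (.node (.node (.leaf 3764)
 (.leaf 3987))
 (.node (.leaf 1104)
 (.leaf 3227)))
 (.node (.node (.leaf 136)
 (.leaf 1406))
 (.node (.leaf 3944)
 (.leaf 3732)))))
 (.node (.node (.node (.node (.leaf 1348)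
 (.leaf 1855))
 (.node (.leaf 3069)
 (.leaf 811)))
 (.node (.node (.leaf 1349)
 (.leaf 1387))
 (.node (.leaf 1309)
 (.leaf 551))))
 (.node (.node (.node (.leaf 2964)
 (.leaf 3771))
 (.node (.leaf 620)
 (.leaf 2707)))
 (.node (.node (.leaf 47)
 (.leaf 1868))
 (.node (.leaf 3620)
 (.leaf 3446))))))

def tBiB16 : RT := .node (.node (.node (.node (.node (.node (.leaf 2266)
 (.leaf 3934))
 (.node (.leaf 1866)
 (.leaf 2129)))
 (.node (.node (.leaf 1613)
 (.leaf 2849))
 (.node (.leaf 2351)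
 (.leaf 2140))))
 (.node (.node (.node (.leaf 2602)
 (.leaf 1463))
 (.node (.leaf 2268)
 (.leaf 907)))
 (.node (.node (.leaf 1642)
 (.leaf 963))
 (.node (.leaf 1525)
 (.leaf 75)))))
 (.node (.node (.node (.node (.leaf 2466)
 (.leaf 3288))
 (.node (.leaf 1228)
 (.leaf 2086)))
 (.node (.node (.leaf 1111)
 (.leaf 3320))
 (.node (.leaf 256)
 (.leaf 3215))))
 (.node (.node (.node (.leaf 1792)
 (.leaf 1197))
 (.node (.leaf 333)
 (.leaf 3269)))
 (.node (.node (.leaf 1468)
 (.leaf 204))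
 (.node (.leaf 3941)
 (.leaf 2103))))))
 (.node (.node (.node (.node (.node (.leaf 3102)
 (.leaf 949))
 (.node (.leaf 302)
 (.leaf 2750)))
 (.node (.node (.leaf 2865)
 (.leaf 3108))
 (.node (.leaf 1174)
 (.leaf 386))))
 (.node (.node (.node (.leaf 2610)
 (.leaf 747))
 (.node (.leaf 3836)
 (.leaf 1226)))
 (.node (.node (.leaf 593)
 (.leaf 906))
 (.node (.leaf 3565)
 (.leaf 1810)))))
 (.node (.node (.node (.node (.leaf 396)
 (.leaf 3527))
 (.node (.leaf 1874)
 (.leaf 3952)))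
 (.node (.node (.leaf 3005)
 (.leaf 2867))
 (.node (.leaf 3652)
 (.leaf 3687))))
 (.node (.node (.node (.leaf 951)
 (.leaf 3311))
 (.node (.leaf 3012)
 (.leaf 2419)))
 (.node (.node (.leaf 1647)
 (.leaf 730))
 (.node (.leaf 3259)
 (.leaf 3899))))))

def tBiB17 : RT := .node (.node (.node (.node (.node (.node (.leaf 888)
 (.leaf 1933))
 (.node (.leaf 2814)
 (.leaf 1090)))
 (.node (.node (.leaf 2090)
 (.leaf 1171))
 (.node (.leaf 3496)
 (.leaf 1598))))
 (.node (.node (.node (.leaf 1312)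
 (.leaf 3479))
 (.node (.leaf 25)
 (.leaf 1928)))
 (.node (.node (.leaf 1021)
 (.leaf 3492))
 (.node (.leaf 2538)
 (.leaf 3638)))))
 (.node (.node (.node (.node (.leaf 2919)
 (.leaf 1978))
 (.node (.leaf 3277)
 (.leaf 2260)))
 (.node (.node (.leaf 113)
 (.leaf 1489))
 (.node (.leaf 68)
 (.leaf 134))))
 (.node (.node (.node (.leaf 2892)
 (.leaf 4050))
 (.node (.leaf 587)
 (.leaf 2432)))
 (.node (.node (.leaf 1368)
 (.leaf 211))
 (.node (.leaf 1724)
 (.leaf 1182))))))
 (.node (.node (.node (.node (.node (.leaf 1732)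
 (.leaf 3843))
 (.node (.leaf 3861)
 (.leaf 89)))
 (.node (.node (.leaf 3949)
 (.leaf 3692))
 (.node (.leaf 3109)
 (.leaf 522))))
 (.node (.node (.node (.leaf 2455)
 (.leaf 86))
 (.node (.leaf 1298)
 (.leaf 2440)))
 (.node (.node (.leaf 642)
 (.leaf 3139))
 (.node (.leaf 908)
 (.leaf 834)))))
 (.node (.node (.node (.node (.leaf 607)
 (.leaf 3385))
 (.node (.leaf 880)
 (.leaf 1285)))
 (.node (.node (.leaf 357)
 (.leaf 2603))
 (.node (.leaf 1636)
 (.leaf 3399))))
 (.node (.node (.node (.leaf 2259)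
 (.leaf 1146))
 (.node (.leaf 90)
 (.leaf 822)))
 (.node (.node (.leaf 1558)
 (.leaf 2752))
 (.node (.leaf 168)
 (.leaf 49))))))

def tBiB18 : RT := .node (.node (.node (.node (.node (.node (.leaf 1901)
 (.leaf 3022))
 (.node (.leaf 332)
 (.leaf 3397)))
 (.node (.node (.leaf 3128)
 (.leaf 3801))
 (.node (.leaf 776)
 (.leaf 2530))))
 (.node (.node (.node (.leaf 1989)
 (.leaf 3186))
 (.node (.leaf 17)
 (.leaf 2722)))
 (.node (.node (.leaf 184)
 (.leaf 1652))
 (.node (.leaf 2909)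
 (.leaf 3403)))))
 (.node (.node (.node (.node (.leaf 2858)
 (.leaf 2415))
 (.node (.leaf 3120)
 (.leaf 1154)))
 (.node (.node (.leaf 2438)
 (.leaf 2226))
 (.node (.leaf 3704)
 (.leaf 2384))))
 (.node (.node (.node (.leaf 2218)
 (.leaf 3166))
 (.node (.leaf 411)
 (.leaf 836)))
 (.node (.node (.leaf 2526)
 (.leaf 1433))
 (.node (.leaf 3218)
 (.leaf 1629))))))
 (.node (.node (.node (.node (.node (.leaf 1194)
 (.leaf 559))
 (.node (.leaf 3758)
 (.leaf 3955)))
 (.node (.node (.leaf 2057)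
 (.leaf 3658))
 (.node (.leaf 3309)
 (.leaf 2473))))
 (.node (.node (.node (.leaf 2224)
 (.leaf 3290))
 (.node (.leaf 594)
 (.leaf 285)))
 (.node (.node (.leaf 2075)
 (.leaf 986))
 (.node (.leaf 4011)
 (.leaf 3155)))))
 (.node (.node (.node (.node (.leaf 1048)
 (.leaf 2921))
 (.node (.leaf 1826)
 (.leaf 167)))
 (.node (.node (.leaf 2804)
 (.leaf 2272))
 (.node (.leaf 1935)
 (.leaf 2469))))
 (.node (.node (.node (.leaf 799)
 (.leaf 2431))
 (.node (.leaf 3932)
 (.leaf 294)))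
 (.node (.node (.leaf 3733)
 (.leaf 336))
 (.node (.leaf 1254)
 (.leaf 1430))))))

def tBiB19 : RT := .node (.node (.node (.node (.node (.node (.leaf 223)
 (.leaf 2132))
 (.node (.leaf 3717)
 (.leaf 3989)))
 (.node (.node (.leaf 1496)
 (.leaf 20))
 (.node (.leaf 1847)
 (.leaf 3946))))
 (.node (.node (.node (.leaf 3689)
 (.leaf 378))
 (.node (.leaf 3326)
 (.leaf 1621)))
 (.node (.node (.leaf 2439)
 (.leaf 1479))
 (.node (.leaf 498)
 (.leaf 2110)))))
 (.node (.node (.node (.node (.leaf 744)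
 (.leaf 277))
 (.node (.leaf 610)
 (.leaf 3398)))
 (.node (.node (.leaf 53)
 (.leaf 2219))
 (.node (.leaf 3753)
 (.leaf 892))))
 (.node (.node (.node (.leaf 2992)
 (.leaf 1145))
 (.node (.leaf 1120)
 (.leaf 2584)))
 (.node (.node (.leaf 2990)
 (.leaf 110))
 (.node (.leaf 711)
 (.leaf 30))))))
 (.node (.node (.node (.node (.node (.leaf 2050)
 (.leaf 1478))
 (.node (.leaf 135)
 (.leaf 952)))
 (.node (.node (.leaf 3919)
 (.leaf 1316))
 (.node (.leaf 3842)
 (.leaf 3056))))
 (.node (.node (.node (.leaf 1614)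
 (.leaf 2436))
 (.node (.leaf 1892)
 (.leaf 2084)))
 (.node (.node (.leaf 1082)
 (.leaf 2082))
 (.node (.leaf 3917)
 (.leaf 3251)))))
 (.node (.node (.node (.node (.leaf 2949)
 (.leaf 3710))
 (.node (.leaf 125)
 (.leaf 946)))
 (.node (.node (.leaf 2979)
 (.leaf 3552))
 (.node (.leaf 548)
 (.leaf 102))))
 (.node (.node (.node (.leaf 2624)
 (.leaf 335))
 (.node (.leaf 3507)
 (.leaf 318)))
 (.node (.node (.leaf 420)
 (.leaf 1665))
 (.node (.leaf 1363)
 (.leaf 3651))))))

def tBiB20 : RT := .node (.node (.node (.node (.node (.node (.leaf 1012)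
 (.leaf 2295))
 (.node (.leaf 1386)
 (.leaf 3888)))
 (.node (.node (.leaf 739)
 (.leaf 3540))
 (.node (.leaf 3760)
 (.leaf 2646))))
 (.node (.node (.node (.leaf 3449)
 (.leaf 3539))
 (.node (.leaf 804)
 (.leaf 2904)))
 (.node (.node (.leaf 4039)
 (.leaf 3474))
 (.node (.leaf 325)
 (.leaf 1187)))))
 (.node (.node (.node (.node (.leaf 1894)
 (.leaf 1435))
 (.node (.leaf 2496)
 (.leaf 1708)))
 (.node (.node (.leaf 3725)
 (.leaf 574))
 (.node (.leaf 3162)
 (.leaf 3076))))
 (.node (.node (.node (.leaf 1128)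
 (.leaf 1883))
 (.node (.leaf 2401)
 (.leaf 3772)))
 (.node (.node (.leaf 57)
 (.leaf 3531))
 (.node (.leaf 1853)
 (.leaf 3993))))))
 (.node (.node (.node (.node (.node (.leaf 1510)
 (.leaf 2895))
 (.node (.leaf 221)
 (.leaf 3926)))
 (.node (.node (.leaf 368)
 (.leaf 1391))
 (.node (.leaf 971)
 (.leaf 1319))))
 (.node (.node (.node (.leaf 1857)
 (.leaf 1845))
 (.node (.leaf 2483)
 (.leaf 1275)))
 (.node (.node (.leaf 2694)
 (.leaf 1904))
 (.node (.leaf 1278)
 (.leaf 2139)))))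
 (.node (.node (.node (.node (.leaf 3542)
 (.leaf 4026))
 (.node (.leaf 2565)
 (.leaf 1153)))
 (.node (.node (.leaf 2126)
 (.leaf 2934))
 (.node (.leaf 3777)
 (.leaf 111))))
 (.node (.node (.node (.leaf 2363)
 (.leaf 50))
 (.node (.leaf 761)
 (.leaf 1507)))
 (.node (.node (.leaf 1178)
 (.leaf 1115))
 (.node (.leaf 2614)
 (.leaf 2642))))))

def tBiB21 : RT := .node (.node (.node (.node (.node (.node (.leaf 1833)
 (.leaf 2515))
 (.node (.leaf 3043)
 (.leaf 237)))
 (.node (.node (.leaf 473)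
 (.leaf 3971))
 (.node (.leaf 2989)
 (.leaf 1088))))
 (.node (.node (.node (.leaf 3892)
 (.leaf 2840))
 (.node (.leaf 3260)
 (.leaf 567)))
 (.node (.node (.leaf 3062)
 (.leaf 2541))
 (.node (.leaf 1462)
 (.leaf 345)))))
 (.node (.node (.node (.node (.leaf 1848)
 (.leaf 2546))
 (.node (.leaf 3028)
 (.leaf 1165)))
 (.node (.node (.leaf 2475)
 (.leaf 2747))
 (.node (.leaf 2353)
 (.leaf 1266))))
 (.node (.node (.node (.leaf 3789)
 (.leaf 382))
 (.node (.leaf 2476)
 (.leaf 1367)))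
 (.node (.node (.leaf 843)
 (.leaf 2988))
 (.node (.leaf 1223)
 (.leaf 1330))))))
 (.node (.node (.node (.node (.node (.leaf 1983)
 (.leaf 2879))
 (.node (.leaf 2941)
 (.leaf 3910)))
 (.node (.node (.leaf 758)
 (.leaf 2278))
 (.node (.leaf 3956)
 (.leaf 1957))))
 (.node (.node (.node (.leaf 2080)
 (.leaf 1949))
 (.node (.leaf 976)
 (.leaf 861)))
 (.node (.node (.leaf 3770)
 (.leaf 3915))
 (.node (.leaf 2875)
 (.leaf 3887)))))
 (.node (.node (.node (.node (.leaf 1850)
 (.leaf 1584))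
 (.node (.leaf 1704)
 (.leaf 2507)))
 (.node (.node (.leaf 2851)
 (.leaf 2480))
 (.node (.leaf 1754)
 (.leaf 2243))))
 (.node (.node (.node (.leaf 578)
 (.leaf 99))
 (.node (.leaf 1286)
 (.leaf 2966)))
 (.node (.node (.leaf 1060)
 (.leaf 1852))
 (.node (.leaf 2143)
 (.leaf 592))))))

def tBiB22 : RT := .node (.node (.node (.node (.node (.node (.leaf 691)
 (.leaf 3454))
 (.node (.leaf 18)
 (.leaf 2597)))
 (.node (.node (.leaf 2780)
 (.leaf 3500))
 (.node (.leaf 3549)
 (.leaf 1977))))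
 (.node (.node (.node (.leaf 3877)
 (.leaf 165))
 (.node (.leaf 418)
 (.leaf 649)))
 (.node (.node (.leaf 51)
 (.leaf 201))
 (.node (.leaf 604)
 (.leaf 884)))))
 (.node (.node (.node (.node (.leaf 1738)
 (.leaf 3650))
 (.node (.leaf 654)
 (.leaf 2588)))
 (.node (.node (.leaf 1261)
 (.leaf 1288))
 (.node (.leaf 1219)
 (.leaf 2555))))
 (.node (.node (.node (.leaf 2779)
 (.leaf 1550))
 (.node (.leaf 1827)
 (.leaf 3101)))
 (.node (.node (.leaf 1131)
 (.leaf 3103))
 (.node (.leaf 2043)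
 (.leaf 3740))))))
 (.node (.node (.node (.node (.node (.leaf 1838)
 (.leaf 2850))
 (.node (.leaf 3078)
 (.leaf 72)))
 (.node (.node (.leaf 287)
 (.leaf 1428))
 (.node (.leaf 78)
 (.leaf 1930))))
 (.node (.node (.node (.leaf 138)
 (.leaf 2446))
 (.node (.leaf 3019)
 (.leaf 3204)))
 (.node (.node (.leaf 212)
 (.leaf 2668))
 (.node (.leaf 1066)
 (.leaf 1812)))))
 (.node (.node (.node (.node (.leaf 3068)
 (.leaf 2655))
 (.node (.leaf 2621)
 (.leaf 2223)))
 (.node (.node (.leaf 628)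
 (.leaf 1260))
 (.node (.leaf 2955)
 (.leaf 1612))))
 (.node (.node (.node (.leaf 919)
 (.leaf 3175))
 (.node (.leaf 1816)
 (.leaf 3359)))
 (.node (.node (.leaf 1549)
 (.leaf 3536))
 (.node (.leaf 2863)
 (.leaf 975))))))

def tBiB23 : RT := .node (.node (.node (.node (.node (.node (.leaf 1514)
 (.leaf 3612))
 (.node (.leaf 2873)
 (.leaf 966)))
 (.node (.node (.leaf 3383)
 (.leaf 419))
 (.node (.leaf 863)
 (.leaf 175))))
 (.node (.node (.node (.leaf 317)
 (.leaf 3363))
 (.node (.leaf 272)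
 (.leaf 1577)))
 (.node (.node (.leaf 1382)
 (.leaf 4057))
 (.node (.leaf 3054)
 (.leaf 2306)))))
 (.node (.node (.node (.node (.leaf 2855)
 (.leaf 1873))
 (.node (.leaf 1968)
 (.leaf 3354)))
 (.node (.node (.leaf 867)
 (.leaf 2471))
 (.node (.leaf 3014)
 (.leaf 673))))
 (.node (.node (.node (.leaf 1997)
 (.leaf 2316))
 (.node (.leaf 3665)
 (.leaf 3924)))
 (.node (.node (.leaf 898)
 (.leaf 3094))
 (.node (.leaf 537)
 (.leaf 1013))))))
 (.node (.node (.node (.node (.node (.leaf 499)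
 (.leaf 1340))
 (.node (.leaf 2525)
 (.leaf 2523)))
 (.node (.node (.leaf 2445)
 (.leaf 445))
 (.node (.leaf 870)
 (.leaf 3543))))
 (.node (.node (.node (.leaf 466)
 (.leaf 608))
 (.node (.leaf 2800)
 (.leaf 3278)))
 (.node (.node (.leaf 3954)
 (.leaf 1779))
 (.node (.leaf 3185)
 (.leaf 3835)))))
 (.node (.node (.node (.node (.leaf 2643)
 (.leaf 1689))
 (.node (.leaf 488)
 (.leaf 565)))
 (.node (.node (.leaf 1124)
 (.leaf 1744))
 (.node (.leaf 912)
 (.leaf 231))))
 (.node (.node (.node (.leaf 1343)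
 (.leaf 2442))
 (.node (.leaf 3604)
 (.leaf 569)))
 (.node (.node (.leaf 1503)
 (.leaf 790))
 (.node (.leaf 856)
 (.leaf 605))))))

def tBiB24 : RT := .node (.node (.node (.node (.node (.node (.leaf 303)
 (.leaf 715))
 (.node (.leaf 706)
 (.leaf 582)))
 (.node (.node (.leaf 2748)
 (.leaf 1710))
 (.node (.leaf 583)
 (.leaf 2953))))
 (.node (.node (.node (.leaf 153)
 (.leaf 2938))
 (.node (.leaf 702)
 (.leaf 1625)))
 (.node (.node (.leaf 3380)
 (.leaf 703))
 (.node (.leaf 2213)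
 (.leaf 1681)))))
 (.node (.node (.node (.node (.leaf 1469)
 (.leaf 1250))
 (.node (.leaf 2298)
 (.leaf 3601)))
 (.node (.node (.leaf 2313)
 (.leaf 2963))
 (.node (.leaf 2954)
 (.leaf 112))))
 (.node (.node (.node (.leaf 3587)
 (.leaf 1557))
 (.node (.leaf 675)
 (.leaf 517)))
 (.node (.node (.leaf 2099)
 (.leaf 926))
 (.node (.leaf 713)
 (.leaf 1015))))))
 (.node (.node (.node (.node (.node (.leaf 2930)
 (.leaf 3516))
 (.node (.leaf 32)
 (.leaf 1737)))
 (.node (.node (.leaf 2622)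
 (.leaf 1224))
 (.node (.leaf 2095)
 (.leaf 663))))
 (.node (.node (.node (.leaf 595)
 (.leaf 2398))
 (.node (.leaf 3482)
 (.leaf 2449)))
 (.node (.node (.leaf 3412)
 (.leaf 1941))
 (.node (.leaf 3848)
 (.leaf 736)))))
 (.node (.node (.node (.node (.leaf 2443)
 (.leaf 1237))
 (.node (.leaf 2411)
 (.leaf 1537)))
 (.node (.node (.leaf 1324)
 (.leaf 1508))
 (.node (.leaf 2156)
 (.leaf 3317))))
 (.node (.node (.node (.leaf 3622)
 (.leaf 3159))
 (.node (.leaf 3535)
 (.leaf 683)))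
 (.node (.node (.leaf 2837)
 (.leaf 3617))
 (.node (.leaf 3087)
 (.leaf 1742))))))

def tBiB25 : RT := .node (.node (.node (.node (.node (.node (.leaf 1342)
 (.leaf 3064))
 (.node (.leaf 254)
 (.leaf 956)))
 (.node (.node (.leaf 1344)
 (.leaf 39))
 (.node (.leaf 2271)
 (.leaf 1280))))
 (.node (.node (.node (.leaf 3893)
 (.leaf 1597))
 (.node (.leaf 3411)
 (.leaf 750)))
 (.node (.node (.leaf 3453)
 (.leaf 479))
 (.node (.leaf 3849)
 (.leaf 2214)))))
 (.node (.node (.node (.node (.leaf 3699)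
 (.leaf 3199))
 (.node (.leaf 295)
 (.leaf 1359)))
 (.node (.node (.leaf 3521)
 (.leaf 497))
 (.node (.leaf 283)
 (.leaf 3015))))
 (.node (.node (.node (.leaf 311)
 (.leaf 3131))
 (.node (.leaf 1648)
 (.leaf 2927)))
 (.node (.node (.leaf 1570)
 (.leaf 1212))
 (.node (.leaf 504)
 (.leaf 3945))))))
 (.node (.node (.node (.node (.node (.leaf 408)
 (.leaf 1608))
 (.node (.leaf 917)
 (.leaf 3347)))
 (.node (.node (.leaf 3599)
 (.leaf 3447))
 (.node (.leaf 1000)
 (.leaf 286))))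
 (.node (.node (.node (.leaf 42)
 (.leaf 3666))
 (.node (.leaf 2612)
 (.leaf 1788)))
 (.node (.node (.leaf 2740)
 (.leaf 2242))
 (.node (.leaf 3487)
 (.leaf 1334)))))
 (.node (.node (.node (.node (.leaf 3299)
 (.leaf 1292))
 (.node (.leaf 1011)
 (.leaf 4046)))
 (.node (.node (.leaf 2745)
 (.leaf 2285))
 (.node (.leaf 3696)
 (.leaf 2131))))
 (.node (.node (.node (.leaf 2397)
 (.leaf 1081))
 (.node (.leaf 3464)
 (.leaf 735)))
 (.node (.node (.leaf 1699)
 (.leaf 2424))
 (.node (.leaf 366)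
 (.leaf 3680))))))

def tBiB26 : RT := .node (.node (.node (.node (.node (.node (.leaf 717)
 (.leaf 1749))
 (.node (.leaf 3618)
 (.leaf 2729)))
 (.node (.node (.leaf 3207)
 (.leaf 245))
 (.node (.leaf 4045)
 (.leaf 1025))))
 (.node (.node (.node (.leaf 3991)
 (.leaf 2130))
 (.node (.leaf 883)
 (.leaf 3867)))
 (.node (.node (.leaf 310)
 (.leaf 472))
 (.node (.leaf 1741)
 (.leaf 2327)))))
 (.node (.node (.node (.node (.leaf 2961)
 (.leaf 657))
 (.node (.leaf 541)
 (.leaf 3026)))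
 (.node (.node (.leaf 2073)
 (.leaf 2842))
 (.node (.leaf 3791)
 (.leaf 1643))))
 (.node (.node (.node (.leaf 3729)
 (.leaf 3598))
 (.node (.leaf 1547)
 (.leaf 2222)))
 (.node (.node (.leaf 3603)
 (.leaf 1532))
 (.node (.leaf 1759)
 (.leaf 19))))))
 (.node (.node (.node (.node (.node (.leaf 2511)
 (.leaf 1257))
 (.node (.leaf 2559)
 (.leaf 1415)))
 (.node (.node (.leaf 3187)
 (.leaf 3754))
 (.node (.leaf 2881)
 (.leaf 2572))))
 (.node (.node (.node (.leaf 1117)
 (.leaf 697))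
 (.node (.leaf 2257)
 (.leaf 3052)))
 (.node (.node (.leaf 159)
 (.leaf 1361))
 (.node (.leaf 3611)
 (.leaf 397)))))
 (.node (.node (.node (.node (.leaf 1931)
 (.leaf 2906))
 (.node (.leaf 853)
 (.leaf 3007)))
 (.node (.node (.leaf 258)
 (.leaf 2830))
 (.node (.leaf 2803)
 (.leaf 3292))))
 (.node (.node (.node (.leaf 2575)
 (.leaf 710))
 (.node (.leaf 1976)
 (.leaf 65)))
 (.node (.node (.leaf 2977)
 (.leaf 1980))
 (.node (.leaf 2893)
 (.leaf 3735))))))

def tBiB27 : RT := .node (.node (.node (.node (.node (.node (.leaf 3495)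
 (.leaf 2673))
 (.node (.leaf 1495)
 (.leaf 2749)))
 (.node (.node (.leaf 12)
 (.leaf 1498))
 (.node (.leaf 3167)
 (.leaf 531))))
 (.node (.node (.node (.leaf 2629)
 (.leaf 789))
 (.node (.leaf 1773)
 (.leaf 3440)))
 (.node (.node (.leaf 2917)
 (.leaf 1059))
 (.node (.leaf 2112)
 (.leaf 3882)))))
 (.node (.node (.node (.node (.leaf 1075)
 (.leaf 2255))
 (.node (.leaf 2168)
 (.leaf 3033)))
 (.node (.node (.leaf 768)
 (.leaf 3099))
 (.node (.leaf 1951)
 (.leaf 591))))
 (.node (.node (.node (.leaf 2064)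
 (.leaf 3634))
 (.node (.leaf 2393)
 (.leaf 1019)))
 (.node (.node (.leaf 2262)
 (.leaf 179))
 (.node (.leaf 803)
 (.leaf 1166))))))
 (.node (.node (.node (.node (.node (.leaf 3428)
 (.leaf 631))
 (.node (.leaf 2036)
 (.leaf 3566)))
 (.node (.node (.leaf 355)
 (.leaf 1258))
 (.node (.leaf 308)
 (.leaf 1437))))
 (.node (.node (.node (.leaf 2079)
 (.leaf 3816))
 (.node (.leaf 1018)
 (.leaf 44)))
 (.node (.node (.leaf 2402)
 (.leaf 147))
 (.node (.leaf 1304)
 (.leaf 3863)))))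
 (.node (.node (.node (.node (.leaf 3497)
 (.leaf 3194))
 (.node (.leaf 2973)
 (.leaf 3291)))
 (.node (.node (.leaf 602)
 (.leaf 1536))
 (.node (.leaf 163)
 (.leaf 763))))
 (.node (.node (.node (.leaf 3891)
 (.leaf 98))
 (.node (.leaf 2552)
 (.leaf 3465)))
 (.node (.node (.leaf 3860)
 (.leaf 2041))
 (.node (.leaf 434)
 (.leaf 2769))))))

def tBiB28 : RT := .node (.node (.node (.node (.node (.node (.leaf 1033)
 (.leaf 2900))
 (.node (.leaf 2482)
 (.leaf 651)))
 (.node (.node (.leaf 248)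
 (.leaf 474))
 (.node (.leaf 1565)
 (.leaf 3179))))
 (.node (.node (.node (.leaf 2315)
 (.leaf 195))
 (.node (.leaf 1152)
 (.leaf 3632)))
 (.node (.node (.leaf 3929)
 (.leaf 3148))
 (.node (.leaf 3180)
 (.leaf 695)))))
 (.node (.node (.node (.node (.leaf 3818)
 (.leaf 2170))
 (.node (.leaf 1094)
 (.leaf 2081)))
 (.node (.node (.leaf 754)
 (.leaf 660))
 (.node (.leaf 648)
 (.leaf 634))))
 (.node (.node (.node (.leaf 770)
 (.leaf 1551))
 (.node (.leaf 1067)
 (.leaf 81)))
 (.node (.node (.leaf 3776)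
 (.leaf 3048))
 (.node (.leaf 530)
 (.leaf 3226))))))
 (.node (.node (.node (.node (.node (.leaf 3240)
 (.leaf 2239))
 (.node (.leaf 3182)
 (.leaf 2019)))
 (.node (.node (.leaf 1817)
 (.leaf 2204))
 (.node (.leaf 964)
 (.leaf 1671))))
 (.node (.node (.node (.leaf 2004)
 (.leaf 859))
 (.node (.leaf 2864)
 (.leaf 1572)))
 (.node (.node (.leaf 2326)
 (.leaf 2889))
 (.node (.leaf 2957)
 (.leaf 2176)))))
 (.node (.node (.node (.node (.leaf 2101)
 (.leaf 2046))
 (.node (.leaf 3200)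
 (.leaf 1160)))
 (.node (.node (.leaf 481)
 (.leaf 3419))
 (.node (.leaf 2301)
 (.leaf 351))))
 (.node (.node (.node (.leaf 2152)
 (.leaf 4029))
 (.node (.leaf 516)
 (.leaf 3318)))
 (.node (.node (.leaf 2996)
 (.leaf 7))
 (.node (.leaf 3911)
 (.leaf 2290))))))

def tBiB29 : RT := .node (.node (.node (.node (.node (.node (.leaf 356)
 (.leaf 1022))
 (.node (.leaf 3528)
 (.leaf 1185)))
 (.node (.node (.leaf 844)
 (.leaf 1793))
 (.node (.leaf 3287)
 (.leaf 3533))))
 (.node (.node (.node (.leaf 453)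
 (.leaf 2810))
 (.node (.leaf 1103)
 (.leaf 1618)))
 (.node (.node (.leaf 2765)
 (.leaf 3112))
 (.node (.leaf 1966)
 (.leaf 3213)))))
 (.node (.node (.node (.node (.leaf 3636)
 (.leaf 948))
 (.node (.leaf 777)
 (.leaf 3647)))
 (.node (.node (.leaf 1388)
 (.leaf 943))
 (.node (.leaf 2712)
 (.leaf 2228))))
 (.node (.node (.node (.leaf 483)
 (.leaf 3173))
 (.node (.leaf 1953)
 (.leaf 218)))
 (.node (.node (.leaf 2270)
 (.leaf 1323))
 (.node (.leaf 3285)
 (.leaf 3086))))))
 (.node (.node (.node (.node (.node (.leaf 1862)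
 (.leaf 3117))
 (.node (.leaf 409)
 (.leaf 677)))
 (.node (.node (.leaf 3206)
 (.leaf 3018))
 (.node (.leaf 274)
 (.leaf 2161))))
 (.node (.node (.node (.leaf 1140)
 (.leaf 3233))
 (.node (.leaf 1441)
 (.leaf 1129)))
 (.node (.node (.leaf 3091)
 (.leaf 3927))
 (.node (.leaf 379)
 (.leaf 3293)))))
 (.node (.node (.node (.node (.leaf 1242)
 (.leaf 681))
 (.node (.leaf 2151)
 (.leaf 1548)))
 (.node (.node (.leaf 2060)
 (.leaf 3421))
 (.node (.leaf 806)
 (.leaf 1599))))
 (.node (.node (.node (.leaf 2261)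
 (.leaf 2235))
 (.node (.leaf 1995)
 (.leaf 1086)))
 (.node (.node (.leaf 2111)
 (.leaf 2520))
 (.node (.leaf 2269)
 (.leaf 2253))))))

def tBiB30 : RT := .node (.node (.node (.node (.node (.node (.leaf 868)
 (.leaf 461))
 (.node (.leaf 2163)
 (.leaf 4023)))
 (.node (.node (.leaf 3071)
 (.leaf 3624))
 (.node (.leaf 63)
 (.leaf 2010))))
 (.node (.node (.node (.leaf 2770)
 (.leaf 2733))
 (.node (.leaf 2061)
 (.leaf 819)))
 (.node (.node (.leaf 230)
 (.leaf 3063))
 (.node (.leaf 3142)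
 (.leaf 2413)))))
 (.node (.node (.node (.node (.leaf 33)
 (.leaf 2509))
 (.node (.leaf 2178)
 (.leaf 299)))
 (.node (.node (.leaf 2349)
 (.leaf 1461))
 (.node (.leaf 3416)
 (.leaf 3042))))
 (.node (.node (.node (.leaf 1098)
 (.leaf 2193))
 (.node (.leaf 2818)
 (.leaf 2635)))
 (.node (.node (.leaf 3817)
 (.leaf 2846))
 (.node (.leaf 1161)
 (.leaf 3055))))))
 (.node (.node (.node (.node (.node (.leaf 738)
 (.leaf 2896))
 (.node (.leaf 3221)
 (.leaf 385)))
 (.node (.node (.leaf 2600)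
 (.leaf 3088))
 (.node (.leaf 1365)
 (.leaf 1416))))
 (.node (.node (.node (.leaf 2514)
 (.leaf 3509))
 (.node (.leaf 685)
 (.leaf 3903)))
 (.node (.node (.leaf 3856)
 (.leaf 3356))
 (.node (.leaf 3559)
 (.leaf 1811)))))
 (.node (.node (.node (.node (.leaf 1829)
 (.leaf 143))
 (.node (.leaf 137)
 (.leaf 2362)))
 (.node (.node (.leaf 1863)
 (.leaf 3451))
 (.node (.leaf 724)
 (.leaf 120))))
 (.node (.node (.node (.leaf 3008)
 (.leaf 3572))
 (.node (.leaf 173)
 (.leaf 625)))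
 (.node (.node (.leaf 525)
 (.leaf 2724))
 (.node (.leaf 3494)
 (.leaf 1806))))))

def tBiB31 : RT := .node (.node (.node (.node (.node (.node (.leaf 734)
 (.leaf 1795))
 (.node (.leaf 2860)
 (.leaf 1876)))
 (.node (.node (.leaf 3681)
 (.leaf 3997))
 (.node (.leaf 1426)
 (.leaf 2901))))
 (.node (.node (.node (.leaf 1438)
 (.leaf 1494))
 (.node (.leaf 3744)
 (.leaf 1975)))
 (.node (.node (.leaf 3427)
 (.leaf 1682))
 (.node (.leaf 3751)
 (.leaf 924)))))
 (.node (.node (.node (.node (.leaf 2609)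
 (.leaf 468))
 (.node (.leaf 3123)
 (.leaf 2728)))
 (.node (.node (.leaf 3515)
 (.leaf 3998))
 (.node (.leaf 2929)
 (.leaf 1753))))
 (.node (.node (.node (.leaf 515)
 (.leaf 1770))
 (.node (.leaf 447)
 (.leaf 2978)))
 (.node (.node (.leaf 387)
 (.leaf 1313))
 (.node (.leaf 150)
 (.leaf 3351))))))
 (.node (.node (.node (.node (.node (.leaf 3016)
 (.leaf 3905))
 (.node (.leaf 3456)
 (.leaf 1308)))
 (.node (.node (.leaf 617)
 (.leaf 4002))
 (.node (.leaf 2666)
 (.leaf 1337))))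
 (.node (.node (.node (.leaf 3845)
 (.leaf 922))
 (.node (.leaf 647)
 (.leaf 621)))
 (.node (.node (.leaf 1923)
 (.leaf 2648))
 (.node (.leaf 2995)
 (.leaf 3990)))))
 (.node (.node (.node (.node (.leaf 3481)
 (.leaf 3322))
 (.node (.leaf 3238)
 (.leaf 2683)))
 (.node (.node (.leaf 2369)
 (.leaf 825))
 (.node (.leaf 805)
 (.leaf 1210))))
 (.node (.node (.node (.leaf 2137)
 (.leaf 1010))
 (.node (.leaf 639)
 (.leaf 177)))
 (.node (.node (.leaf 3940)
 (.leaf 1527))
 (.node (.leaf 3718)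
 (.leaf 3100))))))

def tBiB32 : RT := .node (.node (.node (.node (.node (.node (.leaf 1373)
 (.leaf 3719))
 (.node (.leaf 446)
 (.leaf 3432)))
 (.node (.node (.leaf 1333)
 (.leaf 540))
 (.node (.leaf 552)
 (.leaf 2216))))
 (.node (.node (.node (.leaf 1884)
 (.leaf 3556))
 (.node (.leaf 3577)
 (.leaf 1158)))
 (.node (.node (.leaf 1141)
 (.leaf 901))
 (.node (.leaf 2982)
 (.leaf 450)))))
 (.node (.node (.node (.node (.leaf 3731)
 (.leaf 2662))
 (.node (.leaf 690)
 (.leaf 1717)))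
 (.node (.node (.leaf 485)
 (.leaf 1567))
 (.node (.leaf 1592)
 (.leaf 1703))))
 (.node (.node (.node (.leaf 1860)
 (.leaf 1559))
 (.node (.leaf 2405)
 (.leaf 2773)))
 (.node (.node (.leaf 1004)
 (.leaf 2505))
 (.node (.leaf 3272)
 (.leaf 464))))))
 (.node (.node (.node (.node (.node (.leaf 331)
 (.leaf 3060))
 (.node (.leaf 3401)
 (.leaf 2323)))
 (.node (.node (.leaf 410)
 (.leaf 1808))
 (.node (.leaf 1730)
 (.leaf 3223))))
 (.node (.node (.node (.leaf 1914)
 (.leaf 430))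
 (.node (.leaf 3631)
 (.leaf 3951)))
 (.node (.node (.leaf 1109)
 (.leaf 1031))
 (.node (.leaf 2340)
 (.leaf 22)))))
 (.node (.node (.node (.node (.leaf 3850)
 (.leaf 2485))
 (.node (.leaf 3571)
 (.leaf 3597)))
 (.node (.node (.leaf 1026)
 (.leaf 903))
 (.node (.leaf 2984)
 (.leaf 1580))))
 (.node (.node (.node (.leaf 1691)
 (.leaf 149))
 (.node (.leaf 3276)
 (.leaf 2607)))
 (.node (.node (.leaf 449)
 (.leaf 252))
 (.node (.leaf 2027)
 (.leaf 1840))))))

def tBiB33 : RT := .node (.node (.node (.node (.node (.node (.leaf 3588)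
 (.leaf 2915))
 (.node (.leaf 2499)
 (.leaf 3364)))
 (.node (.node (.leaf 824)
 (.leaf 1095))
 (.node (.leaf 183)
 (.leaf 2356))))
 (.node (.node (.node (.leaf 1203)
 (.leaf 3807))
 (.node (.leaf 701)
 (.leaf 1143)))
 (.node (.node (.leaf 2696)
 (.leaf 2517))
 (.node (.leaf 3679)
 (.leaf 3009)))))
 (.node (.node (.node (.node (.leaf 1910)
 (.leaf 3321))
 (.node (.leaf 1193)
 (.leaf 3245)))
 (.node (.node (.leaf 1963)
 (.leaf 3698))
 (.node (.leaf 2677)
 (.leaf 1638))))
 (.node (.node (.node (.leaf 539)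
 (.leaf 3721))
 (.node (.leaf 2094)
 (.leaf 2177)))
 (.node (.node (.leaf 1879)
 (.leaf 388))
 (.node (.leaf 1346)
 (.leaf 3787))))))
 (.node (.node (.node (.node (.node (.leaf 977)
 (.leaf 3714))
 (.node (.leaf 2102)
 (.leaf 2049)))
 (.node (.node (.leaf 2233)
 (.leaf 2798))
 (.node (.leaf 139)
 (.leaf 48))))
 (.node (.node (.node (.leaf 2468)
 (.leaf 1372))
 (.node (.leaf 2197)
 (.leaf 658)))
 (.node (.node (.leaf 3614)
 (.leaf 839))
 (.node (.leaf 1147)
 (.leaf 553)))))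
 (.node (.node (.node (.node (.leaf 3475)
 (.leaf 1561))
 (.node (.leaf 3812)
 (.leaf 2823)))
 (.node (.node (.leaf 2650)
 (.leaf 148))
 (.node (.leaf 1940)
 (.leaf 3135))))
 (.node (.node (.node (.leaf 1464)
 (.leaf 131))
 (.node (.leaf 742)
 (.leaf 1470)))
 (.node (.node (.leaf 2557)
 (.leaf 250))
 (.node (.leaf 1381)
 (.leaf 3824))))))

def tBiB34 : RT := .node (.node (.node (.node (.node (.node (.leaf 3628)
 (.leaf 3410))
 (.node (.leaf 3852)
 (.leaf 2714)))
 (.node (.node (.leaf 67)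
 (.leaf 1484))
 (.node (.leaf 835)
 (.leaf 1700))))
 (.node (.node (.node (.leaf 38)
 (.leaf 1696))
 (.node (.leaf 2071)
 (.leaf 291)))
 (.node (.node (.leaf 192)
 (.leaf 3174))
 (.node (.leaf 1474)
 (.leaf 3282)))))
 (.node (.node (.node (.node (.leaf 1950)
 (.leaf 3563))
 (.node (.leaf 1137)
 (.leaf 384)))
 (.node (.node (.leaf 1156)
 (.leaf 3984))
 (.node (.leaf 712)
 (.leaf 1760))))
 (.node (.node (.node (.leaf 2981)
 (.leaf 2120))
 (.node (.leaf 1787)
 (.leaf 2430)))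
 (.node (.node (.leaf 3870)
 (.leaf 2030))
 (.node (.leaf 627)
 (.leaf 2713))))))
 (.node (.node (.node (.node (.node (.leaf 798)
 (.leaf 3976))
 (.node (.leaf 1529)
 (.leaf 961)))
 (.node (.node (.leaf 1431)
 (.leaf 2234))
 (.node (.leaf 1814)
 (.leaf 1649))))
 (.node (.node (.node (.leaf 3978)
 (.leaf 9))
 (.node (.leaf 3257)
 (.leaf 3400)))
 (.node (.node (.leaf 1159)
 (.leaf 1481))
 (.node (.leaf 2490)
 (.leaf 1336)))))
 (.node (.node (.node (.node (.leaf 2535)
 (.leaf 800))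
 (.node (.leaf 2687)
 (.leaf 3111)))
 (.node (.node (.leaf 130)
 (.leaf 2092))
 (.node (.leaf 23)
 (.leaf 3422))))
 (.node (.node (.node (.leaf 1064)
 (.leaf 704))
 (.node (.leaf 2001)
 (.leaf 2460)))
 (.node (.node (.leaf 1822)
 (.leaf 2627))
 (.node (.leaf 1199)
 (.leaf 3809))))))

def tBiB35 : RT := .node (.node (.node (.node (.node (.node (.leaf 169)
 (.leaf 2569))
 (.node (.leaf 886)
 (.leaf 1173)))
 (.node (.node (.leaf 4049)
 (.leaf 1216))
 (.node (.leaf 249)
 (.leaf 162))))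
 (.node (.node (.node (.leaf 2641)
 (.leaf 3425))
 (.node (.leaf 3840)
 (.leaf 353)))
 (.node (.node (.leaf 641)
 (.leaf 3486))
 (.node (.leaf 1832)
 (.leaf 1127)))))
 (.node (.node (.node (.node (.leaf 2775)
 (.leaf 2085))
 (.node (.leaf 3381)
 (.leaf 3562)))
 (.node (.node (.leaf 1475)
 (.leaf 3960))
 (.node (.leaf 1969)
 (.leaf 260))))
 (.node (.node (.node (.leaf 597)
 (.leaf 240))
 (.node (.leaf 2292)
 (.leaf 2886)))
 (.node (.node (.leaf 1076)
 (.leaf 1287))
 (.node (.leaf 575)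
 (.leaf 2203))))))
 (.node (.node (.node (.node (.node (.leaf 3047)
 (.leaf 3491))
 (.node (.leaf 3838)
 (.leaf 878)))
 (.node (.node (.leaf 1979)
 (.leaf 1395))
 (.node (.leaf 2182)
 (.leaf 433))))
 (.node (.node (.node (.leaf 1105)
 (.leaf 2768))
 (.node (.leaf 3417)
 (.leaf 1259)))
 (.node (.node (.leaf 1036)
 (.leaf 667))
 (.node (.leaf 827)
 (.leaf 2263)))))
 (.node (.node (.node (.node (.leaf 421)
 (.leaf 2783))
 (.node (.leaf 1467)
 (.leaf 1480)))
 (.node (.node (.leaf 993)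
 (.leaf 743))
 (.node (.leaf 417)
 (.leaf 2513))))
 (.node (.node (.node (.leaf 1936)
 (.leaf 2844))
 (.node (.leaf 3901)
 (.leaf 1533)))
 (.node (.node (.leaf 3858)
 (.leaf 2291))
 (.node (.leaf 341)
 (.leaf 3297))))))

def tBiB36 : RT := .node (.node (.node (.node (.node (.node (.leaf 2698)
 (.leaf 1843))
 (.node (.leaf 2479)
 (.leaf 2365)))
 (.node (.node (.leaf 2772)
 (.leaf 2399))
 (.node (.leaf 1225)
 (.leaf 307))))
 (.node (.node (.node (.leaf 2634)
 (.leaf 3868))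
 (.node (.leaf 3667)
 (.leaf 3778)))
 (.node (.node (.leaf 1314)
 (.leaf 1943))
 (.node (.leaf 1300)
 (.leaf 1672)))))
 (.node (.node (.node (.node (.leaf 570)
 (.leaf 80))
 (.node (.leaf 2423)
 (.leaf 13)))
 (.node (.node (.leaf 1952)
 (.leaf 2573))
 (.node (.leaf 3985)
 (.leaf 172))))
 (.node (.node (.node (.leaf 1743)
 (.leaf 2991))
 (.node (.leaf 1246)
 (.leaf 2761)))
 (.node (.node (.leaf 860)
 (.leaf 3942))
 (.node (.leaf 1865)
 (.leaf 1420))))))
 (.node (.node (.node (.node (.node (.leaf 974)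
 (.leaf 918))
 (.node (.leaf 816)
 (.leaf 1149)))
 (.node (.node (.leaf 1125)
 (.leaf 2778))
 (.node (.leaf 3804)
 (.leaf 3074))))
 (.node (.node (.node (.leaf 467)
 (.leaf 1101))
 (.node (.leaf 1903)
 (.leaf 902)))
 (.node (.node (.leaf 10)
 (.leaf 661))
 (.node (.leaf 3970)
 (.leaf 462)))))
 (.node (.node (.node (.node (.leaf 1922)
 (.leaf 2561))
 (.node (.leaf 606)
 (.leaf 2506)))
 (.node (.node (.leaf 554)
 (.leaf 1736))
 (.node (.leaf 1084)
 (.leaf 3471))))
 (.node (.node (.node (.leaf 1227)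
 (.leaf 2845))
 (.node (.leaf 2208)
 (.leaf 1726)))
 (.node (.node (.leaf 2114)
 (.leaf 1722))
 (.node (.leaf 1251)
 (.leaf 2742))))))

def tBiB37 : RT := .node (.node (.node (.node (.node (.node (.leaf 3672)
 (.leaf 1871))
 (.node (.leaf 3705)
 (.leaf 2416)))
 (.node (.node (.leaf 573)
 (.leaf 1993))
 (.node (.leaf 2878)
 (.leaf 2887))))
 (.node (.node (.node (.leaf 1604)
 (.leaf 1113))
 (.node (.leaf 124)
 (.leaf 3302)))
 (.node (.node (.leaf 2160)
 (.leaf 2985))
 (.node (.leaf 3782)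
 (.leaf 2052)))))
 (.node (.node (.node (.node (.leaf 2653)
 (.leaf 132))
 (.node (.leaf 1918)
 (.leaf 933)))
 (.node (.node (.leaf 1825)
 (.leaf 2345))
 (.node (.leaf 1506)
 (.leaf 1942))))
 (.node (.node (.node (.leaf 4025)
 (.leaf 482))
 (.node (.leaf 4004)
 (.leaf 3682)))
 (.node (.node (.leaf 1195)
 (.leaf 35))
 (.node (.leaf 782)
 (.leaf 1828))))))
 (.node (.node (.node (.node (.node (.leaf 2300)
 (.leaf 3668))
 (.node (.leaf 146)
 (.leaf 470)))
 (.node (.node (.leaf 323)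
 (.leaf 2922))
 (.node (.leaf 786)
 (.leaf 727))))
 (.node (.node (.node (.leaf 1748)
 (.leaf 2579))
 (.node (.leaf 2087)
 (.leaf 3301)))
 (.node (.node (.leaf 3307)
 (.leaf 3183))
 (.node (.leaf 1651)
 (.leaf 1253)))))
 (.node (.node (.node (.node (.leaf 83)
 (.leaf 3795))
 (.node (.leaf 2394)
 (.leaf 3353)))
 (.node (.node (.leaf 1542)
 (.leaf 3122))
 (.node (.leaf 4038)
 (.leaf 229))))
 (.node (.node (.node (.leaf 2674)
 (.leaf 1317))
 (.node (.leaf 3755)
 (.leaf 2066)))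
 (.node (.node (.leaf 2076)
 (.leaf 3011))
 (.node (.leaf 3913)
 (.leaf 773))))))

def tBiB38 : RT := .node (.node (.node (.node (.node (.node (.leaf 928)
 (.leaf 2495))
 (.node (.leaf 699)
 (.leaf 611)))
 (.node (.node (.leaf 2836)
 (.leaf 1830))
 (.node (.leaf 2950)
 (.leaf 198))))
 (.node (.node (.node (.leaf 3933)
 (.leaf 2663))
 (.node (.leaf 3110)
 (.leaf 2459)))
 (.node (.node (.leaf 3595)
 (.leaf 2585))
 (.node (.leaf 2681)
 (.leaf 2098)))))
 (.node (.node (.node (.node (.leaf 2441)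
 (.leaf 721))
 (.node (.leaf 1666)
 (.leaf 3896)))
 (.node (.node (.leaf 3988)
 (.leaf 2100))
 (.node (.leaf 3600)
 (.leaf 894))))
 (.node (.node (.node (.leaf 1518)
 (.leaf 3113))
 (.node (.leaf 3703)
 (.leaf 3953)))
 (.node (.node (.leaf 3470)
 (.leaf 309))
 (.node (.leaf 3418)
 (.leaf 3973))))))
 (.node (.node (.node (.node (.node (.leaf 3671)
 (.leaf 1579))
 (.node (.leaf 1530)
 (.leaf 2948)))
 (.node (.node (.leaf 3247)
 (.leaf 3051))
 (.node (.leaf 3404)
 (.leaf 2458))))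
 (.node (.node (.node (.leaf 4008)
 (.leaf 3688))
 (.node (.leaf 3409)
 (.leaf 225)))
 (.node (.node (.leaf 1034)
 (.leaf 851))
 (.node (.leaf 2489)
 (.leaf 815)))))
 (.node (.node (.node (.node (.leaf 180)
 (.leaf 2717))
 (.node (.leaf 1439)
 (.leaf 3747)))
 (.node (.node (.leaf 3510)
 (.leaf 1519))
 (.node (.leaf 108)
 (.leaf 1001))))
 (.node (.node (.node (.leaf 3408)
 (.leaf 2188))
 (.node (.leaf 2104)
 (.leaf 1706)))
 (.node (.node (.leaf 1477)
 (.leaf 3846))
 (.node (.leaf 3129)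
 (.leaf 3436))))))

def tBiB39 : RT := .node (.node (.node (.node (.node (.node (.leaf 1303)
 (.leaf 1898))
 (.node (.leaf 129)
 (.leaf 3082)))
 (.node (.node (.leaf 2377)
 (.leaf 3878))
 (.node (.leaf 182)
 (.leaf 3252))))
 (.node (.node (.node (.leaf 780)
 (.leaf 652))
 (.node (.leaf 3476)
 (.leaf 361)))
 (.node (.node (.leaf 991)
 (.leaf 1562))
 (.node (.leaf 1631)
 (.leaf 547)))))
 (.node (.node (.node (.node (.leaf 3513)
 (.leaf 1650))
 (.node (.leaf 2339)
 (.leaf 1667)))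
 (.node (.node (.leaf 1656)
 (.leaf 2389))
 (.node (.leaf 1042)
 (.leaf 1798))))
 (.node (.node (.node (.leaf 3841)
 (.leaf 3826))
 (.node (.leaf 490)
 (.leaf 2312)))
 (.node (.node (.leaf 3303)
 (.leaf 187))
 (.node (.leaf 1069)
 (.leaf 1397))))))
 (.node (.node (.node (.node (.node (.leaf 1984)
 (.leaf 3683))
 (.node (.leaf 3050)
 (.leaf 1917)))
 (.node (.node (.leaf 2454)
 (.leaf 463))
 (.node (.leaf 95)
 (.leaf 793))))
 (.node (.node (.node (.leaf 2519)
 (.leaf 3345))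
 (.node (.leaf 2521)
 (.leaf 581)))
 (.node (.node (.leaf 609)
 (.leaf 3236))
 (.node (.leaf 1118)
 (.leaf 3792)))))
 (.node (.node (.node (.node (.leaf 3073)
 (.leaf 2998))
 (.node (.leaf 2697)
 (.leaf 2493)))
 (.node (.node (.leaf 1327)
 (.leaf 2138))
 (.node (.leaf 528)
 (.leaf 2872))))
 (.node (.node (.node (.leaf 2335)
 (.leaf 513))
 (.node (.leaf 684)
 (.leaf 241)))
 (.node (.node (.leaf 3876)
 (.leaf 1176))
 (.node (.leaf 2173)
 (.leaf 3171))))))

def tBiB40 : RT := .node (.node (.node (.node (.node (.node (.leaf 3643)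
 (.leaf 778))
 (.node (.leaf 2510)
 (.leaf 11)))
 (.node (.node (.leaf 2574)
 (.leaf 1702))
 (.node (.leaf 561)
 (.leaf 3225))))
 (.node (.node (.node (.leaf 2169)
 (.leaf 3286))
 (.node (.leaf 1658)
 (.leaf 3663)))
 (.node (.node (.leaf 2118)
 (.leaf 899))
 (.node (.leaf 3673)
 (.leaf 3847)))))
 (.node (.node (.node (.node (.leaf 3250)
 (.leaf 191))
 (.node (.leaf 1715)
 (.leaf 937)))
 (.node (.node (.leaf 3386)
 (.leaf 3125))
 (.node (.leaf 2406)
 (.leaf 2956))))
 (.node (.node (.node (.leaf 1078)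
 (.leaf 1056))
 (.node (.leaf 3713)
 (.leaf 133)))
 (.node (.node (.leaf 2958)
 (.leaf 1842))
 (.node (.leaf 2368)
 (.leaf 2560))))))
 (.node (.node (.node (.node (.node (.leaf 3262)
 (.leaf 3674))
 (.node (.leaf 1677)
 (.leaf 2534)))
 (.node (.node (.leaf 809)
 (.leaf 3035))
 (.node (.leaf 1964)
 (.leaf 682))))
 (.node (.node (.node (.leaf 96)
 (.leaf 314))
 (.node (.leaf 4010)
 (.leaf 2762)))
 (.node (.node (.leaf 2544)
 (.leaf 3455))
 (.node (.leaf 3209)
 (.leaf 1408)))))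
 (.node (.node (.node (.node (.leaf 3127)
 (.leaf 983))
 (.node (.leaf 1492)
 (.leaf 2462)))
 (.node (.node (.leaf 3149)
 (.leaf 2676))
 (.node (.leaf 2914)
 (.leaf 312))))
 (.node (.node (.node (.leaf 2908)
 (.leaf 1576))
 (.node (.leaf 3337)
 (.leaf 4017)))
 (.node (.node (.leaf 330)
 (.leaf 2379))
 (.node (.leaf 3796)
 (.leaf 43))))))

def tBiB41 : RT := .node (.node (.node (.node (.node (.node (.leaf 692)
 (.leaf 3522))
 (.node (.leaf 1763)
 (.leaf 1955)))
 (.node (.node (.leaf 1)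
 (.leaf 3095))
 (.node (.leaf 297)
 (.leaf 1693))))
 (.node (.node (.node (.leaf 3829)
 (.leaf 1289))
 (.node (.leaf 3423)
 (.leaf 1353)))
 (.node (.node (.leaf 814)
 (.leaf 1297))
 (.node (.leaf 3961)
 (.leaf 781)))))
 (.node (.node (.node (.node (.leaf 1824)
 (.leaf 1410))
 (.node (.leaf 3922)
 (.leaf 3030)))
 (.node (.node (.leaf 2014)
 (.leaf 862))
 (.node (.leaf 1273)
 (.leaf 3172))))
 (.node (.node (.node (.leaf 889)
 (.leaf 999))
 (.node (.leaf 2739)
 (.leaf 3468)))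
 (.node (.node (.leaf 1126)
 (.leaf 3438))
 (.node (.leaf 343)
 (.leaf 1504))))))
 (.node (.node (.node (.node (.node (.leaf 1727)
 (.leaf 3279))
 (.node (.leaf 3235)
 (.leaf 2157)))
 (.node (.node (.leaf 3362)
 (.leaf 2470))
 (.node (.leaf 3977)
 (.leaf 2331))))
 (.node (.node (.node (.leaf 4048)
 (.leaf 3851))
 (.node (.leaf 1241)
 (.leaf 841)))
 (.node (.node (.leaf 588)
 (.leaf 1844))
 (.node (.leaf 2951)
 (.leaf 2727)))))
 (.node (.node (.node (.node (.leaf 2852)
 (.leaf 2789))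
 (.node (.leaf 342)
 (.leaf 1571)))
 (.node (.node (.leaf 3864)
 (.leaf 2062))
 (.node (.leaf 2421)
 (.leaf 1646))))
 (.node (.node (.node (.leaf 1645)
 (.leaf 3885))
 (.node (.leaf 3344)
 (.leaf 2404)))
 (.node (.node (.leaf 3388)
 (.leaf 1307))
 (.node (.leaf 2194)
 (.leaf 26))))))

def tBiB42 : RT := .node (.node (.node (.node (.node (.node (.leaf 3793)
 (.leaf 714))
 (.node (.leaf 3514)
 (.leaf 469)))
 (.node (.node (.leaf 29)
 (.leaf 533))
 (.node (.leaf 1123)
 (.leaf 997))))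
 (.node (.node (.node (.leaf 3437)
 (.leaf 228))
 (.node (.leaf 3544)
 (.leaf 719)))
 (.node (.node (.leaf 3857)
 (.leaf 2011))
 (.node (.leaf 2444)
 (.leaf 3261)))))
 (.node (.node (.node (.node (.leaf 2279)
 (.leaf 636))
 (.node (.leaf 527)
 (.leaf 3711)))
 (.node (.node (.leaf 3790)
 (.leaf 568))
 (.node (.leaf 3752)
 (.leaf 543))))
 (.node (.node (.node (.leaf 3802)
 (.leaf 1783))
 (.node (.leaf 1911)
 (.leaf 3748)))
 (.node (.node (.leaf 737)
 (.leaf 2020))
 (.node (.leaf 1378)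
 (.leaf 1097))))))
 (.node (.node (.node (.node (.node (.leaf 1719)
 (.leaf 2221))
 (.node (.leaf 236)
 (.leaf 1269)))
 (.node (.node (.leaf 206)
 (.leaf 1073))
 (.node (.leaf 3503)
 (.leaf 3402))))
 (.node (.node (.node (.leaf 1600)
 (.leaf 2890))
 (.node (.leaf 558)
 (.leaf 555)))
 (.node (.node (.leaf 289)
 (.leaf 3059))
 (.node (.leaf 832)
 (.leaf 1659)))))
 (.node (.node (.node (.node (.leaf 2407)
 (.leaf 3484))
 (.node (.leaf 1555)
 (.leaf 3548)))
 (.node (.node (.leaf 1543)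
 (.leaf 1014))
 (.node (.leaf 3202)
 (.leaf 1366))))
 (.node (.node (.node (.leaf 3106)
 (.leaf 872))
 (.node (.leaf 2202)
 (.leaf 46)))
 (.node (.node (.leaf 556)
 (.leaf 931))
 (.node (.leaf 1678)
 (.leaf 668))))))

def tBiB43 : RT := .node (.node (.node (.node (.node (.node (.leaf 2755)
 (.leaf 3700))
 (.node (.leaf 1574)
 (.leaf 1338)))
 (.node (.node (.leaf 3469)
 (.leaf 92))
 (.node (.leaf 1881)
 (.leaf 932))))
 (.node (.node (.node (.leaf 1628)
 (.leaf 2015))
 (.node (.leaf 1919)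
 (.leaf 3463)))
 (.node (.node (.leaf 2241)
 (.leaf 3931))
 (.node (.leaf 726)
 (.leaf 1232)))))
 (.node (.node (.node (.node (.leaf 720)
 (.leaf 1839))
 (.node (.leaf 477)
 (.leaf 2358)))
 (.node (.node (.leaf 783)
 (.leaf 1362))
 (.node (.leaf 2586)
 (.leaf 3234))))
 (.node (.node (.node (.leaf 2172)
 (.leaf 791))
 (.node (.leaf 1780)
 (.leaf 612)))
 (.node (.node (.leaf 857)
 (.leaf 1607))
 (.node (.leaf 3551)
 (.leaf 1573))))))
 (.node (.node (.node (.node (.node (.leaf 2179)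
 (.leaf 3972))
 (.node (.leaf 2649)
 (.leaf 2463)))
 (.node (.node (.leaf 2524)
 (.leaf 1513))
 (.node (.leaf 2743)
 (.leaf 3938))))
 (.node (.node (.node (.leaf 2347)
 (.leaf 392))
 (.node (.leaf 2723)
 (.leaf 234)))
 (.node (.node (.leaf 3912)
 (.leaf 2435))
 (.node (.leaf 935)
 (.leaf 2826)))))
 (.node (.node (.node (.node (.leaf 1169)
 (.leaf 3517))
 (.node (.leaf 3558)
 (.leaf 1063)))
 (.node (.node (.leaf 3724)
 (.leaf 346))
 (.node (.leaf 2133)
 (.leaf 3254))))
 (.node (.node (.node (.leaf 2531)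
 (.leaf 1424))
 (.node (.leaf 3237)
 (.leaf 2484)))
 (.node (.node (.leaf 2171)
 (.leaf 662))
 (.node (.leaf 2360)
 (.leaf 3366))))))

def tBiB44 : RT := .node (.node (.node (.node (.node (.node (.leaf 3579)
 (.leaf 752))
 (.node (.leaf 653)
 (.leaf 2141)))
 (.node (.node (.leaf 2753)
 (.leaf 2039))
 (.node (.leaf 2815)
 (.leaf 3511))))
 (.node (.node (.node (.leaf 1354)
 (.leaf 779))
 (.node (.leaf 3928)
 (.leaf 82)))
 (.node (.node (.leaf 833)
 (.leaf 2288))
 (.node (.leaf 2134)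
 (.leaf 1676)))))
 (.node (.node (.node (.node (.leaf 3550)
 (.leaf 1218))
 (.node (.leaf 2716)
 (.leaf 955)))
 (.node (.node (.leaf 1564)
 (.leaf 623))
 (.node (.leaf 2686)
 (.leaf 2678))))
 (.node (.node (.node (.leaf 1947)
 (.leaf 3538))
 (.node (.leaf 954)
 (.leaf 489)))
 (.node (.node (.leaf 2566)
 (.leaf 2107))
 (.node (.leaf 3160)
 (.leaf 2231))))))
 (.node (.node (.node (.node (.node (.leaf 2947)
 (.leaf 1043))
 (.node (.leaf 1705)
 (.leaf 247)))
 (.node (.node (.leaf 492)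
 (.leaf 3377))
 (.node (.leaf 3038)
 (.leaf 2834))))
 (.node (.node (.node (.leaf 3319)
 (.leaf 1016))
 (.node (.leaf 1168)
 (.leaf 732)))
 (.node (.node (.leaf 2796)
 (.leaf 2209))
 (.node (.leaf 2512)
 (.leaf 1627)))))
 (.node (.node (.node (.node (.leaf 3654)
 (.leaf 3372))
 (.node (.leaf 268)
 (.leaf 3830)))
 (.node (.node (.leaf 3537)
 (.leaf 1937))
 (.node (.leaf 970)
 (.leaf 495))))
 (.node (.node (.node (.leaf 2913)
 (.leaf 3837))
 (.node (.leaf 1767)
 (.leaf 1902)))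
 (.node (.node (.leaf 1329)
 (.leaf 2284))
 (.node (.leaf 2869)
 (.leaf 1229))))))

def tBiB45 : RT := .node (.node (.node (.node (.node (.node (.leaf 2578)
 (.leaf 980))
 (.node (.leaf 3229)
 (.leaf 3554)))
 (.node (.node (.leaf 3376)
 (.leaf 1282))
 (.node (.leaf 3003)
 (.leaf 3765))))
 (.node (.node (.node (.leaf 3176)
 (.leaf 1414))
 (.node (.leaf 2123)
 (.leaf 4033)))
 (.node (.node (.leaf 2701)
 (.leaf 2187))
 (.node (.leaf 76)
 (.leaf 3228)))))
 (.node (.node (.node (.node (.leaf 2287)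
 (.leaf 950))
 (.node (.leaf 428)
 (.leaf 3784)))
 (.node (.node (.leaf 3825)
 (.leaf 3630))
 (.node (.leaf 2352)
 (.leaf 293))))
 (.node (.node (.node (.leaf 284)
 (.leaf 2135))
 (.node (.leaf 2880)
 (.leaf 795)))
 (.node (.node (.leaf 3585)
 (.leaf 2593))
 (.node (.leaf 571)
 (.leaf 2067))))))
 (.node (.node (.node (.node (.node (.leaf 2289)
 (.leaf 749))
 (.node (.leaf 916)
 (.leaf 2033)))
 (.node (.node (.leaf 2183)
 (.leaf 1756))
 (.node (.leaf 2303)
 (.leaf 3001))))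
 (.node (.node (.node (.leaf 2763)
 (.leaf 1634))
 (.node (.leaf 637)
 (.leaf 1270)))
 (.node (.node (.leaf 1615)
 (.leaf 3810))
 (.node (.leaf 3609)
 (.leaf 275)))))
 (.node (.node (.node (.node (.leaf 2420)
 (.leaf 2180))
 (.node (.leaf 3124)
 (.leaf 3621)))
 (.node (.node (.leaf 3138)
 (.leaf 1491))
 (.node (.leaf 1797)
 (.leaf 70))))
 (.node (.node (.node (.leaf 3255)
 (.leaf 3798))
 (.node (.leaf 339)
 (.leaf 3831)))
 (.node (.node (.leaf 2684)
 (.leaf 3133))
 (.node (.leaf 2388)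
 (.leaf 524))))))

def tBiB46 : RT := .node (.node (.node (.node (.node (.node (.leaf 456)
 (.leaf 6))
 (.node (.leaf 3077)
 (.leaf 2125)))
 (.node (.node (.leaf 2832)
 (.leaf 2870))
 (.node (.leaf 4014)
 (.leaf 2232))))
 (.node (.node (.node (.leaf 722)
 (.leaf 1061))
 (.node (.leaf 3104)
 (.leaf 2751)))
 (.node (.node (.leaf 1819)
 (.leaf 3557))
 (.node (.leaf 959)
 (.leaf 1835)))))
 (.node (.node (.node (.node (.leaf 3271)
 (.leaf 2847))
 (.node (.leaf 3504)
 (.leaf 2999)))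
 (.node (.node (.leaf 3967)
 (.leaf 506))
 (.node (.leaf 808)
 (.leaf 3036))))
 (.node (.node (.node (.leaf 1606)
 (.leaf 2853))
 (.node (.leaf 1418)
 (.leaf 2946)))
 (.node (.node (.leaf 3371)
 (.leaf 3921))
 (.node (.leaf 2044)
 (.leaf 3708))))))
 (.node (.node (.node (.node (.node (.leaf 3799)
 (.leaf 2971))
 (.node (.leaf 633)
 (.leaf 1501)))
 (.node (.node (.leaf 304)
 (.leaf 3358))
 (.node (.leaf 2911)
 (.leaf 3567))))
 (.node (.node (.node (.leaf 635)
 (.leaf 1040))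
 (.node (.leaf 3525)
 (.leaf 2097)))
 (.node (.node (.leaf 2633)
 (.leaf 3034))
 (.node (.leaf 2497)
 (.leaf 507)))))
 (.node (.node (.node (.node (.leaf 2119)
 (.leaf 3473))
 (.node (.leaf 2937)
 (.leaf 3143)))
 (.node (.node (.leaf 2608)
 (.leaf 2142))
 (.node (.leaf 2824)
 (.leaf 455))))
 (.node (.node (.node (.leaf 1712)
 (.leaf 3916))
 (.node (.leaf 189)
 (.leaf 796)))
 (.node (.node (.leaf 2037)
 (.leaf 3058))
 (.node (.leaf 985)
 (.leaf 2732))))))

def tBiB47 : RT := .node (.node (.node (.node (.node (.node (.leaf 1535)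
 (.leaf 1407))
 (.node (.leaf 3662)
 (.leaf 496)))
 (.node (.node (.leaf 2835)
 (.leaf 3844))
 (.node (.leaf 3208)
 (.leaf 196))))
 (.node (.node (.node (.leaf 3066)
 (.leaf 2959))
 (.node (.leaf 728)
 (.leaf 3165)))
 (.node (.node (.leaf 2294)
 (.leaf 2672))
 (.node (.leaf 305)
 (.leaf 2293)))))
 (.node (.node (.node (.node (.leaf 2843)
 (.leaf 3865))
 (.node (.leaf 3983)
 (.leaf 1782)))
 (.node (.node (.leaf 2199)
 (.leaf 3518))
 (.node (.leaf 3813)
 (.leaf 837))))
 (.node (.node (.node (.leaf 350)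
 (.leaf 3382))
 (.node (.leaf 2903)
 (.leaf 679)))
 (.node (.node (.leaf 4003)
 (.leaf 399))
 (.node (.leaf 2644)
 (.leaf 3248))))))
 (.node (.node (.node (.node (.node (.leaf 3352)
 (.leaf 1985))
 (.node (.leaf 519)
 (.leaf 4027)))
 (.node (.node (.leaf 3244)
 (.leaf 2595))
 (.node (.leaf 2390)
 (.leaf 2207))))
 (.node (.node (.node (.leaf 2321)
 (.leaf 97))
 (.node (.leaf 2220)
 (.leaf 3759)))
 (.node (.node (.leaf 1074)
 (.leaf 910))
 (.node (.leaf 1452)
 (.leaf 3723)))))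
 (.node (.node (.node (.node (.leaf 505)
 (.leaf 217))
 (.node (.leaf 243)
 (.leaf 1664)))
 (.node (.node (.leaf 1062)
 (.leaf 2481))
 (.node (.leaf 3017)
 (.leaf 3029))))
 (.node (.node (.node (.leaf 4007)
 (.leaf 1398))
 (.node (.leaf 127)
 (.leaf 2516)))
 (.node (.node (.leaf 364)
 (.leaf 1209))
 (.node (.leaf 1456)
 (.leaf 3686))))))

def tBiB48 : RT := .node (.node (.node (.node (.node (.node (.leaf 3085)
 (.leaf 2536))
 (.node (.leaf 3501)
 (.leaf 3676)))
 (.node (.node (.leaf 1482)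
 (.leaf 3743))
 (.node (.leaf 723)
 (.leaf 454))))
 (.node (.node (.node (.leaf 512)
 (.leaf 2065))
 (.node (.leaf 3346)
 (.leaf 197)))
 (.node (.node (.leaf 615)
 (.leaf 1802))
 (.node (.leaf 1379)
 (.leaf 2785)))))
 (.node (.node (.node (.node (.leaf 1444)
 (.leaf 1183))
 (.node (.leaf 2734)
 (.leaf 1032)))
 (.node (.node (.leaf 100)
 (.leaf 2414))
 (.node (.leaf 2974)
 (.leaf 1807))))
 (.node (.node (.node (.leaf 3021)
 (.leaf 1800))
 (.node (.leaf 3156)
 (.leaf 480)))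
 (.node (.node (.leaf 1204)
 (.leaf 1296))
 (.node (.leaf 1265)
 (.leaf 2766))))))
 (.node (.node (.node (.node (.node (.leaf 3044)
 (.leaf 1268))
 (.node (.leaf 1134)
 (.leaf 2654)))
 (.node (.node (.leaf 2031)
 (.leaf 2711))
 (.node (.leaf 1725)
 (.leaf 2251))))
 (.node (.node (.node (.leaf 1162)
 (.leaf 1068))
 (.node (.leaf 656)
 (.leaf 2829)))
 (.node (.node (.leaf 3963)
 (.leaf 2378))
 (.node (.leaf 2730)
 (.leaf 2596)))))
 (.node (.node (.node (.node (.leaf 2965)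
 (.leaf 1202))
 (.node (.leaf 1959)
 (.leaf 3627)))
 (.node (.node (.leaf 1683)
 (.leaf 1695))
 (.node (.leaf 2708)
 (.leaf 3090))))
 (.node (.node (.node (.leaf 2910)
 (.leaf 788))
 (.node (.leaf 1905)
 (.leaf 1072)))
 (.node (.node (.leaf 3154)
 (.leaf 3871))
 (.node (.leaf 821)
 (.leaf 3270))))))

def tBiB49 : RT := .node (.node (.node (.node (.node (.node (.leaf 160)
 (.leaf 1992))
 (.node (.leaf 185)
 (.leaf 4035)))
 (.node (.node (.leaf 3728)
 (.leaf 2933))
 (.node (.leaf 518)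
 (.leaf 1541))))
 (.node (.node (.node (.leaf 79)
 (.leaf 580))
 (.node (.leaf 1610)
 (.leaf 1207)))
 (.node (.node (.leaf 344)
 (.leaf 1891))
 (.node (.leaf 3608)
 (.leaf 3869)))))
 (.node (.node (.node (.node (.leaf 1170)
 (.leaf 3450))
 (.node (.leaf 1768)
 (.leaf 208)))
 (.node (.node (.leaf 3756)
 (.leaf 1214))
 (.node (.leaf 987)
 (.leaf 3205))))
 (.node (.node (.node (.leaf 2577)
 (.leaf 1093))
 (.node (.leaf 3555)
 (.leaf 3266)))
 (.node (.node (.leaf 1987)
 (.leaf 2249))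
 (.node (.leaf 1191)
 (.leaf 3295))))))
 (.node (.node (.node (.node (.node (.leaf 3460)
 (.leaf 1121))
 (.node (.leaf 1766)
 (.leaf 3883)))
 (.node (.node (.leaf 3779)
 (.leaf 3413))
 (.node (.leaf 4036)
 (.leaf 696))))
 (.node (.node (.node (.leaf 3333)
 (.leaf 3284))
 (.node (.leaf 1938)
 (.leaf 1409)))
 (.node (.node (.leaf 1192)
 (.leaf 1988))
 (.node (.leaf 745)
 (.leaf 1755)))))
 (.node (.node (.node (.node (.leaf 3702)
 (.leaf 3485))
 (.node (.leaf 403)
 (.leaf 2916)))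
 (.node (.node (.leaf 300)
 (.leaf 3308))
 (.node (.leaf 3930)
 (.leaf 2450))))
 (.node (.node (.node (.leaf 2582)
 (.leaf 2461))
 (.node (.leaf 398)
 (.leaf 1186)))
 (.node (.node (.leaf 2504)
 (.leaf 154))
 (.node (.leaf 2885)
 (.leaf 3097))))))

def tBiB50 : RT := .node (.node (.node (.node (.node (.node (.leaf 2923)
 (.leaf 2828))
 (.node (.leaf 1044)
 (.leaf 3294)))
 (.node (.node (.leaf 3330)
 (.leaf 2200))
 (.node (.leaf 589)
 (.leaf 3669))))
 (.node (.node (.node (.leaf 666)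
 (.leaf 1302))
 (.node (.leaf 404)
 (.leaf 1047)))
 (.node (.node (.leaf 3312)
 (.leaf 3004))
 (.node (.leaf 1981)
 (.leaf 3089)))))
 (.node (.node (.node (.node (.leaf 36)
 (.leaf 2822))
 (.node (.leaf 3832)
 (.leaf 3992)))
 (.node (.node (.leaf 2154)
 (.leaf 2986))
 (.node (.leaf 1027)
 (.leaf 1213))))
 (.node (.node (.node (.leaf 869)
 (.leaf 2381))
 (.node (.leaf 3219)
 (.leaf 1301)))
 (.node (.node (.leaf 2619)
 (.leaf 3964))
 (.node (.leaf 2795)
 (.leaf 2153))))))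
 (.node (.node (.node (.node (.node (.leaf 1181)
 (.leaf 893))
 (.node (.leaf 2721)
 (.leaf 2488)))
 (.node (.node (.leaf 383)
 (.leaf 390))
 (.node (.leaf 2088)
 (.leaf 2195))))
 (.node (.node (.node (.leaf 842)
 (.leaf 2664))
 (.node (.leaf 487)
 (.leaf 2969)))
 (.node (.node (.leaf 2802)
 (.leaf 1846))
 (.node (.leaf 764)
 (.leaf 2759)))))
 (.node (.node (.node (.node (.leaf 2385)
 (.leaf 2987))
 (.node (.leaf 1490)
 (.leaf 3623)))
 (.node (.node (.leaf 459)
 (.leaf 422))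
 (.node (.leaf 2647)
 (.leaf 2447))))
 (.node (.node (.node (.leaf 2592)
 (.leaf 3678))
 (.node (.leaf 1769)
 (.leaf 126)))
 (.node (.node (.leaf 3263)
 (.leaf 3633))
 (.node (.leaf 34)
 (.leaf 3010))))))

def tBiB51 : RT := .node (.node (.node (.node (.node (.node (.leaf 2380)
 (.leaf 2616))
 (.node (.leaf 1274)
 (.leaf 3466)))
 (.node (.node (.leaf 1733)
 (.leaf 1569))
 (.node (.leaf 2657)
 (.leaf 2691))))
 (.node (.node (.node (.leaf 1377)
 (.leaf 264))
 (.node (.leaf 1112)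
 (.leaf 415)))
 (.node (.node (.leaf 2968)
 (.leaf 1731))
 (.node (.leaf 394)
 (.leaf 1934)))))
 (.node (.node (.node (.node (.leaf 618)
 (.leaf 3607))
 (.node (.leaf 3342)
 (.leaf 3974)))
 (.node (.node (.leaf 242)
 (.leaf 62))
 (.node (.leaf 1998)
 (.leaf 3564))))
 (.node (.node (.node (.leaf 4058)
 (.leaf 3859))
 (.node (.leaf 1411)
 (.leaf 1189)))
 (.node (.node (.leaf 1009)
 (.leaf 3757))
 (.node (.leaf 1399)
 (.leaf 2868))))))
 (.node (.node (.node (.node (.node (.leaf 2623)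
 (.leaf 2054))
 (.node (.leaf 1041)
 (.leaf 3328)))
 (.node (.node (.leaf 638)
 (.leaf 897))
 (.node (.leaf 216)
 (.leaf 877))))
 (.node (.node (.node (.leaf 1751)
 (.leaf 3499))
 (.node (.leaf 251)
 (.leaf 1878)))
 (.node (.node (.leaf 508)
 (.leaf 2902))
 (.node (.leaf 1132)
 (.leaf 939)))))
 (.node (.node (.node (.node (.leaf 484)
 (.leaf 2788))
 (.node (.leaf 1809)
 (.leaf 45)))
 (.node (.node (.leaf 316)
 (.leaf 435))
 (.node (.leaf 2494)
 (.leaf 2146))))
 (.node (.node (.node (.leaf 1740)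
 (.leaf 1750))
 (.node (.leaf 1996)
 (.leaf 929)))
 (.node (.node (.leaf 3727)
 (.leaf 3872))
 (.node (.leaf 3444)
 (.leaf 769))))))

def tBiB52 : RT := .node (.node (.node (.node (.node (.node (.leaf 3979)
 (.leaf 2256))
 (.node (.leaf 876)
 (.leaf 2250)))
 (.node (.node (.leaf 1065)
 (.leaf 2286))
 (.node (.leaf 1973)
 (.leaf 2994))))
 (.node (.node (.node (.leaf 1687)
 (.leaf 670))
 (.node (.leaf 1915)
 (.leaf 755)))
 (.node (.node (.leaf 226)
 (.leaf 2631))
 (.node (.leaf 432)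
 (.leaf 2364)))))
 (.node (.node (.node (.node (.leaf 1858)
 (.leaf 2537))
 (.node (.leaf 2945)
 (.leaf 3962)))
 (.node (.node (.leaf 3296)
 (.leaf 2942))
 (.node (.leaf 2309)
 (.leaf 3370))))
 (.node (.node (.node (.leaf 372)
 (.leaf 1453))
 (.node (.leaf 2045)
 (.leaf 155)))
 (.node (.node (.leaf 2760)
 (.leaf 2543))
 (.node (.leaf 2240)
 (.leaf 2720))))))
 (.node (.node (.node (.node (.node (.leaf 2023)
 (.leaf 2539))
 (.node (.leaf 3996)
 (.leaf 3329)))
 (.node (.node (.leaf 3170)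
 (.leaf 3335))
 (.node (.leaf 1485)
 (.leaf 3220))))
 (.node (.node (.node (.leaf 830)
 (.leaf 3031))
 (.node (.leaf 2448)
 (.leaf 2063)))
 (.node (.node (.leaf 1999)
 (.leaf 566))
 (.node (.leaf 664)
 (.leaf 1347)))))
 (.node (.node (.node (.node (.leaf 3773)
 (.leaf 389))
 (.node (.leaf 3478)
 (.leaf 2792)))
 (.node (.node (.leaf 121)
 (.leaf 3670))
 (.node (.leaf 478)
 (.leaf 3053))))
 (.node (.node (.node (.leaf 526)
 (.leaf 2825))
 (.node (.leaf 792)
 (.leaf 2310)))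
 (.node (.node (.leaf 613)
 (.leaf 28))
 (.node (.leaf 224)
 (.leaf 2590))))))

def tBiB53 : RT := .node (.node (.node (.node (.node (.node (.leaf 171)
 (.leaf 1929))
 (.node (.leaf 4034)
 (.leaf 3685)))
 (.node (.node (.leaf 2147)
 (.leaf 207))
 (.node (.leaf 2866)
 (.leaf 1345))))
 (.node (.node (.node (.leaf 960)
 (.leaf 3741))
 (.node (.leaf 281)
 (.leaf 2808)))
 (.node (.node (.leaf 2012)
 (.leaf 1497))
 (.node (.leaf 3626)
 (.leaf 1601)))))
 (.node (.node (.node (.node (.leaf 1427)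
 (.leaf 1198))
 (.node (.leaf 3766)
 (.leaf 3593)))
 (.node (.node (.leaf 2976)
 (.leaf 2308))
 (.node (.leaf 2336)
 (.leaf 3968))))
 (.node (.node (.node (.leaf 1674)
 (.leaf 1321))
 (.node (.leaf 2786)
 (.leaf 995)))
 (.node (.node (.leaf 746)
 (.leaf 1851))
 (.node (.leaf 1364)
 (.leaf 71))))))
 (.node (.node (.node (.node (.node (.leaf 896)
 (.leaf 3950))
 (.node (.leaf 1119)
 (.leaf 1413)))
 (.node (.node (.leaf 1196)
 (.leaf 3070))
 (.node (.leaf 828)
 (.leaf 457))))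
 (.node (.node (.node (.leaf 3648)
 (.leaf 1801))
 (.node (.leaf 1663)
 (.leaf 460)))
 (.node (.node (.leaf 1306)
 (.leaf 2703))
 (.node (.leaf 448)
 (.leaf 3274)))))
 (.node (.node (.node (.node (.leaf 2589)
 (.leaf 840))
 (.node (.leaf 3935)
 (.leaf 1449)))
 (.node (.node (.leaf 2324)
 (.leaf 1483))
 (.node (.leaf 3734)
 (.leaf 911))))
 (.node (.node (.node (.leaf 3815)
 (.leaf 934))
 (.node (.leaf 3958)
 (.leaf 2791)))
 (.node (.node (.leaf 3936)
 (.leaf 94))
 (.node (.leaf 246)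
 (.leaf 2553))))))

def tBiB54 : RT := .node (.node (.node (.node (.node (.node (.leaf 2359)
 (.leaf 444))
 (.node (.leaf 2434)
 (.leaf 1954)))
 (.node (.node (.leaf 984)
 (.leaf 921))
 (.node (.leaf 3664)
 (.leaf 2980))))
 (.node (.node (.node (.leaf 1215)
 (.leaf 3027))
 (.node (.leaf 2563)
 (.leaf 4)))
 (.node (.node (.leaf 1135)
 (.leaf 2124))
 (.node (.leaf 3140)
 (.leaf 3039)))))
 (.node (.node (.node (.node (.leaf 271)
 (.leaf 2089))
 (.node (.leaf 1150)
 (.leaf 1869)))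
 (.node (.node (.leaf 3032)
 (.leaf 2000))
 (.node (.leaf 879)
 (.leaf 1709))))
 (.node (.node (.node (.leaf 3201)
 (.leaf 1661))
 (.node (.leaf 1771)
 (.leaf 1630)))
 (.node (.node (.leaf 3152)
 (.leaf 4021))
 (.node (.leaf 1908)
 (.leaf 3300))))))
 (.node (.node (.node (.node (.node (.leaf 2801)
 (.leaf 1403))
 (.node (.leaf 2025)
 (.leaf 3570)))
 (.node (.node (.leaf 2848)
 (.leaf 2330))
 (.node (.leaf 1487)
 (.leaf 391))))
 (.node (.node (.node (.leaf 3775)
 (.leaf 2841))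
 (.node (.leaf 3606)
 (.leaf 3340)))
 (.node (.node (.leaf 2113)
 (.leaf 4044))
 (.node (.leaf 2689)
 (.leaf 3767)))))
 (.node (.node (.node (.node (.leaf 1375)
 (.leaf 1003))
 (.node (.leaf 693)
 (.leaf 2122)))
 (.node (.node (.leaf 3332)
 (.leaf 1517))
 (.node (.leaf 1446)
 (.leaf 1190))))
 (.node (.node (.node (.leaf 1723)
 (.leaf 3736))
 (.node (.leaf 2070)
 (.leaf 3959)))
 (.node (.node (.leaf 3080)
 (.leaf 367))
 (.node (.leaf 2558)
 (.leaf 3395))))))

def tBiB55 : RT := .node (.node (.node (.node (.node (.node (.leaf 2184)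
 (.leaf 3151))
 (.node (.leaf 1422)
 (.leaf 2003)))
 (.node (.node (.leaf 3762)
 (.leaf 2594))
 (.node (.leaf 3426)
 (.leaf 1544))))
 (.node (.node (.node (.leaf 3391)
 (.leaf 1151))
 (.node (.leaf 2912)
 (.leaf 3691)))
 (.node (.node (.leaf 2680)
 (.leaf 1315))
 (.node (.leaf 219)
 (.leaf 1276)))))
 (.node (.node (.node (.node (.leaf 3461)
 (.leaf 1781))
 (.node (.leaf 3625)
 (.leaf 1511)))
 (.node (.node (.leaf 514)
 (.leaf 164))
 (.node (.leaf 1299)
 (.leaf 2048))))
 (.node (.node (.node (.leaf 2811)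
 (.leaf 3115))
 (.node (.leaf 313)
 (.leaf 3526)))
 (.node (.node (.leaf 3874)
 (.leaf 3715))
 (.node (.leaf 3384)
 (.leaf 1815))))))
 (.node (.node (.node (.node (.node (.leaf 665)
 (.leaf 24))
 (.node (.leaf 2277)
 (.leaf 3806)))
 (.node (.node (.leaf 2121)
 (.leaf 1777))
 (.node (.leaf 1148)
 (.leaf 2993))))
 (.node (.node (.node (.leaf 255)
 (.leaf 405))
 (.node (.leaf 1071)
 (.leaf 2669)))
 (.node (.node (.leaf 3490)
 (.leaf 3982))
 (.node (.leaf 288)
 (.leaf 680)))))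
 (.node (.node (.node (.node (.leaf 3196)
 (.leaf 267))
 (.node (.leaf 2498)
 (.leaf 1248)))
 (.node (.node (.leaf 40)
 (.leaf 3581))
 (.node (.leaf 262)
 (.leaf 1972))))
 (.node (.node (.node (.leaf 2386)
 (.leaf 957))
 (.node (.leaf 3118)
 (.leaf 944)))
 (.node (.node (.leaf 1155)
 (.leaf 3420))
 (.node (.leaf 3659)
 (.leaf 2857))))))

def tBiB56 : RT := .node (.node (.node (.node (.node (.node (.leaf 1746)
 (.leaf 3348))
 (.node (.leaf 3023)
 (.leaf 1761)))
 (.node (.node (.leaf 2784)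
 (.leaf 73))
 (.node (.leaf 2926)
 (.leaf 1970))))
 (.node (.node (.node (.leaf 3529)
 (.leaf 2767))
 (.node (.leaf 2665)
 (.leaf 3020)))
 (.node (.node (.leaf 3635)
 (.leaf 3657))
 (.node (.leaf 4019)
 (.leaf 1900)))))
 (.node (.node (.node (.node (.leaf 374)
 (.leaf 1701))
 (.node (.leaf 2307)
 (.leaf 2816)))
 (.node (.node (.leaf 2567)
 (.leaf 4059))
 (.node (.leaf 1735)
 (.leaf 2162))))
 (.node (.node (.node (.leaf 4051)
 (.leaf 920))
 (.node (.leaf 279)
 (.leaf 407)))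
 (.node (.node (.leaf 3488)
 (.leaf 3253))
 (.node (.leaf 852)
 (.leaf 520))))))
 (.node (.node (.node (.node (.node (.leaf 2670)
 (.leaf 1714))
 (.node (.leaf 1556)
 (.leaf 3246)))
 (.node (.node (.leaf 1620)
 (.leaf 2771))
 (.node (.leaf 2429)
 (.leaf 319))))
 (.node (.node (.node (.leaf 900)
 (.leaf 3999))
 (.node (.leaf 940)
 (.leaf 1552)))
 (.node (.node (.leaf 913)
 (.leaf 170))
 (.node (.leaf 973)
 (.leaf 1249)))))
 (.node (.node (.node (.node (.leaf 3575)
 (.leaf 2756))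
 (.node (.leaf 887)
 (.leaf 276)))
 (.node (.node (.leaf 1622)
 (.leaf 140))
 (.node (.leaf 771)
 (.leaf 3212))))
 (.node (.node (.node (.leaf 2700)
 (.leaf 936))
 (.node (.leaf 3629)
 (.leaf 864)))
 (.node (.node (.leaf 326)
 (.leaf 3379))
 (.node (.leaf 354)
 (.leaf 1698))))))

def tBiB57 : RT := .node (.node (.node (.node (.node (.node (.leaf 2632)
 (.leaf 3890))
 (.node (.leaf 1429)
 (.leaf 1820)))
 (.node (.node (.leaf 2283)
 (.leaf 1619))
 (.node (.leaf 2671)
 (.leaf 55))))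
 (.node (.node (.node (.leaf 2332)
 (.leaf 1697))
 (.node (.leaf 784)
 (.leaf 2009)))
 (.node (.node (.leaf 2704)
 (.leaf 414))
 (.node (.leaf 2545)
 (.leaf 3045)))))
 (.node (.node (.node (.node (.leaf 280)
 (.leaf 2932))
 (.node (.leaf 3098)
 (.leaf 2997)))
 (.node (.node (.leaf 37)
 (.leaf 585))
 (.node (.leaf 1271)
 (.leaf 315))))
 (.node (.node (.node (.leaf 2682)
 (.leaf 2035))
 (.node (.leaf 2247)
 (.leaf 2343)))
 (.node (.node (.leaf 3079)
 (.leaf 194))
 (.node (.leaf 650)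
 (.leaf 3258))))))
 (.node (.node (.node (.node (.node (.leaf 486)
 (.leaf 2628))
 (.node (.leaf 3136)
 (.leaf 1006)))
 (.node (.node (.leaf 3132)
 (.leaf 586))
 (.node (.leaf 3637)
 (.leaf 1560))))
 (.node (.node (.node (.leaf 3310)
 (.leaf 544))
 (.node (.leaf 443)
 (.leaf 847)))
 (.node (.node (.leaf 3025)
 (.leaf 85))
 (.node (.leaf 1294)
 (.leaf 3323)))))
 (.node (.node (.node (.node (.leaf 2376)
 (.leaf 3443))
 (.node (.leaf 3275)
 (.leaf 846)))
 (.node (.node (.leaf 532)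
 (.leaf 1654))
 (.node (.leaf 2741)
 (.leaf 978))))
 (.node (.node (.node (.leaf 549)
 (.leaf 2894))
 (.node (.leaf 4012)
 (.leaf 2688)))
 (.node (.node (.leaf 437)
 (.leaf 1670))
 (.node (.leaf 1589)
 (.leaf 1206))))))

def tBiB58 : RT := .node (.node (.node (.node (.node (.node (.leaf 2026)
 (.leaf 3181))
 (.node (.leaf 1791)
 (.leaf 708)))
 (.node (.node (.leaf 1235)
 (.leaf 557))
 (.node (.leaf 2456)
 (.leaf 1991))))
 (.node (.node (.node (.leaf 1029)
 (.leaf 3889))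
 (.node (.leaf 3231)
 (.leaf 3222)))
 (.node (.node (.leaf 1596)
 (.leaf 202))
 (.node (.leaf 4037)
 (.leaf 1512)))))
 (.node (.node (.node (.node (.leaf 3289)
 (.leaf 1335))
 (.node (.leaf 767)
 (.leaf 4018)))
 (.node (.node (.leaf 3805)
 (.leaf 3211))
 (.node (.leaf 1971)
 (.leaf 1716))))
 (.node (.node (.node (.leaf 2862)
 (.leaf 3429))
 (.node (.leaf 563)
 (.leaf 3137)))
 (.node (.node (.leaf 3661)
 (.leaf 891))
 (.node (.leaf 3331)
 (.leaf 2542))))))
 (.node (.node (.node (.node (.node (.leaf 2817)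
 (.leaf 2370))
 (.node (.leaf 1436)
 (.leaf 3121)))
 (.node (.node (.leaf 909)
 (.leaf 757))
 (.node (.leaf 1728)
 (.leaf 3467))))
 (.node (.node (.node (.leaf 214)
 (.leaf 369))
 (.node (.leaf 1623)
 (.leaf 3126)))
 (.node (.node (.leaf 4041)
 (.leaf 1290))
 (.node (.leaf 2181)
 (.leaf 2568)))))
 (.node (.node (.node (.node (.leaf 2943)
 (.leaf 962))
 (.node (.leaf 3006)
 (.leaf 77)))
 (.node (.node (.leaf 1591)
 (.leaf 3853))
 (.node (.leaf 600)
 (.leaf 1039))))
 (.node (.node (.node (.leaf 3738)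
 (.leaf 3230))
 (.node (.leaf 3594)
 (.leaf 1882)))
 (.node (.node (.leaf 941)
 (.leaf 2736))
 (.node (.leaf 3305)
 (.leaf 1144))))))

def tBiB59 : RT := .node (.node (.node (.node (.node (.node (.leaf 1455)
 (.leaf 2931))
 (.node (.leaf 1509)
 (.leaf 2225)))
 (.node (.node (.leaf 858)
 (.leaf 424))
 (.node (.leaf 1568)
 (.leaf 2820))))
 (.node (.node (.node (.leaf 2705)
 (.leaf 3706))
 (.node (.leaf 2807)
 (.leaf 2317)))
 (.node (.node (.leaf 3365)
 (.leaf 1240))
 (.node (.leaf 1637)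
 (.leaf 3800)))))
 (.node (.node (.node (.node (.leaf 2591)
 (.leaf 3190))
 (.node (.leaf 265)
 (.leaf 1927)))
 (.node (.node (.leaf 1356)
 (.leaf 2273))
 (.node (.leaf 3646)
 (.leaf 2109))))
 (.node (.node (.node (.leaf 205)
 (.leaf 1554))
 (.node (.leaf 671)
 (.leaf 3367)))
 (.node (.node (.leaf 4024)
 (.leaf 729))
 (.node (.leaf 3904)
 (.leaf 3709))))))
 (.node (.node (.node (.node (.node (.leaf 1051)
 (.leaf 1114))
 (.node (.leaf 2367)
 (.leaf 1890)))
 (.node (.node (.leaf 1054)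
 (.leaf 3041))
 (.node (.leaf 3547)
 (.leaf 465))))
 (.node (.node (.node (.leaf 3049)
 (.leaf 2392))
 (.node (.leaf 1401)
 (.leaf 1277)))
 (.node (.node (.leaf 4028)
 (.leaf 2144))
 (.node (.leaf 3596)
 (.leaf 785)))))
 (.node (.node (.node (.node (.leaf 1352)
 (.leaf 2329))
 (.node (.leaf 3239)
 (.leaf 1624)))
 (.node (.node (.leaf 1400)
 (.leaf 3908))
 (.node (.leaf 69)
 (.leaf 2391))))
 (.node (.node (.node (.leaf 3814)
 (.leaf 2191))
 (.node (.leaf 930)
 (.leaf 1318)))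
 (.node (.node (.leaf 1813)
 (.leaf 1184))
 (.node (.leaf 988)
 (.leaf 56))))))

def tBiB60 : RT := .node (.node (.node (.node (.node (.node (.leaf 1578)
 (.leaf 213))
 (.node (.leaf 3909)
 (.leaf 2899)))
 (.node (.node (.leaf 2503)
 (.leaf 748))
 (.node (.leaf 687)
 (.leaf 1662))))
 (.node (.node (.node (.leaf 1679)
 (.leaf 1106))
 (.node (.leaf 3695)
 (.leaf 3164)))
 (.node (.node (.leaf 3639)
 (.leaf 1778))
 (.node (.leaf 3216)
 (.leaf 352)))))
 (.node (.node (.node (.node (.leaf 1707)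
 (.leaf 2185))
 (.node (.leaf 1831)
 (.leaf 1913)))
 (.node (.node (.leaf 3821)
 (.leaf 1867))
 (.node (.leaf 1252)
 (.leaf 3324))))
 (.node (.node (.node (.leaf 3243)
 (.leaf 2549))
 (.node (.leaf 2190)
 (.leaf 3781)))
 (.node (.node (.leaf 871)
 (.leaf 1320))
 (.node (.leaf 301)
 (.leaf 3442))))))
 (.node (.node (.node (.node (.node (.leaf 338)
 (.leaf 1023))
 (.node (.leaf 2236)
 (.leaf 193)))
 (.node (.node (.leaf 4015)
 (.leaf 14))
 (.node (.leaf 4030)
 (.leaf 2652))))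
 (.node (.node (.node (.leaf 1605)
 (.leaf 2983))
 (.node (.leaf 427)
 (.leaf 3415)))
 (.node (.node (.leaf 2024)
 (.leaf 61))
 (.node (.leaf 3483)
 (.leaf 1836)))))
 (.node (.node (.node (.node (.leaf 1030)
 (.leaf 1052))
 (.node (.leaf 979)
 (.leaf 2254)))
 (.node (.node (.leaf 1077)
 (.leaf 3902))
 (.node (.leaf 2737)
 (.leaf 603))))
 (.node (.node (.node (.leaf 1590)
 (.leaf 119))
 (.node (.leaf 377)
 (.leaf 3119)))
 (.node (.node (.leaf 3355)
 (.leaf 2158))
 (.node (.leaf 807)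
 (.leaf 1217))))))

def tBiB61 : RT := .node (.node (.node (.node (.node (.node (.leaf 774)
 (.leaf 2874))
 (.node (.leaf 2637)
 (.leaf 3855)))
 (.node (.node (.leaf 2350)
 (.leaf 2072))
 (.node (.leaf 3761)
 (.leaf 584))))
 (.node (.node (.node (.leaf 686)
 (.leaf 2106))
 (.node (.leaf 3918)
 (.leaf 1245)))
 (.node (.node (.leaf 1310)
 (.leaf 2935))
 (.node (.leaf 1092)
 (.leaf 2174)))))
 (.node (.node (.node (.node (.leaf 440)
 (.leaf 812))
 (.node (.leaf 2006)
 (.leaf 1924)))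
 (.node (.node (.leaf 2554)
 (.leaf 2155))
 (.node (.leaf 1803)
 (.leaf 1583))))
 (.node (.node (.node (.leaf 2532)
 (.leaf 3075))
 (.node (.leaf 3145)
 (.leaf 850)))
 (.node (.node (.leaf 1293)
 (.leaf 87))
 (.node (.leaf 562)
 (.leaf 643))))))
 (.node (.node (.node (.node (.node (.leaf 3900)
 (.leaf 2078))
 (.node (.leaf 2276)
 (.leaf 266)))
 (.node (.node (.leaf 3105)
 (.leaf 3541))
 (.node (.leaf 3472)
 (.leaf 3827))))
 (.node (.node (.node (.leaf 2457)
 (.leaf 4042))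
 (.node (.leaf 2038)
 (.leaf 1974)))
 (.node (.node (.leaf 3569)
 (.leaf 1357))
 (.node (.leaf 2827)
 (.leaf 3502)))))
 (.node (.node (.node (.node (.leaf 2528)
 (.leaf 3177))
 (.node (.leaf 1471)
 (.leaf 3642)))
 (.node (.node (.leaf 947)
 (.leaf 1586))
 (.node (.leaf 2159)
 (.leaf 831))))
 (.node (.node (.node (.leaf 577)
 (.leaf 1982))
 (.node (.leaf 3067)
 (.leaf 1804)))
 (.node (.node (.leaf 3561)
 (.leaf 1035))
 (.node (.leaf 3441)
 (.leaf 3448))))))

def tBiB62 : RT := .node (.node (.node (.node (.node (.node (.leaf 1875)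
 (.leaf 2731))
 (.node (.leaf 2051)
 (.leaf 925)))
 (.node (.node (.leaf 2265)
 (.leaf 2016))
 (.node (.leaf 2013)
 (.leaf 1789))))
 (.node (.node (.node (.leaf 1720)
 (.leaf 3081))
 (.node (.leaf 3957)
 (.leaf 1540)))
 (.node (.node (.leaf 3833)
 (.leaf 3895))
 (.node (.leaf 765)
 (.leaf 2382)))))
 (.node (.node (.node (.node (.leaf 1639)
 (.leaf 105))
 (.node (.leaf 1432)
 (.leaf 1341)))
 (.node (.node (.leaf 1175)
 (.leaf 640))
 (.node (.leaf 1644)
 (.leaf 3197))))
 (.node (.node (.node (.leaf 3553)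
 (.leaf 1070))
 (.node (.leaf 1096)
 (.leaf 123)))
 (.node (.node (.leaf 707)
 (.leaf 3325))
 (.node (.leaf 3168)
 (.leaf 823))))))
 (.node (.node (.node (.node (.node (.leaf 3994)
 (.leaf 3158))
 (.node (.leaf 3241)
 (.leaf 1383)))
 (.node (.node (.leaf 2464)
 (.leaf 3925))
 (.node (.leaf 54)
 (.leaf 536))))
 (.node (.node (.node (.leaf 3405)
 (.leaf 865))
 (.node (.leaf 1142)
 (.leaf 1180)))
 (.node (.node (.leaf 199)
 (.leaf 3881))
 (.node (.leaf 2244)
 (.leaf 2692)))))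
 (.node (.node (.node (.node (.leaf 152)
 (.leaf 3283))
 (.node (.leaf 3493)
 (.leaf 3524)))
 (.node (.node (.leaf 1657)
 (.leaf 1841))
 (.node (.leaf 885)
 (.leaf 2211))))
 (.node (.node (.node (.leaf 829)
 (.leaf 1718))
 (.node (.leaf 1688)
 (.leaf 953)))
 (.node (.node (.leaf 1434)
 (.leaf 1932))
 (.node (.leaf 2661)
 (.leaf 2299))))))

def tBiB63 : RT := .node (.node (.node (.node (.node (.node (.leaf 3046)
 (.leaf 3532))
 (.node (.leaf 981)
 (.leaf 672)))
 (.node (.node (.leaf 614)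
 (.leaf 16))
 (.node (.leaf 2928)
 (.leaf 3693))))
 (.node (.node (.node (.leaf 2136)
 (.leaf 2630))
 (.node (.leaf 1230)
 (.leaf 3374)))
 (.node (.node (.leaf 381)
 (.leaf 1188))
 (.node (.leaf 3093)
 (.leaf 1870)))))
 (.node (.node (.node (.node (.leaf 854)
 (.leaf 2599))
 (.node (.leaf 2465)
 (.leaf 3505)))
 (.node (.node (.leaf 1897)
 (.leaf 2281))
 (.node (.leaf 2891)
 (.leaf 817))))
 (.node (.node (.node (.leaf 1926)
 (.leaf 2008))
 (.node (.leaf 3886)
 (.leaf 3582)))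
 (.leaf 0))))
 (.leaf 0)

def tBi : RT := .node (.node (.node (.node (.node (.node (tBiB0)
 (tBiB1))
 (.node (tBiB2)
 (tBiB3)))
 (.node (.node (tBiB4)
 (tBiB5))
 (.node (tBiB6)
 (tBiB7))))
 (.node (.node (.node (tBiB8)
 (tBiB9))
 (.node (tBiB10)
 (tBiB11)))
 (.node (.node (tBiB12)
 (tBiB13))
 (.node (tBiB14)
 (tBiB15)))))
 (.node (.node (.node (.node (tBiB16)
 (tBiB17))
 (.node (tBiB18)
 (tBiB19)))
 (.node (.node (tBiB20)
 (tBiB21))
 (.node (tBiB22)
 (tBiB23))))
 (.node (.node (.node (tBiB24)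
 (tBiB25))
 (.node (tBiB26)
 (tBiB27)))
 (.node (.node (tBiB28)
 (tBiB29))
 (.node (tBiB30)
 (tBiB31))))))
 (.node (.node (.node (.node (.node (tBiB32)
 (tBiB33))
 (.node (tBiB34)
 (tBiB35)))
 (.node (.node (tBiB36)
 (tBiB37))
 (.node (tBiB38)
 (tBiB39))))
 (.node (.node (.node (tBiB40)
 (tBiB41))
 (.node (tBiB42)
 (tBiB43)))
 (.node (.node (tBiB44)
 (tBiB45))
 (.node (tBiB46)
 (tBiB47)))))
 (.node (.node (.node (.node (tBiB48)
 (tBiB49))
 (.node (tBiB50)
 (tBiB51)))
 (.node (.node (tBiB52)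
 (tBiB53))
 (.node (tBiB54)
 (tBiB55))))
 (.node (.node (.node (tBiB56)
 (tBiB57))
 (.node (tBiB58)
 (tBiB59)))
 (.node (.node (tBiB60)
 (tBiB61))
 (.node (tBiB62)
 (tBiB63))))))

def vecLB0 : RT := .node (.node (.node (.node (.node (.node (.leaf 2955505076012376)
 (.leaf 4081492323993212))
 (.node (.leaf 2322254491288612)
 (.leaf 1899956731379736)))
 (.node (.node (.leaf 1337058586526760)
 (.leaf 2849953335477764))
 (.node (.leaf 3553622355347032)
 (.leaf 17718837848))))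
 (.node (.node (.node (.leaf 70370187544416)
 (.leaf 3025942068854868))
 (.node (.leaf 1161206386656776)
 (.leaf 4081422262338108)))
 (.node (.node (.leaf 1759322120389408)
 (.leaf 3448138225943400))
 (.node (.leaf 2850054870140504)
 (.leaf 4116641934738300)))))
 (.node (.node (.node (.node (.leaf 864)
 (.leaf 2920389591172620))
 (.node (.leaf 2498212089823824)
 (.leaf 4151876468082532)))
 (.node (.node (.leaf 1900077896434740)
 (.leaf 3940754099013472))
 (.node (.leaf 3061161976660532)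
 (.leaf 1900061252911672))))
 (.node (.node (.node (.leaf 105604992468584)
 (.leaf 3061160665941608))
 (.node (.leaf 3553707717821720)
 (.leaf 2814836004619600)))
 (.node (.node (.leaf 3412919728473960)
 (.leaf 3975835558086504))
 (.node (.leaf 3588858097697556)
 (.leaf 1794507300407080))))))
 (.node (.node (.node (.node (.node (.leaf 3412901406703640)
 (.leaf 2286985327673464))
 (.node (.leaf 3518505931507200)
 (.leaf 4186958266893836)))
 (.node (.node (.leaf 1935192441226100)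
 (.leaf 3975886058553396))
 (.node (.leaf 3624060252586508)
 (.leaf 2850054532498200))))
 (.node (.node (.node (.leaf 4116572543649580)
 (.leaf 2287105420559384))
 (.node (.leaf 2849986049999904)
 (.leaf 1125900612534892)))
 (.node (.node (.leaf 3588859005764400)
 (.leaf 1372243561022840))
 (.node (.leaf 1899974048088928)
 (.leaf 3061127043875092)))))
 (.node (.node (.node (.node (.leaf 1161206386131748)
 (.leaf 2427842305459724))
 (.node (.leaf 3412903119028840)
 (.leaf 2955505041408000)))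
 (.node (.node (.leaf 2885136798975844)
 (.leaf 3518507776475944))
 (.node (.leaf 1900061152772664)
 (.leaf 3518471973373784))))
 (.node (.node (.node (.leaf 1337127573390372)
 (.leaf 2251834980829016))
 (.node (.leaf 3518506198893164)
 (.leaf 1899992199988836)))
 (.node (.node (.leaf 1759218772738848)
 (.leaf 17785946112))
 (.node (.leaf 2357354071852048)
 (.leaf 1900078469481312))))))

def vecLB1 : RT := .node (.node (.node (.node (.node (.node (.leaf 70369015234592)
 (.leaf 70368779829852))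
 (.node (.leaf 1935261463216664)
 (.leaf 2322204531884920)))
 (.node (.node (.leaf 624)
 (.leaf 4011089185473132))
 (.node (.leaf 1900042497033012)
 (.leaf 4186958233862168))))
 (.node (.node (.node (.leaf 2462993792108308)
 (.leaf 2920424454227256))
 (.node (.leaf 17249075512)
 (.leaf 1794404489102160)))
 (.node (.node (.leaf 2498177964966956)
 (.leaf 105604655874048))
 (.node (.leaf 70369921730048)
 (.leaf 70369046169388)))))
 (.node (.node (.node (.node (.leaf 2357353198912560)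
 (.leaf 1372226281013292))
 (.node (.leaf 1337040769646636)
 (.leaf 3377699854747160)))
 (.node (.node (.leaf 1372191719424524)
 (.leaf 1759218840371996))
 (.node (.leaf 1125985940406784)
 (.leaf 2322169967674488))))
 (.node (.node (.node (.leaf 4011071367021344)
 (.leaf 1759235986685968))
 (.node (.leaf 2251922021025656)
 (.leaf 2462992922312980)))
 (.node (.node (.leaf 3975954305123096)
 (.leaf 1372310770548736))
 (.node (.leaf 4011087272347428)
 (.leaf 17820550176))))))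
 (.node (.node (.node (.node (.node (.leaf 528)
 (.leaf 1161154074771988))
 (.node (.leaf 2885171897958772)
 (.leaf 4151755906482176)))
 (.node (.node (.leaf 2392659107250964)
 (.leaf 2251836121678632))
 (.node (.leaf 1372191723094576)
 (.leaf 4046307614787176))))
 (.node (.node (.node (.leaf 105604858249500)
 (.leaf 3061059097723676))
 (.node (.leaf 4116640726254444)
 (.leaf 1161154209515016)))
 (.node (.node (.leaf 2357439265506612)
 (.leaf 2287106562458640))
 (.node (.leaf 3412954928644892)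
 (.leaf 4046237220732960)))))
 (.node (.node (.node (.node (.leaf 1900061087237652)
 (.leaf 2920355566978660))
 (.node (.leaf 3483306356639596)
 (.leaf 4046237586163252)))
 (.node (.node (.leaf 1899973373854308)
 (.leaf 1899991595483180))
 (.node (.leaf 1794455155771176)
 (.leaf 1337094018957624))))
 (.node (.node (.node (.leaf 2990791890306860)
 (.leaf 2849952327795792))
 (.node (.leaf 3940735741068568)
 (.leaf 4046307852289548)))
 (.node (.node (.leaf 1759235919053116)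
 (.leaf 17384866648))
 (.node (.leaf 70370153464620)
 (.leaf 1161102702413424))))))

def vecLB2 : RT := .node (.node (.node (.node (.node (.node (.leaf 1759219278152548)
 (.leaf 2955506383586084))
 (.node (.leaf 4151876569269036)
 (.leaf 105606502942332)))
 (.node (.node (.leaf 17753966360)
 (.leaf 1935228210250804))
 (.node (.leaf 1372277417444732)
 (.leaf 2814837044806012))))
 (.node (.node (.node (.leaf 2357354072375416)
 (.leaf 3975834955153492))
 (.node (.leaf 3553709363038060)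
 (.leaf 2955574399993116)))
 (.node (.node (.leaf 70368846414636)
 (.leaf 3518558646043156))
 (.node (.leaf 4151808386138744)
 (.leaf 17249075208)))))
 (.node (.node (.node (.node (.leaf 1337094022104100)
 (.leaf 1900042932192636))
 (.node (.leaf 2990759374488636)
 (.leaf 1759306251239512)))
 (.node (.node (.leaf 3553673458221064)
 (.leaf 4011018586425144))
 (.node (.leaf 1900078300136288)
 (.leaf 1794507868734992))))
 (.node (.node (.node (.leaf 105606703743348)
 (.leaf 3975956320486744))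
 (.node (.leaf 4046289730798184)
 (.leaf 2322254490763788)))
 (.node (.node (.leaf 1935141875220524)
 (.leaf 2990793230910808))
 (.node (.leaf 2286985327674416)
 (.leaf 2990758536152400))))))
 (.node (.node (.node (.node (.node (.leaf 1759322693435992)
 (.leaf 1794422170716024))
 (.node (.leaf 70369046693692)
 (.leaf 70370155561836)))
 (.node (.node (.leaf 2814766980531480)
 (.leaf 105604659545904))
 (.node (.leaf 4187043930833504)
 (.leaf 17887133720))))
 (.node (.node (.node (.leaf 1900008742323240)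
 (.leaf 2621520))
 (.node (.leaf 70369116423692)
 (.leaf 2850020575413520)))
 (.node (.node (.leaf 70369116947996)
 (.leaf 2251921750492464))
 (.node (.leaf 2814803356156252)
 (.leaf 17955291152)))))
 (.node (.node (.node (.node (.leaf 2920355766208372)
 (.leaf 1899956831519608))
 (.node (.leaf 1899973811110268)
 (.leaf 3377751931225368)))
 (.node (.node (.leaf 1161154778892152)
 (.leaf 3061093591154688))
 (.node (.leaf 105606335170400)
 (.leaf 17384866104))))
 (.node (.node (.node (.leaf 2849953132054372)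
 (.leaf 1935244114526732))
 (.node (.leaf 1161085488988752)
 (.leaf 70369012613152)))
 (.node (.node (.leaf 2885240616911888)
 (.leaf 3588909133465440))
 (.node (.leaf 2955540375274088)
 (.leaf 3940737284572020))))))

def vecLB3 : RT := .node (.node (.node (.node (.node (.node (.leaf 105606303188000)
 (.leaf 1125934267629600))
 (.node (.leaf 3448104536769552)
 (.leaf 3377752434541600)))
 (.node (.node (.leaf 1759219345785656)
 (.leaf 1125917792403836))
 (.node (.leaf 1161171792561428)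
 (.leaf 4151756075829112))))
 (.node (.node (.node (.leaf 3061059131803140)
 (.leaf 1337128078279460))
 (.node (.leaf 17854104664)
 (.leaf 3975887432189740)))
 (.node (.node (.leaf 2814767318697000)
 (.leaf 1161119782141996))
 (.node (.leaf 4046307513598464)
 (.leaf 4011087171158540)))))
 (.node (.node (.node (.node (.leaf 3412954658637600)
 (.leaf 2251885713031168))
 (.node (.leaf 1935159559456092)
 (.leaf 3412919156998936)))
 (.node (.node (.leaf 800)
 (.leaf 3448104671511400))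
 (.node (.leaf 3518454927720456)
 (.leaf 1161205816755252))))
 (.node (.node (.node (.leaf 3413005897827948)
 (.leaf 3483304511145768))
 (.node (.leaf 17283155224)
 (.leaf 1759306318873940)))
 (.node (.node (.leaf 3588892557050380)
 (.leaf 2920389421827108))
 (.node (.leaf 1126020703848048)
 (.leaf 2251885983565136))))))
 (.node (.node (.node (.node (.node (.leaf 17820550656)
 (.leaf 2990723707701100))
 (.node (.leaf 2850055707951716)
 (.leaf 1935228043003156)))
 (.node (.node (.leaf 1935227572191756)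
 (.leaf 4046237418913836))
 (.node (.leaf 3061127245202484)
 (.leaf 1372310774220124))))
 (.node (.node (.node (.leaf 1126003658196832)
 (.leaf 2392538445512736))
 (.node (.leaf 3975835355711348)
 (.leaf 70369818444412)))
 (.node (.node (.leaf 1337110964994876)
 (.leaf 4116623445722968))
 (.node (.leaf 608)
 (.leaf 2920321006437464)))))
 (.node (.node (.node (.node (.leaf 3412954794428260)
 (.leaf 1161189039014520))
 (.node (.leaf 1126020333700412)
 (.leaf 1759288431215104)))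
 (.node (.node (.leaf 1337093582751524)
 (.leaf 17955292016))
 (.node (.leaf 1759219176964180)
 (.leaf 2287071632294512))))
 (.node (.node (.node (.leaf 105604827317628)
 (.leaf 2955538998493492))
 (.node (.leaf 17753965608)
 (.leaf 3553725534701144)))
 (.node (.node (.leaf 2498211820339208)
 (.leaf 2849987057681012))
 (.node (.leaf 105604958389288)
 (.leaf 2392657965876276))))))

def vecLB4 : RT := .node (.node (.node (.node (.node (.node (.leaf 3975903808849412)
 (.leaf 1161086059938332))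
 (.node (.leaf 105606635586360)
 (.leaf 2955540340672080)))
 (.node (.node (.leaf 1372226987755388)
 (.leaf 1125900477267984))
 (.node (.leaf 2885170759206672)
 (.leaf 3553726172759600))))
 (.node (.node (.node (.leaf 1372311340974604)
 (.leaf 2814803152207932))
 (.node (.leaf 2814871068999960)
 (.leaf 3624060522595952)))
 (.node (.node (.leaf 1337094154748980)
 (.leaf 2920424421196624))
 (.node (.leaf 2462906049889400)
 (.leaf 1372209002579732)))))
 (.node (.node (.node (.node (.leaf 1125952151094892)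
 (.leaf 2920423277200436))
 (.node (.leaf 3518455062988368)
 (.leaf 1900060683535200)))
 (.node (.node (.leaf 2286985598731312)
 (.leaf 3483339475387164))
 (.node (.leaf 3518455197204820)
 (.leaf 4116572678389804))))
 (.node (.node (.node (.leaf 1900077830898008)
 (.leaf 2920321810695980))
 (.node (.leaf 2814835700008728)
 (.leaf 4011070899880796)))
 (.node (.node (.leaf 2849952023707672)
 (.leaf 2427809456194320))
 (.node (.leaf 1759322020775788)
 (.leaf 4046238894785036))))))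
 (.node (.node (.node (.node (.node (.leaf 2251920880173064)
 (.leaf 2427843042608172))
 (.node (.leaf 105606401229676)
 (.leaf 2251887124416112)))
 (.node (.node (.leaf 2357474934392180)
 (.leaf 3940668770091816))
 (.node (.leaf 4046239133336600)
 (.leaf 2251800954537080))))
 (.node (.node (.node (.leaf 2392573342123796)
 (.leaf 3518471570718764))
 (.node (.leaf 3975887264416116)
 (.leaf 3940753894015788)))
 (.node (.node (.leaf 2427808449037928)
 (.leaf 105606537544024))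
 (.node (.leaf 2990793265513328)
 (.leaf 2990758570754616)))))
 (.node (.node (.node (.node (.leaf 1935192342134792)
 (.leaf 70369817920012))
 (.node (.leaf 1161171422937912)
 (.leaf 4081422465237600)))
 (.node (.node (.leaf 1337093449058100)
 (.leaf 2463026543329896))
 (.node (.leaf 3588910644986464)
 (.leaf 1900009313796944))))
 (.node (.node (.node (.leaf 1125986376614160)
 (.leaf 1935211033003580))
 (.node (.leaf 3377803608196620)
 (.leaf 4116624753819648)))
 (.node (.node (.leaf 3448138257924620)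
 (.leaf 70370189117232))
 (.node (.leaf 70369114326652)
 (.leaf 3448086518038908))))))

def vecLB5 : RT := .node (.node (.node (.node (.node (.node (.leaf 2498126492993132)
 (.leaf 3588858231391356))
 (.node (.leaf 3588808069088852)
 (.leaf 70368814956560)))
 (.node (.node (.leaf 3624059954266920)
 (.leaf 2392657698489916))
 (.node (.leaf 2427808180077840)
 (.leaf 1372310906864700))))
 (.node (.node (.node (.leaf 3061092785325860)
 (.leaf 1337127576535384))
 (.node (.leaf 3025875093685860)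
 (.leaf 70369888175964)))
 (.node (.node (.leaf 2990724075749988)
 (.leaf 1759288499897964))
 (.node (.leaf 105605161288788)
 (.leaf 3518558410638704)))))
 (.node (.node (.node (.node (.leaf 3025907945570588)
 (.leaf 70369851474432))
 (.node (.leaf 1125969197795132)
 (.leaf 3588858603635988)))
 (.node (.node (.leaf 2251834710295040)
 (.leaf 3588910914471532))
 (.node (.leaf 105606535972472)
 (.leaf 1372294329402216))))
 (.node (.node (.node (.leaf 4116640290046552)
 (.leaf 1337006275166816))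
 (.node (.leaf 2322255900574308)
 (.leaf 1372293693966200)))
 (.node (.node (.leaf 17417897768)
 (.leaf 1759235886547760))
 (.node (.leaf 2990724846977368)
 (.leaf 105606334645776))))))
 (.node (.node (.node (.node (.node (.leaf 1935142379061364)
 (.leaf 4046289563551584))
 (.node (.leaf 2287020528895800)
 (.leaf 3061161807315292)))
 (.node (.node (.leaf 1900078398703212)
 (.leaf 1337058014528356))
 (.node (.leaf 2392537304137728)
 (.leaf 3518558913431400))))
 (.node (.node (.node (.leaf 17417897480)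
 (.leaf 105606705317396))
 (.node (.leaf 2427757680133756)
 (.leaf 70370153988988)))
 (.node (.node (.leaf 3553622624306692)
 (.leaf 2251801225069656))
 (.node (.leaf 3553726039589656)
 (.leaf 1759271621494636)))))
 (.node (.node (.node (.node (.leaf 3025873753605488)
 (.leaf 3377785754092568))
 (.node (.leaf 4116623547433264)
 (.leaf 1161119916360556)))
 (.node (.node (.leaf 1935227976941576)
 (.leaf 2357440138970396))
 (.node (.leaf 4151825164404580)
 (.leaf 2885204513390932))))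
 (.node (.node (.node (.leaf 2462942285005420)
 (.leaf 1372191587303424))
 (.node (.leaf 1372226415756076)
 (.leaf 2849986854257508)))
 (.node (.node (.leaf 1161154075297368)
 (.leaf 3061161775335268))
 (.node (.leaf 105604824171308)
 (.leaf 3412901272487440))))))

def vecLB6 : RT := .node (.node (.node (.node (.node (.node (.leaf 105606400705036)
 (.leaf 1899956767032100))
 (.node (.leaf 2462942018144036)
 (.leaf 2251801225068576)))
 (.node (.node (.leaf 3671824)
 (.leaf 1899973475041556))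
 (.node (.leaf 3940667021592344)
 (.leaf 1125900478316668))))
 (.node (.node (.node (.leaf 70369114850924)
 (.leaf 1337006712422416))
 (.node (.leaf 2498090486464536)
 (.leaf 17955291472)))
 (.node (.node (.leaf 3025909116830496)
 (.leaf 1161189173232424))
 (.node (.leaf 3975903470158360)
 (.leaf 1759254307930144)))))
 (.node (.node (.node (.node (.leaf 1125968627369580)
 (.leaf 2286984456832016))
 (.node (.leaf 1161120486262624)
 (.leaf 1759339670930216)))
 (.node (.node (.leaf 2849953369031548)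
 (.leaf 1372191586779180))
 (.node (.leaf 3518507910693660)
 (.leaf 105606636110440))))
 (.node (.node (.node (.leaf 4187028292896556)
 (.leaf 2462906318324824))
 (.node (.leaf 105606638732664)
 (.leaf 2814802315969376)))
 (.node (.node (.leaf 3518507643307824)
 (.leaf 2251799813685248))
 (.node (.leaf 1125952017925152)
 (.leaf 4046237387982344))))))
 (.node (.node (.node (.node (.node (.leaf 2427722751018064)
 (.leaf 3940753662804532))
 (.node (.leaf 70369820017260)
 (.leaf 1337110966044448)))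
 (.node (.node (.leaf 1372276914127728)
 (.leaf 2251835851146800))
 (.node (.leaf 17283155816)
 (.leaf 1372243428378216))))
 (.node (.node (.node (.leaf 105604659021312)
 (.leaf 2885239478158196))
 (.node (.leaf 3061160630812672)
 (.leaf 2357439266030380)))
 (.node (.node (.leaf 1161137498357760)
 (.leaf 3377785891456380))
 (.node (.leaf 2322168557862912)
 (.leaf 17314087696)))))
 (.node (.node (.node (.node (.leaf 1161154208989780)
 (.leaf 2322203793162864))
 (.node (.leaf 2920389625250068)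
 (.leaf 2990689279803664)))
 (.node (.node (.leaf 4151878113820672)
 (.leaf 2814768121382700))
 (.node (.leaf 3518471840202784)
 (.leaf 70369854095952))))
 (.node (.node (.node (.leaf 2286985598730328)
 (.leaf 2498176955713388))
 (.node (.leaf 105605058527284)
 (.leaf 1161120487835452)))
 (.node (.node (.leaf 2990792225849948)
 (.leaf 1794507133159256))
 (.node (.leaf 2990792258356260)
 (.leaf 2427723019977808))))))

def vecLB7 : RT := .node (.node (.node (.node (.node (.node (.leaf 2885204480362108)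
 (.leaf 3448103092879404))
 (.node (.leaf 1337076774077264)
 (.leaf 1125951580667964)))
 (.node (.node (.leaf 4151876367418976)
 (.leaf 17785946448))
 (.node (.leaf 1125934972274480)
 (.leaf 3518558275371016))))
 (.node (.node (.node (.leaf 3483253879080548)
 (.leaf 1900061188425220))
 (.node (.leaf 1935260794226012)
 (.leaf 1126003523978848)))
 (.node (.node (.leaf 3975887634564704)
 (.leaf 3975835187937324))
 (.node (.leaf 4011070696981008)
 (.leaf 3940737489569384)))))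
 (.node (.node (.node (.node (.leaf 2814803322602804)
 (.leaf 1935175834928660))
 (.node (.leaf 4011139484614664)
 (.leaf 1935192845977440)))
 (.node (.node (.leaf 1935142447218744)
 (.leaf 3588909402948396))
 (.node (.leaf 2322290464261724)
 (.leaf 1372209369581364))))
 (.node (.node (.node (.leaf 3975834616463384)
 (.leaf 1759305646212976))
 (.node (.leaf 1125917220930048)
 (.leaf 70369082867792)))
 (.node (.node (.leaf 4151825330602508)
 (.leaf 3588893399581712))
 (.node (.leaf 1372192157204528)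
 (.leaf 17920689952))))))
 (.node (.node (.node (.node (.node (.leaf 105606536496936)
 (.leaf 1794421501199900))
 (.node (.leaf 2498125617956660)
 (.leaf 70369080770672)))
 (.node (.node (.leaf 3448103227623204)
 (.leaf 4046289396303716))
 (.node (.leaf 2814871871685436)
 (.leaf 1794454684434992))))
 (.node (.node (.node (.leaf 2322168828920856)
 (.leaf 3448190537302132))
 (.node (.leaf 3147312)
 (.leaf 1372276781482784)))
 (.node (.node (.leaf 3624112564995116)
 (.leaf 4081474473033736))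
 (.node (.leaf 2462941281518452)
 (.leaf 2920321843724884)))))
 (.node (.node (.node (.node (.leaf 1372243932217352)
 (.leaf 3025908748781112))
 (.node (.leaf 2885239778050172)
 (.leaf 1337041474291568)))
 (.node (.node (.leaf 3025873718476808)
 (.leaf 17854105448))
 (.node (.leaf 105606537019400)
 (.leaf 3940685379534880))))
 (.node (.node (.node (.leaf 2920354422980608)
 (.leaf 1935243713972072))
 (.node (.leaf 3553673593489248)
 (.leaf 4186976350635032)))
 (.node (.node (.leaf 1125986510831888)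
 (.leaf 3940685174538284))
 (.node (.leaf 3025977904464932)
 (.leaf 3553675036853848))))))

def vecLB8 : RT := .node (.node (.node (.node (.node (.node (.leaf 1900009243017740)
 (.leaf 70368848511836))
 (.node (.leaf 1126003019613996)
 (.leaf 3483253475377168)))
 (.node (.node (.leaf 3588858871022632)
 (.leaf 2814836807304036))
 (.node (.leaf 1900025114788448)
 (.leaf 105605160764260))))
 (.node (.node (.node (.leaf 2498125348471308)
 (.leaf 4186974809228884))
 (.node (.leaf 3624026095222816)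
 (.leaf 1900025284659036)))
 (.node (.node (.leaf 3061057988330608)
 (.leaf 1161102703986524))
 (.node (.leaf 3940684604113944)
 (.leaf 2990690118141804)))))
 (.node (.node (.node (.node (.leaf 2955574365389332)
 (.leaf 1337006847165040))
 (.node (.leaf 1935159224960372)
 (.leaf 3448086751871488)))
 (.node (.node (.leaf 1337076336820832)
 (.leaf 2287019115939344))
 (.node (.leaf 3518506064675416)
 (.leaf 4186976550913140))))
 (.node (.node (.node (.leaf 1900025789022836)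
 (.leaf 2322204531361280))
 (.node (.leaf 1161136995567388)
 (.leaf 2427756941936420)))
 (.node (.node (.leaf 1935260961473852)
 (.leaf 3483355950090036))
 (.node (.leaf 3553673191358772)
 (.leaf 3624009150759976))))))
 (.node (.node (.node (.node (.node (.leaf 1935175732692052)
 (.leaf 2920424653455480))
 (.node (.leaf 1337040768598048)
 (.leaf 3588858365084264)))
 (.node (.node (.leaf 3025943376953720)
 (.leaf 1935227541259856))
 (.node (.leaf 1935210293756500)
 (.leaf 2885137103061788))))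
 (.node (.node (.node (.leaf 1125899906842624)
 (.leaf 4116642135017296))
 (.node (.leaf 2287105149501720)
 (.leaf 17887134296)))
 (.node (.node (.leaf 1125951446450988)
 (.leaf 1794524879782400))
 (.node (.leaf 4011088985720400)
 (.leaf 3448190672044032)))))
 (.node (.node (.node (.node (.leaf 70368812859440)
 (.leaf 1372259499901556))
 (.node (.leaf 1900042832053292)
 (.leaf 2427757949093404)))
 (.node (.node (.leaf 4081422766179896)
 (.leaf 4046306306164528))
 (.node (.leaf 4116692803782000)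
 (.leaf 105605062199092))))
 (.node (.node (.node (.leaf 1125917657137680)
 (.leaf 1794454516137984))
 (.node (.leaf 3588806356239972)
 (.leaf 2498210678966120)))
 (.node (.node (.leaf 2814766946975744)
 (.leaf 3588892691792760))
 (.node (.leaf 1372311344645904)
 (.leaf 2322289726587684))))))

def vecLB9 : RT := .node (.node (.node (.node (.node (.node (.leaf 3061093792481648)
 (.leaf 1161206251913828))
 (.node (.leaf 4011071535318392)
 (.leaf 1794472672232032)))
 (.node (.node (.leaf 3518558779213596)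
 (.leaf 1372209504322836))
 (.node (.leaf 17417897304)
 (.leaf 2885240786782056))))
 (.node (.node (.node (.leaf 3518508045961012)
 (.leaf 1935260723970048))
 (.node (.leaf 3025942036875068)
 (.leaf 32)))
 (.node (.node (.leaf 3448190402561308)
 (.leaf 1372192293519996))
 (.node (.leaf 4187027956302336)
 (.leaf 2287019386996336)))))
 (.node (.node (.node (.node (.leaf 1161119782666272)
 (.leaf 3025907977553236))
 (.node (.leaf 3940685547308632)
 (.leaf 4011070798693716)))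
 (.node (.node (.leaf 1935175095681068)
 (.leaf 2357388934383464))
 (.node (.leaf 3377752202806388)
 (.leaf 1900042327687780))))
 (.node (.node (.node (.leaf 105604858773564)
 (.leaf 3025874857755196))
 (.node (.leaf 2462907188118552)
 (.leaf 4011088817423144)))
 (.node (.node (.leaf 4116640626640404)
 (.leaf 1161154780463972))
 (.node (.leaf 1899973409505304)
 (.leaf 2955573392836104))))))
 (.node (.node (.node (.node (.node (.leaf 2427808181125976)
 (.leaf 2955505277862952))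
 (.node (.leaf 2990723740205876)
 (.leaf 3377803742413604)))
 (.node (.node (.leaf 1161085490561644)
 (.leaf 2955506083170140))
 (.node (.leaf 2920390728877368)
 (.leaf 4116624922641928))))
 (.node (.node (.node (.leaf 2392659108299836)
 (.leaf 1935244184782336))
 (.node (.leaf 2322169700810784)
 (.leaf 3553725904847468)))
 (.node (.node (.leaf 4187044666934060)
 (.leaf 70368812335120))
 (.node (.leaf 17384865816)
 (.leaf 3377752706123068)))))
 (.node (.node (.node (.node (.leaf 2814768087827044)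
 (.leaf 1794507768596064))
 (.node (.leaf 1337041473242924)
 (.leaf 3377787331150640)))
 (.node (.node (.leaf 4081473903133500)
 (.leaf 2392624143009104))
 (.node (.leaf 1935243547772696)
 (.leaf 2463027548390712))))
 (.node (.node (.node (.leaf 2287071361238832)
 (.leaf 2287070490394960))
 (.node (.leaf 1161120352044080)
 (.leaf 1900078232503932)))
 (.node (.node (.leaf 3940753323591192)
 (.leaf 1337058017673816))
 (.node (.leaf 3483304648507676)
 (.leaf 3553674902110268))))))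

def vecLB10 : RT := .node (.node (.node (.node (.node (.node (.leaf 1759288600037148)
 (.leaf 2427722012819512))
 (.node (.leaf 2850021717313124)
 (.leaf 1337127709180024)))
 (.node (.node (.leaf 4151756243599404)
 (.leaf 2498210946875960))
 (.node (.leaf 3975834717128464)
 (.leaf 2427842304409972))))
 (.node (.node (.node (.leaf 3483253745385596)
 (.leaf 1899973878743040))
 (.node (.leaf 1372276782007900)
 (.leaf 1337110327460640)))
 (.node (.node (.leaf 105604759160080)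
 (.leaf 1372259502523960))
 (.node (.leaf 70369922254432)
 (.leaf 4011139282765108)))))
 (.node (.node (.node (.node (.leaf 2251800084217856)
 (.leaf 2392624144057128))
 (.node (.leaf 2462992920741724)
 (.leaf 4081474305785948)))
 (.node (.node (.leaf 2392625015948128)
 (.leaf 3377701837604404))
 (.node (.leaf 1935192947164464)
 (.leaf 2357475204399220))))
 (.node (.node (.node (.leaf 1161137130308944)
 (.leaf 2251836121679440))
 (.node (.leaf 1794489177867832)
 (.leaf 4151826004312684)))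
 (.node (.node (.leaf 70368777732620)
 (.leaf 1759272194015576))
 (.node (.leaf 70369920157296)
 (.leaf 105605161813332))))))
 (.node (.node (.node (.node (.node (.leaf 4116693105248088)
 (.leaf 1900077795247140))
 (.node (.leaf 3518455968433500)
 (.leaf 2885135993144352)))
 (.node (.node (.leaf 2392538713948192)
 (.leaf 3553725267837556))
 (.node (.leaf 2322289726063660)
 (.leaf 17785946672))))
 (.node (.node (.node (.leaf 2357440139494244)
 (.leaf 70369820541468))
 (.node (.leaf 4046238794646644)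
 (.leaf 3025943208133408)))
 (.node (.node (.leaf 2814837011252756)
 (.leaf 1759289104925204))
 (.node (.leaf 3553707851514924)
 (.leaf 17753965912)))))
 (.node (.node (.node (.node (.leaf 1372244064338548)
 (.leaf 3412954524418920))
 (.node (.leaf 1337127708132628)
 (.leaf 2885240820859184)))
 (.node (.node (.leaf 2955609127781680)
 (.leaf 2955609497404984))
 (.node (.leaf 2885240583881320)
 (.leaf 2322168558388280))))
 (.node (.node (.node (.leaf 1161188534650680)
 (.leaf 3377700126328324))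
 (.node (.leaf 2885239812130420)
 (.leaf 1935192912037436)))
 (.node (.node (.leaf 1794422070576168)
 (.leaf 3553675170021744))
 (.node (.leaf 1935175764674152)
 (.leaf 2322255633711484))))))

def vecLB11 : RT := .node (.node (.node (.node (.node (.node (.leaf 2885136764895756)
 (.leaf 3448104806253660))
 (.node (.leaf 2920390429509472)
 (.leaf 70368845890332)))
 (.node (.node (.leaf 2357473930904164)
 (.leaf 3483253912633344))
 (.node (.leaf 3588858500875568)
 (.leaf 105604656398640))))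
 (.node (.node (.node (.leaf 1900008807859476)
 (.leaf 2251920880174896))
 (.node (.leaf 1161119916884848)
 (.leaf 2357389204914784)))
 (.node (.node (.leaf 1125968761587324)
 (.leaf 1372243428902740))
 (.node (.leaf 3671888)
 (.leaf 2392537572573184)))))
 (.node (.node (.node (.node (.leaf 1794438076565108)
 (.leaf 4046290168054140))
 (.node (.leaf 4151826105501540)
 (.leaf 3940736080281684)))
 (.node (.node (.leaf 1337040905438076)
 (.leaf 1372294195708440))
 (.node (.leaf 1794525049128828)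
 (.leaf 1794489246024548))))
 (.node (.node (.node (.leaf 1125986377663532)
 (.leaf 3553622926819372))
 (.node (.leaf 2498126760904204)
 (.leaf 1372260072948580)))
 (.node (.node (.leaf 4011071035146812)
 (.leaf 2955609162384168))
 (.node (.leaf 3975954811585116)
 (.leaf 1759339334336880))))))
 (.node (.node (.node (.node (.node (.leaf 3483340112920952)
 (.leaf 105606336217456))
 (.node (.leaf 3975885719863576)
 (.leaf 3061160966358384)))
 (.node (.node (.leaf 3483306225566040)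
 (.leaf 4046305939687252))
 (.node (.leaf 1935175327941232)
 (.leaf 3483356083782156))))
 (.node (.node (.node (.leaf 105606739395364)
 (.leaf 1935175161741344))
 (.node (.leaf 70368746274816)
 (.leaf 2392538714997784)))
 (.node (.node (.leaf 3377803974149920)
 (.leaf 2885171092129392))
 (.node (.leaf 3377752068588380)
 (.leaf 2955573594686312)))))
 (.node (.node (.node (.node (.leaf 3624060386804344)
 (.leaf 4151809025246300))
 (.node (.leaf 2885239445128540)
 (.leaf 2427757681181540)))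
 (.node (.node (.leaf 1759218673123372)
 (.leaf 1794437336793132))
 (.node (.leaf 3483339745396272)
 (.leaf 4187044032022024))))
 (.node (.node (.node (.leaf 3624025392153380)
 (.leaf 1372243931693428))
 (.node (.leaf 2990725082907680)
 (.leaf 1125951447499312)))
 (.node (.node (.leaf 2251886853882656)
 (.leaf 4081422162723956))
 (.node (.leaf 1125968626319872)
 (.leaf 1759305813460496))))))

def vecLB12 : RT := .node (.node (.node (.node (.node (.node (.leaf 3624025826263084)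
 (.leaf 1935192511480408))
 (.node (.leaf 3377787736949348)
 (.leaf 1161189172709140)))
 (.node (.node (.leaf 1372226283634720)
 (.leaf 4151825667720752))
 (.node (.leaf 3553622222176272)
 (.leaf 1935192273977652))))
 (.node (.node (.node (.leaf 2357438999168620)
 (.leaf 3553673324529260))
 (.node (.leaf 2427722011771984)
 (.leaf 3518473282520156)))
 (.node (.node (.leaf 2990725048303624)
 (.leaf 3025875058557804))
 (.node (.leaf 4187044267427436)
 (.leaf 2357353198387256)))))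
 (.node (.node (.node (.node (.leaf 2462907456028704)
 (.leaf 4186976653148780))
 (.node (.leaf 4186974977523744)
 (.leaf 2357474933867020)))
 (.node (.node (.leaf 4186958666400268)
 (.leaf 4151876267278872))
 (.node (.leaf 4187026280678444)
 (.leaf 2955609462800384))))
 (.node (.node (.node (.leaf 2322168828395520)
 (.leaf 2990690319468140))
 (.node (.leaf 1899992265524760)
 (.leaf 1935210796548912)))
 (.node (.node (.leaf 2462941280994876)
 (.leaf 4011139652912144))
 (.node (.leaf 1125900611486224)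
 (.leaf 1372192289849856))))))
 (.node (.node (.node (.node (.node (.leaf 3624112430777368)
 (.leaf 3448086652782452))
 (.node (.leaf 3588892996404564)
 (.leaf 4081406325031776)))
 (.node (.node (.leaf 4151757922371360)
 (.leaf 1337023521096548))
 (.node (.leaf 3940684943328372)
 (.leaf 4116692467187836))))
 (.node (.node (.node (.leaf 1161188668868200)
 (.leaf 2251835851146088))
 (.node (.leaf 70368847987564)
 (.leaf 4186975143724648)))
 (.node (.node (.leaf 2955539033097596)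
 (.leaf 2498176956236052))
 (.node (.leaf 2621488)
 (.leaf 1794507700437612)))))
 (.node (.node (.node (.node (.leaf 3975887466790920)
 (.leaf 105604826793052))
 (.node (.leaf 105606639256616)
 (.leaf 2955574700410740)))
 (.node (.node (.leaf 3448086886614136)
 (.leaf 2814802011358744))
 (.node (.leaf 3413005194232868)
 (.leaf 1161154644674344))))
 (.node (.node (.node (.leaf 1337006142521388)
 (.leaf 2955608120623716))
 (.node (.leaf 3975835390312448)
 (.leaf 3483304376401920)))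
 (.node (.node (.leaf 70369886603116)
 (.leaf 2498211821913888))
 (.node (.leaf 3483357862168120)
 (.leaf 3061162008642604))))))

def vecLB13 : RT := .node (.node (.node (.node (.node (.node (.leaf 4081422933426220)
 (.leaf 1794524546859128))
 (.node (.leaf 2498125350045556)
 (.leaf 4081474004846164)))
 (.node (.node (.leaf 2920321039466832)
 (.leaf 3624060119942708))
 (.node (.leaf 2955540040254312)
 (.leaf 4011087610512248))))
 (.node (.node (.node (.leaf 2357474196719460)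
 (.leaf 1759255047177848))
 (.node (.leaf 4116572444033108)
 (.leaf 2392657697440116)))
 (.node (.node (.leaf 1900009479995760)
 (.leaf 4116623210840124))
 (.node (.leaf 4151878283166744)
 (.leaf 4081404781004412)))))
 (.node (.node (.node (.node (.leaf 2498212089300312)
 (.leaf 17249075816))
 (.node (.leaf 1935159725655856)
 (.leaf 17347642480)))
 (.node (.node (.leaf 4011140120053548)
 (.leaf 4081422599454752))
 (.node (.leaf 1794472571045724)
 (.leaf 3518455330375484))))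
 (.node (.node (.node (.leaf 4081404411379720)
 (.leaf 1337006844019212))
 (.node (.leaf 2322204798223160)
 (.leaf 105606704793428)))
 (.node (.node (.leaf 3448190806787416)
 (.leaf 1794524312503668))
 (.node (.leaf 3624060086912864)
 (.leaf 1935141809160192))))))
 (.node (.node (.node (.node (.node (.leaf 512)
 (.leaf 17213424672))
 (.node (.leaf 3518559048696400)
 (.leaf 2427756674025316)))
 (.node (.node (.leaf 2287019115938584)
 (.leaf 2885135794439472))
 (.node (.leaf 1759339906860548)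
 (.leaf 3553622489038972))))
 (.node (.node (.node (.leaf 105605061674548)
 (.leaf 105604758111008))
 (.node (.leaf 3448188895233876)
 (.leaf 3448104940995348)))
 (.node (.node (.leaf 2498091495195760)
 (.leaf 1794404388962348))
 (.node (.leaf 1161154646246180)
 (.leaf 1337058151366936)))))
 (.node (.node (.node (.node (.leaf 1161137632576336)
 (.leaf 2850055674397756))
 (.node (.leaf 1935210459957032)
 (.leaf 3624026228918056)))
 (.node (.node (.leaf 4116693138802188)
 (.leaf 2357387930895144))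
 (.node (.leaf 2357475204925228)
 (.leaf 3624009283404288))))
 (.node (.node (.node (.leaf 4116572209153872)
 (.leaf 2920423310230028))
 (.node (.leaf 3975904244008784)
 (.leaf 1794471998521908)))
 (.node (.node (.leaf 70370089502220)
 (.leaf 2920355601056284))
 (.node (.leaf 3588909535594084)
 (.leaf 2814803118654580))))))

def vecLB14 : RT := .node (.node (.node (.node (.node (.node (.leaf 1759339234197872)
 (.leaf 2498091764155504))
 (.node (.leaf 1900008843511304)
 (.leaf 2990690085634676)))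
 (.node (.node (.leaf 105604859299708)
 (.leaf 1794472166819688))
 (.node (.leaf 3061127009797740)
 (.leaf 4116642303836792))))
 (.node (.node (.node (.leaf 1935261362029160)
 (.leaf 3975956118110324))
 (.node (.leaf 3377752568759160)
 (.leaf 2621552)))
 (.node (.node (.leaf 1126020200530288)
 (.leaf 1935193011127420))
 (.node (.leaf 2920322177172276)
 (.leaf 1125969330963216)))))
 (.node (.node (.node (.node (.leaf 1125917791354896)
 (.leaf 2885135960113464))
 (.node (.leaf 70370123055952)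
 (.leaf 1337023387402516)))
 (.node (.node (.leaf 2427809455146296)
 (.leaf 3940754266784536))
 (.node (.leaf 2287071632294936)
 (.leaf 1337023960449828))))
 (.node (.node (.node (.leaf 2463027546817024)
 (.leaf 3553674766845732))
 (.node (.leaf 2814871035447072)
 (.leaf 3940684704776704)))
 (.node (.node (.leaf 3413004922126616)
 (.leaf 1759272026768152))
 (.node (.leaf 4151877779850524)
 (.leaf 3448189160522296))))))
 (.node (.node (.node (.node (.node (.leaf 3412901544593196)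
 (.leaf 4011020332302392))
 (.node (.leaf 48)
 (.leaf 3448102827589664)))
 (.node (.node (.leaf 3377787602732556)
 (.leaf 3377803336614400))
 (.node (.leaf 1900025686263592)
 (.leaf 2498090753852528))))
 (.node (.node (.node (.leaf 3483340247663920)
 (.leaf 3588911048164196))
 (.node (.leaf 3413005328449820)
 (.leaf 1161137634148892)))
 (.node (.node (.leaf 4151808521929576)
 (.leaf 2885172100857908))
 (.node (.leaf 2251887124414472)
 (.leaf 2920390395428872)))))
 (.node (.node (.node (.node (.leaf 3377701431803952)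
 (.leaf 1161102569768220))
 (.node (.leaf 1161188670439956)
 (.leaf 3624110721074024)))
 (.node (.node (.leaf 2990793029582856)
 (.leaf 3061092817306492))
 (.node (.leaf 1125934266581036)
 (.leaf 3025978205407036))))
 (.node (.node (.node (.leaf 3671904)
 (.leaf 105606704267316))
 (.node (.leaf 2392625016997240)
 (.leaf 1337076337870364)))
 (.node (.node (.leaf 2955505243259216)
 (.leaf 1759305745826684))
 (.node (.leaf 3147264)
 (.leaf 2814871838131572))))))

def vecLB15 : RT := .node (.node (.node (.node (.node (.node (.leaf 2920424620426800)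
 (.leaf 3025907743719484))
 (.node (.leaf 3377785619873792)
 (.leaf 1372209372202600)))
 (.node (.node (.leaf 1935228146286904)
 (.leaf 1935159154705528))
 (.node (.leaf 1161171422414452)
 (.leaf 3483356221145944))))
 (.node (.node (.node (.leaf 2850020913053696)
 (.leaf 3518506334160388))
 (.node (.leaf 17283155544)
 (.leaf 1935210359817752)))
 (.node (.node (.leaf 4081491888309880)
 (.leaf 1794404890181748))
 (.node (.leaf 1899973309367160)
 (.leaf 2392657966924636)))))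
 (.node (.node (.node (.node (.leaf 1337041341645872)
 (.leaf 3061057955299640))
 (.node (.leaf 1161171288196660)
 (.leaf 1900025619677988)))
 (.node (.node (.leaf 2498090755424312)
 (.leaf 2498126760379156))
 (.node (.leaf 17347642976)
 (.leaf 1372277284799804))))
 (.node (.node (.node (.leaf 2427842036499492)
 (.leaf 105604994040088))
 (.node (.leaf 2287070490396536)
 (.leaf 1935243611734900)))
 (.node (.node (.leaf 17213425440)
 (.leaf 3940668665759036))
 (.node (.leaf 1899956665843796)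
 (.leaf 1337058722317828))))))
 (.node (.node (.node (.node (.node (.leaf 4186976450773552)
 (.leaf 3061058796259108))
 (.node (.leaf 3483357731096428)
 (.leaf 1935175263978092)))
 (.node (.node (.leaf 3448102962333464)
 (.leaf 2463027816824952))
 (.node (.leaf 1794437572198928)
 (.leaf 2885171863880988))))
 (.node (.node (.node (.leaf 2849986016444424)
 (.leaf 1900060751169340))
 (.node (.leaf 17179869184)
 (.leaf 1759289005311848)))
 (.node (.node (.leaf 4046221011845500)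
 (.leaf 3412919594254368))
 (.node (.leaf 105606503989308)
 (.leaf 2955506048565844)))))
 (.node (.node (.node (.node (.leaf 3553707584651600)
 (.leaf 3940685342312036))
 (.node (.leaf 3940753763468828)
 (.leaf 1337128077231640)))
 (.node (.node (.leaf 2251921750491752)
 (.leaf 1794437504041484))
 (.node (.leaf 1794421668447580)
 (.leaf 1337110328510316))))
 (.node (.node (.node (.leaf 17854105096)
 (.leaf 3483356355888720))
 (.node (.leaf 4081406424646744)
 (.leaf 3940754061789028)))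
 (.node (.node (.leaf 3061092449781364)
 (.leaf 1337041338500220))
 (.node (.leaf 2392538446562360)
 (.leaf 4046290067915812))))))

def vecLB16 : RT := .node (.node (.node (.node (.node (.node (.leaf 2990690286961492)
 (.leaf 3448137823814492))
 (.node (.leaf 1794472098661172)
 (.leaf 1125900042109500)))
 (.node (.node (.leaf 2920354794702136)
 (.leaf 1337024093094228))
 (.node (.leaf 3624059684259620)
 (.leaf 70369048790892))))
 (.node (.node (.node (.leaf 1794404991370036)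
 (.leaf 1125952016876924))
 (.node (.leaf 2357389204391720)
 (.leaf 1794472738293340)))
 (.node (.node (.leaf 2287070219338768)
 (.leaf 2498125617431148))
 (.node (.leaf 4116692936426320)
 (.leaf 1126003020661600)))))
 (.node (.node (.node (.node (.leaf 1372277285322752)
 (.leaf 3588893263790088))
 (.node (.leaf 1759306218734628)
 (.leaf 2392573610559316)))
 (.node (.node (.leaf 1372226851439664)
 (.leaf 1900060584970028))
 (.node (.leaf 2814872042078324)
 (.leaf 2286984185774104))))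
 (.node (.node (.node (.leaf 70370087405164)
 (.leaf 2990758200606800))
 (.node (.leaf 3377751797006848)
 (.leaf 1161189038491220)))
 (.node (.node (.leaf 1935210395992948)
 (.leaf 2885205822013448))
 (.node (.leaf 3940735573295104)
 (.leaf 1372226854061180))))))
 (.node (.node (.node (.node (.node (.leaf 2251834980827744)
 (.leaf 70370189641584))
 (.node (.leaf 1794489750388736)
 (.leaf 3025943408936544)))
 (.node (.node (.leaf 2357440409503236)
 (.leaf 1759272092303972))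
 (.node (.leaf 2097264)
 (.leaf 1899956163575852))))
 (.node (.node (.node (.leaf 1759288936629092)
 (.leaf 1125917658186604))
 (.node (.leaf 3412952812093976)
 (.leaf 3940735912510844)))
 (.node (.node (.leaf 70370187020064)
 (.leaf 3624110990034436))
 (.node (.leaf 2990793064187392)
 (.leaf 1759236559209060)))))
 (.node (.node (.node (.node (.leaf 1372311476765548)
 (.leaf 2462994060018748))
 (.node (.leaf 1794437404950560)
 (.leaf 4011139450011932)))
 (.node (.node (.leaf 3940668870755408)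
 (.leaf 3377804108366456))
 (.node (.leaf 2322289455530268)
 (.leaf 1372259634643508))))
 (.node (.node (.node (.leaf 4151825803511296)
 (.leaf 1794405057430376))
 (.node (.leaf 1759236491576104)
 (.leaf 1935158988506984)))
 (.node (.node (.leaf 4081490310726508)
 (.leaf 1161085925720156))
 (.node (.leaf 3975835055818604)
 (.leaf 2392658838816340))))))

def vecLB17 : RT := .node (.node (.node (.node (.node (.node (.leaf 2251885713032728)
 (.leaf 70369853571632))
 (.node (.leaf 70370123580176)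
 (.leaf 105606403851388)))
 (.node (.node (.leaf 4046221347914784)
 (.leaf 3518473552004112))
 (.node (.leaf 2955539234948188)
 (.leaf 1935175664534584))))
 (.node (.node (.node (.leaf 4081490479548196)
 (.leaf 2990759575814460))
 (.node (.leaf 2990759543309828)
 (.leaf 1337076908819280)))
 (.node (.node (.leaf 3553709228295768)
 (.leaf 2885170725126952))
 (.node (.leaf 1794524480800020)
 (.leaf 3377701566023272)))))
 (.node (.node (.node (.node (.leaf 1161205682537844)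
 (.leaf 3553709496206164))
 (.node (.leaf 2462992653878324)
 (.leaf 1759218604441600)))
 (.node (.node (.leaf 2462993791582524)
 (.leaf 17249076056))
 (.node (.leaf 3588892424406628)
 (.leaf 3025908780761600))))
 (.node (.node (.node (.leaf 2920322144142956)
 (.leaf 2251799813686296))
 (.node (.leaf 1900060514190176)
 (.leaf 3940753424253440)))
 (.node (.node (.leaf 4081423102248452)
 (.leaf 4151808286000160))
 (.node (.leaf 2955573560083472)
 (.leaf 2955608322475892))))))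
 (.node (.node (.node (.node (.node (.leaf 1161085926244400)
 (.leaf 2849953165607484))
 (.node (.leaf 2850054566053136)
 (.leaf 1794489918685456)))
 (.node (.node (.leaf 3671840)
 (.leaf 2814767285141776))
 (.node (.leaf 1337094153699640)
 (.leaf 1759288532403040))))
 (.node (.node (.node (.leaf 17887134072)
 (.leaf 4116572107440152))
 (.node (.leaf 1372310906339696)
 (.leaf 2849951990154512)))
 (.node (.node (.leaf 4151808084149628)
 (.leaf 2920320836042768))
 (.node (.leaf 4186958567310644)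
 (.leaf 4116640391759632)))))
 (.node (.node (.node (.node (.leaf 1759254475178592)
 (.leaf 105606300566384))
 (.node (.leaf 1794507199218484)
 (.leaf 2251800084218936)))
 (.node (.node (.leaf 3412919022781456)
 (.leaf 3940667360806420))
 (.node (.leaf 4151757721569116)
 (.leaf 3483357597401620))))
 (.node (.node (.node (.leaf 4186974640930860)
 (.leaf 1794489347211876))
 (.node (.leaf 3025874088625184)
 (.leaf 1935159056664180)))
 (.node (.node (.leaf 2885205856094032)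
 (.leaf 3624025961006868))
 (.node (.leaf 2357440410026076)
 (.leaf 17753966184))))))

def vecLB18 : RT := .node (.node (.node (.node (.node (.node (.leaf 2990724881581392)
 (.leaf 2955539200344116))
 (.node (.leaf 1794421736604784)
 (.leaf 2427843043656500)))
 (.node (.node (.leaf 1337023957303928)
 (.leaf 1337110832350720))
 (.node (.leaf 1899973977309708)
 (.leaf 3412919429104484))))
 (.node (.node (.node (.leaf 1161171925205080)
 (.leaf 2463026811766568))
 (.node (.leaf 1126003153831484)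
 (.leaf 3448087158195572)))
 (.node (.node (.leaf 4011018924590884)
 (.leaf 2287105149502992))
 (.node (.leaf 2462992652304988)
 (.leaf 2427809186185224)))))
 (.node (.node (.node (.node (.leaf 1372259636217448)
 (.leaf 1337128214069780))
 (.node (.leaf 1935244216762988)
 (.leaf 70369048266620)))
 (.node (.node (.leaf 4081490680349528)
 (.leaf 70370120958816))
 (.node (.leaf 1337023388450824)
 (.leaf 4187026382913876))))
 (.node (.node (.node (.leaf 3975904143344184)
 (.leaf 2392658839863644))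
 (.node (.leaf 3025909083801400)
 (.leaf 1759271521355068)))
 (.node (.node (.leaf 3061057787004272)
 (.leaf 3025943175103512))
 (.node (.leaf 1794472504984432)
 (.leaf 4011140221240164))))))
 (.node (.node (.node (.node (.node (.leaf 2955573358231888)
 (.leaf 1161206252439384))
 (.node (.leaf 2498210946352496)
 (.leaf 2463027815253856)))
 (.node (.node (.leaf 1125899907891244)
 (.leaf 2462994060542516))
 (.node (.leaf 4011071202395220)
 (.leaf 1337058150318132))))
 (.node (.node (.node (.leaf 2885204713145380)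
 (.leaf 2849952361349496))
 (.node (.leaf 1759322524616308)
 (.leaf 3975954643813988)))
 (.node (.node (.leaf 1125985806189056)
 (.leaf 2814870730834968))
 (.node (.leaf 2392572200747812)
 (.leaf 1794437976425556)))))
 (.node (.node (.node (.node (.leaf 4187027790104360)
 (.leaf 2462906316750848))
 (.node (.leaf 2427756675072572)
 (.leaf 105606503465308)))
 (.node (.node (.leaf 1794507800576524)
 (.leaf 2097232))
 (.node (.leaf 17417897080)
 (.leaf 2920354457060392))))
 (.node (.node (.node (.leaf 3553623059990036)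
 (.leaf 1125968760537600))
 (.node (.leaf 1935142548407080)
 (.leaf 2322290731123748)))
 (.node (.node (.leaf 2322290730599276)
 (.leaf 3624059820049244))
 (.node (.leaf 105604992993144)
 (.leaf 2251886853883256))))))

def vecLB19 : RT := .node (.node (.node (.node (.node (.node (.leaf 4011139888317960)
 (.leaf 1372260206641956))
 (.node (.leaf 3624007844235108)
 (.leaf 3448138392667748)))
 (.node (.node (.leaf 2463026811240560)
 (.leaf 2097152))
 (.node (.leaf 2392625284384352)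
 (.leaf 1161103206777936))))
 (.node (.node (.node (.leaf 2498177225196580)
 (.leaf 2990758235211544))
 (.node (.leaf 1126020702798700)
 (.leaf 4187044699964280)))
 (.node (.node (.leaf 1372209505895512)
 (.leaf 2814801977803264))
 (.node (.leaf 105605160239716)
 (.leaf 17887134520)))))
 (.node (.node (.node (.node (.leaf 17718837624)
 (.leaf 1935227473101612))
 (.node (.leaf 4046306137867064)
 (.leaf 2357473930380636)))
 (.node (.node (.leaf 4081405988962844)
 (.leaf 105606404375836))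
 (.node (.leaf 1899992099849300)
 (.leaf 105606739919460))))
 (.node (.node (.node (.leaf 17179869696)
 (.leaf 2814768291775316))
 (.node (.leaf 1337024092045336)
 (.leaf 3483306090825264)))
 (.node (.node (.leaf 70369081294960)
 (.leaf 3518558007985460))
 (.node (.leaf 17213424944)
 (.leaf 1935261298067284))))))
 (.node (.node (.node (.node (.node (.leaf 2885205484897656)
 (.leaf 3483254180544556))
 (.node (.leaf 2990724043245084)
 (.leaf 1125934400799548)))
 (.node (.node (.leaf 1126003657147260)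
 (.leaf 1759321952092960))
 (.node (.leaf 4187044499687188)
 (.leaf 3940737590231824))))
 (.node (.node (.node (.leaf 2498177964442132)
 (.leaf 17820550512))
 (.node (.leaf 1161103072560640)
 (.leaf 1372311477290592)))
 (.node (.node (.leaf 4116693305524788)
 (.leaf 2920354760622384))
 (.node (.leaf 1372208866264104)
 (.leaf 70370087929404)))))
 (.node (.node (.node (.node (.leaf 2287020257838968)
 (.leaf 1900025184519692))
 (.node (.leaf 1900077730759000)
 (.leaf 1759322625803876)))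
 (.node (.node (.leaf 3588893130097020)
 (.leaf 3061128019051896))
 (.node (.leaf 3025907776750676)
 (.leaf 2357387930371584))))
 (.node (.node (.node (.leaf 17920689760)
 (.leaf 1759219245645848))
 (.node (.leaf 1337128210925368)
 (.leaf 3025874054545784)))
 (.node (.node (.leaf 1161137499930972)
 (.leaf 4046220843550308))
 (.node (.leaf 1759254945989688)
 (.leaf 1337110463252060))))))

def vecLB20 : RT := .node (.node (.node (.node (.node (.node (.leaf 4187028124598836)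
 (.leaf 2849985678803224))
 (.node (.leaf 1125917086711808)
 (.leaf 1759306150052152)))
 (.node (.node (.leaf 1759289172559368)
 (.leaf 1794489684329788))
 (.node (.leaf 2814835666452480)
 (.leaf 1161085354770432))))
 (.node (.node (.node (.leaf 1125934838055984)
 (.leaf 3624007976878396))
 (.node (.leaf 2814836840858668)
 (.leaf 1759322593296984)))
 (.node (.node (.leaf 1372293826085492)
 (.leaf 3061128354594904))
 (.node (.leaf 3483254047377000)
 (.leaf 70369919632912)))))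
 (.node (.node (.node (.node (.leaf 2251920609641752)
 (.leaf 1126003154879072))
 (.node (.leaf 3624009417622900)
 (.leaf 3413005627818784)))
 (.node (.node (.leaf 1759254373466156)
 (.leaf 4046307953476180))
 (.node (.leaf 1794455256958232)
 (.leaf 4151808185336596))))
 (.node (.node (.node (.leaf 17179869968)
 (.leaf 3940666853818368))
 (.node (.leaf 3624007574226552)
 (.leaf 1337006711373948)))
 (.node (.node (.leaf 1759339839226664)
 (.leaf 3448188760490620))
 (.node (.leaf 4081404580202320)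
 (.leaf 3518473685173032))))))
 (.node (.node (.node (.node (.node (.leaf 2498091494670424)
 (.leaf 1337023524242024))
 (.node (.leaf 3624025258460252)
 (.leaf 1372260205070136)))
 (.node (.node (.leaf 1759271586890784)
 (.leaf 4116624956195164))
 (.node (.leaf 1900025215976224)
 (.leaf 1899956092796928))))
 (.node (.node (.node (.leaf 1759236323278856)
 (.leaf 4186959002993440))
 (.node (.leaf 3377786025673044)
 (.leaf 105606335692800)))
 (.node (.node (.leaf 3412903389037348)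
 (.leaf 2392573611606652))
 (.node (.leaf 3588806222544940)
 (.leaf 3377699992109100)))))
 (.node (.node (.node (.node (.leaf 2814802349524824)
 (.leaf 1161205815181656))
 (.node (.leaf 2990688978863448)
 (.leaf 105604993515528)))
 (.node (.node (.leaf 1372244068008728)
 (.leaf 3483357996909424))
 (.node (.leaf 105606502418204)
 (.leaf 1126003522929260))))
 (.node (.node (.node (.leaf 4046239233475152)
 (.leaf 3025977869337100))
 (.node (.leaf 2357388197234272)
 (.leaf 3518558141153404)))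
 (.node (.node (.leaf 3413005056345104)
 (.leaf 2287019386995544))
 (.node (.leaf 1125985941456748)
 (.leaf 2885204679066412))))))

def vecLB21 : RT := .node (.node (.node (.node (.node (.node (.leaf 1161137129784412)
 (.leaf 105606300041728))
 (.node (.leaf 3975956017447980)
 (.leaf 1794507366466388)))
 (.node (.node (.leaf 4151757620379764)
 (.leaf 1794489279055656))
 (.node (.leaf 2427842037547900)
 (.leaf 2392572470232588))))
 (.node (.node (.node (.leaf 2322169701336152)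
 (.leaf 3448138091202416))
 (.node (.leaf 2322204797699680)
 (.leaf 2427809187235328)))
 (.node (.node (.leaf 2287020257837616)
 (.leaf 1372294197282356))
 (.node (.leaf 3588892826535712)
 (.leaf 2251800954535968)))))
 (.node (.node (.node (.node (.leaf 17314087440)
 (.leaf 70368814432304))
 (.node (.leaf 4151757822230584)
 (.leaf 70369083392080)))
 (.node (.node (.leaf 2357388196709224)
 (.leaf 2990791922811252))
 (.node (.leaf 4046221145539868)
 (.leaf 17785946976))))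
 (.node (.node (.node (.leaf 3448137958557556)
 (.leaf 1372192157728860))
 (.node (.leaf 3412903254820188)
 (.leaf 3483253610120760)))
 (.node (.node (.leaf 2357354342908944)
 (.leaf 105604957865272))
 (.node (.leaf 1372226417328944)
 (.leaf 2990759341982500))))))
 (.node (.node (.node (.node (.node (.leaf 1337006276215388)
 (.leaf 3025978239484212))
 (.node (.leaf 2850021954290732)
 (.leaf 2427721744908312)))
 (.node (.node (.leaf 816)
 (.leaf 3025942404924724))
 (.node (.leaf 3377699720527872)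
 (.leaf 3025976865326360))))
 (.node (.node (.node (.leaf 1125951581716784)
 (.leaf 3975954472896272))
 (.node (.leaf 3483254314239604)
 (.leaf 1935141978506000)))
 (.node (.node (.leaf 1794524947941148)
 (.leaf 1337110829203980))
 (.node (.leaf 2920423614841204)
 (.leaf 3553725769582452)))))
 (.node (.node (.node (.node (.leaf 2427756942983772)
 (.leaf 105606303712592))
 (.node (.leaf 1337093450105448)
 (.leaf 2287105420559152)))
 (.node (.node (.leaf 4046306107982700)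
 (.leaf 4081406090675476))
 (.node (.leaf 2498090485941360)
 (.leaf 3061128052081232))))
 (.node (.node (.node (.leaf 3061128387626832)
 (.leaf 1161120353617020))
 (.node (.leaf 3483304782202372)
 (.leaf 3588805953060864)))
 (.node (.node (.leaf 2990688944259088)
 (.leaf 3940667193033020))
 (.node (.leaf 3025977066127368)
 (.leaf 4116692367574052))))))

def vecLB22 : RT := .node (.node (.node (.node (.node (.node (.leaf 1161171790987272)
 (.leaf 4081422363526168))
 (.node (.leaf 4046220509054776)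
 (.leaf 4116572845115188)))
 (.node (.node (.leaf 2322289456055860)
 (.leaf 1125985807239036))
 (.node (.leaf 4081474139063636)
 (.leaf 4011070596842536))))
 (.node (.node (.node (.leaf 1337058719172456)
 (.leaf 1759339165516844))
 (.node (.leaf 2955574735011932)
 (.leaf 4187044869310320)))
 (.node (.node (.leaf 4186958901806120)
 (.leaf 3588910780778328))
 (.node (.leaf 1794422236775988)
 (.leaf 2463026542806288)))))
 (.node (.node (.node (.node (.leaf 3412901678809364)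
 (.leaf 2357352932049968))
 (.node (.leaf 2814870697280000)
 (.leaf 1759254541763196)))
 (.node (.node (.leaf 3412902984811552)
 (.leaf 3061092481761804))
 (.node (.leaf 3483339979751516)
 (.leaf 2498091762581624))))
 (.node (.node (.node (.leaf 3412919864262700)
 (.leaf 4011020432443232))
 (.node (.leaf 2849985712358672)
 (.leaf 1337076201030240)))
 (.node (.node (.leaf 1935244284921456)
 (.leaf 1759254880453716))
 (.node (.leaf 17920689424)
 (.leaf 17347643232))))))
 (.node (.node (.node (.node (.node (.leaf 2287020528894544)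
 (.leaf 4116573047490344))
 (.node (.leaf 1794454752592700)
 (.leaf 4081490513626912)))
 (.node (.node (.leaf 3975885619201808)
 (.leaf 2462941013082932))
 (.node (.leaf 1126020837016188)
 (.leaf 3377804379948548))))
 (.node (.node (.node (.leaf 3975903641076540)
 (.leaf 2357388933857792))
 (.node (.leaf 1161171288720232)
 (.leaf 4081473801945944)))
 (.node (.node (.leaf 2322255900050476)
 (.leaf 4011089018226468))
 (.node (.leaf 2850021920736084)
 (.leaf 2850054903693424)))))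
 (.node (.node (.node (.node (.leaf 1935227642447712)
 (.leaf 2498178232354596))
 (.node (.leaf 4081474641855792)
 (.leaf 3413005493601896)))
 (.node (.node (.leaf 70370090026588)
 (.leaf 4011018757341228))
 (.node (.leaf 1125934401848096)
 (.leaf 2287070219338264))))
 (.node (.node (.node (.leaf 1794421569357600)
 (.leaf 2850055911376676))
 (.node (.leaf 105604823646732)
 (.leaf 2322169967149088)))
 (.node (.node (.leaf 4151808691275088)
 (.leaf 1372209001006616))
 (.node (.leaf 1161086060462688)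
 (.leaf 70368780354156))))))

def vecLB23 : RT := .node (.node (.node (.node (.node (.node (.leaf 2498177223623292)
 (.leaf 2498126491419476))
 (.node (.leaf 3377803470833432)
 (.leaf 880)))
 (.node (.node (.leaf 17213425200)
 (.leaf 4151808859046484))
 (.node (.leaf 3147344)
 (.leaf 105605059051828))))
 (.node (.node (.node (.leaf 1900008907999012)
 (.leaf 3975903940970100))
 (.node (.leaf 1899991694049792)
 (.leaf 1899991764828700)))
 (.node (.node (.leaf 1125917087760700)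
 (.leaf 2392623875622408))
 (.node (.leaf 4116623111226980)
 (.leaf 3553725401007916)))))
 (.node (.node (.node (.node (.leaf 2920355800285996)
 (.leaf 1759305577529868))
 (.node (.leaf 1161205680963592)
 (.leaf 1794524980970096)))
 (.node (.node (.leaf 70368778256956)
 (.leaf 17384866424))
 (.node (.leaf 4186958434140500)
 (.leaf 1794404557259628))))
 (.node (.node (.node (.leaf 70369886078748)
 (.leaf 4046289229054556))
 (.node (.leaf 2920390762955376)
 (.leaf 3377804245730156)))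
 (.node (.node (.leaf 1935142042469164)
 (.leaf 3448138664247864))
 (.node (.leaf 70370156086076)
 (.leaf 1900009412362300))))))
 (.node (.node (.node (.node (.node (.leaf 1935261397157684)
 (.leaf 3412919294887004))
 (.node (.leaf 1759254980593156)
 (.leaf 3553622656811008)))
 (.node (.node (.leaf 1126020334747760)
 (.leaf 2357438999691348))
 (.node (.leaf 2286984185775120)
 (.leaf 1372208868885812))))
 (.node (.node (.node (.leaf 4046221449102184)
 (.leaf 4151825903649592))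
 (.node (.leaf 2885171059098216)
 (.leaf 1337076204176908)))
 (.node (.node (.leaf 3940737385236028)
 (.leaf 3588807936442460))
 (.node (.leaf 105606736250164)
 (.leaf 1125900041060864)))))
 (.node (.node (.node (.node (.leaf 1759339739612692)
 (.leaf 1161085356343340))
 (.node (.leaf 2392572201797228)
 (.leaf 70370121483040)))
 (.node (.node (.leaf 3412919998482260)
 (.leaf 1794404320804864))
 (.node (.leaf 2287106291401008)
 (.leaf 4046220677349392))))
 (.node (.node (.node (.leaf 3061057753972760)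
 (.leaf 1900042430449272))
 (.node (.leaf 3553725669966640)
 (.leaf 1125934837007484)))
 (.node (.node (.leaf 2990689314407544)
 (.leaf 1126020838066032))
 (.node (.leaf 3061058762179100)
 (.leaf 70369851998816))))))

def vecLB24 : RT := .node (.node (.node (.node (.node (.node (.leaf 2885205517926912)
 (.leaf 2814836038173288))
 (.node (.leaf 1759272260599860)
 (.leaf 1125917221978924)))
 (.node (.node (.leaf 2885135760359432)
 (.leaf 3518455835263860))
 (.node (.leaf 1794524378562568)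
 (.leaf 2427843312617060))))
 (.node (.node (.node (.leaf 3448086385395256)
 (.leaf 3975956219822384))
 (.node (.leaf 3448138529506912)
 (.leaf 1337110460105216)))
 (.node (.node (.leaf 3061161001485112)
 (.leaf 1125952152143648))
 (.node (.leaf 4187044366516788)
 (.leaf 2322290464784692)))))
 (.node (.node (.node (.node (.leaf 2920320803013944)
 (.leaf 3061093626283048))
 (.node (.leaf 3412953218417260)
 (.leaf 3025977101256272)))
 (.node (.node (.leaf 3061093827609976)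
 (.leaf 17179869456))
 (.node (.leaf 4046289865539960)
 (.leaf 2920423647872876))))
 (.node (.node (.node (.leaf 3413005763609364)
 (.leaf 2392537573622904))
 (.node (.leaf 2287106291402360)
 (.leaf 3624009553412972)))
 (.node (.node (.leaf 1899956262142816)
 (.leaf 4081491990020704))
 (.node (.leaf 1935159625516064)
 (.leaf 16))))))
 (.node (.node (.node (.node (.node (.leaf 3588858736280124)
 (.leaf 1900025852462696))
 (.node (.leaf 1161103206253884)
 (.leaf 1125969332012844)))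
 (.node (.node (.leaf 4116692702069016)
 (.leaf 3377701703385180))
 (.node (.leaf 2392623874572368)
 (.leaf 2287106562458488))))
 (.node (.node (.node (.leaf 1759271688078944)
 (.leaf 2955608155227180))
 (.node (.leaf 2498178233925948)
 (.leaf 3448189025781536)))
 (.node (.node (.leaf 105604961534584)
 (.leaf 3975903302387472))
 (.node (.leaf 3940685043991132)
 (.leaf 4187026483052880)))))
 (.node (.node (.node (.node (.leaf 3025942371893884)
 (.leaf 3147360))
 (.node (.leaf 2251885983564648)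
 (.leaf 17955291696)))
 (.node (.node (.leaf 4151877946048820)
 (.leaf 4187026583192600))
 (.node (.leaf 3588909268206104)
 (.leaf 1794422136636788))))
 (.node (.node (.node (.leaf 1935142478152564)
 (.leaf 17314086928))
 (.node (.leaf 1161102568195104)
 (.leaf 2097184)))
 (.node (.node (.leaf 3588807801701896)
 (.leaf 3412953084200532))
 (.node (.leaf 17718838056)
 (.leaf 1900043001921616))))))

def vecLB25 : RT := .node (.node (.node (.node (.node (.node (.leaf 1759235817865740)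
 (.leaf 1935243780031252))
 (.node (.leaf 1935210962747904)
 (.leaf 2427722749968472)))
 (.node (.node (.leaf 1794489852625980)
 (.leaf 4186958064519024))
 (.node (.leaf 2427721743860816)
 (.leaf 2322255634237204))))
 (.node (.node (.node (.leaf 17283154984)
 (.leaf 2427723018928248))
 (.node (.leaf 3553709093028432)
 (.leaf 4011087510373984)))
 (.node (.node (.leaf 3624025661113176)
 (.leaf 3025976899404640))
 (.node (.leaf 2322203523155752)
 (.leaf 3518455701046384)))))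
 (.node (.node (.node (.node (.leaf 4116625122920292)
 (.leaf 4046221246726756))
 (.node (.leaf 4151825498375016)
 (.leaf 4046289965679632)))
 (.node (.node (.leaf 1372260070328168)
 (.leaf 3412952946312720))
 (.node (.leaf 2920389387748124)
 (.leaf 2849987024127500))))
 (.node (.node (.node (.leaf 3553622792078856)
 (.leaf 1794454584295708))
 (.node (.leaf 3061127211123564)
 (.leaf 3518473417786196)))
 (.node (.node (.leaf 3377787465369448)
 (.leaf 1161171926779220))
 (.node (.leaf 1759236391960916)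
 (.leaf 2462907187593248))))))
 (.node (.node (.node (.node (.node (.leaf 2462907456554040)
 (.leaf 1794455190897780))
 (.node (.leaf 2427757950141220)
 (.leaf 2462942286579556)))
 (.node (.node (.leaf 3588806088853112)
 (.leaf 70369888700204))
 (.node (.leaf 1935159661692508)
 (.leaf 3518455565779560))))
 (.node (.node (.node (.leaf 3448086250651648)
 (.leaf 70368746799136))
 (.node (.leaf 3025874891835156)
 (.leaf 1337058587575636)))
 (.node (.node (.leaf 1759339266704444)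
 (.leaf 3483339610653240))
 (.node (.leaf 2251834710296344)
 (.leaf 2251920609640960)))))
 (.node (.node (.node (.node (.leaf 2287071361237368)
 (.leaf 3518471705986916))
 (.node (.leaf 4081473702331904)
 (.leaf 2251922021023744)))
 (.node (.node (.leaf 2427843311567196)
 (.leaf 2322203793688424))
 (.node (.leaf 105604758635552)
 (.leaf 2462941012559452))))
 (.node (.node (.node (.leaf 2462942016569868)
 (.leaf 2322203522630160))
 (.node (.leaf 1337076905674604)
 (.leaf 2498210677391360)))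
 (.node (.node (.leaf 1372243564692564)
 (.leaf 2392572469183332))
 (.node (.leaf 1126020199482412)
 (.leaf 2955506418189836))))))

def vecLB26 : RT := .node (.node (.node (.node (.node (.node (.leaf 70369013137440)
 (.leaf 2850020608967192))
 (.node (.leaf 1372294332024660)
 (.leaf 2322254761297756)))
 (.node (.node (.leaf 4011020232689436)
 (.leaf 3448087023452988))
 (.node (.leaf 3624110855291740)
 (.leaf 17347642736))))
 (.node (.node (.node (.leaf 3483339846059044)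
 (.leaf 1794438010504712))
 (.node (.leaf 1372293828707848)
 (.leaf 2462906048315392)))
 (.node (.node (.leaf 2392625285431384)
 (.leaf 2427808447987712))
 (.node (.leaf 1794437910365240)
 (.leaf 3377752840340052)))))
 (.node (.node (.node (.node (.leaf 17314087184)
 (.leaf 105604757586448))
 (.node (.leaf 3624112296034608)
 (.leaf 4011018418126848)))
 (.node (.node (.leaf 2392537305187416)
 (.leaf 4116642101462628))
 (.node (.leaf 4081492224377428)
 (.leaf 3483339341694756))))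
 (.node (.node (.node (.leaf 3624007710015504)
 (.leaf 1337040902292320))
 (.node (.leaf 3483306490331188)
 (.leaf 1372293692392212)))
 (.node (.node (.leaf 1935260893315184)
 (.leaf 2814872075634204))
 (.node (.leaf 3624110587381248)
 (.leaf 1372226986182432))))))
 (.node (.node (.node (.node (.node (.leaf 2621456)
 (.leaf 2286984456831032))
 (.node (.leaf 70368744701984)
 (.leaf 2885172067828860)))
 (.node (.node (.leaf 1337006139375616)
 (.leaf 4116572878667776))
 (.node (.leaf 1900042264250168)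
 (.leaf 4151756409800548))))
 (.node (.node (.node (.leaf 2955608357077276)
 (.leaf 1899956329775964))
 (.node (.leaf 1794404956241976)
 (.leaf 1372277421113424)))
 (.node (.node (.leaf 1794472066680440)
 (.leaf 1337093585896040))
 (.node (.leaf 1337076773029756)
 (.leaf 2357354342383704)))))
 (.node (.node (.node (.node (.leaf 2849986820704060)
 (.leaf 105604961010536))
 (.node (.leaf 1794455089710676)
 (.leaf 3624112698687796)))
 (.node (.node (.leaf 17820550992)
 (.leaf 2850021750866236))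
 (.node (.leaf 2885137136092756)
 (.leaf 2814768325330492))))
 (.node (.node (.node (.leaf 2322254761820500)
 (.leaf 3975904041632556))
 (.node (.leaf 1900042900734224)
 (.leaf 4081404614279444)))
 (.node (.node (.leaf 2850055877820764)
 (.leaf 1161136996091392))
 (.node (.leaf 17920689232)
 (.leaf 1161188536222548))))))

def vecLB27 : RT := .node (.node (.node (.node (.node (.node (.leaf 105604859823708)
 (.leaf 17854104888))
 (.node (.leaf 2357474197241980)
 (.leaf 2955540005652336)))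
 (.node (.node (.leaf 2357352932573208)
 (.leaf 70369014710304))
 (.node (.leaf 1125986511881276)
 (.leaf 1125934971225964))))
 (.node (.node (.node (.leaf 1125969196745488)
 (.leaf 17718837256))
 (.node (.leaf 2850020946609960)
 (.leaf 1161103072036732)))
 (.node (.node (.leaf 3940668565095028)
 (.leaf 1899992164336696))
 (.node (.leaf 3588807666958384)
 (.leaf 1372276917798428)))))
 (.node (.node (.node (.node (.leaf 3553707986780244)
 (.leaf 1899991527850016))
 (.node (.leaf 1935210864707356)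
 (.leaf 105606736774260)))
 (.node (.node (.leaf 2392573343171100)
 (.leaf 4011139788178032))
 (.node (.leaf 3624025526371344)
 (.leaf 70368744177664))))
 (.node (.node (.node (.leaf 1759322188023676)
 (.leaf 4011020131500148))
 (.node (.leaf 3975885957891596)
 (.leaf 0)))
 (.leaf 0))))
 (.leaf 0)

def vecL : RT := .node (.node (.node (.node (.node (vecLB0)
 (vecLB1))
 (.node (vecLB2)
 (vecLB3)))
 (.node (.node (vecLB4)
 (vecLB5))
 (.node (vecLB6)
 (vecLB7))))
 (.node (.node (.node (vecLB8)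
 (vecLB9))
 (.node (vecLB10)
 (vecLB11)))
 (.node (.node (vecLB12)
 (vecLB13))
 (.node (vecLB14)
 (vecLB15)))))
 (.node (.node (.node (.node (vecLB16)
 (vecLB17))
 (.node (vecLB18)
 (vecLB19)))
 (.node (.node (vecLB20)
 (vecLB21))
 (.node (vecLB22)
 (vecLB23))))
 (.node (.node (.node (vecLB24)
 (vecLB25))
 (.node (vecLB26)
 (vecLB27)))
 (.node (.node (.leaf 0)
 (.leaf 0))
 (.node (.leaf 0)
 (.leaf 0)))))

end Cfsg.Lib.RuModel.RankThree
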