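import Cfsg.Agent.RuModel.Levels
import Cfsg.Agent.RuModel.RankThree.Data
import Cfsg.Agent.RuModel.RankThree.Tabs
import Cfsg.Agent.RuModel.RankThree.Entries

/-!
Evaluation of words in the generators of the point stabiliser on the 4060 points, and the tests.
-/

set_option autoImplicit false

namespace Cfsg.Lib.RuModel.RankThree

/-- Lookup in a tree, halving the bit mask `b`; meant for the kernel. -/
noncomputable def lkB (t : RT) : ℕ → ℕ → ℕ :=
  RT.rec (motive := fun _ => ℕ → ℕ → ℕ) (fun v _ _ => v)
    (fun _ _ gl gr b i => cond (Nat.beq (Nat.land i b) 0) (gl (Nat.div b 2) i) (gr (Nat.div b 2) i)) t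

/-- Lookup in a tree of depth twelve. -/
noncomputable def lk (t : RT) (i : ℕ) : ℕ := lkB t 2048 i

/-- Lookup in a tree of depth fourteen. -/
noncomputable def lk14 (t : RT) (i : ℕ) : ℕ := lkB t 8192 i

/-- A tree has depth at most `d`. -/
def fitsOK : RT → ℕ → Bool
  | .leaf _, _ => true
  | .node _ _, 0 => false
  | .node l r, d + 1 => fitsOK l d && fitsOK r d

/-- The table of a letter. -/
def tab (l : ℕ) : RT := cond (Nat.beq l 0) tA (cond (Nat.beq l 1) tB (cond (Nat.beq l 2) tAi tBi))

/-- A word moves a point: the last letter acts first. -/
noncomputable def ev (w : List ℕ) (x : ℕ) : ℕ := w.foldr (fun l z => lk (tab l) z) x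

/-- Letters are less than four. -/
noncomputable def wordOK (w : List ℕ) : Bool := w.all fun l => Nat.ble (l + 1) 4

/-- The inverse word. -/
noncomputable def iw (w : List ℕ) : List ℕ := w.reverse.map fun l => (l + 2) % 4

/-- A power of a word. -/
noncomputable def pw (n : ℕ) (w : List ℕ) : List ℕ := (List.replicate n w).flatten

/-- The conjugate word. -/
noncomputable def cjW (r w : List ℕ) : List ℕ := r ++ w ++ iw r

/-- Expansion of a word in given words. -/
noncomputable def expW (ws : List (List ℕ)) (v : List ℕ) : List ℕ := v.flatMap fun i => ws.getD i []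

/-- A word in the two first generators acting on a point, the first letter acting first. -/
noncomputable def evG (w : List ℕ) (x : ℕ) : ℕ := w.foldl (fun z i => cond (Nat.beq i 0) (lk permT0 z) (lk permT1 z)) x

/-- The test of the tables at a point. -/
noncomputable def tabOK (x : ℕ) : Bool :=
  (lk tA x == evG (ru0Words.getD 0 []) x) && (lk tB x == evG (ru0Words.getD 1 []) x) &&
    decide (lk tAi x < 4060) && decide (lk tBi x < 4060) &&
    (lk tA (lk tAi x) == x) && (lk tB (lk tBi x) == x)

/-- The three points which determine an element. -/
noncomputable def basePts : List ℕ := [ru1.pt 0, ru2.pt 0, ru3.pt 0]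

/-- Two words agree on the three points. -/
noncomputable def eqW (u v : List ℕ) : Bool := basePts.all fun x => ev u x == ev v x

/-! The Sylow subgroup and its normaliser. -/

/-- The word of a product of powers. -/
noncomputable def abW (i j : ℕ) : List ℕ := pw i waW ++ pw j wbW

/-- The images of the three points. -/
noncomputable def code3 (w : List ℕ) : ℕ := ev w (ru1.pt 0) + 4096 * (ev w (ru2.pt 0) + 4096 * ev w (ru3.pt 0))

/-- The test of a normalising word. -/
noncomputable def normOK (i : ℕ) : Bool :=
  let n := normW.getD i []
  let e := normExp.getD i []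
  wordOK n && eqW (cjW n waW) (abW (e.getD 0 0) (e.getD 1 0)) && eqW (cjW n wbW) (abW (e.getD 2 0) (e.getD 3 0)) &&
    fList.all fun x => fList.contains (ev n x)

/-- The point fixed by the subgroup of order 7800. -/
noncomputable def pFar : ℕ := fList.getD 0 0

/-- The unpacked key. -/
noncomputable def unpack (c : ℕ) : List ℕ := [c % 4096, c / 4096 % 4096, c / 4096 / 4096 % 4096, c / 4096 / 4096 / 4096]

/-- The mask of a key. -/
noncomputable def keyMask (c : ℕ) : ℕ := (unpack c).foldl (fun s x => s ||| 1 <<< x) 0

/-- The mask of the four points. -/
noncomputable def fMask : ℕ := fList.foldl (fun s x => s ||| 1 <<< x) 0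

/-- A translate is the image of an earlier one, or a listed root. -/
noncomputable def entryOK (i : ℕ) : Bool :=
  let e := lk14 entT i
  let key := unpack (lk14 keyT i)
  if e / 16 = i then
    Nat.ble (e % 16 + 1) repW.length && (key == fList.map (ev (repW.getD (e % 16) [])))
  else
    Nat.ble (e / 16 + 1) i && Nat.ble (e % 16 + 1) normW.length &&
      (key == (unpack (lk14 keyT (e / 16))).map (ev (normW.getD (e % 16) [])))

/-- The translates differ. -/
noncomputable def srtOK (j : ℕ) : Bool :=
  Nat.ble (lk14 srtT j + 1) 14976 && Nat.ble (lk14 srtT (j + 1) + 1) 14976 &&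
    Nat.blt (keyMask (lk14 keyT (lk14 srtT j))) (keyMask (lk14 keyT (lk14 srtT (j + 1))))

/-- The alphabet of two conjugate Sylow subgroups, with inverses. -/
noncomputable def alph (k : ℕ) : List (List ℕ) :=
  let a := cjW (repW.getD k []) waW
  let b := cjW (repW.getD k []) wbW
  [waW, wbW, a, b, iw waW, iw wbW, iw a, iw b]

/-- The two generators of the large subgroup lie in the subgroup of two conjugates. -/
noncomputable def certOK (k : ℕ) : Bool :=
  (List.range 2).all fun i => (((certW.getD k []).getD i []).all fun l => Nat.ble (l + 1) 8) &&
    eqW (titsW.getD i []) (expW (alph k) ((certW.getD k []).getD i []))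

/-- The index of the conjugate giving the subgroup of order 7800. -/
noncomputable def kMid : ℕ := 13

/-- A point fixed by the subgroup of order 7800. -/
noncomputable def fixOK (x : ℕ) : Bool :=
  !(((alph kMid).take 4).all fun w => ev w x == x) || x == ru0.pt 0 || x == pFar

/-- The test of a tree: every listed point is the image of an earlier one. -/
noncomputable def treeOK (gens : List (List ℕ)) : List ℕ → ℕ → ℕ → Bool
  | [], seen, mask => seen == mask
  | e :: r, seen, mask =>
    seen.testBit (e / 16 % 4096) && Nat.ble (e % 16 + 1) gens.length &&
      (ev (gens.getD (e % 16) []) (e / 16 % 4096) == e / 65536) &&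
      treeOK gens r (seen ||| 1 <<< (e / 65536)) mask

/-- The single letters. -/
noncomputable def letters : List (List ℕ) := [[0], [1], [2], [3]]

/-- The number of set bits below 4060. -/
noncomputable def pop (m : ℕ) : ℕ := (List.range 4060).countP fun x => m.testBit x

/-- The suborbit masks and their invariance. -/
noncomputable def maskOK (x : ℕ) : Bool :=
  ((mask1 ||| mask2).testBit x != (x == ru0.pt 0)) && !(mask1.testBit x && mask2.testBit x) &&
    (mask1.testBit (ev [0] x) == mask1.testBit x) && (mask1.testBit (ev [1] x) == mask1.testBit x)

/-- The classes of a subgroup are orbits. -/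
noncomputable def classesOK (gens : List (List ℕ)) (cs : List (ℕ × ℕ × List ℕ)) : Bool :=
  cs.all fun c => treeOK gens c.2.2 (1 <<< c.1) c.2.1

/-- The classes cover a mask without overlap. -/
noncomputable def coverOK (ms : List ℕ) (mask : ℕ) : Bool :=
  (List.range 4060).all fun x => ((ms.countP fun m => m.testBit x) == if mask.testBit x then 1 else 0)

/-- The neighbours of the second base point other than the first. -/
noncomputable def nMask : ℕ := hMask1 ||| hMask2 ||| hMask3 ||| hMask5

/-- The class of a point around the second base point. -/
noncomputable def clsOf (z : ℕ) : ℕ :=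
  bif hMask0.testBit z then 0 else bif hMask1.testBit z then 1 else bif hMask2.testBit z then 2 else
    bif hMask3.testBit z then 3 else 4

/-- The number of common neighbours with the representative of a class. -/
noncomputable def cntOK (c : ℕ) : Bool :=
  let v := clsW.getD c []
  wordOK v && (clsOf (ev v (ru1.pt 0)) == c) && mask1.testBit (ev v (ru1.pt 0)) &&
    (((List.range 4060).countP fun z => mask1.testBit z && nMask.testBit z && nMask.testBit (ev (iw v) z))
      == clsCnt.getD c 0)

/-- The class pattern of a point over the separating points. -/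
noncomputable def code (y : ℕ) : ℕ :=
  ((List.range sepW.length).map fun t => clsOf (ev (iw (sepW.getD t [])) y) * 8 ^ t).sum

/-- The adjacency pattern of a far point. -/
noncomputable def codeFar (y : ℕ) : ℕ :=
  ((List.range sepW2.length).map fun t =>
    bif nMask.testBit (ev (iw (sepW2.getD t [])) y) then 2 ^ t else 0).sum

/-- A table of patterns is correct, increasing from `prev`, and lists the mask. -/
noncomputable def codesOK (f : ℕ → ℕ) : List ℕ → ℕ → ℕ → ℕ → Bool
  | [], _, seen, mask => seen == mask
  | e :: r, prev, seen, mask =>
    Nat.ble prev (e / 4096) && (f (e % 4096) == e / 4096) &&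
      codesOK f r (e / 4096 + 1) (seen ||| 1 <<< (e % 4096)) mask

/-- A separating point is determined by the earlier ones. -/
noncomputable def roundOK (t : ℕ) : Bool :=
  let d := ev (sepW.getD t []) (ru1.pt 0)
  let c := code d % 8 ^ t
  code1.all fun e => !(e / 4096 % 8 ^ t == c) || e % 4096 == d

/-- The number of points with a given pattern over the first separating points. -/
noncomputable def candN (t : ℕ) : ℕ :=
  let c := code (ev (sepW.getD t []) (ru1.pt 0)) % 8 ^ t
  code1.countP fun e => e / 4096 % 8 ^ t == c

end Cfsg.Lib.RuModel.RankThree
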