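import Cfsg.Agent.RuModel.RankThree.CheckFive
import Cfsg.Agent.RuModel.RankThree.Base

/-!
The Sylow subgroup for the prime five and its normaliser as the stabiliser of four points.
-/

set_option autoImplicit false
set_option linter.all false
set_option maxRecDepth 100000

namespace Cfsg.Lib.RuModel.RankThree

open MulAction
open scoped Pointwise

/-- The first generator. -/
noncomputable def ga : P := wP waW
/-- The second generator. -/
noncomputable def gb : P := wP wbW

theorem ga_five : ga ^ 5 = 1 := by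
  rw [ga, ← wP_pw, eqW_sound ab_ok.2.2.2.1, wP_nil]

theorem gb_five : gb ^ 5 = 1 := by
  rw [gb, ← wP_pw, eqW_sound ab_ok.2.2.2.2, wP_nil]

theorem ga_gb : Commute ga gb := by
  have h := eqW_sound ab_ok.2.2.1
  rwa [wP_append, wP_append] at h

theorem abW_eq (i j : ℕ) : wP (abW i j) = ga ^ i * gb ^ j := by
  rw [abW, wP_append, wP_pw, wP_pw, ga, gb]

attribute [local irreducible] ga gb RT.get ev

/-- The elementary abelian subgroup of order 25. -/
noncomputable def P5 : Subgroup P where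
  carrier := {x | ∃ i j : ℕ, x = ga ^ i * gb ^ j}
  one_mem' := ⟨0, 0, by simp⟩
  mul_mem' := by
    rintro _ _ ⟨i, j, rfl⟩ ⟨i', j', rfl⟩
    refine ⟨i + i', j + j', ?_⟩
    rw [pow_add, pow_add, mul_assoc, ← mul_assoc (gb ^ j), ← (ga_gb.pow_pow i' j).eq]
    simp [mul_assoc]
  inv_mem' := by
    rintro _ ⟨i, j, rfl⟩
    refine ⟨4 * i, 4 * j, ?_⟩
    rw [mul_inv_rev, (ga_gb.pow_pow i j).inv_inv.symm.eq]
    refine congrArg₂ (· * ·) (inv_eq_of_mul_eq_one_right ?_) (inv_eq_of_mul_eq_one_right ?_)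
    · rw [← pow_add, show i + 4 * i = 5 * i by ring, pow_mul, ga_five, one_pow]
    · rw [← pow_add, show j + 4 * j = 5 * j by ring, pow_mul, gb_five, one_pow]

theorem ga_mem : ga ∈ P5 := ⟨1, 0, by simp⟩

theorem gb_mem : gb ∈ P5 := ⟨0, 1, by simp⟩

theorem P5_le {S : Subgroup P} (ha : ga ∈ S) (hb : gb ∈ S) : P5 ≤ S := by
  rintro _ ⟨i, j, rfl⟩
  exact mul_mem (pow_mem ha i) (pow_mem hb j)

theorem card_P5 : Nat.card P5 = 25 := by
  apply le_antisymm
  · let f : Fin 5 × Fin 5 → P5 := fun p => ⟨ga ^ p.1.val * gb ^ p.2.val, _, _, rfl⟩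
    have hf : Function.Surjective f := by
      rintro ⟨_, i, j, rfl⟩
      refine ⟨(⟨i % 5, Nat.mod_lt _ (by norm_num)⟩, ⟨j % 5, Nat.mod_lt _ (by norm_num)⟩), Subtype.ext ?_⟩
      show ga ^ (i % 5) * gb ^ (j % 5) = _
      rw [← pow_eq_pow_mod i ga_five, ← pow_eq_pow_mod j gb_five]
    simpa using Nat.card_le_card_of_surjective f hf
  · let f : Fin 25 → P5 := fun k => ⟨ga ^ (k.val % 5) * gb ^ (k.val / 5), _, _, rfl⟩
    have hf : Function.Injective f := by
      intro k l e
      have e1 : wP (abW (k.val % 5) (k.val / 5)) = wP (abW (l.val % 5) (l.val / 5)) := by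
        rw [abW_eq, abW_eq]; exact congrArg Subtype.val e
      have e2 : code3 (abW (k.val % 5) (k.val / 5)) = code3 (abW (l.val % 5) (l.val / 5)) := by
        simp only [code3, show ru1.pt 0 = b1.val from rfl, show ru2.pt 0 = b2.val from rfl,
          show ru3.pt 0 = b3.val from rfl, ← wP_smul, e1]
      exact Fin.ext (List.inj_on_of_nodup_map ab_distinct (List.mem_range.2 k.isLt) (List.mem_range.2 l.isLt) e2)
    simpa using Nat.card_le_card_of_injective f hf

/-- A point of the four. -/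
noncomputable def fPt (i : Fin 4) : Fin 4060 :=
  ⟨fList.getD i.val 0, Nat.le_of_ble_eq_true (List.all_eq_true.1 f_ok.2.2.1 _ (by
    rw [List.getD_eq_getElem _ _ (f_ok.1.symm ▸ i.isLt)]; exact List.getElem_mem _))⟩

/-- The four points. -/
noncomputable def fSet : Set (Fin 4060) := {x | x.val ∈ fList}

theorem fSet_card : fSet.ncard = 4 := by
  rw [← f_ok.1, ← List.toFinset_card_of_nodup f_ok.2.1, ← Set.ncard_image_of_injective _ Fin.val_injective,
    ← Set.ncard_coe_finset]
  congr 1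
  ext n
  simp only [fSet, Set.mem_image, Set.mem_ofPred_eq, List.coe_toFinset]
  exact ⟨fun ⟨x, hx, e⟩ => e ▸ hx,
    fun h => ⟨⟨n, Nat.le_of_ble_eq_true (List.all_eq_true.1 f_ok.2.2.1 _ h)⟩, h, rfl⟩⟩

theorem fPt_mem (i : Fin 4) : fPt i ∈ fSet := by
  show fList.getD i.val 0 ∈ fList
  rw [List.getD_eq_getElem _ _ (f_ok.1.symm ▸ i.isLt)]
  exact List.getElem_mem _

/-- The generators of the normaliser. -/
noncomputable def nGen : Set P := {g | ∃ i < 2, g = wP (normW.getD i [])}

/-- The normaliser. -/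
noncomputable def N5 : Subgroup P := Subgroup.closure nGen

theorem norm_fact {i : ℕ} (hi : i < 2) : wordOK (normW.getD i []) = true ∧
    (∃ k l, wP (normW.getD i []) * ga * (wP (normW.getD i []))⁻¹ = ga ^ k * gb ^ l) ∧
    (∃ k l, wP (normW.getD i []) * gb * (wP (normW.getD i []))⁻¹ = ga ^ k * gb ^ l) ∧
    ∀ x ∈ fSet, wP (normW.getD i []) • x ∈ fSet := by
  have h := List.all_eq_true.1 norm_ok.1 i (List.mem_range.2 (norm_ok.2.symm ▸ hi))
  simp only [normOK, Bool.and_eq_true, List.all_eq_true, List.contains_iff_mem] at h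
  obtain ⟨⟨⟨hw, ha⟩, hb⟩, hF⟩ := h
  refine ⟨hw, ⟨(normExp.getD i []).getD 0 0, (normExp.getD i []).getD 1 0, ?_⟩,
    ⟨(normExp.getD i []).getD 2 0, (normExp.getD i []).getD 3 0, ?_⟩, fun x hx => ?_⟩
  · rw [← abW_eq, ← eqW_sound ha, cjW, wP_append, wP_append, wP_iw hw, ga]
  · rw [← abW_eq, ← eqW_sound hb, cjW, wP_append, wP_append, wP_iw hw, gb]
  · show (wP (normW.getD i []) • x).val ∈ fList
    rw [wP_smul]
    exact hF _ hx

theorem N5_le_stab : N5 ≤ stabilizer P fSet := by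
  refine (Subgroup.closure_le _).2 ?_
  rintro _ ⟨i, hi, rfl⟩
  rw [SetLike.mem_coe, mem_stabilizer_iff]
  refine Set.eq_of_subset_of_ncard_le ?_ (by rw [Set.ncard_smul_set]) (Set.toFinite _)
  rintro _ ⟨x, hx, rfl⟩
  exact (norm_fact hi).2.2.2 x hx

theorem N5_conj {n : P} (hn : n ∈ N5) {q : P} (hq : q ∈ P5) : n * q * n⁻¹ ∈ P5 := by
  suffices h : N5 ≤ Subgroup.normalizer (P5 : Set P) from (Subgroup.mem_normalizer_iff.1 (h hn) q).1 hq
  refine (Subgroup.closure_le _).2 ?_
  rintro _ ⟨i, hi, rfl⟩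
  obtain ⟨-, ha, hb, -⟩ := norm_fact hi
  set n := wP (normW.getD i [])
  have hle : P5.map (MulAut.conj n).toMonoidHom ≤ P5 := by
    rw [Subgroup.map_le_iff_le_comap]
    exact P5_le ha hb
  have heq : P5.map (MulAut.conj n).toMonoidHom = P5 :=
    Subgroup.eq_of_le_of_card_ge hle (le_of_eq (Subgroup.card_map_of_injective (MulAut.conj n).injective).symm)
  rw [SetLike.mem_coe, Subgroup.mem_normalizer_iff]
  intro q
  constructor
  · exact fun hq => hle ⟨q, hq, rfl⟩
  · intro hq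
    obtain ⟨p, hp, e⟩ := heq.ge hq
    have : p = q := (MulAut.conj n).injective e
    exact this ▸ hp

theorem expN_mem : ∀ {v : List ℕ}, v.all (fun l => Nat.ble (l + 1) 2) = true → wP (expW normW v) ∈ N5
  | [], _ => one_mem _
  | l :: v, h => by
    simp only [List.all_cons, Bool.and_eq_true] at h
    rw [show expW normW (l :: v) = normW.getD l [] ++ expW normW v from rfl, wP_append]
    exact mul_mem (Subgroup.subset_closure ⟨l, Nat.le_of_ble_eq_true h.1, rfl⟩) (expN_mem h.2)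

theorem P5_le_N5 : P5 ≤ N5 := by
  obtain ⟨ha, hb, -, hall, -⟩ := normN_ok
  simp only [List.all_append, Bool.and_eq_true] at hall
  refine P5_le ?_ ?_
  · rw [ga, eqW_sound ha]; exact expN_mem hall.1.2
  · rw [gb, eqW_sound hb]; exact expN_mem hall.2

theorem pOne_eq : pOne = fPt 0 := rfl

theorem pOne_fix_five {q : P} (hq : q ∈ P5) : q • pOne = pOne := by
  suffices h : P5 ≤ stabilizer P pOne from mem_stabilizer_iff.1 (h hq)
  have h := List.all_eq_true.1 f_ok.2.2.2 pOne.val (fPt_mem 0)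
  simp only [Bool.and_eq_true, beq_iff_eq] at h
  exact P5_le (mem_stabilizer_iff.2 (Fin.ext (by rw [ga, wP_smul]; exact h.1)))
    (mem_stabilizer_iff.2 (Fin.ext (by rw [gb, wP_smul]; exact h.2)))

theorem card_N5_ge : 2400 ≤ Nat.card N5 := by
  classical
  haveI : Finite N5 := Subtype.finite
  obtain ⟨-, -, htr, hall, h8, h3, e8, n8, e3, n3⟩ := normN_ok
  simp only [List.all_append, Bool.and_eq_true] at hall
  set s8 : N5 := ⟨_, expN_mem hall.1.1.1⟩ with hs8
  set s3 : N5 := ⟨_, expN_mem hall.1.1.2⟩ with hs3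
  have horb : 4 ≤ (orbit N5 pOne).ncard := by
    refine fSet_card.symm.le.trans (Set.ncard_le_ncard (fun x hx => ?_) (Set.toFinite _))
    obtain ⟨i, hi, e⟩ := List.getElem_of_mem (show x.val ∈ fList from hx)
    rw [f_ok.1] at hi
    have h := List.all_eq_true.1 htr i (List.mem_range.2 hi)
    simp only [Bool.and_eq_true, beq_iff_eq] at h
    refine ⟨⟨_, expN_mem h.1⟩, Fin.ext ((wP_smul _ _).trans ?_)⟩
    rw [show pOne.val = pFar from rfl, h.2, List.getD_eq_getElem _ _ (f_ok.1.symm ▸ hi), e]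
  have hstab : 600 ∣ Nat.card (stabilizer N5 pOne) := by
    have h8m : s8 ∈ stabilizer N5 pOne := mem_stabilizer_iff.2 (Fin.ext ((wP_smul _ _).trans h8))
    have h3m : s3 ∈ stabilizer N5 pOne := mem_stabilizer_iff.2 (Fin.ext ((wP_smul _ _).trans h3))
    have d25 : 25 ∣ Nat.card (stabilizer N5 pOne) := by
      rw [← card_P5, ← Nat.card_congr (Subgroup.subgroupOfEquivOfLe P5_le_N5).toEquiv]
      exact Subgroup.card_dvd_of_le fun q hq => mem_stabilizer_iff.2 (pOne_fix_five hq)
    have d8 : 8 ∣ Nat.card (stabilizer N5 pOne) := by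
      have : orderOf (⟨s8, h8m⟩ : stabilizer N5 pOne) = 8 := by
        rw [← Subgroup.orderOf_coe, ← Subgroup.orderOf_coe]
        haveI : Fact (Nat.Prime 2) := ⟨Nat.prime_two⟩
        refine orderOf_eq_prime_pow (n := 2) (p := 2) ?_ ?_
        · show ¬ (wP (expW normW eightN)) ^ 2 ^ 2 = 1
          rw [show (2 : ℕ) ^ 2 = 4 from rfl, ← wP_pw]
          exact fun e => eqW_false n8 (e.trans wP_nil.symm)
        · show (wP (expW normW eightN)) ^ 2 ^ 3 = 1
          rw [show (2 : ℕ) ^ 3 = 8 from rfl, ← wP_pw, eqW_sound e8, wP_nil]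
      exact this ▸ orderOf_dvd_natCard _
    have d3 : 3 ∣ Nat.card (stabilizer N5 pOne) := by
      have : orderOf (⟨s3, h3m⟩ : stabilizer N5 pOne) = 3 := by
        rw [← Subgroup.orderOf_coe, ← Subgroup.orderOf_coe]
        haveI : Fact (Nat.Prime 3) := ⟨Nat.prime_three⟩
        refine orderOf_eq_prime ?_ fun e => eqW_false n3 (e.trans wP_nil.symm)
        show (wP (expW normW threeN)) ^ 3 = 1
        rw [← wP_pw, eqW_sound e3, wP_nil]
      exact this ▸ orderOf_dvd_natCard _
    have h200 := Nat.Coprime.mul_dvd_of_dvd_of_dvd (by norm_num : Nat.Coprime 25 8) d25 d8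
    exact Nat.Coprime.mul_dvd_of_dvd_of_dvd (by norm_num : Nat.Coprime 200 3) h200 d3
  have h600 : 600 ≤ Nat.card (stabilizer N5 pOne) := Nat.le_of_dvd Nat.card_pos hstab
  rw [← Subgroup.card_mul_index (stabilizer N5 pOne), index_stabilizer]
  exact le_trans (by norm_num) (Nat.mul_le_mul h600 horb)

end Cfsg.Lib.RuModel.RankThree
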