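import Cfsg.Agent.RuModel.RankThree.CheckIso
import Cfsg.Agent.RuModel.RankThree.Base

/-!
The group `²F₄(2)` is the point stabiliser of the model.
-/

set_option autoImplicit false
set_option linter.all false
set_option maxRecDepth 100000

open Cfsg.Lie Cfsg.Lib.Chev Cfsg.Lib.Chev.ReeF Cfsg.Lib.TitsComm
open Cfsg.Lib.TitsInvol (runR wG wG_append)
open Cfsg.Lib.TitsPacked (runQ runQ_eq)

namespace Cfsg.Lib.RuModel.RankThree

attribute [local irreducible] RT.get lkB lk vec chk Cfsg.Lib.TitsPacked.runQ ev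

/-- A subgroup containing the eight generators contains the group. -/
theorem G1_le (X : RF (ZMod 2)) (K : Subgroup (GL chevF4.Idx (ZMod 2)))
    (hK : ∀ i, i < 8 → wG (genW.getD i []) ∈ K) : X.G1 ≤ K := by
  refine (Subgroup.closure_le _).2 fun y hy => ?_
  have h0 : 2 * X.e ≠ 0 := Nat.mul_ne_zero two_ne_zero X.e_pos.ne'
  rcases (X.G1_gens y).1 hy with ⟨t, rfl | rfl⟩ | ⟨t, u, rfl | rfl⟩
  · rcases two_cases t with rfl | rfl
    · simp [RF.yP, zero_pow X.e_pos.ne', SF.xG_zero, one_mem]
    · simpa [genW, wG, RF.yP] using hK 0 (by norm_num)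
  · rcases two_cases t with rfl | rfl
    · simp [RF.yP, zero_pow X.e_pos.ne', SF.xG_zero, one_mem]
    · simpa [genW, wG, RF.yP] using hK 1 (by norm_num)
  · rcases two_cases t with rfl | rfl <;> rcases two_cases u with rfl | rfl <;>
      simp only [RF.y4, one_pow, zero_pow h0, zero_pow X.e_pos.ne', zero_pow (Nat.succ_ne_zero X.e), SF.xG_zero,
        add_zero, zero_add, mul_one, one_mul, show (1 : ZMod 2) + 1 = 0 from rfl, SetLike.mem_coe]
    · exact one_mem _
    · simpa [genW, wG, mul_assoc] using hK 3 (by norm_num)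
    · simpa [genW, wG, mul_assoc] using hK 2 (by norm_num)
    · simpa [genW, wG, mul_assoc] using hK 4 (by norm_num)
  · rcases two_cases t with rfl | rfl <;> rcases two_cases u with rfl | rfl <;>
      simp only [RF.y4, one_pow, zero_pow h0, zero_pow X.e_pos.ne', zero_pow (Nat.succ_ne_zero X.e), SF.xG_zero,
        add_zero, zero_add, mul_one, one_mul, show (1 : ZMod 2) + 1 = 0 from rfl, SetLike.mem_coe]
    · exact one_mem _
    · simpa [genW, wG, mul_assoc] using hK 6 (by norm_num)
    · simpa [genW, wG, mul_assoc] using hK 5 (by norm_num)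
    · simpa [genW, wG, mul_assoc] using hK 7 (by norm_num)

theorem pt_lt (i : Fin 1755) : ru1.pt i.val < 4060 := (level1.ptsLt i.val i.isLt).1

/-- The point with a number. -/
def ptF (i : Fin 1755) : Fin 4060 := ⟨ru1.pt i.val, pt_lt i⟩

theorem pos_ptF (i : Fin 1755) : ru1.pos.get 12 (ptF i).val = i.val := (level1.ptsLt i.val i.isLt).2

theorem ptF_inj : Function.Injective ptF := fun i j e =>
  Fin.ext (by rw [← pos_ptF i, ← pos_ptF j, e])

theorem ptF_mem (i : Fin 1755) : ∃ g : P, g • b1 = ptF i := by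
  obtain ⟨h, hh, -, e⟩ := level1.elems i.val i.isLt
  exact ⟨⟨h, hh⟩, Fin.ext e⟩

theorem smul_ptF (g : P) (i : Fin 1755) : ∃ j : Fin 1755, g • ptF i = ptF j := by
  obtain ⟨k, hk⟩ := ptF_mem i
  obtain ⟨j, hj, e⟩ := level1.orbit (g * k : P).1 (g * k : P).2
  exact ⟨⟨j, hj⟩, by rw [← hk, ← mul_smul]; exact Fin.ext e⟩

/-- The number of an image. -/
noncomputable def resF (g : P) (i : Fin 1755) : Fin 1755 := (smul_ptF g i).choose

theorem resF_spec (g : P) (i : Fin 1755) : g • ptF i = ptF (resF g i) := (smul_ptF g i).choose_spec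

/-- The action of the stabiliser on the numbers. -/
noncomputable def res : P →* Equiv.Perm (Fin 1755) where
  toFun g :=
    { toFun := resF g
      invFun := resF g⁻¹
      left_inv := fun i => ptF_inj (by rw [← resF_spec, ← resF_spec, inv_smul_smul])
      right_inv := fun i => ptF_inj (by rw [← resF_spec, ← resF_spec, smul_inv_smul]) }
  map_one' := Equiv.ext fun i => ptF_inj (by
    show ptF (resF 1 i) = ptF i
    rw [← resF_spec, one_smul])
  map_mul' g h := Equiv.ext fun i => ptF_inj (by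
    show ptF (resF (g * h) i) = ptF (resF g (resF h i))
    rw [← resF_spec, ← resF_spec, ← resF_spec, mul_smul])

/-- The vector of a number. -/
noncomputable def vfun (i : Fin 1755) : chevF4.Idx → ZMod 2 := fun a => Word.bitV (vec i.val) (enc chevF4.rank chevF4.nroots a)

theorem srtV_spec : ∀ {l : List ℕ}, srtV l = true → (∀ a ∈ l, a < 1755) ∧ (l.map vec).Pairwise (· < ·)
  | [], _ => by simp
  | [a], h => by
    simp only [srtV] at h
    exact ⟨fun x hx => (List.mem_singleton.1 hx) ▸ Nat.le_of_ble_eq_true h, by simp⟩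
  | a :: b :: r, h => by
    simp only [srtV, Bool.and_eq_true] at h
    obtain ⟨⟨h1, h2⟩, h3⟩ := h
    obtain ⟨hlt, hp⟩ := srtV_spec h3
    have hab : vec a < vec b := Nat.le_of_ble_eq_true h2
    refine ⟨fun x hx => ?_, ?_⟩
    · rcases List.mem_cons.1 hx with rfl | hx
      · exact Nat.le_of_ble_eq_true h1
      · exact hlt x hx
    · rw [List.map_cons, List.pairwise_cons]
      refine ⟨fun y hy => ?_, hp⟩
      rw [List.map_cons, List.pairwise_cons] at hp
      rcases List.mem_cons.1 hy with rfl | hy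
      · exact hab
      · exact hab.trans (hp.1 y hy)

theorem vec_inj : Function.Injective fun i : Fin 1755 => vec i.val := by
  obtain ⟨hlen, hs⟩ := vec_srt
  obtain ⟨hb, hp⟩ := srtV_spec hs
  have hlt : ∀ j < 1755, vecSrt.getD j 0 < 1755 := fun j hj => by
    rw [List.getD_eq_getElem _ _ (hlen.symm ▸ hj)]
    exact hb _ (List.getElem_mem _)
  have hmono : StrictMono fun j : Fin 1755 => vec (vecSrt.getD j.val 0) := by
    intro i j hij
    have := List.pairwise_iff_getElem.1 hp i.val j.val (by simp [hlen]) (by simp [hlen]) hij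
    simpa [List.getD_eq_getElem, hlen, i.isLt, j.isLt] using this
  let σ : Fin 1755 → Fin 1755 := fun j => ⟨vecSrt.getD j.val 0, hlt j.val j.isLt⟩
  have hσ : Function.Bijective σ := (Fintype.bijective_iff_injective_and_card σ).2
    ⟨fun a b e => hmono.injective (congrArg (fun z : Fin 1755 => vec z.val) e), rfl⟩
  intro i j e
  obtain ⟨a, rfl⟩ := hσ.2 i
  obtain ⟨b, rfl⟩ := hσ.2 j
  rw [hmono.injective e]

theorem vec_lt (i : Fin 1755) : vec i.val < 2 ^ 52 := Nat.le_of_ble_eq_true (chk_apply vec_small i.isLt :)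

theorem vfun_inj : Function.Injective vfun := by
  intro i j e
  refine vec_inj (Nat.eq_of_testBit_eq fun n => ?_)
  by_cases hn : n < 52
  · have hc : chevF4.rank + chevF4.nroots = 52 := by decide +kernel
    obtain ⟨a, ha⟩ := exists_enc chevF4.rank chevF4.nroots (show n < chevF4.rank + chevF4.nroots by rw [hc]; exact hn)
    have := congrFun e a
    simp only [vfun, ha] at this
    exact bitV_inj this
  · have hp : ∀ k : Fin 1755, (vec k.val).testBit n = false := fun k =>
      Nat.testBit_lt_two_pow ((vec_lt k).trans_le (Nat.pow_le_pow_right two_pos (not_lt.1 hn)))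
    simp [hp]

theorem genW_roots {k : ℕ} : ∀ r ∈ genW.getD k [], r < 48 := fun r hr =>
  gw_roots (l := [k]) (by simpa [gw] using hr)

theorem gen_vfun {k : ℕ} (hk : k < 8) (i : Fin 1755) :
    Matrix.vecMul (vfun i) (wG (genW.getD k []) : Matrix chevF4.Idx chevF4.Idx (ZMod 2)) =
      vfun (res (wP (isoW.getD k [])) i) := by
  have h : Nat.beq (runQ (genW.getD k []) (vec i.val) % 2 ^ 52) (vec (imgIdx (isoW.getD k []) i.val)) = true := by
    have h0 := chk_apply (f := isoOK k) (iso_ok k hk) i.isLt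
    rw [isoOK] at h0
    exact h0
  have hidx : imgIdx (isoW.getD k []) i.val = (res (wP (isoW.getD k [])) i).val := by
    rw [imgIdx, show ru1.pt i.val = (ptF i).val from rfl, ← wP_smul, resF_spec, pos_ptF]
    rfl
  rw [hidx, runQ_eq] at h
  funext a
  refine (bitV_run (genW_roots (k := k)) (vec i.val) a).trans ?_
  show Word.bitV _ _ = Word.bitV _ _
  rw [← Nat.eq_of_beq_eq_true h]
  unfold Word.bitV
  rw [Nat.testBit_mod_two_pow, decide_eq_true (show enc chevF4.rank chevF4.nroots a < 52 from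
    (enc_lt chevF4.rank chevF4.nroots a).trans_eq (by decide +kernel)), Bool.true_and]

/-- The matrices permuting the vectors. -/
noncomputable def permuting : Subgroup (GL chevF4.Idx (ZMod 2)) where
  carrier := {g | ∀ i, ∃ j, Matrix.vecMul (vfun i) (g : Matrix chevF4.Idx chevF4.Idx (ZMod 2)) = vfun j}
  one_mem' := fun i => ⟨i, by simp⟩
  mul_mem' := by
    intro g h hg hh i
    obtain ⟨j, hj⟩ := hg i
    obtain ⟨k, hk⟩ := hh j
    exact ⟨k, by rw [Units.val_mul, ← Matrix.vecMul_vecMul, hj, hk]⟩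
  inv_mem' := by
    intro g hg i
    choose q hq using hg
    have hinj : Function.Injective q := fun a b e => by
      refine vfun_inj ?_
      have := congrArg (fun v => Matrix.vecMul v ((g⁻¹ : GL chevF4.Idx (ZMod 2)) : Matrix chevF4.Idx chevF4.Idx (ZMod 2)))
        ((hq a).trans (e ▸ (hq b).symm))
      simpa [Matrix.vecMul_vecMul] using this
    obtain ⟨j, rfl⟩ := (Finite.injective_iff_surjective.1 hinj) i
    refine ⟨j, ?_⟩
    rw [← hq j, Matrix.vecMul_vecMul, ← Units.val_mul, mul_inv_cancel, Units.val_one, Matrix.vecMul_one]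

theorem G1_permuting (X : RF (ZMod 2)) : X.G1 ≤ permuting :=
  G1_le X permuting fun _ hk i => ⟨_, gen_vfun hk i⟩

variable (X : RF (ZMod 2))

/-- The number of the image of a vector. -/
noncomputable def imgV (g : X.G1) (i : Fin 1755) : Fin 1755 := (G1_permuting X g.2 i).choose

theorem imgV_spec (g : X.G1) (i : Fin 1755) :
    Matrix.vecMul (vfun i) (g.1 : Matrix chevF4.Idx chevF4.Idx (ZMod 2)) = vfun (imgV X g i) :=
  (G1_permuting X g.2 i).choose_spec

theorem imgV_mul (g h : X.G1) (i : Fin 1755) : imgV X (g * h) i = imgV X h (imgV X g i) :=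
  vfun_inj (by rw [← imgV_spec, ← imgV_spec, ← imgV_spec, Subgroup.coe_mul, Units.val_mul, Matrix.vecMul_vecMul])

theorem imgV_one (i : Fin 1755) : imgV X 1 i = i :=
  vfun_inj (by rw [← imgV_spec, OneMemClass.coe_one, Units.val_one, Matrix.vecMul_one])

/-- The action on the vectors. -/
noncomputable def rho : X.G1 →* Equiv.Perm (Fin 1755) where
  toFun g :=
    { toFun := imgV X g⁻¹
      invFun := imgV X g
      left_inv := fun i => by rw [← imgV_mul, inv_mul_cancel, imgV_one]
      right_inv := fun i => by rw [← imgV_mul, mul_inv_cancel, imgV_one] }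
  map_one' := Equiv.ext fun i => by simp [imgV_one]
  map_mul' g h := Equiv.ext fun i => by
    show imgV X (g * h)⁻¹ i = imgV X g⁻¹ (imgV X h⁻¹ i)
    rw [mul_inv_rev, imgV_mul]

theorem rho_range : (rho X).range ≤ res.range := by
  have h : X.G1 ≤ (res.range.comap (rho X)).map X.G1.subtype := by
    refine G1_le X _ fun k hk => ?_
    refine ⟨⟨_, genW_mem X hk⟩, ?_, rfl⟩
    rw [SetLike.mem_coe, Subgroup.mem_comap, ← inv_mem_iff]
    refine ⟨wP (isoW.getD k []), Equiv.ext fun i => vfun_inj ?_⟩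
    show _ = vfun (imgV X ⟨wG (genW.getD k []), genW_mem X hk⟩ i)
    rw [← imgV_spec, gen_vfun hk]
  rintro _ ⟨g, rfl⟩
  obtain ⟨g', hg', e⟩ := h g.2
  rwa [show g' = g from Subtype.ext e] at hg'

theorem rho_injective : Function.Injective (rho X) := by
  haveI : Finite X.G1 := Subtype.finite
  rw [← MonoidHom.ker_eq_bot_iff]
  rcases normal_cases X (rho X).ker with h | h
  · exact h
  exfalso
  obtain ⟨hl, -⟩ := Cfsg.Lib.TitsMult.okW_spec X
    (List.all_eq_true.1 Cfsg.Lib.TitsTwoTrans.ok_words Cfsg.Lib.TitsTwoTrans.aW (by simp))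
  have h5 : (⟨wG (gw Cfsg.Lib.TitsTwoTrans.aW), gw_mem X _ hl⟩ : X.G1) ^ 5 = 1 := by
    refine Subtype.ext ?_
    have heq := Cfsg.Lib.TitsTwoTrans.ok_eqs
    simp only [Bool.and_eq_true] at heq
    obtain ⟨⟨⟨⟨⟨⟨⟨ea, -⟩, -⟩, -⟩, -⟩, -⟩, -⟩, -⟩ := heq
    have e := Cfsg.Lib.TitsMult.sameW_sound ea
    simp only [show gw [] = [] from rfl, Cfsg.Lib.TitsComm.wG_nil] at e
    rw [SubgroupClass.coe_pow, OneMemClass.coe_one, ← wG_pow, ← e]
    congr 1
  have hmem : (⟨wG (gw Cfsg.Lib.TitsTwoTrans.aW), gw_mem X _ hl⟩ : X.G1) ∈ (rho X).ker :=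
    oddGen_le (n := 12) (by norm_num; exact h) (odd_of_pow_eq_one h5 (by norm_num))
  obtain ⟨i, hi, hne⟩ := List.any_eq_true.1 odd_moves
  rw [List.mem_range] at hi
  have e : ∀ j, imgV X ⟨wG (gw Cfsg.Lib.TitsTwoTrans.aW), gw_mem X _ hl⟩ j = j := fun j => by
    have := congrArg (fun p : Equiv.Perm (Fin 1755) => p.symm j) (MonoidHom.mem_ker.1 hmem)
    exact this
  have h1 := congrArg vfun (e ⟨i, hi⟩)
  rw [← imgV_spec] at h1
  rw [Bool.not_eq_true'] at hne
  refine Nat.ne_of_beq_eq_false hne (Nat.eq_of_testBit_eq fun n => ?_)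
  rw [runQ_eq, Nat.testBit_mod_two_pow]
  by_cases hn : n < 52
  · have hc : chevF4.rank + chevF4.nroots = 52 := by decide +kernel
    obtain ⟨a, ha⟩ := exists_enc chevF4.rank chevF4.nroots (show n < chevF4.rank + chevF4.nroots by rw [hc]; exact hn)
    have := (bitV_run (fun r hr => gw_roots hr) (vec i) a).symm.trans (congrFun h1 a)
    simp only [vfun, ha] at this
    simp [hn, bitV_inj this]
  · have := vec_lt ⟨i, hi⟩
    simp [hn, Nat.testBit_lt_two_pow (this.trans_le (Nat.pow_le_pow_right two_pos (not_lt.1 hn)))]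

theorem card_G1 : Nat.card X.G1 = 35942400 := by rw [X.order, ZMod.card]; norm_num

theorem res_facts : Function.Injective res ∧ (rho X).range = res.range := by
  haveI : Finite X.G1 := Subtype.finite
  have h1 : Nat.card (rho X).range = 35942400 := by
    rw [← Nat.card_congr (MonoidHom.ofInjective (rho_injective X)).toEquiv, card_G1]
  have hsurj := res.rangeRestrict_surjective
  have h2 : Nat.card res.range ≤ 35942400 := card_P ▸ Nat.card_le_card_of_surjective _ hsurj
  have h3 := Subgroup.card_le_of_le (rho_range X)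
  have hbij : Function.Bijective res.rangeRestrict :=
    (Nat.bijective_iff_surjective_and_card _).2 ⟨hsurj, by rw [card_P]; omega⟩
  exact ⟨fun a b e => hbij.1 (Subtype.ext e), Subgroup.eq_of_le_of_card_ge (rho_range X) (by omega)⟩

/-- The group is the stabiliser. -/
noncomputable def eG1 : X.G1 ≃* P :=
  ((MonoidHom.ofInjective (rho_injective X)).trans (MulEquiv.subgroupCongr (res_facts X).2)).trans
    (MonoidHom.ofInjective (res_facts X).1).symm

theorem iso_twistedF4 : Nonempty (Cfsg.Lie.twistedF4 (ZMod 2) 1 ≃* P) := by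
  obtain ⟨X, hX⟩ := exists_rf (K := ZMod 2) (m := 0) (ZMod.card 2)
  have key : ∀ e, X.e = e → Nonempty (Cfsg.Lie.twistedF4 (ZMod 2) e ≃* P) := by
    intro e he
    subst he
    exact ⟨eG1 X⟩
  exact key 1 (by simp [RF.e, hX])

end Cfsg.Lib.RuModel.RankThree
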