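import Cfsg.Agent.RuModel.RankThree.CheckEnt
import Cfsg.Agent.RuModel.RankThree.Five

/-!
The translates of the four points, and the subgroups of order 15600.
-/

set_option autoImplicit false
set_option linter.all false
set_option maxRecDepth 100000

namespace Cfsg.Lib.RuModel.RankThree

open MulAction
open scoped Pointwise

/-- A named element. -/
noncomputable def rep (k : ℕ) : P := wP (repW.getD k [])

theorem rep_word (k : ℕ) : wordOK (repW.getD k []) = true := by
  by_cases hk : k < repW.length
  · rw [List.getD_eq_getElem _ _ hk]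
    exact List.all_eq_true.1 rep_ok.2.2.1 _ (List.getElem_mem hk)
  · rw [List.getD_eq_default _ _ (not_lt.1 hk)]; rfl

attribute [local irreducible] lkB lk14 RT.get ev in
theorem entry_spec : ∀ i, i < 14976 → ∃ n ∈ N5, ∃ k < 16,
    unpack (lk14 keyT i) = (List.finRange 4).map fun j => ((n * rep k) • fPt j).val := by
  intro i
  induction i using Nat.strong_induction_on with
  | _ i ih =>
    intro hi
    have hfl : fList = (List.finRange 4).map fun j => (fPt j).val := by
      apply List.ext_getElem (by simp [f_ok.1])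
      intro j h1 h2
      simp only [List.getElem_map, List.getElem_finRange, fPt, Fin.cast_mk, List.getD_eq_getElem _ _ h1]
    have h := chk_apply entry_ok hi
    simp only [entryOK] at h
    split at h
    · simp only [Bool.and_eq_true, beq_iff_eq] at h
      refine ⟨1, one_mem _, lk14 entT i % 16, rep_ok.1 ▸ Nat.le_of_ble_eq_true h.1, ?_⟩
      rw [h.2, hfl, List.map_map]
      exact List.map_congr_left fun j _ => by rw [one_mul, rep, wP_smul]; rfl
    · simp only [Bool.and_eq_true, beq_iff_eq] at h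
      obtain ⟨⟨hp, hg⟩, hk⟩ := h
      have hlt : lk14 entT i / 16 < i := Nat.le_of_ble_eq_true hp
      obtain ⟨n, hn, k, hk16, e⟩ := ih _ hlt (hlt.trans hi)
      have hg2 : lk14 entT i % 16 < 2 := norm_ok.2 ▸ Nat.le_of_ble_eq_true hg
      refine ⟨wP (normW.getD (lk14 entT i % 16) []) * n,
        mul_mem (Subgroup.subset_closure ⟨_, hg2, rfl⟩) hn, k, hk16, ?_⟩
      rw [hk, e, List.map_map]
      exact List.map_congr_left fun j _ => by
        rw [mul_assoc, mul_smul (wP _) (n * rep k), wP_smul]; rfl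

theorem foldl_bits : ∀ (l : List ℕ) (s z : ℕ),
    (l.foldl (fun s x => s ||| 1 <<< x) s).testBit z = true ↔ s.testBit z = true ∨ z ∈ l := by
  intro l
  induction l with
  | nil => simp
  | cons a l ih =>
    intro s z
    rw [List.foldl_cons, ih, Nat.testBit_or, Bool.or_eq_true, mem_shift, List.mem_cons, or_assoc]

theorem keyMask_spec {x : P} {c : ℕ} (h : unpack c = (List.finRange 4).map fun j => (x • fPt j).val) (z : ℕ) :
    (keyMask c).testBit z = true ↔ ∃ y ∈ fSet, (x • y).val = z := by
  rw [keyMask, foldl_bits, h]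
  simp only [Nat.zero_testBit, Bool.false_eq_true, false_or, List.mem_map, List.mem_finRange, true_and]
  constructor
  · rintro ⟨j, e⟩
    exact ⟨fPt j, fPt_mem j, e⟩
  · rintro ⟨y, hy, e⟩
    obtain ⟨j, hj, ej⟩ := List.getElem_of_mem (show y.val ∈ fList from hy)
    refine ⟨⟨j, f_ok.1 ▸ hj⟩, ?_⟩
    rw [show fPt ⟨j, f_ok.1 ▸ hj⟩ = y from Fin.ext ((List.getD_eq_getElem _ _ hj).trans ej), e]

/-- The decomposition into double cosets, and the order of the normaliser. -/
theorem cosets : Nat.card N5 ≤ 2400 ∧ ∀ x : P, ∃ n ∈ N5, ∃ k < 16, ∃ n' ∈ N5, x = n * rep k * n' := by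
  classical
  choose n hn k hk hkey using entry_spec
  let T : Fin 14976 → Set (Fin 4060) := fun i => (n i i.isLt * rep (k i i.isLt)) • fSet
  have hmask : ∀ i : Fin 14976, ∀ z, (keyMask (lk14 keyT i.val)).testBit z = true ↔
      ∃ y ∈ T i, y.val = z := by
    intro i z
    rw [keyMask_spec (hkey i i.isLt)]
    constructor
    · rintro ⟨y, hy, e⟩; exact ⟨_, Set.smul_mem_smul_set hy, e⟩
    · rintro ⟨_, ⟨y, hy, rfl⟩, e⟩; exact ⟨y, hy, e⟩
  have hsrt : ∀ j < 14976, lk14 srtT j < 14976 := by
    intro j hj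
    by_cases h : j < 14975
    · have := chk_apply srt_ok h
      simp only [srtOK, Bool.and_eq_true] at this
      exact Nat.le_of_ble_eq_true this.1.1
    · have := chk_apply srt_ok (show 14974 < 14975 by norm_num)
      simp only [srtOK, Bool.and_eq_true] at this
      rw [show j = 14974 + 1 by omega]
      exact Nat.le_of_ble_eq_true this.1.2
  let σ : Fin 14976 → Fin 14976 := fun j => ⟨lk14 srtT j.val, hsrt j.val j.isLt⟩
  have hmono : StrictMono fun j : Fin 14976 => keyMask (lk14 keyT (lk14 srtT j.val)) := by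
    refine Fin.strictMono_iff_lt_succ.2 fun j => ?_
    have := chk_apply srt_ok j.isLt
    simp only [srtOK, Bool.and_eq_true] at this
    simpa using Nat.le_of_ble_eq_true this.2
  have hT : Function.Injective (T ∘ σ) := by
    intro i j e
    refine hmono.injective (Nat.eq_of_testBit_eq fun z => ?_)
    rw [Bool.eq_iff_iff, hmask (σ i), hmask (σ j), show T (σ i) = T (σ j) from e]
  have hsub : Set.range (T ∘ σ) ⊆ orbit P fSet := by
    rintro _ ⟨i, rfl⟩
    exact mem_orbit _ _
  have h1 : 14976 ≤ (orbit P fSet).ncard := by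
    have := Set.ncard_le_ncard hsub (Set.toFinite _)
    rwa [Set.ncard_range_of_injective hT, Nat.card_fin] at this
  have hmul := Subgroup.card_mul_index (stabilizer P fSet)
  rw [index_stabilizer, card_P] at hmul
  have h2 : 2400 ≤ Nat.card (stabilizer P fSet) := card_N5_ge.trans (Subgroup.card_le_of_le N5_le_stab)
  have ho : (orbit P fSet).ncard = 14976 := by
    have := Nat.mul_le_mul_right (orbit P fSet).ncard h2
    omega
  have hN : N5 = stabilizer P fSet := Subgroup.eq_of_le_of_card_ge N5_le_stab (by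
    have := card_N5_ge
    rw [ho] at hmul
    omega)
  have hall : Set.range (T ∘ σ) = orbit P fSet :=
    Set.eq_of_subset_of_ncard_le hsub (by rw [Set.ncard_range_of_injective hT, Nat.card_fin, ho]) (Set.toFinite _)
  refine ⟨?_, fun x => ?_⟩
  · rw [ho, ← hN] at hmul
    omega
  obtain ⟨i, hi⟩ := hall.ge (mem_orbit fSet x)
  refine ⟨_, hn _ (σ i).isLt, _, hk _ (σ i).isLt, (n _ (σ i).isLt * rep (k _ (σ i).isLt))⁻¹ * x, ?_, by group⟩
  rw [hN, mem_stabilizer_iff, mul_smul, inv_smul_eq_iff]
  exact hi.symm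

theorem expA_mem {ws : List (List ℕ)} {S : Subgroup P} {m : ℕ} (hS : ∀ i < m, wP (ws.getD i []) ∈ S) :
    ∀ {v : List ℕ}, v.all (fun l => Nat.ble (l + 1) m) = true → wP (expW ws v) ∈ S
  | [], _ => one_mem _
  | l :: v, h => by
    simp only [List.all_cons, Bool.and_eq_true] at h
    rw [show expW ws (l :: v) = ws.getD l [] ++ expW ws v from rfl, wP_append]
    exact mul_mem (hS l (Nat.le_of_ble_eq_true h.1)) (expA_mem hS h.2)

theorem alph_mem {S : Subgroup P} (k : ℕ) (h5 : P5 ≤ S) (hc : ∀ q ∈ P5, rep k * q * (rep k)⁻¹ ∈ S) :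
    ∀ i < 8, wP ((alph k).getD i []) ∈ S := by
  have hw := rep_word k
  have hcj : ∀ w : List ℕ, wP (cjW (repW.getD k []) w) = rep k * wP w * (rep k)⁻¹ := fun w => by
    rw [cjW, wP_append, wP_append, wP_iw hw, rep]
  have hok : ∀ w : List ℕ, wordOK w = true → wordOK (cjW (repW.getD k []) w) = true := fun w h => by
    rw [wordOK_iff] at h hw ⊢
    intro l hl
    simp only [cjW, iw, List.mem_append, List.mem_map] at hl
    rcases hl with (hl | hl) | ⟨m, -, rfl⟩
    · exact hw l hl
    · exact h l hl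
    · omega
  intro i hi
  interval_cases i <;> simp only [alph, List.getD_cons_zero, List.getD_cons_succ]
  · exact h5 ga_mem
  · exact h5 gb_mem
  · rw [hcj]; exact hc _ ga_mem
  · rw [hcj]; exact hc _ gb_mem
  · rw [wP_iw ab_ok.1]; exact inv_mem (h5 ga_mem)
  · rw [wP_iw ab_ok.2.1]; exact inv_mem (h5 gb_mem)
  · rw [wP_iw (hok _ ab_ok.1), hcj]; exact inv_mem (hc _ ga_mem)
  · rw [wP_iw (hok _ ab_ok.2.1), hcj]; exact inv_mem (hc _ gb_mem)

theorem tits_le {S : Subgroup P} (h : ∀ i < 2, wP (titsW.getD i []) ∈ S) : 17971200 ≤ Nat.card S := by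
  obtain ⟨htw, hlen, hlt⟩ := tits_ok
  have hfold : ∀ (w : List ℕ) (x : Fin 4060), (∀ l ∈ w, l < 2) →
      ((wperm gs1 w) x).val = w.foldl (fun z l => lk (tab l) z) x.val := by
    intro w
    induction w using List.reverseRecOn with
    | nil => intro x _; rfl
    | append_singleton w i ih =>
      intro x hw
      have e := ih x fun l hl => hw l (List.mem_append_left _ hl)
      have hi := hw i (by simp)
      simp only [wperm, List.foldl_append, List.foldl_cons, List.foldl_nil] at e ⊢
      rw [Equiv.Perm.mul_apply, ← e]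
      interval_cases i
      · exact tab_smul 0 _
      · exact tab_smul 1 _
  have hsub : gen ts0 ≤ S.map P.subtype := by
    refine (Subgroup.closure_le _).2 fun g hg => ?_
    obtain ⟨i, hi, rfl⟩ := List.getElem_of_mem (show g ∈ ts0 from hg)
    have hi' : i < titsWords.length := by simpa [ts0, nextGens] using hi
    refine ⟨wP (titsW.getD i []), h i (hlen ▸ hi'), ?_⟩
    have e : ts0[i] = wperm gs1 titsWords[i] := by simp [ts0, nextGens]
    have hm : ts0[i] ∈ P := nextT0.2.1 (Subgroup.subset_closure (List.getElem_mem hi))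
    have hl : ∀ l ∈ titsWords[i], l < 2 := fun l hl =>
      Nat.le_of_ble_eq_true (List.all_eq_true.1 (List.all_eq_true.1 hlt _ (List.getElem_mem hi')) l hl)
    have key : ∀ x : Fin 4060, x.val ∈ basePts →
        wP (titsW.getD i []) • x = (⟨ts0[i], hm⟩ : P) • x := fun x hx => Fin.ext (by
      have h1 := List.all_eq_true.1 (List.all_eq_true.1 htw i (List.mem_range.2 (hlen ▸ hi'))) x.val hx
      rw [beq_iff_eq, List.getD_eq_getElem titsWords _ hi', ← hfold _ x hl, ← e] at h1
      exact (wP_smul _ _).trans h1)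
    have := ext_three (g := wP (titsW.getD i [])) (h := ⟨ts0[i], hm⟩)
      (key b1 (by simp [basePts, b1])) (key b2 (by simp [basePts, b2])) (key b3 (by simp [basePts, b3]))
    exact congrArg Subtype.val this
  have := Subgroup.card_le_of_le hsub
  rwa [card_tits, Subgroup.card_map_of_injective P.subtype_injective] at this

/-- The subgroup of order 7800. -/
noncomputable def M7 : Subgroup P := Subgroup.closure {g | ∃ i < 4, g = wP ((alph kMid).getD i [])}

theorem alph_closed (k : ℕ) {S : Subgroup P} (hs : ∀ i < 4, wP ((alph k).getD i []) ∈ S) :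
    ∀ i < 8, wP ((alph k).getD i []) ∈ S := by
  refine alph_mem k (P5_le (hs 0 (by norm_num)) (hs 1 (by norm_num))) ?_
  intro q hq
  have hle : P5.map (MulAut.conj (rep k)).toMonoidHom ≤ S := by
    rw [Subgroup.map_le_iff_le_comap]
    refine P5_le ?_ ?_
    · have := hs 2 (by norm_num)
      simp only [alph, List.getD_cons_zero, List.getD_cons_succ, cjW, wP_append, wP_iw (rep_word k)] at this
      exact this
    · have := hs 3 (by norm_num)
      simp only [alph, List.getD_cons_zero, List.getD_cons_succ, cjW, wP_append, wP_iw (rep_word k)] at this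
      exact this
  exact hle ⟨q, hq, rfl⟩

theorem M7_mem (i : ℕ) (hi : i < 8) : wP ((alph kMid).getD i []) ∈ M7 :=
  alph_closed kMid (S := M7) (fun j hj => Subgroup.subset_closure ⟨j, hj, rfl⟩) i hi

theorem card_M7_ge : 7800 ≤ Nat.card M7 := by
  classical
  haveI : Finite M7 := Subtype.finite
  obtain ⟨htree, -, hpop⟩ := mid_tree
  obtain ⟨hst, hlen, e2, n2, e13, n13, hr⟩ := mid_stab
  let r : Fin 4060 := ⟨mRoot, hr⟩
  have horb : 300 ≤ (orbit M7 r).ncard := by
    rw [← hpop, ← ncard_maskSet]
    refine Set.ncard_le_ncard (fun x hx => ?_) (Set.toFinite _)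
    obtain ⟨k, hk, e⟩ := tree_orbit (S := M7) (root := r) (fun w hw => by
      obtain ⟨i, hi, rfl⟩ := List.getElem_of_mem hw
      rw [List.getElem_take]
      have hi4 : i < 4 := by simp at hi; omega
      have := M7_mem i (by omega)
      rwa [List.getD_eq_getElem _ _ (by simp [alph]; omega)] at this) htree x hx
    exact ⟨⟨k, hk⟩, e⟩
  have hs : ∀ i < 2, ∃ s : stabilizer M7 r, (s.1.1 : P) = wP (expW (alph kMid) (mStab.getD i [])) := by
    intro i hi
    have h := List.all_eq_true.1 hst (mStab.getD i []) (by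
      rw [List.getD_eq_getElem _ _ (by omega)]; exact List.getElem_mem _)
    simp only [Bool.and_eq_true, beq_iff_eq] at h
    exact ⟨⟨⟨_, expA_mem M7_mem h.1⟩, mem_stabilizer_iff.2 (Fin.ext ((wP_smul _ _).trans h.2))⟩, rfl⟩
  obtain ⟨s, es⟩ := hs 0 (by norm_num)
  obtain ⟨t, et⟩ := hs 1 (by norm_num)
  have hord : ∀ {p : ℕ} {u : stabilizer M7 r} {w : List ℕ}, p.Prime → (u.1.1 : P) = wP w →
      eqW (pw p w) [] = true → eqW w [] = false → p ∣ Nat.card (stabilizer M7 r) := by
    intro p u w hp eu e n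
    haveI : Fact p.Prime := ⟨hp⟩
    have : orderOf u = p := by
      rw [← Subgroup.orderOf_coe, ← Subgroup.orderOf_coe, eu]
      exact orderOf_eq_prime (by rw [← wP_pw, eqW_sound e, wP_nil]) fun h => eqW_false n (h.trans wP_nil.symm)
    exact this ▸ orderOf_dvd_natCard u
  have h26 : 26 ∣ Nat.card (stabilizer M7 r) := Nat.Coprime.mul_dvd_of_dvd_of_dvd (by norm_num : Nat.Coprime 2 13)
    (hord Nat.prime_two es e2 n2) (hord (by norm_num) et e13 n13)
  rw [← Subgroup.card_mul_index (stabilizer M7 r), index_stabilizer]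
  exact le_trans (by norm_num) (Nat.mul_le_mul (Nat.le_of_dvd Nat.card_pos h26) horb)

attribute [local irreducible] ev RT.get in
theorem M7_fix {x : Fin 4060} (h : ∀ m ∈ M7, m • x = x) : x = b0 ∨ x = pOne := by
  have hx := chk_apply fix_ok x.isLt
  simp only [fixOK, Bool.or_eq_true, Bool.not_eq_true', beq_iff_eq] at hx
  rcases hx with (hx | hx) | hx
  · exfalso
    have : ((alph kMid).take 4).all (fun w => ev w x.val == x.val) = true := List.all_eq_true.2 fun w hw => by
      obtain ⟨i, hi, rfl⟩ := List.getElem_of_mem hw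
      rw [List.getElem_take]
      have hi4 : i < 4 := by simp at hi; omega
      have h1 := h _ (M7_mem i (by omega))
      rw [List.getD_eq_getElem _ _ (by simp [alph]; omega)] at h1
      rw [beq_iff_eq, ← wP_smul, h1]
    rw [this] at hx
    exact Bool.noConfusion hx
  · exact Or.inl (Fin.ext hx)
  · exact Or.inr (Fin.ext hx)

/-- A subgroup of order 15600 fixes a point of the larger suborbit. -/
theorem far_point {L : Subgroup P} (hL : Nat.card L = 15600) : ∃ g : P, L = stabilizer P (g • pOne) := by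
  classical
  haveI : Fact (Nat.Prime 5) := ⟨by norm_num⟩
  obtain ⟨R, hR⟩ := Sylow.exists_subgroup_card_pow_prime (G := L) 5 (n := 2) (by rw [hL]; norm_num)
  have hfac : (35942400 : ℕ).factorization 5 = 2 := by
    rw [show (35942400 : ℕ) = 5 ^ 2 * 1437696 by norm_num, Nat.factorization_mul (by norm_num) (by norm_num),
      Finsupp.add_apply, Nat.Prime.factorization_pow (show Nat.Prime 5 by norm_num), Finsupp.single_eq_same,
      Nat.factorization_eq_zero_of_not_dvd (show ¬ (5 ∣ 1437696) by norm_num)]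
  let A : Sylow 5 P := Sylow.ofCard P5 (by rw [card_P5, card_P, hfac]; norm_num)
  let B : Sylow 5 P := Sylow.ofCard (R.map L.subtype) (by
    rw [Subgroup.card_map_of_injective L.subtype_injective, hR, card_P, hfac])
  obtain ⟨c, hc⟩ := MulAction.exists_smul_eq P A B
  have hc' : ∀ p ∈ P5, c * p * c⁻¹ ∈ L := by
    intro p hp
    have hmem : c * p * c⁻¹ ∈ (B : Subgroup P) := by
      rw [← hc, Sylow.coe_subgroup_smul, Subgroup.mem_pointwise_smul_iff_inv_smul_mem]
      simp only [map_inv, MulAut.smul_def, MulAut.inv_def, MulAut.conj_symm_apply]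
      simpa [mul_assoc] using show p ∈ (A : Subgroup P) from hp
    exact Subgroup.map_subtype_le _ (show c * p * c⁻¹ ∈ R.map L.subtype from hmem)
  let L1 : Subgroup P := L.comap (MulAut.conj c).toMonoidHom
  have hcard1 : Nat.card L1 = 15600 := by
    rw [← hL]; exact Nat.card_congr ((MulAut.conj c).toEquiv.subtypeEquiv fun _ => Iff.rfl)
  obtain ⟨l, hl, hln⟩ : ∃ l ∈ L1, l ∉ N5 := by
    by_contra hne
    push Not at hne
    have h := Subgroup.card_dvd_of_le (show L1 ≤ N5 from hne)
    have h2 := Nat.le_of_dvd Nat.card_pos h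
    have := cosets.1
    omega
  obtain ⟨n, hn, k, hk, n', hn', rfl⟩ := cosets.2 l
  let L2 : Subgroup P := L1.comap (MulAut.conj n).toMonoidHom
  have hcard2 : Nat.card L2 = 15600 := by
    rw [← hcard1]; exact Nat.card_congr ((MulAut.conj n).toEquiv.subtypeEquiv fun _ => Iff.rfl)
  have h52 : P5 ≤ L2 := fun q hq => hc' _ (N5_conj hn hq)
  have hrk : ∀ q ∈ P5, rep k * q * (rep k)⁻¹ ∈ L2 := by
    intro q hq
    show n * (rep k * q * (rep k)⁻¹) * n⁻¹ ∈ L1
    have h1 : n'⁻¹ * q * n'⁻¹⁻¹ ∈ L1 := hc' _ (N5_conj (inv_mem hn') hq)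
    have h2 := mul_mem (mul_mem hl h1) (inv_mem hl)
    have e : n * (rep k * q * (rep k)⁻¹) * n⁻¹ =
        n * rep k * n' * (n'⁻¹ * q * n'⁻¹⁻¹) * (n * rep k * n')⁻¹ := by group
    rw [e]; exact h2
  have hk0 : k ≠ 0 := by
    rintro rfl
    refine hln ?_
    rw [rep, rep_ok.2.1, wP_nil, mul_one]
    exact mul_mem hn hn'
  have hmid : k = kMid := by
    by_contra hne
    have h := List.all_eq_true.1 cert_ok k (List.mem_range.2 hk)
    simp only [Bool.or_eq_true, beq_iff_eq] at h
    have h' := (h.resolve_left fun e => e.elim hk0 hne)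
    simp only [certOK, List.all_eq_true, List.mem_range, Bool.and_eq_true] at h'
    have := tits_le (S := L2) fun i hi => by
      rw [eqW_sound (h' i hi).2]
      exact expA_mem (alph_mem k h52 hrk) (List.all_eq_true.2 (h' i hi).1)
    omega
  subst hmid
  have hM : M7 ≤ L2 := (Subgroup.closure_le _).2 (by
    rintro _ ⟨i, hi, rfl⟩
    exact alph_mem kMid h52 hrk i (by omega))
  haveI hnorm : (M7.subgroupOf L2).Normal := by
    have hmul := Subgroup.card_mul_index (M7.subgroupOf L2)
    rw [Nat.card_congr (Subgroup.subgroupOfEquivOfLe hM).toEquiv, hcard2] at hmul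
    have hge := card_M7_ge
    have hle : (M7.subgroupOf L2).index ≤ 2 := by
      by_contra hgt
      have := Nat.mul_le_mul hge (not_le.1 hgt)
      omega
    rcases Nat.lt_or_ge (M7.subgroupOf L2).index 2 with h | h
    · have h0 : (M7.subgroupOf L2).index ≠ 0 := fun e => by rw [e] at hmul; omega
      rw [Subgroup.index_eq_one.1 (show (M7.subgroupOf L2).index = 1 by omega)]
      infer_instance
    · exact Subgroup.normal_of_index_eq_two (le_antisymm hle h)
  have hfixM : ∀ m ∈ M7, m • pOne = pOne := by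
    suffices h : M7 ≤ stabilizer P pOne from fun m hm => mem_stabilizer_iff.1 (h hm)
    refine (Subgroup.closure_le _).2 ?_
    rintro _ ⟨i, hi, rfl⟩
    rw [SetLike.mem_coe, mem_stabilizer_iff]
    refine Fin.ext ((wP_smul _ _).trans ?_)
    exact beq_iff_eq.1 (List.all_eq_true.1 mid_fix i (List.mem_range.2 hi))
  have hstab : L2 ≤ stabilizer P pOne := by
    intro x hx
    rw [mem_stabilizer_iff]
    rcases M7_fix (x := x • pOne) fun m hm => by
      have hm' : x⁻¹ * m * x ∈ M7 := by
        have := hnorm.conj_mem ⟨m, hM hm⟩ hm (⟨x, hx⟩⁻¹ : L2)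
        simpa [Subgroup.mem_subgroupOf] using this
      calc m • x • pOne = x • (x⁻¹ * m * x) • pOne := by simp [mul_smul]
        _ = x • pOne := by rw [hfixM _ hm'] with h | h
    · exfalso
      have := (mask2_inv x pOne).2 pOne_mem
      rw [h] at this
      exact b0_not2 this
    · exact h
  have heq : L2 = stabilizer P pOne := Subgroup.eq_of_le_of_card_ge hstab (by rw [card_stab_two pOne_mem, hcard2])
  refine ⟨c * n, ?_⟩
  ext x
  have hx : x ∈ L ↔ (c * n)⁻¹ * x * (c * n) ∈ L2 := by
    show x ∈ L ↔ c * (n * ((c * n)⁻¹ * x * (c * n)) * n⁻¹) * c⁻¹ ∈ L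
    rw [show c * (n * ((c * n)⁻¹ * x * (c * n)) * n⁻¹) * c⁻¹ = x by group]
  rw [hx, heq, mem_stabilizer_iff, mem_stabilizer_iff, mul_smul, mul_smul, inv_smul_eq_iff]

end Cfsg.Lib.RuModel.RankThree
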