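import Cfsg.Agent.RuModel.RankThree.CheckCls
import Cfsg.Agent.RuModel.RankThree.CheckCode
import Cfsg.Agent.RuModel.RankThree.Iso

/-!
A subgroup of order 20480 fixes a point of the smaller suborbit.
-/

set_option autoImplicit false
set_option linter.all false
set_option maxRecDepth 100000

open Cfsg.Lie Cfsg.Lib.Chev Cfsg.Lib.Chev.ReeF Cfsg.Lib.TitsComm
open Cfsg.Lib.BN

namespace Cfsg.Lib.RuModel.RankThree

open MulAction
open scoped Pointwise

set_option maxHeartbeats 400000 in
/-- Among three proper subgroups over a Sylow 2-subgroup, none a 2-group, two are equal. -/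
theorem over_sylow_G1 (X : RF (ZMod 2)) (T : Subgroup X.G1) (hT : Nat.card T = 4096) (L : Fin 3 → Subgroup X.G1)
    (hle : ∀ i, T ≤ L i) (h1 : ∀ i, Nat.card (L i) ≠ 4096) (h2 : ∀ i, Nat.card (L i) ≠ 35942400) :
    ∃ i j, i ≠ j ∧ L i = L j := by
  classical
  haveI : Finite X.G1 := Subtype.finite
  haveI : Fact (Nat.Prime 2) := ⟨Nat.prime_two⟩
  obtain ⟨Q, hB, -, hS⟩ := X.exists_BN
  have hcB : Nat.card Q.B = 4096 := by
    rw [hB, Nat.card_congr (Subgroup.subgroupOfEquivOfLe (inf_le_right : chevF4.borelSubgroup (ZMod 2) ⊓ X.G1 ≤ X.G1)).toEquiv,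
      X.card_B1, ZMod.card]
    norm_num
  have hfac : (35942400 : ℕ).factorization 2 = 12 := by
    rw [show (35942400 : ℕ) = 2 ^ 12 * 8775 by norm_num, Nat.factorization_mul (by norm_num) (by norm_num),
      Finsupp.add_apply, Nat.Prime.factorization_pow Nat.prime_two, Finsupp.single_eq_same,
      Nat.factorization_eq_zero_of_not_dvd (show ¬ (2 ∣ 8775) by norm_num)]
  let A : Sylow 2 X.G1 := Sylow.ofCard T (by rw [hT, card_G1, hfac]; norm_num)
  let B : Sylow 2 X.G1 := Sylow.ofCard Q.B (by rw [hcB, card_G1, hfac]; norm_num)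
  obtain ⟨c, hc⟩ := MulAction.exists_smul_eq X.G1 A B
  let M : Fin 3 → Subgroup X.G1 := fun i => (L i).map (MulAut.conj c).toMonoidHom
  have hM : ∀ i, Q.B ≤ M i := by
    intro i x hx
    have hx' : x ∈ ((B : Sylow 2 X.G1) : Subgroup X.G1) := hx
    rw [← hc, Sylow.coe_subgroup_smul, Subgroup.mem_pointwise_smul_iff_inv_smul_mem] at hx'
    refine ⟨_, hle i hx', ?_⟩
    simp [mul_assoc]
  have hcard : ∀ i, Nat.card (M i) = Nat.card (L i) := fun i =>
    Subgroup.card_map_of_injective (MulAut.conj c).injective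
  let J : Fin 3 → Set X.G1 := fun i => {s | s ∈ Q.S ∧ s ∈ M i}
  have hJ : ∀ i, M i = Q.parabolic (J i) := fun i => BN.eq_parabolic (hM i)
  have hex : ∀ a ∈ ([8, 9] : List ℕ), ∀ s t : X.G1, (s : GL chevF4.Idx (ZMod 2)) = X.nk a →
      (t : GL chevF4.Idx (ZMod 2)) = X.nk a → s = t := fun a _ s t hs ht => Subtype.ext (hs.trans ht.symm)
  let p : Fin 3 → Bool := fun i => decide (∃ s ∈ J i, (s : GL chevF4.Idx (ZMod 2)) = X.nk 8)
  obtain ⟨i, j, hij, hp⟩ := Fintype.exists_ne_map_eq_of_card_lt p (by simp)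
  refine ⟨i, j, hij, ?_⟩
  have key : ∀ i, p i = true → ∀ s ∈ Q.S, (s : GL chevF4.Idx (ZMod 2)) = X.nk 9 → s ∉ M i := by
    intro i hi s hs e9 hsM
    refine h2 i ?_
    obtain ⟨t, ht, e8⟩ := of_decide_eq_true hi
    have hJS : J i = Q.S := by
      refine Set.Subset.antisymm (fun u hu => hu.1) fun u hu => ⟨hu, ?_⟩
      have hu' := hu
      rw [hS] at hu'
      obtain ⟨a, ha, ea⟩ := hu'
      simp only [List.mem_cons, List.not_mem_nil, or_false, Set.mem_insert_iff, Set.mem_singleton_iff] at ha
      rcases ha with rfl | rfl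
      · rw [hex 8 (by simp) u t ea e8]; exact ht.2
      · rw [hex 9 (by simp) u s ea e9]; exact hsM
    rw [← hcard, hJ, hJS, BN.parabolic_S, Subgroup.card_top, card_G1]
  have key' : ∀ i, p i = false → ∃ s ∈ Q.S, (s : GL chevF4.Idx (ZMod 2)) = X.nk 9 ∧ s ∈ M i := by
    intro i hi
    by_contra hne
    refine h1 i ?_
    have hJe : J i = ∅ := Set.eq_empty_of_forall_notMem fun u hu => by
      have hu' := hu.1
      rw [hS] at hu'
      obtain ⟨a, ha, ea⟩ := hu'
      simp only [List.mem_cons, List.not_mem_nil, or_false, Set.mem_insert_iff, Set.mem_singleton_iff] at ha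
      rcases ha with rfl | rfl
      · exact (of_decide_eq_false hi) ⟨u, hu, ea⟩
      · exact hne ⟨u, hu.1, ea, hu.2⟩
    rw [← hcard, hJ, hJe, show Q.parabolic ∅ = Q.B by simp [Cfsg.BNPair.parabolic], hcB]
  have hJij : J i = J j := by
    have sub : ∀ i j, p i = p j → J i ⊆ J j := by
      intro i j hp u hu
      have hu' := hu.1
      rw [hS] at hu'
      obtain ⟨a, ha, ea⟩ := hu'
      simp only [List.mem_cons, List.not_mem_nil, or_false, Set.mem_insert_iff, Set.mem_singleton_iff] at ha
      rcases ha with rfl | rfl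
      · have hi : p i = true := decide_eq_true ⟨u, hu, ea⟩
        obtain ⟨t, ht, e8⟩ := of_decide_eq_true (hp.symm.trans hi : p j = true)
        rw [hex 8 (by simp) u t ea e8]; exact ht
      · cases hpj : p j
        · obtain ⟨t, ht, e9, htM⟩ := key' j hpj
          rw [hex 9 (by simp) u t ea e9]; exact ⟨ht, htM⟩
        · exact absurd hu.2 (key i (hp.trans hpj) u hu.1 ea)
    exact Set.Subset.antisymm (sub i j hp) (sub j i hp.symm)
  have hMe : M i = M j := by rw [hJ, hJ, hJij]
  exact Subgroup.map_injective (f := (MulAut.conj c).toMonoidHom) (MulAut.conj c).injective hMe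

theorem over_sylow (T : Subgroup P) (hT : Nat.card T = 4096) (L : Fin 3 → Subgroup P) (hle : ∀ i, T ≤ L i)
    (h1 : ∀ i, Nat.card (L i) ≠ 4096) (h2 : ∀ i, Nat.card (L i) ≠ 35942400) : ∃ i j, i ≠ j ∧ L i = L j := by
  obtain ⟨X, -⟩ := exists_rf (K := ZMod 2) (m := 0) (ZMod.card 2)
  let f : P →* X.G1 := (eG1 X).symm.toMonoidHom
  have hf : Function.Injective f := (eG1 X).symm.injective
  obtain ⟨i, j, hij, e⟩ := over_sylow_G1 X (T.map f) (by rw [Subgroup.card_map_of_injective hf, hT])
    (fun i => (L i).map f) (fun i => Subgroup.map_mono (hle i))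
    (fun i => by rw [Subgroup.card_map_of_injective hf]; exact h1 i)
    (fun i => by rw [Subgroup.card_map_of_injective hf]; exact h2 i)
  exact ⟨i, j, hij, Subgroup.map_injective hf e⟩

/-- The line through the second base point. -/
def lineSet : Set (Fin 4060) := {x | x.val ∈ linePts}

theorem hW_fix {w : List ℕ} (hw : w ∈ hW) : wP w ∈ stabilizer P b1 := by
  have h := List.all_eq_true.1 hW_ok.1 w hw
  simp only [Bool.and_eq_true, beq_iff_eq] at h
  exact mem_stabilizer_iff.2 (Fin.ext ((wP_smul _ _).trans h.2))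

theorem stab_b1 : stabilizer P b1 = Subgroup.closure {g | g ∈ hW.map wP} := by
  refine le_antisymm ?_ ((Subgroup.closure_le _).2 ?_)
  · intro g hg
    have h2 : g.1 ∈ gen gs2 := level1.stab g.1 g.2 hg
    suffices h : gen gs2 ≤ (Subgroup.closure {g | g ∈ hW.map wP}).map P.subtype by
      obtain ⟨g', hg', e⟩ := h h2
      exact (Subtype.ext e : g' = g) ▸ hg'
    refine (Subgroup.closure_le _).2 fun u hu => ?_
    obtain ⟨i, hi, rfl⟩ := List.getElem_of_mem (show u ∈ gs2 from hu)
    have hi' : i < ru1Words.length := by simpa [gs2, nextGens] using hi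
    have e : gs2[i] = wperm gs1 ru1Words[i] := by simp [gs2, nextGens]
    have hl : ∀ l ∈ ru1Words[i], l < 2 := fun l hl =>
      Nat.le_of_ble_eq_true (List.all_eq_true.1 (List.all_eq_true.1 hW_eq.2 _ (List.getElem_mem hi')) l hl)
    refine ⟨wP ru1Words[i].reverse, Subgroup.subset_closure ?_, ?_⟩
    · refine List.mem_map.2 ⟨_, ?_, rfl⟩
      rw [hW_eq.1]
      exact List.mem_map.2 ⟨_, List.getElem_mem hi', rfl⟩
    · exact (wP_reverse hl).trans e.symm
  · intro g hg
    obtain ⟨w, hw, rfl⟩ := List.mem_map.1 (show g ∈ hW.map wP from hg)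
    exact hW_fix hw

theorem line_card : lineSet.ncard = 3 := by
  obtain ⟨-, -, -, -, hlt, -, hlen, hnd⟩ := line_ok
  rw [← hlen, ← List.toFinset_card_of_nodup hnd, ← Set.ncard_image_of_injective _ Fin.val_injective,
    ← Set.ncard_coe_finset]
  congr 1
  ext n
  simp only [lineSet, Set.mem_image, Set.mem_ofPred_eq, List.coe_toFinset]
  refine ⟨fun ⟨x, hx, e⟩ => e ▸ hx, fun h => ⟨⟨n, ?_⟩, h, rfl⟩⟩
  have := List.all_eq_true.1 hlt n h
  rw [Bool.and_eq_true] at this
  exact Nat.le_of_ble_eq_true this.1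

/-- The set of a listed line. -/
def lineI (i : ℕ) : Set (Fin 4060) := maskSet (lineM.getD i 0)

theorem fold_map : ∀ (l : List ℕ) (w : List ℕ) (s z : ℕ),
    (l.foldl (fun s x => s ||| 1 <<< ev w x) s).testBit z = true ↔ s.testBit z = true ∨ ∃ x ∈ l, ev w x = z := by
  intro l w
  induction l with
  | nil => simp
  | cons a l ih =>
    intro s z
    rw [List.foldl_cons, ih, Nat.testBit_or, Bool.or_eq_true, mem_shift]
    simp [or_assoc, eq_comm (a := z)]

theorem line_reach {i : ℕ} (hi : i < 5) : ∃ g ∈ stabilizer P b1, g • lineSet = lineI i := by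
  obtain ⟨-, -, -, -, -, h, -, -⟩ := line_ok
  have h := List.all_eq_true.1 h i (List.mem_range.2 hi)
  simp only [Bool.and_eq_true, beq_iff_eq] at h
  set w := expW hW (lineW.getD i []) with hw
  have hmem : wP w ∈ stabilizer P b1 := by
    have key : ∀ v : List ℕ, v.all (fun l => Nat.ble (l + 1) 2) = true → wP (expW hW v) ∈ stabilizer P b1 := by
      intro v
      induction v with
      | nil => intro _; exact one_mem _
      | cons l v ih =>
        intro hv
        simp only [List.all_cons, Bool.and_eq_true] at hv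
        rw [show expW hW (l :: v) = hW.getD l [] ++ expW hW v from rfl, wP_append]
        refine mul_mem (hW_fix ?_) (ih hv.2)
        rw [List.getD_eq_getElem _ _ (hW_ok.2.1.symm ▸ Nat.le_of_ble_eq_true hv.1)]
        exact List.getElem_mem _
    exact key _ h.1
  refine ⟨wP w, hmem, ?_⟩
  ext x
  rw [lineI, mem_maskSet, ← h.2, fold_map]
  simp only [Nat.zero_testBit, Bool.false_eq_true, false_or, Set.mem_smul_set]
  constructor
  · rintro ⟨y, hy, rfl⟩
    exact ⟨y.val, hy, (wP_smul w y).symm⟩
  · rintro ⟨y, hy, e⟩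
    obtain ⟨-, -, -, -, hlt, -, -, -⟩ := line_ok
    have := List.all_eq_true.1 hlt y hy
    rw [Bool.and_eq_true] at this
    exact ⟨⟨y, Nat.le_of_ble_eq_true this.1⟩, hy, Fin.ext ((wP_smul w _).trans e)⟩

theorem line_orbit : orbit (stabilizer P b1) lineSet = Set.range fun i : Fin 5 => lineI i.val := by
  classical
  refine Set.Subset.antisymm ?_ ?_
  · let S : Set (Set (Fin 4060)) := Set.range fun i : Fin 5 => lineI i.val
    have hcard : ∀ i < 5, (lineI i).ncard = 3 := fun i hi => by
      obtain ⟨g, -, e⟩ := line_reach hi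
      rw [← e, Set.ncard_smul_set, line_card]
    have h0 : lineSet ∈ S := by
      refine ⟨⟨0, by norm_num⟩, ?_⟩
      obtain ⟨-, -, e, -, hlt, -, -, -⟩ := line_ok
      ext x
      show (lineM.getD 0 0).testBit x.val = true ↔ x.val ∈ linePts
      rw [e]
      have := fold_map linePts [] 0 x.val
      simpa [ev] using this
    have hinv : ∀ g ∈ stabilizer P b1, ∀ A ∈ S, g • A ∈ S := by
      rw [stab_b1]
      intro g hg
      have hstep : ∀ u ∈ ({g | g ∈ hW.map wP} : Set P), ∀ A ∈ S, u • A ∈ S := by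
        rintro u hu _ ⟨i, rfl⟩
        obtain ⟨w, hw, rfl⟩ := List.mem_map.1 (show u ∈ hW.map wP from hu)
        have h := List.all_eq_true.1 (List.all_eq_true.1 line_inv i.val (List.mem_range.2 i.isLt)) w hw
        obtain ⟨m, hm, hall⟩ := List.any_eq_true.1 h
        obtain ⟨j, hj, rfl⟩ := List.getElem_of_mem hm
        rw [line_ok.1] at hj
        refine ⟨⟨j, hj⟩, (Set.eq_of_subset_of_ncard_le ?_ ?_ (Set.toFinite _)).symm⟩
        · rintro _ ⟨x, hx, rfl⟩
          have h2 := List.all_eq_true.1 hall x.val (List.mem_range.2 x.isLt)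
          rw [show (lineM.getD i.val 0).testBit x.val = true from hx, Bool.not_true, Bool.false_or] at h2
          show (lineM.getD j 0).testBit (wP w • x).val = true
          rw [List.getD_eq_getElem _ _ (line_ok.1.symm ▸ hj), wP_smul]
          exact h2
        · rw [Set.ncard_smul_set, hcard j hj, hcard i.val i.isLt]
      induction hg using Subgroup.closure_induction with
      | mem u hu => exact hstep u hu
      | one => intro A hA; rwa [one_smul]
      | mul u v _ _ hu hv => intro A hA; rw [mul_smul]; exact hu _ (hv A hA)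
      | inv u _ hu =>
        intro A hA
        have himg : (fun B : Set (Fin 4060) => u • B) '' S = S := Set.eq_of_subset_of_ncard_le
          (Set.image_subset_iff.2 fun B hB => hu B hB)
          (by rw [Set.ncard_image_of_injective _ (MulAction.injective u)]) (Set.finite_range _)
        obtain ⟨B, hB, e⟩ := himg.ge hA
        rw [← e, inv_smul_smul]
        exact hB
    rintro _ ⟨g, rfl⟩
    exact hinv g.1 g.2 _ h0
  · rintro _ ⟨i, rfl⟩
    obtain ⟨g, hg, e⟩ := line_reach i.isLt
    exact ⟨⟨g, hg⟩, e⟩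

/-- A subgroup of order 20480 fixes a point of the smaller suborbit. -/
theorem near_point {L : Subgroup P} (hL : Nat.card L = 20480) : ∃ g : P, L = stabilizer P (g • b1) := by
  classical
  haveI : Fact (Nat.Prime 2) := ⟨Nat.prime_two⟩
  set T : Subgroup P := stabilizer P b1 ⊓ stabilizer P lineSet with hTd
  have hT : Nat.card T = 4096 := by
    have h1 := Subgroup.card_mul_index (stabilizer (stabilizer P b1) lineSet)
    rw [index_stabilizer, line_orbit, Set.ncard_range_of_injective, Nat.card_fin, card_stab_one b1_mem] at h1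
    · have e : T = (stabilizer (stabilizer P b1) lineSet).map (stabilizer P b1).subtype := by
        ext x
        exact ⟨fun h => ⟨⟨x, h.1⟩, h.2, rfl⟩, fun ⟨y, hy, e⟩ => e ▸ ⟨y.2, hy⟩⟩
      rw [e, Subgroup.card_map_of_injective (Subgroup.subtype_injective _)]
      omega
    · intro i j e
      obtain ⟨hlen, hnd, -⟩ := line_ok
      have hbits : ∀ i : Fin 5, lineM.getD i.val 0 < 2 ^ 4060 := by
        have h : lineM.all (fun m => Nat.ble (m + 1) (2 ^ 4060)) = true := by decide +kernel
        intro i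
        rw [List.getD_eq_getElem _ _ (hlen.symm ▸ i.isLt)]
        exact Nat.le_of_ble_eq_true (List.all_eq_true.1 h _ (List.getElem_mem _))
      have he : lineM.getD i.val 0 = lineM.getD j.val 0 := Nat.eq_of_testBit_eq fun z => by
        by_cases hz : z < 4060
        · exact Bool.eq_iff_iff.2 (Set.ext_iff.1 e ⟨z, hz⟩)
        · rw [Nat.testBit_lt_two_pow ((hbits i).trans_le (Nat.pow_le_pow_right two_pos (not_lt.1 hz))),
            Nat.testBit_lt_two_pow ((hbits j).trans_le (Nat.pow_le_pow_right two_pos (not_lt.1 hz)))]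
      rw [List.getD_eq_getElem _ _ (hlen.symm ▸ i.isLt), List.getD_eq_getElem _ _ (hlen.symm ▸ j.isLt)] at he
      exact Fin.ext ((List.Nodup.getElem_inj_iff hnd).1 he)
  have hV3 : 3 ∣ Nat.card (stabilizer P lineSet) := by
    obtain ⟨-, e3, n3, hmap⟩ := three_ok
    haveI : Fact (Nat.Prime 3) := ⟨Nat.prime_three⟩
    have hm : wP threeV ∈ stabilizer P lineSet := by
      rw [mem_stabilizer_iff]
      refine Set.eq_of_subset_of_ncard_le ?_ (by rw [Set.ncard_smul_set]) (Set.toFinite _)
      rintro _ ⟨x, hx, rfl⟩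
      show (wP threeV • x).val ∈ linePts
      rw [wP_smul]
      exact List.contains_iff_mem.1 (List.all_eq_true.1 hmap x.val hx)
    have : orderOf (⟨_, hm⟩ : stabilizer P lineSet) = 3 := by
      rw [← Subgroup.orderOf_coe]
      exact orderOf_eq_prime (by rw [← wP_pw, eqW_sound e3, wP_nil]) fun h => eqW_false n3 (h.trans wP_nil.symm)
    exact this ▸ orderOf_dvd_natCard _
  have hVtop : Nat.card (stabilizer P lineSet) ≠ 35942400 := by
    intro e
    have htop : stabilizer P lineSet = ⊤ := Subgroup.eq_top_of_card_eq _ (by rw [e, card_P])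
    have hsub : maskSet mask1 ⊆ lineSet := by
      intro x hx
      obtain ⟨g, rfl⟩ := (orbit_one b1_mem).ge hx
      have hg : g ∈ stabilizer P lineSet := htop.ge (Subgroup.mem_top g)
      rw [← mem_stabilizer_iff.1 hg]
      refine Set.smul_mem_smul_set ?_
      obtain ⟨-, -, -, hz, -, -, hlen, -⟩ := line_ok
      show b1.val ∈ linePts
      rw [show b1.val = ru1.pt 0 from rfl, ← hz, List.getD_eq_getElem _ _ (hlen.symm ▸ by norm_num)]
      exact List.getElem_mem _
    have := Set.ncard_le_ncard hsub (Set.toFinite _)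
    rw [card_mask1, line_card] at this
    omega
  obtain ⟨R, hR⟩ := Sylow.exists_subgroup_card_pow_prime (G := L) 2 (n := 12) (by rw [hL]; norm_num)
  have hfac : (35942400 : ℕ).factorization 2 = 12 := by
    rw [show (35942400 : ℕ) = 2 ^ 12 * 8775 by norm_num, Nat.factorization_mul (by norm_num) (by norm_num),
      Finsupp.add_apply, Nat.Prime.factorization_pow Nat.prime_two, Finsupp.single_eq_same,
      Nat.factorization_eq_zero_of_not_dvd (show ¬ (2 ∣ 8775) by norm_num)]
  let A : Sylow 2 P := Sylow.ofCard T (by rw [hT, card_P, hfac]; norm_num)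
  let B : Sylow 2 P := Sylow.ofCard (R.map L.subtype) (by
    rw [Subgroup.card_map_of_injective L.subtype_injective, hR, card_P, hfac])
  obtain ⟨c, hc⟩ := MulAction.exists_smul_eq P A B
  have hc' : ∀ p ∈ T, c * p * c⁻¹ ∈ L := by
    intro p hp
    have hmem : c * p * c⁻¹ ∈ (B : Subgroup P) := by
      rw [← hc, Sylow.coe_subgroup_smul, Subgroup.mem_pointwise_smul_iff_inv_smul_mem]
      simp only [map_inv, MulAut.smul_def, MulAut.inv_def, MulAut.conj_symm_apply]
      simpa [mul_assoc] using show p ∈ (A : Subgroup P) from hp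
    exact Subgroup.map_subtype_le _ (show c * p * c⁻¹ ∈ R.map L.subtype from hmem)
  let L1 : Subgroup P := L.comap (MulAut.conj c).toMonoidHom
  have hcard1 : Nat.card L1 = 20480 := by
    rw [← hL]; exact Nat.card_congr ((MulAut.conj c).toEquiv.subtypeEquiv fun _ => Iff.rfl)
  have hd : ¬ 3 ∣ 20480 := by norm_num
  obtain ⟨i, j, hij, e⟩ := over_sylow T hT ![stabilizer P b1, stabilizer P lineSet, L1]
    (by intro i; fin_cases i <;> [exact inf_le_left; exact inf_le_right; exact hc'])
    (by
      intro i; fin_cases i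
      · show Nat.card (stabilizer P b1) ≠ 4096
        rw [card_stab_one b1_mem]; norm_num
      · show Nat.card (stabilizer P lineSet) ≠ 4096
        intro e; rw [e] at hV3; norm_num at hV3
      · show Nat.card L1 ≠ 4096
        rw [hcard1]; norm_num)
    (by
      intro i; fin_cases i
      · show Nat.card (stabilizer P b1) ≠ 35942400
        rw [card_stab_one b1_mem]; norm_num
      · exact hVtop
      · show Nat.card L1 ≠ 35942400
        rw [hcard1]; norm_num)
  have heq : L1 = stabilizer P b1 := by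
    have hne : stabilizer P b1 ≠ stabilizer P lineSet := fun e => hd (card_stab_one b1_mem ▸ e ▸ hV3)
    have hne2 : L1 ≠ stabilizer P lineSet := fun e => hd (hcard1 ▸ e ▸ hV3)
    fin_cases i <;> fin_cases j <;> simp at hij e ⊢ <;>
      first
        | exact e.symm
        | exact e
        | exact absurd e hne
        | exact absurd e.symm hne
        | exact absurd e hne2
        | exact absurd e.symm hne2
  refine ⟨c, ?_⟩
  ext x
  have hx : x ∈ L ↔ c⁻¹ * x * c ∈ L1 := by
    show x ∈ L ↔ c * (c⁻¹ * x * c) * c⁻¹ ∈ L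
    rw [show c * (c⁻¹ * x * c) * c⁻¹ = x by group]
  rw [hx, heq, mem_stabilizer_iff, mem_stabilizer_iff, mul_smul, mul_smul, inv_smul_eq_iff]

end Cfsg.Lib.RuModel.RankThree
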