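import Cfsg.Agent.RuModel.RankThree.Graph
import Cfsg.Agent.RuModel.RankThree.Pairs
import Cfsg.Agent.RuModel.RankThree.Parab

/-!
The points around a point of a rank 3 group of degree 4060 with stabiliser the point stabiliser of the model are
labelled by the model, and the graph is determined by the labels.
-/

set_option autoImplicit false
set_option linter.all false
set_option maxRecDepth 100000

namespace Cfsg.Lib.RuModel.RankThree

open MulAction
open scoped Pointwise

universe u v

/-- Transfer of an orbit along an isomorphism of groups with matching point stabilisers. -/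
theorem orbit_map {A : Type u} [Group A] {X : Type v} [MulAction A X] (φ : A ≃* P) (b : X) (q : Fin 4060)
    (hq : (stabilizer A b).map φ.toMonoidHom = stabilizer P q) :
    ∃ f : Fin 4060 → X, (∀ (k : A) x, x ∈ orbit P q → k • f x = f (φ k • x)) ∧
      (∀ x ∈ orbit P q, ∀ y ∈ orbit P q, f x = f y → x = y) ∧ f '' orbit P q = orbit A b := by
  classical
  have hiff : ∀ k : A, k • b = b ↔ φ k • q = q := fun k => by
    rw [← mem_stabilizer_iff, ← mem_stabilizer_iff, ← hq]
    exact ⟨fun h => ⟨k, h, rfl⟩, fun ⟨k', h, e⟩ => φ.injective e ▸ h⟩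
  have key : ∀ k k' : A, φ k • q = φ k' • q ↔ k • b = k' • b := fun k k' => by
    rw [← inv_smul_eq_iff, smul_smul, ← map_inv, ← map_mul, ← hiff, mul_smul, inv_smul_eq_iff]
  let f : Fin 4060 → X := fun x => if h : x ∈ orbit P q then φ.symm h.choose • b else b
  have hf : ∀ k : A, f (φ k • q) = k • b := fun k => by
    have h : φ k • q ∈ orbit P q := mem_orbit _ _
    simp only [f, dif_pos h]
    refine ((key _ _).1 ?_)
    rw [φ.apply_symm_apply]
    exact h.choose_spec
  have hex : ∀ x ∈ orbit P q, ∃ k : A, φ k • q = x := fun x ⟨g, hg⟩ =>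
    ⟨φ.symm g, by rw [φ.apply_symm_apply]; exact hg⟩
  refine ⟨f, fun k x hx => ?_, fun x hx y hy e => ?_, ?_⟩
  · obtain ⟨k', rfl⟩ := hex x hx
    rw [hf, smul_smul, smul_smul, ← map_mul, hf]
  · obtain ⟨k, rfl⟩ := hex x hx
    obtain ⟨k', rfl⟩ := hex y hy
    rw [hf, hf] at e
    exact (key k k').2 e
  · ext y
    constructor
    · rintro ⟨x, hx, rfl⟩
      obtain ⟨k, rfl⟩ := hex x hx
      exact ⟨k, (hf k).symm⟩
    · rintro ⟨k, rfl⟩
      exact ⟨φ k • q, mem_orbit _ _, hf k⟩

/-- The points of a set invariant under a subgroup form a union of classes. -/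
theorem class_union {S : Subgroup P} {gens : List (List ℕ)} (hg : ∀ w ∈ gens, wP w ∈ S)
    {cs : List (ℕ × ℕ × List ℕ)} (hok : classesOK gens cs = true) {X : Set (Fin 4060)}
    (hinv : ∀ k ∈ S, ∀ y ∈ X, k • y ∈ X) {c : ℕ × ℕ × List ℕ} (hc : c ∈ cs) (hroot : c.1 < 4060)
    (hmeet : ∃ y ∈ X, c.2.1.testBit y.val = true) : maskSet c.2.1 ⊆ X := by
  obtain ⟨x, hx, hxc⟩ := hmeet
  intro y hy
  have ht := List.all_eq_true.1 hok c hc
  obtain ⟨r, hr, er⟩ := tree_orbit hg (root := ⟨c.1, hroot⟩) ht x hxc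
  obtain ⟨s, hs, es⟩ := tree_orbit hg (root := ⟨c.1, hroot⟩) ht y hy
  have := hinv (s * r⁻¹) (mul_mem hs (inv_mem hr)) x hx
  rwa [mul_smul, ← er, inv_smul_smul, es] at this

theorem class_lt {gens : List (List ℕ)} {cs : List (ℕ × ℕ × List ℕ)}
    (hroot : cs.all (fun c => Nat.ble (c.1 + 1) 4060) = true) {c : ℕ × ℕ × List ℕ} (hc : c ∈ cs) : c.1 < 4060 :=
  Nat.le_of_ble_eq_true (List.all_eq_true.1 hroot c hc)

theorem h_roots : hClasses.all (fun c => Nat.ble (c.1 + 1) 4060) = true := by decide +kernel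

theorem k_roots : kClasses.all (fun c => Nat.ble (c.1 + 1) 4060) = true := by decide +kernel

theorem cover_mem {ms : List ℕ} {mask : ℕ} (h : coverOK ms mask = true) {x : Fin 4060} :
    (x ∈ maskSet mask → ∃ m ∈ ms, m.testBit x.val = true) ∧
      (∀ m ∈ ms, m.testBit x.val = true → x ∈ maskSet mask) ∧
      ∀ i j (hi : i < ms.length) (hj : j < ms.length), ms[i].testBit x.val = true → ms[j].testBit x.val = true → i = j := by
  have e := List.all_eq_true.1 h x.val (List.mem_range.2 x.isLt)
  rw [beq_iff_eq] at e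
  refine ⟨fun hx => ?_, fun m hm hmx => ?_, fun i j hi hj hix hjx => ?_⟩
  · rw [show mask.testBit x.val = true from hx, if_pos rfl] at e
    have : 0 < ms.countP fun m => m.testBit x.val := by omega
    exact List.countP_pos_iff.1 this
  · by_contra hne
    rw [if_neg (show ¬ mask.testBit x.val = true from hne)] at e
    exact List.countP_eq_zero.1 e m hm hmx
  · by_contra hne
    have h2 : 2 ≤ ms.countP fun m => m.testBit x.val := by
      rw [List.countP_eq_length_filter]
      have hsub : [ms[min i j], ms[max i j]].Sublist (ms.filter fun m => m.testBit x.val) := by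
        have h1 : [ms[min i j], ms[max i j]].Sublist ms := by
          have := List.map_getElem_sublist (l := ms) (is := [⟨min i j, by omega⟩, ⟨max i j, by omega⟩])
            (by simp; omega)
          simpa using this
        have h2 := h1.filter fun m => m.testBit x.val
        rcases le_total i j with hle | hle <;>
          simpa [min_eq_left, min_eq_right, max_eq_left, max_eq_right, hle, hix, hjx] using h2
      simpa using hsub.length_le
    split at e <;> omega

variable {Ω : Type u} [Fintype Ω] [DecidableEq Ω] {G : Subgroup (Equiv.Perm Ω)} {a b c : Ω}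

theorem ncard_common_eq (h : Setup G a b c) {l m : ℕ} [DecidableRel (orbGraph G a b).Adj]
    (hS : (orbGraph G a b).IsSRGWith 4060 1755 l m) (v : Ω) :
    {z | (orbGraph G a b).Adj a z ∧ (orbGraph G a b).Adj v z}.ncard =
      if a = v then 1755 else if (orbGraph G a b).Adj a v then l else m := by
  rw [← card_common_eq (orbGraph G a b) hS a v, ← Set.ncard_coe_finset]
  congr 1
  ext z
  simp

theorem far_facts (h : Setup G a b c) {v : Ω} (hv : v ∈ orbit (stabilizer G a) c) :
    v ≠ a ∧ ¬ (orbGraph G a b).Adj a v := by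
  have hc := h.hc
  refine ⟨fun e => ?_, fun hadj => ?_⟩
  · rw [← orbit_eq_iff.2 hv, e, h.orbit_self, Set.ncard_singleton] at hc
    omega
  · rw [← orbit_eq_iff.2 hv, orbit_eq_iff.2 (h.adj_base.1 hadj), h.hb] at hc
    omega

/-- A labelling of all points by the model. -/
structure Labelling (G : Subgroup (Equiv.Perm Ω)) (a b : Ω) (φ : stabilizer G a ≃* P) (ι : Fin 4060 → Ω) : Prop where
  bij : Function.Bijective ι
  base : ι b0 = a
  equiv : ∀ (k : stabilizer G a) (x : Fin 4060), k • ι x = ι (φ k • x)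
  adj0 : ∀ x, (orbGraph G a b).Adj a (ι x) ↔ x ∈ maskSet mask1
  adj1 : ∀ y, y ≠ b0 → ((orbGraph G a b).Adj (ι b1) (ι y) ↔ nMask.testBit y.val = true)
  adj3 : ∀ y ∈ maskSet mask2, (orbGraph G a b).Adj (ι pOne) (ι y) ↔ kMask5.testBit y.val = true
  smul : ∀ (g : G) (x y : Ω), (orbGraph G a b).Adj (g • x) (g • y) ↔ (orbGraph G a b).Adj x y

theorem disjoint_of_cover {ms : List ℕ} {mask : ℕ} (h : coverOK ms mask = true) {i j : ℕ} (hi : i < ms.length)
    (hj : j < ms.length) (hne : i ≠ j) : Disjoint (maskSet ms[i]) (maskSet ms[j]) :=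
  Set.disjoint_left.2 fun _ hx hx' => hne ((cover_mem h).2.2 i j hi hj hx hx')

/-- An invariant set is determined by the classes it meets. -/
theorem union_count {ms : List ℕ} {mask : ℕ} (h : coverOK ms mask = true) {X : Set (Fin 4060)}
    (hX : X ⊆ maskSet mask) (hfull : ∀ i (hi : i < ms.length), (∃ y ∈ X, ms[i].testBit y.val = true) → maskSet ms[i] ⊆ X) :
    ∃ T : Finset (Fin ms.length), (∀ y, y ∈ X ↔ ∃ i ∈ T, ms[i.val].testBit y.val = true) ∧
      X.ncard = ∑ i ∈ T, pop ms[i.val] := by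
  classical
  let T : Finset (Fin ms.length) := Finset.univ.filter fun i => ∃ y ∈ X, ms[i.val].testBit y.val = true
  have hmem : ∀ y, y ∈ X ↔ ∃ i ∈ T, ms[i.val].testBit y.val = true := by
    intro y
    constructor
    · intro hy
      obtain ⟨m, hm, hmy⟩ := (cover_mem h).1 (hX hy)
      obtain ⟨i, hi, rfl⟩ := List.getElem_of_mem hm
      exact ⟨⟨i, hi⟩, by simpa [T] using ⟨y, hy, hmy⟩, hmy⟩
    · rintro ⟨i, hi, hiy⟩
      simp only [T, Finset.mem_filter, Finset.mem_univ, true_and] at hi
      exact hfull i.val i.isLt hi hiy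
  refine ⟨T, hmem, ?_⟩
  have e : X = ↑(T.biUnion fun i => (maskSet ms[i.val]).toFinset) := by
    ext y
    simp [hmem, mem_maskSet]
  rw [e, Set.ncard_coe_finset, Finset.card_biUnion]
  · refine Finset.sum_congr rfl fun i _ => ?_
    rw [← ncard_maskSet, Set.ncard_eq_toFinset_card']
  · intro i _ j _ hij
    exact Set.disjoint_toFinset.2 (disjoint_of_cover h i.isLt j.isLt fun e => hij (Fin.ext e))

theorem near_sums : ∀ T : Finset (Fin 5), (0 : Fin 5) ∉ T →
    (∀ l, l = ∑ i ∈ T, ([1, 10, 80, 640, 1024] : List ℕ).getD i.val 0 →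
      (1755 * (1755 - l - 1) % 2304 = 0 → l ≠ 1754 → T = {1, 2, 3})) := by
  intro T h0 l hl
  subst hl
  revert h0
  revert T
  decide

theorem far_sums : (∀ T : Finset (Fin 2), ∑ i ∈ T, ([1024, 1280] : List ℕ).getD i.val 0 = 1024 → T = {0}) ∧
    ∀ T : Finset (Fin 6), (0 : Fin 6) ∉ T →
      ∑ i ∈ T, ([1, 78, 300, 300, 650, 975] : List ℕ).getD i.val 0 = 975 → T = {5} := by
  constructor
  · decide
  · decide

theorem pop_get {l : List ℕ} {vals : List ℕ} (h : l.map pop = vals) (i : Fin l.length) :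
    pop l[i.val] = vals.getD i.val 0 := by
  subst h
  rw [List.getD_eq_getElem _ _ (by simp), List.getElem_map]

theorem h_near_class : ∀ i (hi : i < [hMask0, hMask1, hMask2, hMask3, hMask4].length),
    ∃ c ∈ hClasses, c.2.1 = [hMask0, hMask1, hMask2, hMask3, hMask4][i] := by
  intro i hi
  have hi5 : i < 5 := hi
  interval_cases i <;> simp [hClasses]

theorem h_far_class : ∀ i (hi : i < [hMask5, hMask6].length),
    ∃ c ∈ hClasses, c.2.1 = [hMask5, hMask6][i] := by
  intro i hi
  have hi5 : i < 2 := hi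
  interval_cases i <;> simp [hClasses]

theorem k_class : ∀ i (hi : i < [kMask0, kMask1, kMask2, kMask3, kMask4, kMask5].length),
    ∃ c ∈ kClasses, c.2.1 = [kMask0, kMask1, kMask2, kMask3, kMask4, kMask5][i] := by
  intro i hi
  have hi5 : i < 6 := hi
  interval_cases i <;> simp [kClasses]

set_option maxHeartbeats 1000000 in
theorem exists_labelling (h : Setup G a b c) (φ : stabilizer G a ≃* P) : ∃ ι, Labelling G a b φ ι := by
  classical
  haveI := h.trans
  set Γ := orbGraph G a b with hΓ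
  have hcardA : Nat.card (stabilizer G a) = 35942400 := by rw [Nat.card_congr φ.toEquiv, card_P]
  have hstab : ∀ (v : Ω) (n m : ℕ), (orbit (stabilizer G a) v).ncard = n → 0 < n → m * n = 35942400 →
      Nat.card ((stabilizer (stabilizer G a) v).map φ.toMonoidHom) = m := by
    intro v n m hn hpos hm
    have h1 := Subgroup.card_mul_index (stabilizer (stabilizer G a) v)
    rw [index_stabilizer, hn, hcardA] at h1
    rw [Subgroup.card_map_of_injective (show Function.Injective φ.toMonoidHom from φ.injective)]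
    exact Nat.eq_of_mul_eq_mul_right hpos (h1.trans hm.symm)
  obtain ⟨g1, hg1⟩ := near_point (hstab b 1755 20480 h.hb (by norm_num) (by norm_num))
  obtain ⟨g2, hg2⟩ := far_point (hstab c 2304 15600 h.hc (by norm_num) (by norm_num))
  obtain ⟨f, f1, f2, f3⟩ := orbit_map φ b (g1 • b1) hg1
  obtain ⟨f', e1, e2, e3⟩ := orbit_map φ c (g2 • pOne) hg2
  rw [orbit_one ((mask1_inv g1 b1).2 b1_mem)] at f1 f2 f3
  rw [orbit_two ((mask2_inv g2 pOne).2 pOne_mem)] at e1 e2 e3
  set ι : Fin 4060 → Ω := fun x => if x = b0 then a else if x ∈ maskSet mask1 then f x else f' x with hι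
  have i0 : ι b0 = a := if_pos rfl
  have i1 : ∀ x ∈ maskSet mask1, ι x = f x := fun x hx => by
    simp only [hι, if_neg (fun e : x = b0 => b0_not1 (e ▸ hx)), if_pos hx]
  have i2 : ∀ x ∈ maskSet mask2, ι x = f' x := fun x hx => by
    simp only [hι, if_neg (fun e : x = b0 => b0_not2 (e ▸ hx)), if_neg (fun h1 => not_both h1 hx)]
  have hequiv : ∀ (k : stabilizer G a) (x : Fin 4060), k • ι x = ι (φ k • x) := by
    intro k x
    rcases cover x with rfl | hx | hx
    · rw [smul_b0, i0]
      exact k.2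
    · rw [i1 x hx, i1 _ ((mask1_inv _ x).2 hx), f1 k x hx]
    · rw [i2 x hx, i2 _ ((mask2_inv _ x).2 hx), e1 k x hx]
  have hab : ∀ z ∈ orbit (stabilizer G a) b, z ≠ a := fun z hz e => by
    have := h.hb
    rw [← orbit_eq_iff.2 hz, e, h.orbit_self, Set.ncard_singleton] at this
    omega
  have hbc : ∀ z, z ∈ orbit (stabilizer G a) b → z ∈ orbit (stabilizer G a) c → False := fun z hz hz' => by
    have := h.hb
    rw [← orbit_eq_iff.2 hz, orbit_eq_iff.2 hz', h.hc] at this
    omega
  have k1 : ∀ x ∈ maskSet mask1, ι x ∈ orbit (stabilizer G a) b := fun x hx =>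
    i1 x hx ▸ f3.subset ⟨x, hx, rfl⟩
  have k2 : ∀ x ∈ maskSet mask2, ι x ∈ orbit (stabilizer G a) c := fun x hx =>
    i2 x hx ▸ e3.subset ⟨x, hx, rfl⟩
  have hinj : Function.Injective ι := by
    intro x y e
    rcases cover x with rfl | hx | hx <;> rcases cover y with rfl | hy | hy
    · rfl
    · exact absurd (e.symm.trans i0) (hab _ (k1 _ hy))
    · exact absurd (e.symm.trans i0) (far_facts h (k2 _ hy)).1
    · exact absurd (e.trans i0) (hab _ (k1 _ hx))
    · rw [i1 x hx, i1 y hy] at e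
      exact f2 x hx y hy e
    · exact (hbc _ (e ▸ k1 _ hx) (k2 _ hy)).elim
    · exact absurd (e.trans i0) (far_facts h (k2 _ hx)).1
    · exact (hbc _ (k1 _ hy) (e ▸ k2 _ hx)).elim
    · rw [i2 x hx, i2 y hy] at e
      exact e2 x hx y hy e
  have hbij : Function.Bijective ι :=
    (Fintype.bijective_iff_injective_and_card ι).2 ⟨hinj, by rw [Fintype.card_fin, h.card]⟩
  have hadj0 : ∀ x, Γ.Adj a (ι x) ↔ x ∈ maskSet mask1 := by
    intro x
    refine ⟨fun hx => ?_, fun hx => h.adj_base.2 (k1 x hx)⟩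
    rcases cover x with rfl | hx' | hx'
    · exact absurd i0.symm hx.ne
    · exact hx'
    · exact absurd hx (far_facts h (k2 _ hx')).2
  have hsm : ∀ (k : P) x y, Γ.Adj (ι (k • x)) (ι (k • y)) ↔ Γ.Adj (ι x) (ι y) := by
    intro k x y
    have h1 := h.smul_adj (φ.symm k).1 (x := ι x) (y := ι y)
    rw [show (φ.symm k).1 • ι x = φ.symm k • ι x from rfl, show (φ.symm k).1 • ι y = φ.symm k • ι y from rfl,
      hequiv, hequiv, φ.apply_symm_apply] at h1
    exact h1
  obtain ⟨l, m, hS, heq, hl1754, hlt⟩ := h.srg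
  -- the neighbours of a point split into the base point, the near ones and the far ones
  have hpull : ∀ S : Set Ω, (ι ⁻¹' S).ncard = S.ncard := fun S => by
    rw [← Set.ncard_image_of_injective _ hinj, Set.image_preimage_eq _ hbij.2]
  have hdeg : ∀ v, {z | Γ.Adj v z}.ncard = 1755 := fun v => by
    rw [← hS.regular v, ← SimpleGraph.card_neighborFinset_eq_degree, ← Set.ncard_coe_finset]
    congr 1
    ext z
    simp [hΓ]
  have hnear : ∀ q, {y | y ∈ maskSet mask1 ∧ Γ.Adj (ι q) (ι y)}.ncard =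
      if a = ι q then 1755 else if Γ.Adj a (ι q) then l else m := fun q => by
    rw [← ncard_common_eq h hS (ι q), ← hpull]
    congr 1
    ext y
    simp only [Set.mem_preimage, Set.mem_ofPred_eq]
    exact ⟨fun h => ⟨(hadj0 y).2 h.1, h.2⟩, fun h => ⟨(hadj0 y).1 h.1, h.2⟩⟩
  -- around the second base point
  set X1 := {y | y ∈ maskSet mask1 ∧ Γ.Adj (ι b1) (ι y)} with hX1
  set X2 := {y | y ∈ maskSet mask2 ∧ Γ.Adj (ι b1) (ι y)} with hX2
  have hb1a : Γ.Adj a (ι b1) := (hadj0 b1).2 b1_mem
  have cX1 : X1.ncard = l := by rw [hX1, hnear, if_neg hb1a.ne, if_pos hb1a]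
  have hH : ∀ w ∈ hW, wP w ∈ stabilizer P b1 := fun w hw => hW_fix hw
  have hinv : ∀ {q : Fin 4060} {mask : ℕ}, (∀ (g : P) (x : Fin 4060), g • x ∈ maskSet mask ↔ x ∈ maskSet mask) →
      ∀ k ∈ stabilizer P q, ∀ y ∈ {y | y ∈ maskSet mask ∧ Γ.Adj (ι q) (ι y)},
        k • y ∈ {y | y ∈ maskSet mask ∧ Γ.Adj (ι q) (ι y)} := by
    rintro q mask hm k hk y ⟨hy, hya⟩
    refine ⟨(hm k y).2 hy, ?_⟩
    have := (hsm k q y).2 hya
    rwa [mem_stabilizer_iff.1 hk] at this
  obtain ⟨hc1, hc2⟩ := h_cover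
  obtain ⟨hsz, hone⟩ := h_sizes
  have hsz1 : [hMask0, hMask1, hMask2, hMask3, hMask4].map pop = [1, 10, 80, 640, 1024] := by
    simpa using congrArg (List.take 5) hsz
  have hsz2 : [hMask5, hMask6].map pop = [1024, 1280] := by
    simpa using congrArg (List.drop 5) hsz
  obtain ⟨T1, hT1, hcT1⟩ := union_count hc1 (X := X1) (fun y hy => hy.1) fun i hi hmeet => by
    obtain ⟨c, hc, e⟩ := h_near_class i hi
    rw [← e] at hmeet ⊢
    exact class_union hH h_classes (hinv mask1_inv) hc (class_lt (gens := hW) h_roots hc) hmeet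
  have hT10 : (0 : Fin 5) ∉ T1 := fun h0 => by
    have : b1 ∈ X1 := (hT1 b1).2 ⟨0, h0, by show hMask0.testBit b1.val = true; rw [hone]; exact mem_shift.2 rfl⟩
    exact this.2.ne rfl
  have hT1eq : T1 = {1, 2, 3} := by
    refine near_sums T1 hT10 l ?_ ?_ hl1754
    · rw [← cX1, hcT1]
      exact Finset.sum_congr rfl fun i _ => pop_get hsz1 i
    · rw [heq]; simp [Nat.mul_mod_right]
  have hl730 : l = 730 := by
    rw [← cX1, hcT1, Finset.sum_congr rfl fun i _ => pop_get hsz1 i, hT1eq]
    decide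
  have hm780 : m = 780 := by rw [hl730] at heq; omega
  have hX1mem : ∀ y : Fin 4060, y ∈ X1 ↔
      hMask1.testBit y.val = true ∨ hMask2.testBit y.val = true ∨ hMask3.testBit y.val = true := by
    intro y
    rw [hT1, hT1eq]
    simp
  have hsplit : ∀ q : Fin 4060, q ≠ b0 → {y | Γ.Adj (ι q) (ι y)}.ncard =
      (if Γ.Adj a (ι q) then 1 else 0) + ({y | y ∈ maskSet mask1 ∧ Γ.Adj (ι q) (ι y)}.ncard +
        {y | y ∈ maskSet mask2 ∧ Γ.Adj (ι q) (ι y)}.ncard) := by
    intro q _
    rw [← Set.ncard_union_eq (Set.disjoint_left.2 fun y hy hy' => not_both hy.1 hy'.1)]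
    by_cases hq : Γ.Adj a (ι q)
    · rw [if_pos hq, add_comm, ← Set.ncard_insert_of_notMem (a := b0)]
      · congr 1
        ext y
        constructor
        · intro hy
          rcases cover y with rfl | h' | h'
          · exact Or.inl rfl
          · exact Or.inr (Or.inl ⟨h', hy⟩)
          · exact Or.inr (Or.inr ⟨h', hy⟩)
        · rintro (rfl | hy | hy)
          · show Γ.Adj (ι q) (ι b0)
            rw [i0]; exact hq.symm
          · exact hy.2
          · exact hy.2
      · rintro (hy | hy)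
        · exact b0_not1 hy.1
        · exact b0_not2 hy.1
    · rw [if_neg hq, zero_add]
      congr 1
      ext y
      constructor
      · intro hy
        rcases cover y with rfl | h' | h'
        · exact absurd (show Γ.Adj a (ι q) by rw [← i0]; exact hy.symm) hq
        · exact Or.inl ⟨h', hy⟩
        · exact Or.inr ⟨h', hy⟩
      · rintro (hy | hy) <;> exact hy.2
  have hall : ∀ q, {y | Γ.Adj (ι q) (ι y)}.ncard = 1755 := fun q => (hpull {z | Γ.Adj (ι q) z}).trans (hdeg _)
  have cX2 : X2.ncard = 1024 := by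
    have := hsplit b1 (fun e => b0_not1 (e ▸ b1_mem))
    rw [hall, if_pos hb1a, show {y | y ∈ maskSet mask1 ∧ Γ.Adj (ι b1) (ι y)}.ncard = l from cX1,
      show {y | y ∈ maskSet mask2 ∧ Γ.Adj (ι b1) (ι y)} = X2 from rfl, hl730] at this
    omega
  obtain ⟨T2, hT2, hcT2⟩ := union_count hc2 (X := X2) (fun y hy => hy.1) fun i hi hmeet => by
    obtain ⟨c, hc, e⟩ := h_far_class i hi
    rw [← e] at hmeet ⊢
    exact class_union hH h_classes (hinv mask2_inv) hc (class_lt (gens := hW) h_roots hc) hmeet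
  have hT2eq : T2 = {0} := far_sums.1 T2 (by
    exact (Finset.sum_congr rfl fun i _ => (pop_get hsz2 i).symm).trans (hcT2.symm.trans cX2))
  have hX2mem : ∀ y : Fin 4060, y ∈ X2 ↔ hMask5.testBit y.val = true := by
    intro y
    rw [hT2, hT2eq]
    simp
  -- around the far base point
  set X3 := {y | y ∈ maskSet mask2 ∧ Γ.Adj (ι pOne) (ι y)} with hX3
  have hpa := far_facts h (k2 pOne pOne_mem)
  have cX3 : X3.ncard = 975 := by
    have := hsplit pOne (fun e => b0_not2 (e ▸ pOne_mem))
    rw [hall, if_neg hpa.2, hnear, if_neg hpa.1.symm, if_neg hpa.2, hm780,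
      show {y | y ∈ maskSet mask2 ∧ Γ.Adj (ι pOne) (ι y)} = X3 from rfl] at this
    omega
  obtain ⟨hksz, hkone⟩ := k_sizes
  obtain ⟨T3, hT3, hcT3⟩ := union_count k_cover (X := X3) (fun y hy => hy.1) fun i hi hmeet => by
    have hK : ∀ w ∈ kW, wP w ∈ stabilizer P pOne := fun w hw => by
      have h := List.all_eq_true.1 kW_ok w hw
      simp only [Bool.and_eq_true, beq_iff_eq] at h
      exact mem_stabilizer_iff.2 (Fin.ext ((wP_smul _ _).trans h.2))
    obtain ⟨c, hc, e⟩ := k_class i hi
    rw [← e] at hmeet ⊢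
    exact class_union hK k_classes (hinv mask2_inv) hc (class_lt (gens := kW) k_roots hc) hmeet
  have hT30 : (0 : Fin 6) ∉ T3 := fun h0 => by
    have : pOne ∈ X3 := (hT3 pOne).2 ⟨0, h0, by show kMask0.testBit pOne.val = true; rw [hkone]; exact mem_shift.2 rfl⟩
    exact this.2.ne rfl
  have hT3eq : T3 = {5} := far_sums.2 T3 hT30 (by
    exact (Finset.sum_congr rfl fun i _ => (pop_get hksz i).symm).trans (hcT3.symm.trans cX3))
  refine ⟨ι, hbij, i0, hequiv, hadj0, fun y hy => ?_, fun y hy => ?_, fun g x y => h.smul_adj g⟩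
  · simp only [nMask, Nat.testBit_or, Bool.or_eq_true]
    rcases cover y with rfl | h' | h'
    · exact absurd rfl hy
    · have h5 : ¬ hMask5.testBit y.val = true := fun e =>
        not_both h' ((cover_mem hc2).2.1 hMask5 List.mem_cons_self e)
      have := hX1mem y
      rw [hX1, Set.mem_ofPred_eq] at this
      constructor
      · intro e
        rcases this.1 ⟨h', e⟩ with e | e | e
        · exact Or.inl (Or.inl (Or.inl e))
        · exact Or.inl (Or.inl (Or.inr e))
        · exact Or.inl (Or.inr e)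
      · rintro (((e | e) | e) | e)
        · exact (this.2 (Or.inl e)).2
        · exact (this.2 (Or.inr (Or.inl e))).2
        · exact (this.2 (Or.inr (Or.inr e))).2
        · exact absurd e h5
    · have hno : ∀ m ∈ [hMask1, hMask2, hMask3], ¬ m.testBit y.val = true := fun m hm e =>
        not_both ((cover_mem hc1).2.1 m (List.mem_cons_of_mem _ (List.mem_append_left [hMask4] hm)) e) h'
      have := hX2mem y
      rw [hX2, Set.mem_ofPred_eq] at this
      constructor
      · intro e; exact Or.inr (this.1 ⟨h', e⟩)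
      · rintro (((e | e) | e) | e)
        · exact absurd e (hno hMask1 List.mem_cons_self)
        · exact absurd e (hno hMask2 (List.mem_cons_of_mem _ List.mem_cons_self))
        · exact absurd e (hno hMask3 (List.mem_cons_of_mem _ (List.mem_cons_of_mem _ List.mem_cons_self)))
        · exact (this.2 e).2
  · have := hT3 y
    rw [hT3eq, hX3, Set.mem_ofPred_eq] at this
    simp only [Finset.mem_singleton, exists_eq_left] at this
    exact ⟨fun e => this.1 ⟨hy, e⟩, fun e => (this.2 e).2⟩

theorem Labelling.adj_smul {φ : stabilizer G a ≃* P} {ι : Fin 4060 → Ω} (L : Labelling G a b φ ι) (k : P)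
    (x y : Fin 4060) : (orbGraph G a b).Adj (ι (k • x)) (ι (k • y)) ↔ (orbGraph G a b).Adj (ι x) (ι y) := by
  have h := L.smul (φ.symm k).1 (ι x) (ι y)
  rw [show (φ.symm k).1 • ι x = φ.symm k • ι x from rfl, show (φ.symm k).1 • ι y = φ.symm k • ι y from rfl,
    L.equiv, L.equiv, φ.apply_symm_apply] at h
  exact h

theorem exists_to_b1 {x : Fin 4060} (hx : x ∈ maskSet mask1) : ∃ k : P, k • x = b1 :=
  (orbit_one hx).ge b1_mem

theorem exists_to_pOne {x : Fin 4060} (hx : x ∈ maskSet mask2) : ∃ k : P, k • x = pOne :=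
  (orbit_two hx).ge pOne_mem

variable {Ω' : Type v} [Fintype Ω'] [DecidableEq Ω'] {G' : Subgroup (Equiv.Perm Ω')} {a' b' : Ω'}

/-- Two labelled graphs agree. -/
theorem adj_same {φ : stabilizer G a ≃* P} {ι : Fin 4060 → Ω} (L : Labelling G a b φ ι)
    {φ' : stabilizer G' a' ≃* P} {ι' : Fin 4060 → Ω'} (L' : Labelling G' a' b' φ' ι') (x y : Fin 4060) :
    (orbGraph G a b).Adj (ι x) (ι y) ↔ (orbGraph G' a' b').Adj (ι' x) (ι' y) := by
  have zero : ∀ y, (orbGraph G a b).Adj (ι b0) (ι y) ↔ (orbGraph G' a' b').Adj (ι' b0) (ι' y) := fun y => by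
    rw [L.base, L'.base, L.adj0, L'.adj0]
  have near : ∀ x ∈ maskSet mask1, ∀ y, y ≠ b0 →
      ((orbGraph G a b).Adj (ι x) (ι y) ↔ (orbGraph G' a' b').Adj (ι' x) (ι' y)) := by
    intro x hx y hy
    obtain ⟨k, hk⟩ := exists_to_b1 hx
    have hy' : k • y ≠ b0 := fun e => hy (by rw [← inv_smul_smul k y, e, smul_b0])
    rw [← L.adj_smul k, ← L'.adj_smul k, hk, L.adj1 _ hy', L'.adj1 _ hy']
  have far : ∀ x ∈ maskSet mask2, ∀ y ∈ maskSet mask2,
      (orbGraph G a b).Adj (ι x) (ι y) ↔ (orbGraph G' a' b').Adj (ι' x) (ι' y) := by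
    intro x hx y hy
    obtain ⟨k, hk⟩ := exists_to_pOne hx
    rw [← L.adj_smul k, ← L'.adj_smul k, hk, L.adj3 _ ((mask2_inv k y).2 hy), L'.adj3 _ ((mask2_inv k y).2 hy)]
  by_cases hx0 : x = b0
  · subst hx0; exact zero y
  by_cases hy0 : y = b0
  · subst hy0; rw [SimpleGraph.adj_comm, zero x, SimpleGraph.adj_comm]
  rcases (cover x).resolve_left hx0 with hx | hx
  · exact near x hx y hy0
  · rcases (cover y).resolve_left hy0 with hy | hy
    · rw [SimpleGraph.adj_comm, near y hy x hx0, SimpleGraph.adj_comm]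
    · exact far x hx y hy

end Cfsg.Lib.RuModel.RankThree
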