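import Cfsg.Agent.RuModel.RankThree.Labelling

/-!
The automorphisms of the labelled graph which fix the base point.
-/

set_option autoImplicit false
set_option linter.all false
set_option maxRecDepth 100000

namespace Cfsg.Lib.RuModel.RankThree

open MulAction
open scoped Pointwise

universe u

variable {Ω : Type u} [Fintype Ω] [DecidableEq Ω] {G : Subgroup (Equiv.Perm Ω)} {a b : Ω}
  {φ : stabilizer G a ≃* P} {ι : Fin 4060 → Ω}

/-- The relation pulled back to the numbers. -/
def lAdj (G : Subgroup (Equiv.Perm Ω)) (a b : Ω) (ι : Fin 4060 → Ω) (x y : Fin 4060) : Prop :=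
  (orbGraph G a b).Adj (ι x) (ι y)

/-- The permutations of the numbers fixing the base number and preserving the relation. -/
def autL (G : Subgroup (Equiv.Perm Ω)) (a b : Ω) (ι : Fin 4060 → Ω) : Subgroup (Equiv.Perm (Fin 4060)) where
  carrier := {p | p b0 = b0 ∧ ∀ x y, lAdj G a b ι (p x) (p y) ↔ lAdj G a b ι x y}
  one_mem' := ⟨rfl, fun _ _ => Iff.rfl⟩
  mul_mem' := by
    rintro g h ⟨g0, hg⟩ ⟨h0, hh⟩
    exact ⟨by rw [Equiv.Perm.mul_apply, h0, g0], fun x y => (hg (h x) (h y)).trans (hh x y)⟩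
  inv_mem' := by
    rintro g ⟨g0, hg⟩
    refine ⟨g.symm_apply_eq.2 g0.symm, fun x y => ?_⟩
    have := hg (g⁻¹ x) (g⁻¹ y)
    rw [show g (g⁻¹ x) = x from g.apply_symm_apply x, show g (g⁻¹ y) = y from g.apply_symm_apply y] at this
    exact this.symm

theorem mask_iff (L : Labelling G a b φ ι) (z : Fin 4060) : z ∈ maskSet mask1 ↔ lAdj G a b ι b0 z := by
  rw [lAdj, L.base, L.adj0]

theorem aut_mask (L : Labelling G a b φ ι) {p : Equiv.Perm (Fin 4060)} (hp : p ∈ autL G a b ι) (z : Fin 4060) :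
    p z ∈ maskSet mask1 ↔ z ∈ maskSet mask1 := by
  rw [mask_iff L, mask_iff L, ← hp.2 b0 z, hp.1]

theorem adj_translate (L : Labelling G a b φ ι) {w : List ℕ} (hw : wordOK w = true) {y : Fin 4060} (hy : y ≠ b0) :
    lAdj G a b ι (wP w • b1) y ↔ nMask.testBit (ev (iw w) y.val) = true := by
  have h := L.adj_smul (wP w)⁻¹ (wP w • b1) y
  rw [inv_smul_smul] at h
  have hne : (wP w)⁻¹ • y ≠ b0 := fun e => hy (by rw [← smul_inv_smul (wP w) y, e, smul_b0])
  rw [lAdj, ← h, L.adj1 _ hne, ← wP_iw hw, wP_smul]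

theorem ne_b0 {y : Fin 4060} (hy : y ∈ maskSet mask1) : y ≠ b0 := fun e => b0_not1 (e ▸ hy)

theorem ne_b0' {y : Fin 4060} (hy : y ∈ maskSet mask2) : y ≠ b0 := fun e => b0_not2 (e ▸ hy)

/-- The common neighbours among the near points. -/
def common (G : Subgroup (Equiv.Perm Ω)) (a b : Ω) (ι : Fin 4060 → Ω) (x y : Fin 4060) : Set (Fin 4060) :=
  {z | z ∈ maskSet mask1 ∧ lAdj G a b ι x z ∧ lAdj G a b ι y z}

theorem common_aut (L : Labelling G a b φ ι) {p : Equiv.Perm (Fin 4060)} (hp : p ∈ autL G a b ι) (x y : Fin 4060) :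
    (common G a b ι (p x) (p y)).ncard = (common G a b ι x y).ncard := by
  rw [← Set.ncard_image_of_injective (common G a b ι x y) p.injective]
  congr 1
  ext z
  obtain ⟨z, rfl⟩ := p.surjective z
  simp only [p.injective.mem_set_image, common, Set.mem_ofPred_eq, aut_mask L hp, hp.2]

theorem common_smul (L : Labelling G a b φ ι) (k : P) (x y : Fin 4060) :
    (common G a b ι (k • x) (k • y)).ncard = (common G a b ι x y).ncard := by
  rw [← Set.ncard_smul_set k (common G a b ι x y)]
  congr 1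
  ext z
  rw [Set.mem_smul_set_iff_inv_smul_mem]
  simp only [common, Set.mem_ofPred_eq, lAdj, mask1_inv]
  rw [← L.adj_smul k x, ← L.adj_smul k y, smul_inv_smul]

theorem cls_spec {y : Fin 4060} (hy : y ∈ maskSet mask1) :
    clsOf y.val < 5 ∧ ([hMask0, hMask1, hMask2, hMask3, hMask4].getD (clsOf y.val) 0).testBit y.val = true := by
  obtain ⟨m, hm, hmy⟩ := (cover_mem h_cover.1).1 hy
  simp only [List.mem_cons, List.not_mem_nil, or_false] at hm
  unfold clsOf
  cases h0 : hMask0.testBit y.val <;> cases h1 : hMask1.testBit y.val <;> cases h2 : hMask2.testBit y.val <;>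
    cases h3 : hMask3.testBit y.val <;> simp [h0, h1, h2, h3]
  rcases hm with rfl | rfl | rfl | rfl | rfl <;> simp_all

/-- The number of common neighbours with the second base number gives the class. -/
theorem common_b1 (L : Labelling G a b φ ι) {y : Fin 4060} (hy : y ∈ maskSet mask1) :
    (common G a b ι b1 y).ncard = clsCnt.getD (clsOf y.val) 0 := by
  obtain ⟨hlt, hbit⟩ := cls_spec hy
  set c := clsOf y.val
  have h := List.all_eq_true.1 cnt_ok.1 c (List.mem_range.2 hlt)
  simp only [cntOK, Bool.and_eq_true, beq_iff_eq] at h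
  obtain ⟨⟨⟨hw, hc⟩, hm⟩, hcnt⟩ := h
  set r := wP (clsW.getD c []) • b1
  have hr : r.val = ev (clsW.getD c []) (ru1.pt 0) := wP_smul _ _
  have hr1 : r ∈ maskSet mask1 := by show mask1.testBit r.val = true; rw [hr]; exact hm
  have hrbit : ([hMask0, hMask1, hMask2, hMask3, hMask4].getD c 0).testBit r.val = true := by
    have := (cls_spec hr1).2
    rwa [show clsOf r.val = c by rw [hr]; exact hc] at this
  have hcl : c < hClasses.length := by rw [show hClasses.length = 7 from rfl]; omega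
  have hmask : hClasses[c].2.1 = [hMask0, hMask1, hMask2, hMask3, hMask4].getD c 0 := by
    interval_cases c <;> rfl
  have ht := List.all_eq_true.1 h_classes _ (List.getElem_mem hcl)
  have hroot := class_lt (gens := hW) h_roots (List.getElem_mem hcl)
  obtain ⟨k1, hk1, e1⟩ := tree_orbit (fun w hw => hW_fix hw) (root := ⟨_, hroot⟩) ht y (hmask ▸ hbit)
  obtain ⟨k2, hk2, e2⟩ := tree_orbit (fun w hw => hW_fix hw) (root := ⟨_, hroot⟩) ht r (hmask ▸ hrbit)
  have ey : y = (k1 * k2⁻¹) • r := by rw [mul_smul, ← e2, inv_smul_smul, e1]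
  have eb : b1 = (k1 * k2⁻¹) • b1 := (mem_stabilizer_iff.1 (mul_mem hk1 (inv_mem hk2))).symm
  rw [ey]
  conv_lhs => rw [eb]
  rw [common_smul L, ← hcnt]
  rw [← ncard_pred]
  congr 1
  ext z
  simp only [common, Set.mem_ofPred_eq, Bool.and_eq_true, mem_maskSet, and_assoc]
  refine and_congr_right fun hz => and_congr ?_ (adj_translate L hw (ne_b0 hz))
  exact L.adj1 z (ne_b0 hz)

/-- A separating point. -/
noncomputable def sepPt (ws : List (List ℕ)) (t : ℕ) : Fin 4060 := wP (ws.getD t []) • b1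

theorem sep_word {t : ℕ} (ht : t < sepW.length) : wordOK (sepW.getD t []) = true ∧ sepPt sepW t ∈ maskSet mask1 := by
  have h := List.all_eq_true.1 sep_ok.1 (sepW.getD t []) (by
    rw [List.getD_eq_getElem _ _ ht]; exact List.getElem_mem _)
  rw [Bool.and_eq_true] at h
  refine ⟨h.1, ?_⟩
  show mask1.testBit (wP (sepW.getD t []) • b1).val = true
  rw [wP_smul]
  exact h.2

theorem digit_aut (L : Labelling G a b φ ι) {p : Equiv.Perm (Fin 4060)} (hp : p ∈ autL G a b ι) {t : ℕ}
    (ht : t < sepW.length) (hfix : p (sepPt sepW t) = sepPt sepW t) {y : Fin 4060} (hy : y ∈ maskSet mask1) :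
    clsOf (ev (iw (sepW.getD t [])) (p y).val) = clsOf (ev (iw (sepW.getD t [])) y.val) := by
  obtain ⟨hw, -⟩ := sep_word ht
  have key : ∀ z ∈ maskSet mask1, clsOf (ev (iw (sepW.getD t [])) z.val) < 5 ∧
      (common G a b ι (sepPt sepW t) z).ncard = clsCnt.getD (clsOf (ev (iw (sepW.getD t [])) z.val)) 0 := by
    intro z hz
    have hz' : (wP (sepW.getD t []))⁻¹ • z ∈ maskSet mask1 := (mask1_inv _ _).2 hz
    have e : ((wP (sepW.getD t []))⁻¹ • z).val = ev (iw (sepW.getD t [])) z.val := by rw [← wP_iw hw, wP_smul]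
    have h1 := common_b1 L hz'
    have h2 := common_smul L (wP (sepW.getD t [])) b1 ((wP (sepW.getD t []))⁻¹ • z)
    rw [smul_inv_smul] at h2
    rw [← e]
    exact ⟨(cls_spec hz').1, h2.trans h1⟩
  obtain ⟨hlt, hc⟩ := key y hy
  obtain ⟨hlt', hc'⟩ := key (p y) ((aut_mask L hp y).2 hy)
  have h := common_aut L hp (sepPt sepW t) y
  rw [hfix, hc, hc', List.getD_eq_getElem clsCnt _ (lt_of_lt_of_eq hlt' cnt_ok.2.2.symm),
    List.getD_eq_getElem clsCnt _ (lt_of_lt_of_eq hlt cnt_ok.2.2.symm),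
    List.Nodup.getElem_inj_iff cnt_ok.2.1] at h
  exact h

theorem digits_mod (f g : ℕ → ℕ) : ∀ (n t : ℕ), (∀ i < n, i < t → f i = g i) →
    ((List.range n).map fun i => f i * 8 ^ i).sum % 8 ^ t = ((List.range n).map fun i => g i * 8 ^ i).sum % 8 ^ t
  | 0, _, _ => rfl
  | n + 1, t, h => by
    have ih := digits_mod f g n t fun i hi => h i (hi.trans n.lt_succ_self)
    simp only [List.range_succ, List.map_append, List.map_cons, List.map_nil, List.sum_append, List.sum_cons,
      List.sum_nil, Nat.add_zero]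
    rw [Nat.add_mod, ih]
    by_cases hn : n < t
    · rw [h n n.lt_succ_self hn, ← Nat.add_mod]
    · have hz : ∀ v, v * 8 ^ n % 8 ^ t = 0 := fun v =>
        Nat.mod_eq_zero_of_dvd (Dvd.dvd.mul_left (pow_dvd_pow 8 (not_lt.1 hn)) v) |>.symm ▸ rfl
      rw [Nat.add_mod _ (g n * 8 ^ n), hz, hz]

theorem code_aut (L : Labelling G a b φ ι) {p : Equiv.Perm (Fin 4060)} (hp : p ∈ autL G a b ι) {t : ℕ}
    (hfix : ∀ i < t, i < sepW.length → p (sepPt sepW i) = sepPt sepW i) {y : Fin 4060} (hy : y ∈ maskSet mask1) :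
    code (p y).val % 8 ^ t = code y.val % 8 ^ t :=
  digits_mod _ _ sepW.length t fun i hi hit => digit_aut L hp hi (hfix i hit hi) hy

theorem codesOK_spec {f : ℕ → ℕ} : ∀ {l : List ℕ} {prev seen mask : ℕ}, codesOK f l prev seen mask = true →
    (∀ e ∈ l, prev ≤ e / 4096 ∧ f (e % 4096) = e / 4096) ∧
      (∀ e ∈ l, ∀ e' ∈ l, e / 4096 = e' / 4096 → e = e') ∧
      ∀ y, mask.testBit y = true → seen.testBit y = true ∨ ∃ e ∈ l, e % 4096 = y
  | [], _, _, _, h => ⟨by simp, by simp, fun y hy => Or.inl ((beq_iff_eq.1 h) ▸ hy)⟩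
  | e :: r, prev, seen, mask, h => by
    simp only [codesOK, Bool.and_eq_true, beq_iff_eq] at h
    obtain ⟨⟨hp, hf⟩, hr⟩ := h
    have hp' : prev ≤ e / 4096 := Nat.le_of_ble_eq_true hp
    obtain ⟨h1, h2, h3⟩ := codesOK_spec hr
    refine ⟨fun x hx => ?_, fun x hx x' hx' ee => ?_, fun y hy => ?_⟩
    · rcases List.mem_cons.1 hx with rfl | hx
      · exact ⟨hp', hf⟩
      · obtain ⟨h4, h5⟩ := h1 x hx
        exact ⟨by omega, h5⟩
    · rcases List.mem_cons.1 hx with rfl | hx1 <;> rcases List.mem_cons.1 hx' with rfl | hx2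
      · rfl
      · have := (h1 x' hx2).1; omega
      · have := (h1 x hx1).1; omega
      · exact h2 x hx1 x' hx2 ee
    · rcases h3 y hy with h | ⟨x, hx, e'⟩
      · rw [Nat.testBit_or, Bool.or_eq_true, mem_shift] at h
        rcases h with h | rfl
        · exact Or.inl h
        · exact Or.inr ⟨e, List.mem_cons_self, rfl⟩
      · exact Or.inr ⟨x, List.mem_cons_of_mem _ hx, e'⟩

theorem code1_entry {y : Fin 4060} (hy : y ∈ maskSet mask1) :
    ∃ e ∈ code1, e % 4096 = y.val ∧ e / 4096 = code y.val := by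
  obtain ⟨h1, -, h3⟩ := codesOK_spec code1_ok
  rcases h3 y.val hy with h | ⟨e, he, e'⟩
  · simp at h
  · exact ⟨e, he, e', by rw [← (h1 e he).2, e']⟩

theorem code1_inj {x y : Fin 4060} (hx : x ∈ maskSet mask1) (hy : y ∈ maskSet mask1) (h : code x.val = code y.val) :
    x = y := by
  obtain ⟨e, he, e1, e2⟩ := code1_entry hx
  obtain ⟨e', he', e1', e2'⟩ := code1_entry hy
  have := (codesOK_spec code1_ok).2.1 e he e' he' (by omega)
  exact Fin.ext (by rw [← e1, ← e1', this])

theorem code2_inj {x y : Fin 4060} (hx : x ∈ maskSet mask2) (hy : y ∈ maskSet mask2)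
    (h : codeFar x.val = codeFar y.val) : x = y := by
  obtain ⟨h1, h2, h3⟩ := codesOK_spec code2_ok
  rcases h3 x.val hx with h' | ⟨e, he, e1⟩
  · simp at h'
  rcases h3 y.val hy with h' | ⟨e', he', e1'⟩
  · simp at h'
  have := h2 e he e' he' (by rw [← (h1 e he).2, ← (h1 e' he').2, e1, e1', h])
  exact Fin.ext (by rw [← e1, ← e1', this])

/-- The automorphisms fixing the first separating numbers. -/
noncomputable def autFix (G : Subgroup (Equiv.Perm Ω)) (a b : Ω) (ι : Fin 4060 → Ω) (k : ℕ) : Subgroup (Equiv.Perm (Fin 4060)) :=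
  autL G a b ι ⊓ ⨅ t : Fin k, stabilizer (Equiv.Perm (Fin 4060)) (sepPt sepW t.val)

theorem mem_autFix {k : ℕ} {p : Equiv.Perm (Fin 4060)} :
    p ∈ autFix G a b ι k ↔ p ∈ autL G a b ι ∧ ∀ t < k, p (sepPt sepW t) = sepPt sepW t := by
  simp only [autFix, Subgroup.mem_inf, Subgroup.mem_iInf, mem_stabilizer_iff, Equiv.Perm.smul_def]
  exact and_congr_right fun _ => ⟨fun h t ht => h ⟨t, ht⟩, fun h t => h t.val t.isLt⟩

theorem autFix_step (L : Labelling G a b φ ι) {k n : ℕ} (hk : k < 3) (hn : 0 < n)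
    (hcount : {y : Fin 4060 | y ∈ maskSet mask1 ∧ code y.val % 8 ^ k = code (sepPt sepW k).val % 8 ^ k}.ncard ≤ n) :
    Nat.card (autFix G a b ι k) ≤ n * Nat.card (autFix G a b ι (k + 1)) := by
  classical
  have hk' : k < sepW.length := by rw [sep_ok.2.2.1]; omega
  have hsub : orbit (autFix G a b ι k) (sepPt sepW k) ⊆
      {y : Fin 4060 | y ∈ maskSet mask1 ∧ code y.val % 8 ^ k = code (sepPt sepW k).val % 8 ^ k} := by
    rintro _ ⟨g, rfl⟩
    obtain ⟨hg, hfix⟩ := mem_autFix.1 g.2
    exact ⟨(aut_mask L hg _).2 (sep_word hk').2, code_aut L hg (fun i hi _ => hfix i hi) (sep_word hk').2⟩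
  have hstab : (stabilizer (autFix G a b ι k) (sepPt sepW k)).map (autFix G a b ι k).subtype =
      autFix G a b ι (k + 1) := by
    ext g
    constructor
    · rintro ⟨g', hg', rfl⟩
      obtain ⟨hg, hfix⟩ := mem_autFix.1 g'.2
      refine mem_autFix.2 ⟨hg, fun t ht => ?_⟩
      rcases Nat.lt_succ_iff_lt_or_eq.1 ht with ht | rfl
      · exact hfix t ht
      · exact hg'
    · intro hg
      obtain ⟨ha, hfix⟩ := mem_autFix.1 hg
      exact ⟨⟨g, mem_autFix.2 ⟨ha, fun t ht => hfix t (ht.trans k.lt_succ_self)⟩⟩, hfix k k.lt_succ_self, rfl⟩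
  rw [← Subgroup.card_mul_index (stabilizer (autFix G a b ι k) (sepPt sepW k)), index_stabilizer,
    Nat.card_congr ((stabilizer (autFix G a b ι k) (sepPt sepW k)).equivMapOfInjective _
      (autFix G a b ι k).subtype_injective).toEquiv, hstab, mul_comm]
  exact Nat.mul_le_mul_right _ ((Set.ncard_le_ncard hsub (Set.toFinite _)).trans hcount)

theorem cand_le (t : ℕ) :
    {y : Fin 4060 | y ∈ maskSet mask1 ∧ code y.val % 8 ^ t = code (sepPt sepW t).val % 8 ^ t}.ncard ≤ candN t := by
  classical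
  have hd : (sepPt sepW t).val = ev (sepW.getD t []) (ru1.pt 0) := by rw [sepPt, wP_smul]; rfl
  rw [candN, List.countP_eq_length_filter, ← hd]
  refine le_trans ?_ (List.toFinset_card_le _)
  rw [← Set.ncard_coe_finset]
  refine Set.ncard_le_ncard_of_injOn (fun y : Fin 4060 => code y.val * 4096 + y.val) ?_ ?_ (Finset.finite_toSet _)
  · rintro y ⟨hy, hc⟩
    obtain ⟨e, he, e1, e2⟩ := code1_entry hy
    have : code y.val * 4096 + y.val = e := by omega
    simp only [List.coe_toFinset, Set.mem_ofPred_eq, List.mem_filter, this]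
    exact ⟨he, by rw [beq_iff_eq, e2, hc]⟩
  · intro x _ y _ e
    have := x.isLt
    have := y.isLt
    exact Fin.ext (by simp only at e; omega)

theorem autFix_three (L : Labelling G a b φ ι) : autFix G a b ι 3 = ⊥ := by
  refine eq_bot_iff.2 fun p hp => Subgroup.mem_bot.2 ?_
  obtain ⟨hp, h3⟩ := mem_autFix.1 hp
  have hlen := sep_ok.2.2.1
  have hD : ∀ t < 17, p (sepPt sepW t) = sepPt sepW t := by
    intro t
    induction t using Nat.strong_induction_on with
    | _ t ih =>
      intro ht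
      by_cases ht3 : t < 3
      · exact h3 t ht3
      have hr := List.all_eq_true.1 rounds_ok (t - 3) (List.mem_range.2 (by omega))
      rw [show t - 3 + 3 = t by omega, roundOK, List.all_eq_true] at hr
      have hmem := (sep_word (hlen.symm ▸ ht)).2
      obtain ⟨e, he, e1, e2⟩ := code1_entry ((aut_mask L hp _).2 hmem)
      have h := hr e he
      have hd : ev (sepW.getD t []) (ru1.pt 0) = (sepPt sepW t).val := by rw [sepPt, wP_smul]; rfl
      rw [hd, e2, code_aut L hp (fun i hi _ => ih i hi (by omega)) hmem] at h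
      simp only [BEq.rfl, Bool.not_true, Bool.false_or, beq_iff_eq] at h
      exact Fin.ext (e1.symm.trans h)
  have hnear : ∀ y ∈ maskSet mask1, p y = y := by
    intro y hy
    refine code1_inj ((aut_mask L hp y).2 hy) hy ?_
    have key : ∀ i < sepW.length, clsOf (ev (iw (sepW.getD i [])) (p y).val) = clsOf (ev (iw (sepW.getD i [])) y.val) :=
      fun i hi => digit_aut L hp hi (hD i (hlen ▸ hi)) hy
    simp only [code]
    congr 1
    exact List.map_congr_left fun i hi => by rw [key i (List.mem_range.1 hi)]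
  refine Equiv.ext fun x => ?_
  rcases cover x with rfl | hx | hx
  · exact hp.1
  · exact hnear x hx
  have hx2 : p x ∈ maskSet mask2 := by
    rcases cover (p x) with h | h | h
    · exact absurd (p.injective (h.trans hp.1.symm)) (ne_b0' hx)
    · exact (not_both ((aut_mask L hp x).1 h) hx).elim
    · exact h
  refine code2_inj hx2 hx ?_
  simp only [codeFar]
  congr 1
  refine List.map_congr_left fun i hi => ?_
  have hi' := List.mem_range.1 hi
  have h := List.all_eq_true.1 sep_ok.2.1 (sepW2.getD i []) (by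
    rw [List.getD_eq_getElem _ _ hi']; exact List.getElem_mem _)
  rw [Bool.and_eq_true] at h
  set d := wP (sepW2.getD i []) • b1
  have hd : d ∈ maskSet mask1 := by
    show mask1.testBit d.val = true
    rw [wP_smul]; exact h.2
  have h1 := hp.2 d x
  rw [hnear d hd, adj_translate L h.1 (ne_b0' hx2), adj_translate L h.1 (ne_b0' hx)] at h1
  rw [Bool.eq_iff_iff.2 h1]
  rfl

theorem card_autL (L : Labelling G a b φ ι) : Nat.card (autL G a b ι) ≤ 44928000 := by
  have h0 : autFix G a b ι 0 = autL G a b ι := by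
    ext g
    rw [mem_autFix]
    exact ⟨fun h => h.1, fun h => ⟨h, fun t ht => absurd ht (Nat.not_lt_zero t)⟩⟩
  have c0 : {y : Fin 4060 | y ∈ maskSet mask1 ∧ code y.val % 8 ^ 0 = code (sepPt sepW 0).val % 8 ^ 0}.ncard ≤ 1755 :=
    le_trans (Set.ncard_le_ncard (fun y hy => hy.1) (Set.toFinite _)) (le_of_eq card_mask1)
  have s0 := autFix_step L (k := 0) (by norm_num) (by norm_num) c0
  have s1 := autFix_step L (k := 1) (by norm_num) (n := 1024) (by norm_num) (cand_ok.1 ▸ cand_le 1)
  have s2 := autFix_step L (k := 2) (by norm_num) (n := 25) (by norm_num) (cand_ok.2 ▸ cand_le 2)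
  have s3 : Nat.card (autFix G a b ι 3) = 1 := by rw [autFix_three L]; exact Subgroup.card_bot
  rw [← h0]
  norm_num at s0 s1 s2
  omega

end Cfsg.Lib.RuModel.RankThree
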