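import Cfsg.Agent.RuModel.RankThree.LocalAut
import Cfsg.Agent.Rudvalis.Aut.Group

/-!
A transitive group of degree 4060 with point stabiliser `²F₄(2)` and suborbits of sizes 1755 and 2304 is the
Rudvalis group.
-/

set_option autoImplicit false
set_option linter.all false
set_option maxRecDepth 100000

namespace Cfsg.Lib.RuModel.RankThree

open MulAction
open scoped Pointwise

universe u

theorem b0_val : b0 = (0 : Fin 4060) := Fin.ext (show ru0.pt 0 = 0 by decide +kernel)

/-- A subgroup fixing a point maps into the stabiliser in a larger subgroup. -/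
def stabHom {n : ℕ} (H K : Subgroup (Equiv.Perm (Fin n))) (hle : H ≤ K) (x : Fin n)
    (hfix : ∀ g : H, (g : Equiv.Perm (Fin n)) x = x) : H →* stabilizer K x where
  toFun g := ⟨⟨g.1, hle g.2⟩, mem_stabilizer_iff.2 (hfix g)⟩
  map_one' := rfl
  map_mul' _ _ := rfl

theorem P_le : P ≤ ruGroup := next1.2.1

theorem P_fix (g : P) : (g : Equiv.Perm (Fin 4060)) b0 = b0 := next1.2.2 g.1 g.2

/-- The stabiliser of the base point of the model. -/
noncomputable def toStab : P →* stabilizer ruGroup b0 := stabHom P ruGroup P_le b0 P_fix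

theorem stabHom_bijective {n : ℕ} {H K : Subgroup (Equiv.Perm (Fin n))} (hle : H ≤ K) (x : Fin n)
    (hfix : ∀ g : H, (g : Equiv.Perm (Fin n)) x = x) (hall : ∀ g ∈ K, g x = x → g ∈ H) :
    Function.Bijective (stabHom H K hle x hfix) := by
  refine ⟨fun g g' e => Subtype.ext (congrArg (fun z : stabilizer K x => z.1.1) e), ?_⟩
  rintro ⟨⟨g, hg⟩, hk⟩
  exact ⟨⟨g, hall g hg hk⟩, rfl⟩

theorem stab_mem : ∀ g ∈ ruGroup, g b0 = b0 → g ∈ P := level0.stab

theorem toStab_bijective : Function.Bijective toStab := stabHom_bijective P_le b0 P_fix stab_mem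

/-- The stabiliser as the group `P`. -/
noncomputable def phiM : stabilizer ruGroup b0 ≃* P := (MulEquiv.ofBijective toStab toStab_bijective).symm

theorem phiM_smul (k : stabilizer ruGroup b0) (x : Fin 4060) : k • x = phiM k • x := by
  obtain ⟨g, rfl⟩ := toStab_bijective.2 k
  rw [phiM, show (MulEquiv.ofBijective toStab toStab_bijective).symm (toStab g) = g from
    MulEquiv.ofBijective toStab toStab_bijective |>.symm_apply_apply g]
  rfl

theorem orbit_stabM (x : Fin 4060) : orbit (stabilizer ruGroup b0) x = orbit P x := by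
  ext y
  constructor
  · rintro ⟨k, rfl⟩
    exact ⟨phiM k, (phiM_smul k x).symm⟩
  · rintro ⟨g, rfl⟩
    refine ⟨phiM.symm g, ?_⟩
    show phiM.symm g • x = g • x
    rw [phiM_smul, phiM.apply_symm_apply]

theorem setupM : Setup ruGroup b0 b1 pOne :=
  ⟨Fintype.card_fin _, ru_pretransitive, by rw [orbit_stabM, orbit_one b1_mem, card_mask1],
    by rw [orbit_stabM, orbit_two pOne_mem, card_mask2]⟩

variable {Ω : Type u} [Fintype Ω] [DecidableEq Ω] {G : Subgroup (Equiv.Perm Ω)} {a b c : Ω}

theorem recognition (hΩ : Fintype.card Ω = 4060) (htr : IsPretransitive G Ω) (φ : stabilizer G a ≃* P)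
    (hb : (orbit (stabilizer G a) b).ncard = 1755) (hc : (orbit (stabilizer G a) c).ncard = 2304) :
    Cfsg.Spor.IsoRu G := by
  classical
  haveI := htr
  have h : Setup G a b c := ⟨hΩ, htr, hb, hc⟩
  obtain ⟨ιG, LG⟩ := exists_labelling h φ
  obtain ⟨ιM, LM⟩ := exists_labelling setupM phiM
  let EG : Fin 4060 ≃ Ω := Equiv.ofBijective ιG LG.bij
  let EM : Fin 4060 ≃ Fin 4060 := Equiv.ofBijective ιM LM.bij
  let RG : G →* Equiv.Perm (Fin 4060) :=
    { toFun := fun g => EG.trans ((MulAction.toPerm g).trans EG.symm)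
      map_one' := Equiv.ext fun x => by simp
      map_mul' := fun g k => Equiv.ext fun x => by simp [mul_smul] }
  let RM : ruGroup →* Equiv.Perm (Fin 4060) :=
    { toFun := fun g => EM.trans ((MulAction.toPerm g).trans EM.symm)
      map_one' := Equiv.ext fun x => by simp
      map_mul' := fun g k => Equiv.ext fun x => by simp [mul_smul] }
  have hRG : ∀ g x, ιG (RG g x) = g • ιG x := fun g x => EG.apply_symm_apply _
  have hRM : ∀ g x, ιM (RM g x) = g • ιM x := fun g x => EM.apply_symm_apply _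
  have RGinj : Function.Injective RG := fun g k e => by
    refine Subtype.ext (Equiv.ext fun z => ?_)
    obtain ⟨x, rfl⟩ := LG.bij.2 z
    show g • ιG x = k • ιG x
    rw [← hRG, ← hRG, e]
  have RMinj : Function.Injective RM := fun g k e => by
    refine Subtype.ext (Equiv.ext fun z => ?_)
    obtain ⟨x, rfl⟩ := LM.bij.2 z
    show g • ιM x = k • ιM x
    rw [← hRM, ← hRM, e]
  have hG : Nat.card G = 145926144000 := by
    rw [← Subgroup.card_mul_index (stabilizer G a), index_stabilizer_of_transitive, Nat.card_eq_fintype_card (α := Ω),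
      hΩ, Nat.card_congr φ.toEquiv, card_P]
  -- both images preserve the labelled graph
  have hpM : ∀ (g : ruGroup) x y, lAdj ruGroup b0 b1 ιM (RM g x) (RM g y) ↔ lAdj ruGroup b0 b1 ιM x y := by
    intro g x y
    rw [lAdj, lAdj, hRM, hRM]
    exact LM.smul g _ _
  have hpG : ∀ (g : G) x y, lAdj ruGroup b0 b1 ιM (RG g x) (RG g y) ↔ lAdj ruGroup b0 b1 ιM x y := by
    intro g x y
    rw [lAdj, lAdj, ← adj_same LG LM, ← adj_same LG LM, hRG, hRG]
    exact LG.smul g _ _
  -- the stabilisers of the base number are the model stabiliser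
  have hPaut : ∀ k : P, (k : Equiv.Perm (Fin 4060)) ∈ autL ruGroup b0 b1 ιM := fun k =>
    ⟨smul_b0 k, fun x y => LM.adj_smul k x y⟩
  have hautP : autL ruGroup b0 b1 ιM = P := by
    have hle : P ≤ autL ruGroup b0 b1 ιM := fun k hk => hPaut ⟨k, hk⟩
    have hmul := Subgroup.card_mul_index (P.subgroupOf (autL ruGroup b0 b1 ιM))
    rw [Nat.card_congr (Subgroup.subgroupOfEquivOfLe hle).toEquiv, card_P] at hmul
    have h2 := card_autL LM
    exact (Subgroup.eq_of_le_of_card_ge hle (by
      rw [card_P]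
      have : 0 < Nat.card (autL ruGroup b0 b1 ιM) := Nat.card_pos
      rcases Nat.lt_or_ge (P.subgroupOf (autL ruGroup b0 b1 ιM)).index 2 with hi | hi
      · have : (P.subgroupOf (autL ruGroup b0 b1 ιM)).index ≤ 1 := by omega
        have := Nat.mul_le_mul_left 35942400 this
        omega
      · have := Nat.mul_le_mul_left 35942400 hi
        omega)).symm
  have hfix : ∀ t : Equiv.Perm (Fin 4060), (∀ x y, lAdj ruGroup b0 b1 ιM (t x) (t y) ↔ lAdj ruGroup b0 b1 ιM x y) →
      t b0 = b0 → t ∈ RM.range := by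
    intro t ht h0
    have : t ∈ P := hautP ▸ (show t ∈ autL ruGroup b0 b1 ιM from ⟨h0, ht⟩)
    refine ⟨(phiM.symm ⟨t, this⟩).1, Equiv.ext fun x => LM.bij.1 ?_⟩
    rw [hRM, show (phiM.symm ⟨t, this⟩).1 • ιM x = phiM.symm ⟨t, this⟩ • ιM x from rfl, LM.equiv,
      phiM.apply_symm_apply]
    rfl
  have hle : RG.range ≤ RM.range := by
    rintro _ ⟨g, rfl⟩
    obtain ⟨m, hm⟩ := exists_smul_eq ruGroup (ιM b0) (ιM (RG g b0))
    have h2 := hfix ((RM m)⁻¹ * RG g) (fun x y => by
      have := hpM m ((RM m)⁻¹ (RG g x)) ((RM m)⁻¹ (RG g y))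
      rw [show RM m ((RM m)⁻¹ (RG g x)) = RG g x from (RM m).apply_symm_apply _,
        show RM m ((RM m)⁻¹ (RG g y)) = RG g y from (RM m).apply_symm_apply _] at this
      rw [Equiv.Perm.mul_apply, Equiv.Perm.mul_apply, ← this, hpG]) (by
      rw [Equiv.Perm.mul_apply]
      refine Equiv.Perm.inv_eq_iff_eq.2 (LM.bij.1 ?_)
      rw [hRM, hm])
    simpa using mul_mem (show RM m ∈ RM.range from ⟨m, rfl⟩) h2
  have heq : RG.range = RM.range := Subgroup.eq_of_le_of_card_ge hle (by
    rw [← Nat.card_congr (MonoidHom.ofInjective RGinj).toEquiv, ← Nat.card_congr (MonoidHom.ofInjective RMinj).toEquiv,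
      hG, ruGroup, card_ru])
  exact ⟨(((MonoidHom.ofInjective RGinj).trans (MulEquiv.subgroupCongr heq)).trans
    (MonoidHom.ofInjective RMinj).symm).trans Cfsg.Lib.Rudvalis.ruEquiv.symm⟩

theorem recognition_twistedF4 (hΩ : Fintype.card Ω = 4060) (htr : IsPretransitive G Ω)
    (e : stabilizer G a ≃* Cfsg.Lie.twistedF4 (ZMod 2) 1)
    (hb : (orbit (stabilizer G a) b).ncard = 1755) (hc : (orbit (stabilizer G a) c).ncard = 2304) :
    Cfsg.Spor.IsoRu G :=
  recognition hΩ htr (e.trans iso_twistedF4.some) hb hc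

end Cfsg.Lib.RuModel.RankThree
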